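import Cfsg.Agent.H27.PF13z

/-!
# Peterfalvi §13 (the subgroups S and T): see `PF13a`, `PF13b`, `PF13m`, `PF13z`.
-/
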