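import Mathlib
import Cfsg.Agent.H27.PF13
import Cfsg.Agent.H2.PF14c

/-!
# Peterfalvi §14: the final contradiction, and the Odd Order Theorem
-/

set_option autoImplicit false
set_option linter.unusedSectionVars false

namespace H27

open Cfsg H24 H25 H2.PF14
open scoped ComplexConjugate

universe u v

namespace PF14

variable {G : Type u} [Group G] [Finite G] [FT G]
variable {S T U V W W₁ W₂ : Subgroup G}

/-- (14.12) to (14.17). -/
theorem no_pair (hS : TypeP S U W W₁ W₂) (mS : IsCoatom S) (hT : TypeP T V W W₂ W₁)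
    (mT : IsCoatom T) (hqp : ♯W₁ < ♯W₂) : False := by
  have hc := hS.cTI
  have hq := hc.two_lt1
  obtain ⟨L, hL, hU⟩ :=
    exists_mmax_norm (hS.facts_a mS).2.2.1.ker_ne (sub_mmax_proper mS hS.leUM)
  obtain ⟨M, hM, hV⟩ :=
    exists_mmax_norm (hT.facts_a mT).2.2.1.ker_ne (sub_mmax_proper mT hT.leUM)
  obtain ⟨fL, hUH, y, -, hy, hy1⟩ := L_facts hS mS hT mT hqp hL hU
  obtain ⟨fM, hK, eM⟩ := M_facts hS mS hT mT hqp hM hV
  have eL : (Fc L).relIndex L = ♯W₂ * ♯W₁ := by
    rw [hy.relIndex_left, card_cj, hc.card_W, mul_comm]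
  refine not_norm_U hS mS hT mT hqp hL hU ?_
  by_cases hn : ∃ g, L = cj g M
  · obtain ⟨g, rfl⟩ := hn
    refine cyc_norm ?_ hUH (Fc_nml _).norm
    rw [Fc_cj, hK]
    exact (gal_model hT mT (galT hS mS hT mT hqp)).2.1.cj g
  push Not at hn
  have hn' : ∀ g, M ≠ cj g L := NConj.symm hn
  suffices e : Fc L = U from e ▸ (Fc_nml L).norm
  by_contra hne
  obtain ⟨ν, φ, cL⟩ := exists_cohI hL fL
  obtain ⟨μ, ψ, cM⟩ := exists_cohI hM fM
  have e := card_mul_relIndex hUH
  set x := U.relIndex (Fc L)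
  have hx : x ≠ 1 := fun h => hne (le_antisymm (Subgroup.relIndex_eq_one.1 h) hUH)
  have hd : ♯W₂ * ♯W₁ ∣ ♯U * x - 1 := by rw [e, ← eL]; exact fL.index_dvd
  have o : Odd (♯U * x) := e ▸ mFT_odd _
  -- (14.14)
  have h14 : ♯U * x ≤ ♯W₂ * ♯W₁ * (♯W₂ * ♯W₁ - 1) + 1 ∨
      (cfdot ⊤ (tauF L (bridgeI L φ)) (μ ψ) ≠ 0 ∧ ♯W₁ = 3 ∧ ♯W₂ = 5) := by
    rcases cL.nonorth cM hn' with h | h
    · refine Or.inr ⟨h, eq_three_five hq hqp (mFT_odd _) (mFT_odd _) ?_⟩
      have := cL.core_bound cM hn' h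
      rwa [eL, eM, hK, card_V hS mS hT mT hqp] at this
    · have := cM.core_bound cL hn h
      rw [eL, eM, ← e] at this
      exact Or.inl this
  -- (14.15)
  have hu : ♯U = gN ♯W₂ ♯W₁ := by
    refine (card_U hS mS hT mT hqp).resolve_right fun ⟨h1, h2⟩ => ?_
    refine not_small_compl' hq hqp (mFT_odd _) (mFT_odd _) h1 h2 o
      ((dvd_mul_right _ _).trans hd) ((dvd_mul_left _ _).trans hd) (u_mod hS mS)
      (h14.resolve_right fun ⟨_, h3, h4⟩ => ?_)
    rw [h3, h4] at h1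
    omega
  -- (14.16)
  have hx2 := cofactor_ge ((mFT_odd _).mul (mFT_odd _)) o hd
    (hc.cop.symm.mul_dvd_of_dvd_of_dvd (by rw [hu]; exact gN_dvd (by omega) (by omega))
      (u_mod hS mS)) hx
  rcases h14 with h | ⟨h, h3, h5⟩
  · exact not_large_cofactor hq hqp hx2 (hu ▸ h :)
  have hv := card_V hS mS hT mT hqp
  have huv := u_lt_v hS mS hT mT hqp
  have hvh : ((♯V : ℝ) - 1) / ♯W₂ < (♯(Fc L) - 1) / (Fc L).relIndex L := by
    rw [h3, h5] at hv hu hx2
    have : (31 : ℝ) ≤ x := by exact_mod_cast hx2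
    rw [eL, ← e, hv, hu, h3, h5]
    norm_num [gN]
    linarith
  obtain ⟨-, a, -, χ, hχ, hβ⟩ := support_coherence hS mS hT mT cL eL.le (huv.trans hvh)
    (Nat.cast_div_le.trans_lt (by rwa [Nat.cast_pred (card_pos V)]))
  refine h ?_
  rw [hβ, cfdot_sub_left, cfdot_sum_left, Finset.sum_eq_zero fun ω hω => by
    rw [cfdot_smul_left, cfdot_symm_zero (eta_ortho hS mS cM cM.mem hω), mul_zero], zero_sub,
    neg_eq_zero]
  rcases hχ with rfl | rfl
  · exact cL.ortho cM hn' cL.mem cM.mem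
  · rw [cfdot_neg_left, cL.conj_eq, cL.ortho cM hn' (H2.seqIndC1_conjC cL.mem) cM.mem, neg_zero]

end PF14

/-- there is no minimal simple group of odd order. -/
theorem no_minSimple_odd_group (G : Type u) [Group G] [Finite G] [FT G] : False := by
  obtain ⟨S, mS, h⟩ := not_all_FTtype1 (G := G)
  obtain ⟨U, W, W₁, W₂, hS⟩ := FTtypeP_witness mS h
  obtain ⟨T, V, hp, hT⟩ := hS.pair_witness mS
  rcases lt_trichotomy ♯W₁ ♯W₂ with h | h | h
  · exact PF14.no_pair hS mS hT hp.maxT h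
  · have h1 := hp.cyc.cop
    have h2 := hp.cyc.two_lt2
    rw [h, Nat.coprime_self] at h1
    omega
  · exact PF14.no_pair hT hp.maxT hS mS h

/-- the Odd Order Theorem. -/
theorem Feit_Thompson (G : Type u) [Group G] [Finite G] (h : Odd (Nat.card G)) :
    Group.IsSolvable G := by
  induction hn : Nat.card G using Nat.strong_induction_on generalizing G with
  | _ n ih =>
  subst hn
  have hsub : ∀ H : Subgroup G, H ≠ ⊤ → Group.IsSolvable H := fun H hH =>
    ih _ (by simpa using card_lt (lt_top_iff_ne_top.2 hH)) H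
      (h.of_dvd_nat H.card_subgroup_dvd_card) rfl
  by_contra hs
  have hnt : Nontrivial G := by
    by_contra h1
    rw [not_nontrivial_iff_subsingleton] at h1
    exact hs inferInstance
  have : FT G := ⟨h, ⟨fun N hN => ?_⟩, fun ha => hs ?_, hsub⟩
  · exact no_minSimple_odd_group G
  · by_contra! h1
    have := hsub N h1.2
    have := ih _ (by
      rw [N.card_eq_card_quotient_mul_card_subgroup]
      exact lt_mul_of_one_lt_right Nat.card_pos (one_lt_card h1.1)) (G ⧸ N)
      (h.of_dvd_nat N.card_quotient_dvd_card) rfl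
    exact hs (Group.isSolvable_of_ker_le_range N.subtype (QuotientGroup.mk' N) (by simp))
  · exact Group.isSolvable_of_comm ha.is_comm.comm

/-- the hypothesis of B & G and Peterfalvi is contradictory. -/
theorem not_minSimpleOdd {G : Type u} [Group G] [Finite G] (h : IsMinSimpleOddOrder G) : False :=
  have : FT G := ⟨h⟩
  no_minSimple_odd_group G

end H27
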