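import Mathlib
import Cfsg.Prelude.Def_OddOrderChar
import Cfsg.Prelude.Def_OddOrderLocal
import Cfsg.Agent.H24.Defs

/-!
# Vocabulary for the Peterfalvi project (ambient style)

All class functions are plain functions `Γ → ℂ` on one ambient finite group `Γ`; a class function
of a subgroup `H` vanishes outside `H`.  Definitions only (plus their unfolding lemmas).
-/

set_option autoImplicit false

namespace H27

open Cfsg H24
open scoped ComplexConjugate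

universe u v

/-- a subset of a finite type as a `Finset`. -/
noncomputable def fs {α : Type*} [Finite α] (A : Set α) : Finset α := (Set.toFinite A).toFinset

@[simp] theorem mem_fs {α : Type*} [Finite α] {A : Set α} {x : α} : x ∈ fs A ↔ x ∈ A :=
  Set.Finite.mem_toFinset _

variable {Γ : Type u} [Group Γ] {Γ' : Type v} [Group Γ']

/-- functions vanishing outside `A`. -/
def cfOn (A : Set Γ) : Submodule ℂ (Γ → ℂ) where
  carrier := {φ | ∀ x, x ∉ A → φ x = 0}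
  add_mem' := fun {a b} ha hb x hx => by simp [ha x hx, hb x hx]
  zero_mem' := fun _ _ => rfl
  smul_mem' := fun c a ha x hx => by simp [ha x hx]

/-- `CF(H)`: class functions of `H` (vanishing outside `H`). -/
def CF (H : Subgroup Γ) : Submodule ℂ (Γ → ℂ) where
  carrier := {φ | (∀ x, x ∉ H → φ x = 0) ∧ ∀ g ∈ H, ∀ x, φ (g * x * g⁻¹) = φ x}
  add_mem' := fun {a b} ha hb =>
    ⟨fun x hx => by simp [ha.1 x hx, hb.1 x hx], fun g hg x => by simp [ha.2 g hg x, hb.2 g hg x]⟩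
  zero_mem' := ⟨fun _ _ => rfl, fun _ _ _ => rfl⟩
  smul_mem' := fun c a ha =>
    ⟨fun x hx => by simp [ha.1 x hx], fun g hg x => by simp [ha.2 g hg x]⟩

/-- `CF(H, A)`: class functions of `H` vanishing outside `A`. -/
def CFon (H : Subgroup Γ) (A : Set Γ) : Submodule ℂ (Γ → ℂ) := CF H ⊓ cfOn A

open scoped Classical in
/-- restriction to `H` (extended by zero). -/
noncomputable def cfRes (H : Subgroup Γ) : (Γ → ℂ) →ₗ[ℂ] (Γ → ℂ) where
  toFun φ := fun x => if x ∈ H then φ x else 0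
  map_add' φ ψ := by funext x; by_cases h : x ∈ H <;> simp [h]
  map_smul' c φ := by funext x; by_cases h : x ∈ H <;> simp [h]

/-- the principal character `1_H`. -/
noncomputable def cfOne (H : Subgroup Γ) : Γ → ℂ := cfRes H 1

/-- `φ ↦ (x ↦ φ (g x g⁻¹))`. -/
def cfConj (g : Γ) : (Γ → ℂ) →ₗ[ℂ] (Γ → ℂ) where
  toFun φ := fun x => φ (g * x * g⁻¹)
  map_add' _ _ := rfl
  map_smul' _ _ := rfl

/-- action of a ring endomorphism of `ℂ` on the values. -/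
def cfAut (u : ℂ →+* ℂ) : (Γ → ℂ) →ₛₗ[u] (Γ → ℂ) where
  toFun φ := fun x => u (φ x)
  map_add' φ ψ := by funext x; simp
  map_smul' c φ := by funext x; simp

/-- complex conjugate of a function. -/
abbrev conjC (φ : Γ → ℂ) : Γ → ℂ := cfAut (starRingEnd ℂ) φ

/-- pull-back of a function on `Γ'` along a morphism `f` defined on `D`, seen on `H ≤ D`
(MathComp `cfMorph`). -/
noncomputable def cfMorph {D : Subgroup Γ} (f : D →* Γ') (H : Subgroup Γ) :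
    (Γ' → ℂ) →ₗ[ℂ] (Γ → ℂ) where
  toFun φ := cfRes H (fun x => φ (ap f x))
  map_add' φ ψ := by rw [← map_add]; rfl
  map_smul' c φ := by rw [RingHom.id_apply, ← map_smul]; rfl

/-- inflation from `H / K` to `H` (MathComp `phi %% K`). -/
noncomputable abbrev cfMod (K H : Subgroup Γ) : (QN K → ℂ) →ₗ[ℂ] (Γ → ℂ) := cfMorph (coset K) H

/-- kernel of a function (MathComp `cfker`). -/
def cfker (H : Subgroup Γ) (φ : Γ → ℂ) : Subgroup Γ where
  carrier := {x | x ∈ H ∧ ∀ y, φ (x * y) = φ y}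
  mul_mem' := fun {a b} ha hb =>
    ⟨H.mul_mem ha.1 hb.1, fun y => by rw [mul_assoc, ha.2, hb.2]⟩
  one_mem' := ⟨H.one_mem, fun y => by rw [one_mul]⟩
  inv_mem' := fun {a} ha => ⟨H.inv_mem ha.1, fun y => by
    have := ha.2 (a⁻¹ * y); rw [mul_inv_cancel_left] at this; exact this.symm⟩

/-- inertia group `I_G(φ)`. -/
def inertia (G : Subgroup Γ) (φ : Γ → ℂ) : Subgroup Γ where
  carrier := {g | g ∈ G ∧ cfConj g φ = φ}
  mul_mem' := fun {a b} ha hb => ⟨G.mul_mem ha.1 hb.1, by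
    funext x
    have h1 := congrFun ha.2 (b * x * b⁻¹)
    have h2 := congrFun hb.2 x
    change φ _ = φ _ at h1 h2 ⊢
    rw [← h2, ← h1]; congr 1; group⟩
  one_mem' := ⟨G.one_mem, by funext x; change φ _ = φ _; congr 1; group⟩
  inv_mem' := fun {a} ha => ⟨G.inv_mem ha.1, by
    funext x
    have h1 := congrFun ha.2 (a⁻¹ * x * a⁻¹⁻¹)
    change φ _ = φ _ at h1 ⊢
    rw [← h1]; congr 1; group⟩

/-- `φ` is a character of `H`. -/
def IsChar (H : Subgroup Γ) (φ : Γ → ℂ) : Prop :=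
  IsCharacter H (fun x : H => φ x) ∧ ∀ x, x ∉ H → φ x = 0

/-- `φ` is an irreducible character of `H` (use `φ ∈ Irr H`, see `mem_Irr`). -/
def IsIrr (H : Subgroup Γ) (φ : Γ → ℂ) : Prop :=
  IsIrrCharacter H (fun x : H => φ x) ∧ ∀ x, x ∉ H → φ x = 0

open scoped Classical in
/-- `Irr(H)` as a finite set of functions. -/
noncomputable def Irr (H : Subgroup Γ) : Finset (Γ → ℂ) :=
  if h : {φ | IsIrr H φ}.Finite then h.toFinset else ∅

/-- linear (degree one) characters. -/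
def IsLin (H : Subgroup Γ) (φ : Γ → ℂ) : Prop := φ ∈ Irr H ∧ φ 1 = 1

/-- irreducible characters up to sign. -/
def IsDirr (H : Subgroup Γ) (φ : Γ → ℂ) : Prop := φ ∈ Irr H ∨ -φ ∈ Irr H

/-- the degree `φ(1)` as a natural number (meaningful for characters). -/
noncomputable def deg (φ : Γ → ℂ) : ℕ := ⌊(φ 1).re⌋₊

/-- `ℤ[S]`. -/
def zsp {X : Type*} (S : Finset (X → ℂ)) : Submodule ℤ (X → ℂ) := Submodule.span ℤ (S : Set (X → ℂ))

/-- `ℤ[S, A]`. -/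
def zspOn (S : Finset (Γ → ℂ)) (A : Set Γ) : Submodule ℤ (Γ → ℂ) :=
  zsp S ⊓ (cfOn A).restrictScalars ℤ

/-- `ℤ[S, L^#]`: the elements of `ℤ[S]` vanishing at `1`. -/
def zsp0 (S : Finset (Γ → ℂ)) : Submodule ℤ (Γ → ℂ) := zspOn S {1}ᶜ

/-- `ℤ[Irr H]`: the virtual characters of `H`. -/
noncomputable def vchar (H : Subgroup Γ) : Submodule ℤ (Γ → ℂ) := zsp (Irr H)

open scoped Classical in
/-- the irreducible characters of `H` whose kernel contains `K`. -/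
noncomputable def irrK (H K : Subgroup Γ) : Finset (Γ → ℂ) :=
  (Irr H).filter (fun θ => K ≤ cfker H θ)

open scoped Classical in
/-- the irreducible characters of `K` whose kernel contains `M` but not `H`
(MathComp `Iirr_kerD K H M`). -/
noncomputable def irrKD (K H M : Subgroup Γ) : Finset (Γ → ℂ) :=
  (Irr K).filter (fun θ => M ≤ cfker K θ ∧ ¬ H ≤ cfker K θ)

variable [Finite Γ] [Finite Γ']

/-- the inner product `⟨φ, ψ⟩_H`. -/
noncomputable def cfdot (H : Subgroup Γ) (φ ψ : Γ → ℂ) : ℂ :=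
  (Nat.card H : ℂ)⁻¹ * ∑ x ∈ fs (H : Set Γ), φ x * conj (ψ x)

/-- the squared norm `‖φ‖²_H`, as a real number. -/
noncomputable def cfnorm (H : Subgroup Γ) (φ : Γ → ℂ) : ℝ :=
  (Nat.card H : ℝ)⁻¹ * ∑ x ∈ fs (H : Set Γ), ‖φ x‖ ^ 2

/-- induction from `H` to `G`. -/
noncomputable def cfInd (G H : Subgroup Γ) : (Γ → ℂ) →ₗ[ℂ] (Γ → ℂ) where
  toFun φ := cfRes G (fun x => (Nat.card H : ℂ)⁻¹ * ∑ g ∈ fs (G : Set Γ), cfRes H φ (g * x * g⁻¹))
  map_add' φ ψ := by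
    rw [← map_add]; congr 1; funext x; simp [Finset.sum_add_distrib, mul_add]
  map_smul' c φ := by
    rw [RingHom.id_apply, ← map_smul]; congr 1; funext x
    simp [Finset.mul_sum, mul_left_comm]

open scoped Classical in
/-- the `G`-conjugates of `φ`. -/
noncomputable def cfclass (G : Subgroup Γ) (φ : Γ → ℂ) : Finset (Γ → ℂ) :=
  (fs (G : Set Γ)).image (fun g => cfConj g φ)

/-- `S` consists of pairwise orthogonal functions. -/
def PwOrth (H : Subgroup Γ) (S : Finset (Γ → ℂ)) : Prop :=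
  ∀ φ ∈ S, ∀ ψ ∈ S, φ ≠ ψ → cfdot H φ ψ = 0

/-- `S` is orthonormal. -/
def Orthon (H : Subgroup Γ) (S : Finset (Γ → ℂ)) : Prop :=
  (∀ φ ∈ S, cfdot H φ φ = 1) ∧ PwOrth H S

/-- `S ⊥ T`. -/
def Orth (H : Subgroup Γ) (S T : Finset (Γ → ℂ)) : Prop := ∀ φ ∈ S, ∀ ψ ∈ T, cfdot H φ ψ = 0

/-! ## Sets of induced characters (Peterfalvi (5.2), (6.1)) -/

open scoped Classical in
/-- `{Ind_K^L θ | θ ∈ Irr K}`. -/
noncomputable def seqIndT (K L : Subgroup Γ) : Finset (Γ → ℂ) := (Irr K).image (cfInd L K)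

open scoped Classical in
/-- `{Ind_K^L θ | θ ∈ Irr K, M ≤ ker θ, ¬ H ≤ ker θ}` (MathComp `seqIndD K L H M`). -/
noncomputable def seqIndD (K L H M : Subgroup Γ) : Finset (Γ → ℂ) :=
  (irrKD K H M).image (cfInd L K)

/-! ## Isometries and coherence (Peterfalvi §5) -/

/-- `τ` is an isometry from `E` (functions on `L`) into the virtual characters of `G`. -/
structure ZIsom (L : Subgroup Γ) (G : Subgroup Γ') (E : Submodule ℤ (Γ → ℂ))
    (τ : (Γ → ℂ) →ₗ[ℂ] (Γ' → ℂ)) : Prop where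
  dot : ∀ φ ∈ E, ∀ ψ ∈ E, cfdot G (τ φ) (τ ψ) = cfdot L φ ψ
  vchar : ∀ φ ∈ E, τ φ ∈ vchar G

/-- `ν` is an isometry on `ℤ[S]` extending `τ` on `ℤ[S, L^#]` (MathComp `coherent_with`). -/
structure CohWith (L : Subgroup Γ) (G : Subgroup Γ') (S : Finset (Γ → ℂ))
    (τ ν : (Γ → ℂ) →ₗ[ℂ] (Γ' → ℂ)) : Prop where
  isom : ZIsom L G (zsp S) ν
  ext : ∀ φ ∈ zsp0 S, ν φ = τ φ

/-- `(S, L^#, τ)` is coherent (without the non-degeneracy clause, as in MathComp). -/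
def Coherent (L : Subgroup Γ) (G : Subgroup Γ') (S : Finset (Γ → ℂ))
    (τ : (Γ → ℂ) →ₗ[ℂ] (Γ' → ℂ)) : Prop := ∃ ν, CohWith L G S τ ν

/-- `S₁ ⊆ S` and `S₁` is closed under complex conjugation (MathComp `cfConjC_subset`). -/
structure ConjSub (S₁ S : Finset (Γ → ℂ)) : Prop where
  sub : S₁ ⊆ S
  conj_mem : ∀ φ ∈ S₁, conjC φ ∈ S₁

/-- Peterfalvi's Hypothesis (5.2) (MathComp `subcoherent`). -/
structure Subcoh (L : Subgroup Γ) (G : Subgroup Γ') (S : Finset (Γ → ℂ))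
    (τ : (Γ → ℂ) →ₗ[ℂ] (Γ' → ℂ)) (R : (Γ → ℂ) → Finset (Γ' → ℂ)) : Prop where
  char : ∀ χ ∈ S, IsChar L χ
  conj_mem : ∀ χ ∈ S, conjC χ ∈ S
  nreal : ∀ χ ∈ S, conjC χ ≠ χ
  isom : ZIsom L G (zsp0 S) τ
  one : ∀ φ ∈ zsp0 S, τ φ 1 = 0
  orth : PwOrth L S
  R_vchar : ∀ χ ∈ S, ∀ α ∈ R χ, α ∈ vchar G
  R_orthon : ∀ χ ∈ S, Orthon G (R χ)
  R_sum : ∀ χ ∈ S, τ (χ - conjC χ) = ∑ α ∈ R χ, α
  R_orth : ∀ χ ∈ S, ∀ φ ∈ S, cfdot L φ χ = 0 → cfdot L φ (conjC χ) = 0 → Orth G (R φ) (R χ)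

/-! ## The Dade isometry (Peterfalvi §2, §7); the big group is the ambient group -/

/-- the Dade map relative to `(A, L, R)`. -/
noncomputable def Dade (A : Set Γ) (L : Subgroup Γ) (R : Γ → Subgroup Γ) :
    (Γ → ℂ) →ₗ[ℂ] (Γ → ℂ) where
  toFun α := dadeIsometry A L R (fun x : L => α x)
  map_add' α β := by
    funext g; simp only [dadeIsometry, Pi.add_apply]; split_ifs <;> simp
  map_smul' c α := by
    funext g; simp only [dadeIsometry, Pi.smul_apply, RingHom.id_apply]; split_ifs <;> simp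

/-- `A^τ`: the union of the conjugates of the cosets `a R(a)`, `a ∈ A`. -/
def dadeSupp (A : Set Γ) (R : Γ → Subgroup Γ) : Set Γ :=
  {g | ∃ a ∈ A, ∃ u ∈ R a, ∃ x : Γ, x * g * x⁻¹ = a * u}

open scoped Classical in
/-- the map `χ ↦ χ^ρ` of Peterfalvi (7.1). -/
noncomputable def invDade (A : Set Γ) (R : Γ → Subgroup Γ) : (Γ → ℂ) →ₗ[ℂ] (Γ → ℂ) where
  toFun χ := fun a =>
    if a ∈ A then (Nat.card (R a) : ℂ)⁻¹ * ∑ u ∈ fs (R a : Set Γ), χ (a * u) else 0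
  map_add' φ ψ := by
    funext a; by_cases h : a ∈ A <;> simp [h, Finset.sum_add_distrib, mul_add]
  map_smul' c φ := by
    funext a; by_cases h : a ∈ A <;> simp [h, Finset.mul_sum, mul_left_comm]

/-! ## TI-subsets with cyclic normalisers (Peterfalvi §3) -/

/-- `V = W − (W₁ ∪ W₂)`. -/
def cycV (W W₁ W₂ : Subgroup Γ) : Set Γ := {x | x ∈ W ∧ x ∉ W₁ ∧ x ∉ W₂}

/-- Hypothesis (3.1), relative to a subgroup `G`. -/
structure CyclicTI (G W W₁ W₂ : Subgroup Γ) : Prop where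
  dp : DP W₁ W₂ W
  cyc : Cyc W
  odd : Odd (Nat.card W)
  ne1 : W₁ ≠ ⊥
  ne2 : W₂ ≠ ⊥
  le : W ≤ G
  ti : ∀ x ∈ cycV W W₁ W₂, ∀ g ∈ G, g * x * g⁻¹ ∈ cycV W W₁ W₂ → g ∈ W

/-- the defining properties of the isometry `σ` of Theorem (3.2). -/
structure IsCycIso (G W : Subgroup Γ) (V : Set Γ) (σ : (Γ → ℂ) →ₗ[ℂ] (Γ → ℂ)) : Prop where
  isom : ZIsom W G (vchar W) σ
  one : σ (cfOne W) = cfOne G
  res : ∀ ω ∈ Irr W, ∀ x ∈ V, σ ω x = ω x

open scoped Classical in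
/-- the isometry `σ` of Theorem (3.2) (MathComp `cyclicTIiso`).  The characters `ω_ij` are the
products `i * j` with `i ∈ irrK W W₂` and `j ∈ irrK W W₁`. -/
noncomputable def cycIso (G W W₁ W₂ : Subgroup Γ) : (Γ → ℂ) →ₗ[ℂ] (Γ → ℂ) :=
  if h : ∃ σ, IsCycIso G W (cycV W W₁ W₂) σ then Classical.choose h else 0

open scoped Classical in
/-- `NC(ψ)`: the number of `ω ∈ Irr W` with `⟨ψ, ω^σ⟩ ≠ 0`. -/
noncomputable def cycNC (G W W₁ W₂ : Subgroup Γ) (ψ : Γ → ℂ) : ℕ :=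
  ((Irr W).filter (fun ω => cfdot G ψ (cycIso G W W₁ W₂ ω) ≠ 0)).card

/-! ## Peterfalvi §4 -/

/-- Hypothesis (4.2). -/
structure PrimeTI (L K W W₁ W₂ : Subgroup Γ) : Prop where
  sd : SD K W₁ L
  ne1 : W₁ ≠ ⊥
  hall : IsHall L W₁
  cyc1 : Cyc W₁
  ne2 : W₂ ≠ ⊥
  le2 : W₂ ≤ K
  cyc2 : Cyc W₂
  cent : ∀ x ∈ W₁, x ≠ 1 → K ⊓ C{x} = W₂
  dp : DP W₁ W₂ W
  odd : Odd (Nat.card W)

open scoped Classical in
/-- the sign `δ` with `ω^σ = δ μ_ω`; `δ_j = prSign L W W₁ W₂ j`. -/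
noncomputable def prSign (L W W₁ W₂ : Subgroup Γ) (ω : Γ → ℂ) : ℤ :=
  if cycIso L W W₁ W₂ ω ∈ Irr L then 1 else -1

/-- `μ_ij = prMu L W W₁ W₂ (i * j)`. -/
noncomputable def prMu (L W W₁ W₂ : Subgroup Γ) (ω : Γ → ℂ) : Γ → ℂ :=
  (prSign L W W₁ W₂ ω : ℂ) • cycIso L W W₁ W₂ ω

/-- `μ_j = ∑_i μ_ij`. -/
noncomputable def prRed (L W W₁ W₂ : Subgroup Γ) (j : Γ → ℂ) : Γ → ℂ :=
  ∑ i ∈ irrK W W₂, prMu L W W₁ W₂ (i * j)

/-- `χ_j = Res_K μ_0j`. -/
noncomputable def prRes (L K W W₁ W₂ : Subgroup Γ) (j : Γ → ℂ) : Γ → ℂ :=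
  cfRes K (prMu L W W₁ W₂ j)

/-- Hypothesis (4.6); the big group is the ambient group. -/
structure PrimeDade (L K H W W₁ W₂ : Subgroup Γ) (A A₀ : Set Γ) (R : Γ → Subgroup Γ) : Prop where
  cyc : CyclicTI ⊤ W W₁ W₂
  pr : PrimeTI L K W W₁ W₂
  nmlH : H ⊴ L
  le2 : W₂ ≤ H
  leK : H ≤ K
  normA : ∀ g ∈ L, ∀ a ∈ A, g * a * g⁻¹ ∈ A
  cent_sub : ∀ h ∈ H, h ≠ 1 → ∀ x ∈ K, x ≠ 1 → x * h = h * x → x ∈ A
  subK : ∀ a ∈ A, a ∈ K ∧ a ≠ 1
  defA0 : A₀ = A ∪ classSupp (cycV W W₁ W₂) L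
  dade : DadeHypothesis A₀ L R

end H27
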