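import Mathlib
import Cfsg.Agent.H27.Defs

/-!
# Class functions in ambient style: linear algebra, restriction, induction, reciprocity
-/

set_option autoImplicit false
set_option linter.unusedSectionVars false

namespace H27

open Cfsg H24
open scoped ComplexConjugate

universe u v

/-! ## `fs` -/

section fs
variable {α : Type*} [Finite α]

@[simp] theorem coe_fs (A : Set α) : (fs A : Set α) = A := by ext; simp

theorem card_fs (A : Set α) : (fs A).card = Nat.card A := by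
  rw [Nat.card_coe_set_eq, Set.ncard_eq_toFinset_card A (Set.toFinite A)]; rfl

theorem card_fs_ncard (A : Set α) : (fs A).card = A.ncard := by
  rw [card_fs, Nat.card_coe_set_eq]

theorem fs_mono {A B : Set α} (h : A ⊆ B) : fs A ⊆ fs B := fun x hx => by
  simpa using h (by simpa using hx)

theorem sum_fs_eq_subtype {M : Type*} [AddCommMonoid M] (A : Set α) [Fintype A] (f : α → M) :
    ∑ x ∈ fs A, f x = ∑ x : A, f x :=
  Finset.sum_subtype _ (fun x => mem_fs) f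

theorem sum_fs_eq_finsum {M : Type*} [AddCommMonoid M] (A : Set α) (f : α → M) :
    ∑ x ∈ fs A, f x = ∑ᶠ x ∈ A, f x := by
  rw [finsum_mem_eq_finite_toFinset_sum f (Set.toFinite A)]; rfl

theorem sum_fs_subset {M : Type*} [AddCommMonoid M] {A B : Set α} (h : A ⊆ B) (f : α → M)
    (hf : ∀ x ∈ B, x ∉ A → f x = 0) : ∑ x ∈ fs A, f x = ∑ x ∈ fs B, f x :=
  Finset.sum_subset (fs_mono h) fun x hx hx' => hf x (by simpa using hx) (by simpa using hx')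

theorem sum_fs_congr {M : Type*} [AddCommMonoid M] {A : Set α} {f g : α → M}
    (h : ∀ x ∈ A, f x = g x) : ∑ x ∈ fs A, f x = ∑ x ∈ fs A, g x :=
  Finset.sum_congr rfl fun x hx => h x (by simpa using hx)

theorem sum_fs_const {M : Type*} [AddCommMonoid M] (A : Set α) (c : M) :
    ∑ _x ∈ fs A, c = Nat.card A • c := by rw [Finset.sum_const, card_fs]

theorem sum_fs_bij {M β : Type*} [Finite β] [AddCommMonoid M] {A : Set α} {B : Set β}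
    (e : α → β) (he : Set.BijOn e A B) (f : β → M) :
    ∑ x ∈ fs A, f (e x) = ∑ y ∈ fs B, f y :=
  Finset.sum_nbij e (fun x hx => by simpa using he.mapsTo (by simpa using hx))
    (by simpa using he.injOn) (by simpa using he.surjOn) (fun _ _ => rfl)

theorem fs_univ [Fintype α] : fs (Set.univ : Set α) = Finset.univ := by ext; simp

theorem fs_union [DecidableEq α] (A B : Set α) : fs (A ∪ B) = fs A ∪ fs B := by ext; simp

theorem sum_fs_union {M : Type*} [AddCommMonoid M] {A B : Set α} (h : Disjoint A B) (f : α → M) :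
    ∑ x ∈ fs (A ∪ B), f x = ∑ x ∈ fs A, f x + ∑ x ∈ fs B, f x := by
  classical
  rw [fs_union, Finset.sum_union]
  rw [Finset.disjoint_left]
  intro a ha hb
  exact Set.disjoint_left.mp h (by simpa using ha) (by simpa using hb)

theorem sum_fs_diff {M : Type*} [AddCommMonoid M] {A B : Set α} (h : B ⊆ A) (f : α → M) :
    ∑ x ∈ fs A, f x = ∑ x ∈ fs (A \ B), f x + ∑ x ∈ fs B, f x := by
  rw [← sum_fs_union Set.disjoint_sdiff_left, Set.sdiff_union_of_subset h]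

theorem sum_fs_singleton {M : Type*} [AddCommMonoid M] (a : α) (f : α → M) :
    ∑ x ∈ fs {a}, f x = f a := by
  have : fs ({a} : Set α) = {a} := by ext; simp
  rw [this, Finset.sum_singleton]

end fs

variable {Γ : Type u} [Group Γ] {Γ' : Type v} [Group Γ']

theorem cardC_ne_zero [Finite Γ] (H : Subgroup Γ) : (Nat.card H : ℂ) ≠ 0 := by
  exact_mod_cast (Nat.card_pos (α := H)).ne'

theorem cardR_pos [Finite Γ] (H : Subgroup Γ) : (0 : ℝ) < Nat.card H := by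
  exact_mod_cast (Nat.card_pos (α := H))

theorem card_fs_subgroup [Finite Γ] (H : Subgroup Γ) : (fs (H : Set Γ)).card = Nat.card H :=
  card_fs _

section sums
variable [Finite Γ] {M : Type*} [AddCommMonoid M] {H : Subgroup Γ}

theorem sum_fs_mul_left {g : Γ} (hg : g ∈ H) (f : Γ → M) :
    ∑ x ∈ fs (H : Set Γ), f (g * x) = ∑ x ∈ fs (H : Set Γ), f x :=
  sum_fs_bij (fun x => g * x) ⟨fun _ hx => H.mul_mem hg hx, fun _ _ _ _ h => mul_left_cancel h,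
    fun y hy => ⟨g⁻¹ * y, H.mul_mem (H.inv_mem hg) hy, by simp⟩⟩ f

theorem sum_fs_mul_right {g : Γ} (hg : g ∈ H) (f : Γ → M) :
    ∑ x ∈ fs (H : Set Γ), f (x * g) = ∑ x ∈ fs (H : Set Γ), f x :=
  sum_fs_bij (fun x => x * g) ⟨fun _ hx => H.mul_mem hx hg, fun _ _ _ _ h => mul_right_cancel h,
    fun y hy => ⟨y * g⁻¹, H.mul_mem hy (H.inv_mem hg), by simp⟩⟩ f

theorem sum_fs_inv (H : Subgroup Γ) (f : Γ → M) :
    ∑ x ∈ fs (H : Set Γ), f x⁻¹ = ∑ x ∈ fs (H : Set Γ), f x :=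
  sum_fs_bij (fun x => x⁻¹) ⟨fun _ hx => H.inv_mem hx, fun _ _ _ _ h => inv_injective h,
    fun y hy => ⟨y⁻¹, H.inv_mem hy, by simp⟩⟩ f

theorem sum_fs_conj {A : Set Γ} {g : Γ} (hg : g ∈ Subgroup.normalizer A) (f : Γ → M) :
    ∑ x ∈ fs A, f (g * x * g⁻¹) = ∑ x ∈ fs A, f x :=
  sum_fs_bij (fun x => g * x * g⁻¹)
    ⟨fun x hx => (Subgroup.mem_set_normalizer_iff.mp hg x).mp hx,
    fun _ _ _ _ h => by simpa using h,
    fun y hy => ⟨g⁻¹ * y * g, (Subgroup.mem_set_normalizer_iff.mp hg _).mpr (by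
      simpa [mul_assoc] using hy), by simp [mul_assoc]⟩⟩ f

theorem sum_fs_conj_mem {g : Γ} (hg : g ∈ H) (f : Γ → M) :
    ∑ x ∈ fs (H : Set Γ), f (g * x * g⁻¹) = ∑ x ∈ fs (H : Set Γ), f x :=
  sum_fs_conj (Subgroup.le_normalizer hg) f

end sums

theorem conj_mem_iff {H : Subgroup Γ} {g : Γ} (hg : g ∈ N[H]) (x : Γ) :
    g * x * g⁻¹ ∈ H ↔ x ∈ H := (Subgroup.mem_normalizer_iff.mp hg x).symm

theorem conj_mem_iff_of_mem {H : Subgroup Γ} {g : Γ} (hg : g ∈ H) (x : Γ) :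
    g * x * g⁻¹ ∈ H ↔ x ∈ H := conj_mem_iff (Subgroup.le_normalizer hg) x

/-! ## membership lemmas -/

theorem mem_cfOn {A : Set Γ} {φ : Γ → ℂ} : φ ∈ cfOn A ↔ ∀ x, x ∉ A → φ x = 0 := Iff.rfl

theorem cfOn_mono {A B : Set Γ} (h : A ⊆ B) : cfOn A ≤ cfOn B :=
  fun _ hφ x hx => hφ x fun hA => hx (h hA)

theorem mem_CF {H : Subgroup Γ} {φ : Γ → ℂ} :
    φ ∈ CF H ↔ (∀ x, x ∉ H → φ x = 0) ∧ ∀ g ∈ H, ∀ x, φ (g * x * g⁻¹) = φ x := Iff.rfl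

theorem CF_zero {H : Subgroup Γ} {φ : Γ → ℂ} (h : φ ∈ CF H) {x : Γ} (hx : x ∉ H) : φ x = 0 :=
  h.1 x hx

theorem CF_conj {H : Subgroup Γ} {φ : Γ → ℂ} (h : φ ∈ CF H) {g : Γ} (hg : g ∈ H) (x : Γ) :
    φ (g * x * g⁻¹) = φ x := h.2 g hg x

theorem CF_conj' {H : Subgroup Γ} {φ : Γ → ℂ} (h : φ ∈ CF H) {g : Γ} (hg : g ∈ H) (x : Γ) :
    φ (g⁻¹ * x * g) = φ x := by simpa using h.2 g⁻¹ (H.inv_mem hg) x

theorem CF_mul_comm {H : Subgroup Γ} {φ : Γ → ℂ} (h : φ ∈ CF H) {g : Γ} (hg : g ∈ H) (x : Γ) :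
    φ (g * x) = φ (x * g) := by rw [← CF_conj h hg (x * g)]; congr 1; group

theorem CF_le_cfOn (H : Subgroup Γ) : CF H ≤ cfOn (H : Set Γ) := fun _ h => h.1

theorem mem_CF_of {H : Subgroup Γ} {φ : Γ → ℂ} (h0 : ∀ x, x ∉ H → φ x = 0)
    (h : ∀ g ∈ H, ∀ x ∈ H, φ (g * x * g⁻¹) = φ x) : φ ∈ CF H :=
  ⟨h0, fun g hg x => by
    by_cases hx : x ∈ H
    · exact h g hg x hx
    · rw [h0 x hx, h0 _ (by rwa [conj_mem_iff_of_mem hg])]⟩

theorem mem_CFon {H : Subgroup Γ} {A : Set Γ} {φ : Γ → ℂ} :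
    φ ∈ CFon H A ↔ φ ∈ CF H ∧ φ ∈ cfOn A := Iff.rfl

theorem CFon_mono {H : Subgroup Γ} {A B : Set Γ} (h : A ⊆ B) : CFon H A ≤ CFon H B :=
  fun _ hφ => ⟨hφ.1, cfOn_mono h hφ.2⟩

theorem mul_mem_CF {H : Subgroup Γ} {φ ψ : Γ → ℂ} (hφ : φ ∈ CF H) (hψ : ψ ∈ CF H) :
    φ * ψ ∈ CF H :=
  ⟨fun x hx => by simp [hφ.1 x hx], fun g hg x => by simp [hφ.2 g hg x, hψ.2 g hg x]⟩

theorem mul_mem_cfOn_left {A : Set Γ} {φ : Γ → ℂ} (hφ : φ ∈ cfOn A) (ψ : Γ → ℂ) :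
    φ * ψ ∈ cfOn A := fun x hx => by simp [hφ x hx]

theorem mul_mem_cfOn_right {A : Set Γ} (φ : Γ → ℂ) {ψ : Γ → ℂ} (hψ : ψ ∈ cfOn A) :
    φ * ψ ∈ cfOn A := fun x hx => by simp [hψ x hx]

theorem ext_on {A : Set Γ} {φ ψ : Γ → ℂ} (hφ : φ ∈ cfOn A) (hψ : ψ ∈ cfOn A)
    (h : ∀ x ∈ A, φ x = ψ x) : φ = ψ := by
  funext x
  by_cases hx : x ∈ A
  · exact h x hx
  · rw [hφ x hx, hψ x hx]

theorem CF_ext {H : Subgroup Γ} {φ ψ : Γ → ℂ} (hφ : φ ∈ CF H) (hψ : ψ ∈ CF H)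
    (h : ∀ x ∈ H, φ x = ψ x) : φ = ψ := ext_on (A := (H : Set Γ)) (CF_le_cfOn H hφ) (CF_le_cfOn H hψ) h

/-! ## restriction -/

open scoped Classical in
theorem cfRes_apply (H : Subgroup Γ) (φ : Γ → ℂ) (x : Γ) :
    cfRes H φ x = if x ∈ H then φ x else 0 := rfl

theorem cfRes_of_mem {H : Subgroup Γ} (φ : Γ → ℂ) {x : Γ} (hx : x ∈ H) : cfRes H φ x = φ x := by
  simp [cfRes_apply, hx]

theorem cfRes_of_not_mem {H : Subgroup Γ} (φ : Γ → ℂ) {x : Γ} (hx : x ∉ H) :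
    cfRes H φ x = 0 := by simp [cfRes_apply, hx]

@[simp] theorem cfRes_apply_one (H : Subgroup Γ) (φ : Γ → ℂ) : cfRes H φ 1 = φ 1 :=
  cfRes_of_mem φ H.one_mem

@[simp] theorem cfRes_apply_coe (H : Subgroup Γ) (φ : Γ → ℂ) (x : H) : cfRes H φ x = φ x :=
  cfRes_of_mem φ x.2

theorem cfRes_mem_cfOn (H : Subgroup Γ) (φ : Γ → ℂ) : cfRes H φ ∈ cfOn (H : Set Γ) :=
  fun _ hx => cfRes_of_not_mem φ hx

theorem cfRes_eq_self {H : Subgroup Γ} {φ : Γ → ℂ} (h : φ ∈ cfOn (H : Set Γ)) : cfRes H φ = φ :=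
  ext_on (cfRes_mem_cfOn H φ) h fun _ hx => cfRes_of_mem φ hx

theorem cfRes_CF {H : Subgroup Γ} {φ : Γ → ℂ} (h : φ ∈ CF H) : cfRes H φ = φ := cfRes_eq_self h.1

@[simp] theorem cfRes_top (φ : Γ → ℂ) : cfRes ⊤ φ = φ := cfRes_eq_self fun _ hx => by simp at hx

theorem cfRes_congr {H : Subgroup Γ} {φ ψ : Γ → ℂ} (h : ∀ x ∈ H, φ x = ψ x) :
    cfRes H φ = cfRes H ψ :=
  ext_on (cfRes_mem_cfOn H φ) (cfRes_mem_cfOn H ψ) fun x hx => by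
    rw [cfRes_of_mem _ hx, cfRes_of_mem _ hx, h x hx]

theorem cfRes_cfRes {H K : Subgroup Γ} (h : H ≤ K) (φ : Γ → ℂ) :
    cfRes H (cfRes K φ) = cfRes H φ := cfRes_congr fun _ hx => cfRes_of_mem φ (h hx)

@[simp] theorem cfRes_idem (H : Subgroup Γ) (φ : Γ → ℂ) : cfRes H (cfRes H φ) = cfRes H φ :=
  cfRes_cfRes le_rfl φ

theorem cfRes_mul (H : Subgroup Γ) (φ ψ : Γ → ℂ) : cfRes H (φ * ψ) = cfRes H φ * cfRes H ψ := by
  funext x; by_cases hx : x ∈ H <;> simp [cfRes_apply, hx]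

theorem cfRes_mem_CF_of {H : Subgroup Γ} {φ : Γ → ℂ}
    (h : ∀ g ∈ H, ∀ x ∈ H, φ (g * x * g⁻¹) = φ x) : cfRes H φ ∈ CF H :=
  mem_CF_of (cfRes_mem_cfOn H φ) fun g hg x hx => by
    rw [cfRes_of_mem _ hx, cfRes_of_mem _ ((conj_mem_iff_of_mem hg x).mpr hx), h g hg x hx]

theorem cfRes_mem_CF {H G : Subgroup Γ} (hHG : H ≤ G) {φ : Γ → ℂ} (h : φ ∈ CF G) :
    cfRes H φ ∈ CF H := cfRes_mem_CF_of fun g hg x _ => h.2 g (hHG hg) x

theorem cfRes_mem_cfOn_of {H : Subgroup Γ} {A : Set Γ} {φ : Γ → ℂ} (h : φ ∈ cfOn A) :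
    cfRes H φ ∈ cfOn A := fun x hx => by simp [cfRes_apply, h x hx]

/-! ## the principal character -/

theorem cfOne_of_mem {H : Subgroup Γ} {x : Γ} (hx : x ∈ H) : cfOne H x = 1 := cfRes_of_mem _ hx

theorem cfOne_of_not_mem {H : Subgroup Γ} {x : Γ} (hx : x ∉ H) : cfOne H x = 0 :=
  cfRes_of_not_mem _ hx

@[simp] theorem cfOne_apply_one (H : Subgroup Γ) : cfOne H 1 = 1 := cfOne_of_mem H.one_mem

@[simp] theorem cfOne_top_apply (x : Γ) : cfOne (⊤ : Subgroup Γ) x = 1 :=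
  cfOne_of_mem (Subgroup.mem_top x)

theorem cfOne_mem_CF (H : Subgroup Γ) : cfOne H ∈ CF H := cfRes_mem_CF_of fun _ _ _ _ => rfl

theorem cfRes_cfOne {H K : Subgroup Γ} (h : H ≤ K) : cfRes H (cfOne K) = cfOne H :=
  cfRes_cfRes h _

theorem cfOne_mul {H : Subgroup Γ} {φ : Γ → ℂ} (h : φ ∈ cfOn (H : Set Γ)) : cfOne H * φ = φ := by
  funext x; by_cases hx : x ∈ H
  · simp [cfOne_of_mem hx]
  · simp [h x hx]

theorem mul_cfOne {H : Subgroup Γ} {φ : Γ → ℂ} (h : φ ∈ cfOn (H : Set Γ)) : φ * cfOne H = φ := by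
  rw [mul_comm, cfOne_mul h]

theorem cfOne_mul_eq_cfRes (H : Subgroup Γ) (φ : Γ → ℂ) : cfOne H * φ = cfRes H φ := by
  funext x; by_cases hx : x ∈ H
  · simp [cfOne_of_mem hx, cfRes_of_mem _ hx]
  · simp [cfOne_of_not_mem hx, cfRes_of_not_mem _ hx]

/-! ## conjugation and automorphisms of the values -/

@[simp] theorem cfConj_apply (g : Γ) (φ : Γ → ℂ) (x : Γ) : cfConj g φ x = φ (g * x * g⁻¹) := rfl

theorem cfConj_one (φ : Γ → ℂ) : cfConj (1 : Γ) φ = φ := by funext x; simp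

theorem cfConj_mul (g h : Γ) (φ : Γ → ℂ) : cfConj (g * h) φ = cfConj h (cfConj g φ) := by
  funext x; simp [mul_assoc]

@[simp] theorem cfConj_inv_cfConj (g : Γ) (φ : Γ → ℂ) : cfConj g⁻¹ (cfConj g φ) = φ := by
  rw [← cfConj_mul, mul_inv_cancel, cfConj_one]

@[simp] theorem cfConj_cfConj_inv (g : Γ) (φ : Γ → ℂ) : cfConj g (cfConj g⁻¹ φ) = φ := by
  rw [← cfConj_mul, inv_mul_cancel, cfConj_one]

theorem cfConj_injective (g : Γ) : Function.Injective (cfConj g : (Γ → ℂ) → (Γ → ℂ)) :=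
  fun φ ψ h => by rw [← cfConj_inv_cfConj g φ, h, cfConj_inv_cfConj]

theorem cfConj_mul_fun (g : Γ) (φ ψ : Γ → ℂ) : cfConj g (φ * ψ) = cfConj g φ * cfConj g ψ := rfl

theorem cfConj_CF {H : Subgroup Γ} {φ : Γ → ℂ} (h : φ ∈ CF H) {g : Γ} (hg : g ∈ H) :
    cfConj g φ = φ := funext fun x => h.2 g hg x

theorem cfConj_mem_CF {H : Subgroup Γ} {φ : Γ → ℂ} (h : φ ∈ CF H) {g : Γ} (hg : g ∈ N[H]) :
    cfConj g φ ∈ CF H :=
  ⟨fun x hx => h.1 _ (by rwa [conj_mem_iff hg]), fun k hk x => by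
    have := h.2 (g * k * g⁻¹) ((conj_mem_iff hg k).mpr hk) (g * x * g⁻¹)
    simp only [cfConj_apply]
    rw [← this]; congr 1; group⟩

theorem cfConj_cfRes {H : Subgroup Γ} {g : Γ} (hg : g ∈ N[H]) (φ : Γ → ℂ) :
    cfConj g (cfRes H φ) = cfRes H (cfConj g φ) := by
  funext x
  by_cases hx : x ∈ H
  · rw [cfConj_apply, cfRes_of_mem _ hx, cfRes_of_mem _ ((conj_mem_iff hg x).mpr hx)]; rfl
  · rw [cfConj_apply, cfRes_of_not_mem _ hx, cfRes_of_not_mem _ (by rwa [conj_mem_iff hg])]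

theorem cfConj_cfOne {H : Subgroup Γ} {g : Γ} (hg : g ∈ N[H]) : cfConj g (cfOne H) = cfOne H :=
  cfConj_cfRes hg _

@[simp] theorem cfAut_apply (u : ℂ →+* ℂ) (φ : Γ → ℂ) (x : Γ) : cfAut u φ x = u (φ x) := rfl

theorem cfAut_smul (u : ℂ →+* ℂ) (c : ℂ) (φ : Γ → ℂ) : cfAut u (c • φ) = u c • cfAut u φ :=
  map_smulₛₗ _ _ _

theorem cfAut_mul (u : ℂ →+* ℂ) (φ ψ : Γ → ℂ) : cfAut u (φ * ψ) = cfAut u φ * cfAut u ψ := by
  funext x; simp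

theorem cfAut_injective (u : ℂ →+* ℂ) : Function.Injective (cfAut u : (Γ → ℂ) → (Γ → ℂ)) :=
  fun _ _ h => funext fun x => u.injective (congrFun h x)

theorem cfAut_mem_cfOn (u : ℂ →+* ℂ) {A : Set Γ} {φ : Γ → ℂ} (h : φ ∈ cfOn A) :
    cfAut u φ ∈ cfOn A := fun x hx => by simp [h x hx]

theorem cfAut_mem_CF (u : ℂ →+* ℂ) {H : Subgroup Γ} {φ : Γ → ℂ} (h : φ ∈ CF H) :
    cfAut u φ ∈ CF H := ⟨cfAut_mem_cfOn u h.1, fun g hg x => by simp [h.2 g hg x]⟩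

theorem cfAut_mem_CFon (u : ℂ →+* ℂ) {H : Subgroup Γ} {A : Set Γ} {φ : Γ → ℂ}
    (h : φ ∈ CFon H A) : cfAut u φ ∈ CFon H A := ⟨cfAut_mem_CF u h.1, cfAut_mem_cfOn u h.2⟩

theorem cfAut_cfRes (u : ℂ →+* ℂ) (H : Subgroup Γ) (φ : Γ → ℂ) :
    cfAut u (cfRes H φ) = cfRes H (cfAut u φ) := by
  funext x; by_cases hx : x ∈ H <;> simp [cfRes_apply, hx]

@[simp] theorem cfAut_cfOne (u : ℂ →+* ℂ) (H : Subgroup Γ) : cfAut u (cfOne H) = cfOne H := by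
  funext x; by_cases hx : x ∈ H <;> simp [cfOne_of_mem, cfOne_of_not_mem, hx]

theorem cfAut_cfConj (u : ℂ →+* ℂ) (g : Γ) (φ : Γ → ℂ) :
    cfAut u (cfConj g φ) = cfConj g (cfAut u φ) := rfl

@[simp] theorem conjC_conjC (φ : Γ → ℂ) : conjC (conjC φ) = φ := by funext x; simp

theorem conjC_injective : Function.Injective (conjC : (Γ → ℂ) → (Γ → ℂ)) := cfAut_injective _

theorem conjC_eq_conjFun (φ : Γ → ℂ) : conjC φ = conjFun φ := rfl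

/-! ## kernels and inertia groups -/

theorem mem_cfker {H : Subgroup Γ} {φ : Γ → ℂ} {x : Γ} :
    x ∈ cfker H φ ↔ x ∈ H ∧ ∀ y, φ (x * y) = φ y := Iff.rfl

theorem cfker_le (H : Subgroup Γ) (φ : Γ → ℂ) : cfker H φ ≤ H := fun _ h => h.1

theorem cfker_mul_left {H : Subgroup Γ} {φ : Γ → ℂ} {x : Γ} (hx : x ∈ cfker H φ) (y : Γ) :
    φ (x * y) = φ y := hx.2 y

theorem cfker_mul_right {H : Subgroup Γ} {φ : Γ → ℂ} (hφ : φ ∈ CF H) {x : Γ}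
    (hx : x ∈ cfker H φ) (y : Γ) : φ (y * x) = φ y := by
  rw [← CF_mul_comm hφ hx.1, hx.2]

theorem cfker_apply {H : Subgroup Γ} {φ : Γ → ℂ} {x : Γ} (hx : x ∈ cfker H φ) : φ x = φ 1 := by
  simpa using hx.2 1

theorem cfker_conj_mem {H : Subgroup Γ} {φ : Γ → ℂ} (hφ : φ ∈ CF H) {g x : Γ} (hg : g ∈ H)
    (hx : x ∈ cfker H φ) : g * x * g⁻¹ ∈ cfker H φ :=
  ⟨(conj_mem_iff_of_mem hg x).mpr hx.1, fun y => by
    rw [← CF_conj' hφ hg (g * x * g⁻¹ * y), ← CF_conj' hφ hg y, ← hx.2 (g⁻¹ * y * g)]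
    congr 1; group⟩

theorem le_normalizer_of_conj_mem [Finite Γ] {H K : Subgroup Γ}
    (h : ∀ g ∈ H, ∀ x ∈ K, g * x * g⁻¹ ∈ K) : H ≤ N[K] := fun g hg =>
  Subgroup.mem_normalizer_iff.mpr fun x => ⟨h g hg x, fun hx => by
    have := h g⁻¹ (H.inv_mem hg) _ hx
    simpa [mul_assoc] using this⟩

theorem cfker_nml [Finite Γ] {H : Subgroup Γ} {φ : Γ → ℂ} (hφ : φ ∈ CF H) : cfker H φ ⊴ H :=
  ⟨cfker_le H φ, le_normalizer_of_conj_mem fun _ hg _ hx => cfker_conj_mem hφ hg hx⟩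

@[simp] theorem cfker_cfOne (H : Subgroup Γ) : cfker H (cfOne H) = H :=
  le_antisymm (cfker_le _ _) fun x hx => ⟨hx, fun y => by
    by_cases hy : y ∈ H
    · rw [cfOne_of_mem hy, cfOne_of_mem (H.mul_mem hx hy)]
    · rw [cfOne_of_not_mem hy, cfOne_of_not_mem (fun h => hy ((H.mul_mem_cancel_left hx).mp h))]⟩

@[simp] theorem cfker_cfAut (u : ℂ →+* ℂ) (H : Subgroup Γ) (φ : Γ → ℂ) :
    cfker H (cfAut u φ) = cfker H φ := by
  ext x; simp [mem_cfker, u.injective.eq_iff]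

theorem cfker_smul_le (H : Subgroup Γ) (c : ℂ) (φ : Γ → ℂ) : cfker H φ ≤ cfker H (c • φ) :=
  fun _ hx => ⟨hx.1, fun y => by simp [hx.2 y]⟩

theorem cfker_smul (H : Subgroup Γ) {c : ℂ} (hc : c ≠ 0) (φ : Γ → ℂ) :
    cfker H (c • φ) = cfker H φ := by
  ext x; simp [mem_cfker, hc]

theorem cfker_mul_le (H : Subgroup Γ) (φ ψ : Γ → ℂ) :
    cfker H φ ⊓ cfker H ψ ≤ cfker H (φ * ψ) :=
  fun _ hx => ⟨hx.1.1, fun y => by simp [hx.1.2 y, hx.2.2 y]⟩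

theorem cfker_add_le (H : Subgroup Γ) (φ ψ : Γ → ℂ) :
    cfker H φ ⊓ cfker H ψ ≤ cfker H (φ + ψ) :=
  fun _ hx => ⟨hx.1.1, fun y => by simp [hx.1.2 y, hx.2.2 y]⟩

theorem le_cfker_sum {ι : Type*} {H K : Subgroup Γ} (hK : K ≤ H) (s : Finset ι) (φ : ι → Γ → ℂ)
    (h : ∀ i ∈ s, K ≤ cfker H (φ i)) : K ≤ cfker H (∑ i ∈ s, φ i) :=
  fun x hx => ⟨hK hx, fun y => by
    simp only [Finset.sum_apply]
    exact Finset.sum_congr rfl fun i hi => (h i hi hx).2 y⟩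

theorem mem_cfker_cfRes {H G : Subgroup Γ} {φ : Γ → ℂ} {x : Γ} (hx : x ∈ cfker G φ)
    (hxH : x ∈ H) : x ∈ cfker H (cfRes H φ) :=
  ⟨hxH, fun y => by
    by_cases hy : y ∈ H
    · rw [cfRes_of_mem _ hy, cfRes_of_mem _ (H.mul_mem hxH hy), hx.2 y]
    · rw [cfRes_of_not_mem _ hy, cfRes_of_not_mem _ (by rwa [H.mul_mem_cancel_left hxH])]⟩

theorem le_cfker_cfRes {H G K : Subgroup Γ} {φ : Γ → ℂ} (hK : K ≤ cfker G φ) (hKH : K ≤ H) :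
    K ≤ cfker H (cfRes H φ) := fun _ hx => mem_cfker_cfRes (hK hx) (hKH hx)

theorem mem_cfker_cfConj {H : Subgroup Γ} {φ : Γ → ℂ} {g x : Γ} (hg : g ∈ N[H]) :
    x ∈ cfker H (cfConj g φ) ↔ g * x * g⁻¹ ∈ cfker H φ := by
  simp only [mem_cfker, cfConj_apply, conj_mem_iff hg]
  refine and_congr_right fun _ => ⟨fun h y => ?_, fun h y => ?_⟩
  · have := h (g⁻¹ * y * g)
    convert this using 2 <;> group
  · have := h (g * y * g⁻¹)
    convert this using 2; group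

theorem le_cfker_cfConj {H K : Subgroup Γ} {φ : Γ → ℂ} {g : Γ} (hg : g ∈ N[H]) (hgK : g ∈ N[K]) :
    K ≤ cfker H (cfConj g φ) ↔ K ≤ cfker H φ := by
  constructor
  · intro h x hx
    have := (mem_cfker_cfConj hg).mp (h ((conj_mem_iff (Subgroup.inv_mem _ hgK) x).mpr hx))
    simpa [mul_assoc] using this
  · intro h x hx
    exact (mem_cfker_cfConj hg).mpr (h ((conj_mem_iff hgK x).mpr hx))

theorem mem_inertia {G : Subgroup Γ} {φ : Γ → ℂ} {g : Γ} :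
    g ∈ inertia G φ ↔ g ∈ G ∧ cfConj g φ = φ := Iff.rfl

theorem inertia_le (G : Subgroup Γ) (φ : Γ → ℂ) : inertia G φ ≤ G := fun _ h => h.1

theorem le_inertia {G H : Subgroup Γ} (hHG : H ≤ G) {φ : Γ → ℂ} (hφ : φ ∈ CF H) :
    H ≤ inertia G φ := fun _ hg => ⟨hHG hg, cfConj_CF hφ hg⟩

/-! ## the inner product -/

variable [Finite Γ] [Finite Γ']

section dot
variable (H : Subgroup Γ)

theorem cfdot_def (φ ψ : Γ → ℂ) :
    cfdot H φ ψ = (Nat.card H : ℂ)⁻¹ * ∑ x ∈ fs (H : Set Γ), φ x * conj (ψ x) := rfl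

theorem cfdot_eq_classInner [Fintype H] (φ ψ : Γ → ℂ) :
    cfdot H φ ψ = classInner (fun x : H => φ x) (fun x : H => ψ x) := by
  rw [cfdot, classInner]
  congr 1
  exact sum_fs_eq_subtype (H : Set Γ) (fun x => φ x * conj (ψ x))

theorem cfdot_top {G : Type u} [Group G] [Fintype G] (φ ψ : G → ℂ) :
    cfdot ⊤ φ ψ = classInner φ ψ := by
  rw [cfdot, classInner, Subgroup.card_top, Subgroup.coe_top, fs_univ]

@[simp] theorem cfdot_add_left (φ φ' ψ : Γ → ℂ) :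
    cfdot H (φ + φ') ψ = cfdot H φ ψ + cfdot H φ' ψ := by
  simp [cfdot, add_mul, Finset.sum_add_distrib, mul_add]

@[simp] theorem cfdot_add_right (φ ψ ψ' : Γ → ℂ) :
    cfdot H φ (ψ + ψ') = cfdot H φ ψ + cfdot H φ ψ' := by
  simp [cfdot, Finset.sum_add_distrib, mul_add]

@[simp] theorem cfdot_neg_left (φ ψ : Γ → ℂ) : cfdot H (-φ) ψ = -cfdot H φ ψ := by simp [cfdot]

@[simp] theorem cfdot_neg_right (φ ψ : Γ → ℂ) : cfdot H φ (-ψ) = -cfdot H φ ψ := by simp [cfdot]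

@[simp] theorem cfdot_sub_left (φ φ' ψ : Γ → ℂ) :
    cfdot H (φ - φ') ψ = cfdot H φ ψ - cfdot H φ' ψ := by
  simp [cfdot, sub_mul, Finset.sum_sub_distrib, mul_sub]

@[simp] theorem cfdot_sub_right (φ ψ ψ' : Γ → ℂ) :
    cfdot H φ (ψ - ψ') = cfdot H φ ψ - cfdot H φ ψ' := by
  simp [cfdot, Finset.sum_sub_distrib, mul_sub]

@[simp] theorem cfdot_smul_left (c : ℂ) (φ ψ : Γ → ℂ) :
    cfdot H (c • φ) ψ = c * cfdot H φ ψ := by
  simp only [cfdot, Pi.smul_apply, smul_eq_mul, mul_assoc, ← Finset.mul_sum]; ring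

@[simp] theorem cfdot_smul_right (c : ℂ) (φ ψ : Γ → ℂ) :
    cfdot H φ (c • ψ) = conj c * cfdot H φ ψ := by
  simp only [cfdot, Pi.smul_apply, smul_eq_mul, map_mul, Finset.mul_sum]
  exact Finset.sum_congr rfl fun g _ => by ring

@[simp] theorem cfdot_zsmul_left (n : ℤ) (φ ψ : Γ → ℂ) :
    cfdot H (n • φ) ψ = n * cfdot H φ ψ := by
  rw [← Int.cast_smul_eq_zsmul ℂ, cfdot_smul_left]

@[simp] theorem cfdot_zsmul_right (n : ℤ) (φ ψ : Γ → ℂ) :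
    cfdot H φ (n • ψ) = n * cfdot H φ ψ := by
  rw [← Int.cast_smul_eq_zsmul ℂ, cfdot_smul_right, map_intCast]

@[simp] theorem cfdot_nsmul_left (n : ℕ) (φ ψ : Γ → ℂ) :
    cfdot H (n • φ) ψ = n * cfdot H φ ψ := by
  rw [← Nat.cast_smul_eq_nsmul ℂ, cfdot_smul_left]

@[simp] theorem cfdot_nsmul_right (n : ℕ) (φ ψ : Γ → ℂ) :
    cfdot H φ (n • ψ) = n * cfdot H φ ψ := by
  rw [← Nat.cast_smul_eq_nsmul ℂ, cfdot_smul_right, map_natCast]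

@[simp] theorem cfdot_zero_left (ψ : Γ → ℂ) : cfdot H 0 ψ = 0 := by simp [cfdot]

@[simp] theorem cfdot_zero_right (φ : Γ → ℂ) : cfdot H φ 0 = 0 := by simp [cfdot]

theorem cfdot_sum_left {ι : Type*} (s : Finset ι) (φ : ι → Γ → ℂ) (ψ : Γ → ℂ) :
    cfdot H (∑ i ∈ s, φ i) ψ = ∑ i ∈ s, cfdot H (φ i) ψ := by
  classical
  induction s using Finset.induction_on with
  | empty => simp
  | insert i s hi ih => rw [Finset.sum_insert hi, Finset.sum_insert hi, cfdot_add_left, ih]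

theorem cfdot_sum_right {ι : Type*} (s : Finset ι) (φ : Γ → ℂ) (ψ : ι → Γ → ℂ) :
    cfdot H φ (∑ i ∈ s, ψ i) = ∑ i ∈ s, cfdot H φ (ψ i) := by
  classical
  induction s using Finset.induction_on with
  | empty => simp
  | insert i s hi ih => rw [Finset.sum_insert hi, Finset.sum_insert hi, cfdot_add_right, ih]

theorem conj_cfdot (φ ψ : Γ → ℂ) : conj (cfdot H φ ψ) = cfdot H ψ φ := by
  simp [cfdot, mul_comm]

theorem cfdot_conjC_conjC (φ ψ : Γ → ℂ) : cfdot H (conjC φ) (conjC ψ) = conj (cfdot H φ ψ) := by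
  simp [cfdot]

theorem cfdot_conjC_left (φ ψ : Γ → ℂ) : cfdot H (conjC φ) ψ = conj (cfdot H φ (conjC ψ)) := by
  rw [← cfdot_conjC_conjC, conjC_conjC]

theorem cfdot_conjC_right (φ ψ : Γ → ℂ) : cfdot H φ (conjC ψ) = conj (cfdot H (conjC φ) ψ) := by
  rw [← cfdot_conjC_conjC, conjC_conjC]

theorem cfdot_mul_left (φ η ψ : Γ → ℂ) : cfdot H (φ * η) ψ = cfdot H φ (ψ * conjC η) := by
  simp only [cfdot, Pi.mul_apply, map_mul, cfAut_apply, Complex.conj_conj]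
  congr 1
  exact Finset.sum_congr rfl fun g _ => by ring

theorem cfdot_self (φ : Γ → ℂ) : cfdot H φ φ = (cfnorm H φ : ℂ) := by
  simp [cfdot, cfnorm, Complex.mul_conj, Complex.normSq_eq_norm_sq]

theorem cfnorm_eq_re (φ : Γ → ℂ) : cfnorm H φ = (cfdot H φ φ).re := by
  rw [cfdot_self, Complex.ofReal_re]

theorem cfnorm_nonneg (φ : Γ → ℂ) : 0 ≤ cfnorm H φ := by unfold cfnorm; positivity

variable {H}

theorem cfdot_eq_zero_comm {φ ψ : Γ → ℂ} : cfdot H φ ψ = 0 ↔ cfdot H ψ φ = 0 := by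
  rw [← conj_cfdot, map_eq_zero]

theorem cfdot_symm_zero {φ ψ : Γ → ℂ} (h : cfdot H φ ψ = 0) : cfdot H ψ φ = 0 :=
  cfdot_eq_zero_comm.mp h

theorem cfdot_symm_int {φ ψ : Γ → ℂ} {n : ℤ} (h : cfdot H φ ψ = n) : cfdot H ψ φ = n := by
  rw [← conj_cfdot, h, map_intCast]

theorem cfdot_symm_real {φ ψ : Γ → ℂ} {r : ℝ} (h : cfdot H φ ψ = r) : cfdot H ψ φ = r := by
  rw [← conj_cfdot, h, Complex.conj_ofReal]

theorem cfdot_congr {φ φ' ψ ψ' : Γ → ℂ} (h : ∀ x ∈ H, φ x = φ' x) (h' : ∀ x ∈ H, ψ x = ψ' x) :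
    cfdot H φ ψ = cfdot H φ' ψ' := by
  unfold cfdot; congr 1
  exact sum_fs_congr fun x hx => by rw [h x hx, h' x hx]

theorem cfdot_eq_zero_of {φ ψ : Γ → ℂ} (h : ∀ x ∈ H, φ x = 0 ∨ ψ x = 0) : cfdot H φ ψ = 0 := by
  unfold cfdot
  rw [Finset.sum_eq_zero, mul_zero]
  intro x hx
  rcases h x (by simpa using hx) with h | h <;> simp [h]

/-- if `φ` vanishes off `A`, only the values of `ψ` on `A` matter. -/
theorem cfdot_congr_on {A : Set Γ} {φ ψ ψ' : Γ → ℂ} (hφ : φ ∈ cfOn A)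
    (h : ∀ x ∈ A, x ∈ H → ψ x = ψ' x) : cfdot H φ ψ = cfdot H φ ψ' := by
  unfold cfdot; congr 1
  refine sum_fs_congr fun x hx => ?_
  by_cases hA : x ∈ A
  · rw [h x hA hx]
  · simp [hφ x hA]

theorem cfdot_eq_zero_of_disjoint {A B : Set Γ} {φ ψ : Γ → ℂ} (hφ : φ ∈ cfOn A) (hψ : ψ ∈ cfOn B)
    (h : Disjoint A B) : cfdot H φ ψ = 0 :=
  cfdot_eq_zero_of fun x _ => by
    by_cases hx : x ∈ A
    · exact Or.inr (hψ x fun hB => Set.disjoint_left.mp h hx hB)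
    · exact Or.inl (hφ x hx)

@[simp] theorem cfdot_cfRes_left (φ ψ : Γ → ℂ) : cfdot H (cfRes H φ) ψ = cfdot H φ ψ :=
  cfdot_congr (fun _ hx => cfRes_of_mem _ hx) fun _ _ => rfl

@[simp] theorem cfdot_cfRes_right (φ ψ : Γ → ℂ) : cfdot H φ (cfRes H ψ) = cfdot H φ ψ :=
  cfdot_congr (fun _ _ => rfl) fun _ hx => cfRes_of_mem _ hx

theorem cfdot_cfConj {g : Γ} (hg : g ∈ N[H]) (φ ψ : Γ → ℂ) :
    cfdot H (cfConj g φ) (cfConj g ψ) = cfdot H φ ψ := by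
  unfold cfdot; congr 1
  exact sum_fs_conj hg (fun x => φ x * conj (ψ x))

@[simp] theorem cfdot_cfOne_cfOne : cfdot H (cfOne H) (cfOne H) = 1 := by
  rw [cfOne, cfdot_cfRes_left, cfdot_cfRes_right]
  simp [cfdot, card_fs_subgroup, cardC_ne_zero]

theorem cfnorm_eq_zero {φ : Γ → ℂ} (hφ : φ ∈ cfOn (H : Set Γ)) : cfnorm H φ = 0 ↔ φ = 0 := by
  constructor
  · intro h
    unfold cfnorm at h
    rcases mul_eq_zero.mp h with h | h
    · exact absurd h (inv_ne_zero (cardR_pos H).ne')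
    · rw [Finset.sum_eq_zero_iff_of_nonneg (fun _ _ => by positivity)] at h
      refine ext_on hφ (Submodule.zero_mem _) fun x hx => ?_
      simpa using h x (by simpa using hx)
  · rintro rfl; simp [cfnorm]

theorem cfnorm_eq_zero_CF {φ : Γ → ℂ} (hφ : φ ∈ CF H) : cfnorm H φ = 0 ↔ φ = 0 :=
  cfnorm_eq_zero hφ.1

theorem cfdot_self_eq_zero {φ : Γ → ℂ} (hφ : φ ∈ cfOn (H : Set Γ)) :
    cfdot H φ φ = 0 ↔ φ = 0 := by
  rw [cfdot_self, Complex.ofReal_eq_zero, cfnorm_eq_zero hφ]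

theorem cfnorm_pos {φ : Γ → ℂ} (hφ : φ ∈ cfOn (H : Set Γ)) (h0 : φ ≠ 0) : 0 < cfnorm H φ :=
  lt_of_le_of_ne (cfnorm_nonneg H φ) fun h => h0 ((cfnorm_eq_zero hφ).mp h.symm)

theorem apply_eq_zero_of_cfnorm {φ : Γ → ℂ} (h : cfnorm H φ = 0) {x : Γ} (hx : x ∈ H) :
    φ x = 0 := by
  have h1 : cfnorm H (cfRes H φ) = 0 := by rw [cfnorm_eq_re] at h ⊢; simpa using h
  have := congrFun ((cfnorm_eq_zero (cfRes_mem_cfOn H φ)).mp h1) x
  rwa [cfRes_of_mem _ hx] at this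

theorem cfnorm_eq_of_cfdot {φ : Γ → ℂ} {r : ℝ} (h : cfdot H φ φ = r) : cfnorm H φ = r := by
  rw [cfnorm_eq_re, h, Complex.ofReal_re]

theorem cfnorm_eq_iff {φ : Γ → ℂ} {r : ℝ} : cfnorm H φ = r ↔ cfdot H φ φ = r := by
  rw [cfdot_self, Complex.ofReal_inj]

theorem cfnorm_eq_one_iff {φ : Γ → ℂ} : cfnorm H φ = 1 ↔ cfdot H φ φ = 1 := by
  rw [cfnorm_eq_iff, Complex.ofReal_one]

theorem cfnorm_congr_dot {H' : Subgroup Γ'} {φ : Γ → ℂ} {ψ : Γ' → ℂ}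
    (h : cfdot H φ φ = cfdot H' ψ ψ) : cfnorm H φ = cfnorm H' ψ := by
  rw [cfnorm_eq_re, cfnorm_eq_re, h]

variable (H)

theorem cfnorm_add (φ ψ : Γ → ℂ) :
    cfnorm H (φ + ψ) = cfnorm H φ + cfnorm H ψ + 2 * (cfdot H φ ψ).re := by
  have : (cfdot H ψ φ).re = (cfdot H φ ψ).re := by rw [← conj_cfdot, Complex.conj_re]
  simp only [cfnorm_eq_re, cfdot_add_left, cfdot_add_right, Complex.add_re, this]; ring

theorem cfnorm_sub (φ ψ : Γ → ℂ) :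
    cfnorm H (φ - ψ) = cfnorm H φ + cfnorm H ψ - 2 * (cfdot H φ ψ).re := by
  have : (cfdot H ψ φ).re = (cfdot H φ ψ).re := by rw [← conj_cfdot, Complex.conj_re]
  simp only [cfnorm_eq_re, cfdot_sub_left, cfdot_sub_right, Complex.sub_re, this]; ring

@[simp] theorem cfnorm_neg (φ : Γ → ℂ) : cfnorm H (-φ) = cfnorm H φ := by simp [cfnorm]

@[simp] theorem cfnorm_zero : cfnorm H (0 : Γ → ℂ) = 0 := by simp [cfnorm]

theorem cfnorm_sub_comm (φ ψ : Γ → ℂ) : cfnorm H (φ - ψ) = cfnorm H (ψ - φ) := by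
  rw [← cfnorm_neg, neg_sub]

theorem cfnorm_smul (c : ℂ) (φ : Γ → ℂ) : cfnorm H (c • φ) = ‖c‖ ^ 2 * cfnorm H φ := by
  simp only [cfnorm, Pi.smul_apply, smul_eq_mul, norm_mul, mul_pow, ← Finset.mul_sum]; ring

theorem cfnorm_zsmul (n : ℤ) (φ : Γ → ℂ) : cfnorm H (n • φ) = (n : ℝ) ^ 2 * cfnorm H φ := by
  rw [← Int.cast_smul_eq_zsmul ℂ, cfnorm_smul, Complex.norm_intCast, sq_abs]

theorem cfnorm_intCast_smul (n : ℤ) (φ : Γ → ℂ) :
    cfnorm H ((n : ℂ) • φ) = (n : ℝ) ^ 2 * cfnorm H φ := by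
  rw [cfnorm_smul, Complex.norm_intCast, sq_abs]

theorem cfnorm_natCast_smul (n : ℕ) (φ : Γ → ℂ) :
    cfnorm H ((n : ℂ) • φ) = (n : ℝ) ^ 2 * cfnorm H φ := by
  rw [cfnorm_smul, Complex.norm_natCast]

theorem cfnorm_ofReal_smul (r : ℝ) (φ : Γ → ℂ) :
    cfnorm H ((r : ℂ) • φ) = r ^ 2 * cfnorm H φ := by
  rw [cfnorm_smul, Complex.norm_real, Real.norm_eq_abs, sq_abs]

@[simp] theorem cfnorm_conjC (φ : Γ → ℂ) : cfnorm H (conjC φ) = cfnorm H φ := by simp [cfnorm]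

@[simp] theorem cfnorm_cfRes (φ : Γ → ℂ) : cfnorm H (cfRes H φ) = cfnorm H φ := by
  simp [cfnorm_eq_re]

@[simp] theorem cfnorm_cfOne : cfnorm H (cfOne H) = 1 := by simp [cfnorm_eq_re]

variable {H}

theorem cfnorm_add_orth {φ ψ : Γ → ℂ} (h : cfdot H φ ψ = 0) :
    cfnorm H (φ + ψ) = cfnorm H φ + cfnorm H ψ := by rw [cfnorm_add, h]; simp

theorem cfnorm_sub_orth {φ ψ : Γ → ℂ} (h : cfdot H φ ψ = 0) :
    cfnorm H (φ - ψ) = cfnorm H φ + cfnorm H ψ := by rw [cfnorm_sub, h]; simp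

theorem cfnorm_sum_orth {ι : Type*} (s : Finset ι) (φ : ι → Γ → ℂ)
    (h : ∀ i ∈ s, ∀ j ∈ s, i ≠ j → cfdot H (φ i) (φ j) = 0) :
    cfnorm H (∑ i ∈ s, φ i) = ∑ i ∈ s, cfnorm H (φ i) := by
  classical
  rw [cfnorm_eq_re, cfdot_sum_left, Complex.re_sum]
  refine Finset.sum_congr rfl fun i hi => ?_
  rw [cfdot_sum_right, Finset.sum_eq_single i (fun j hj hne => h i hi j hj hne.symm)
    (fun hn => absurd hi hn), cfnorm_eq_re]

theorem cfdot_sum_orth_left {ι : Type*} {s : Finset ι} {φ : ι → Γ → ℂ}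
    (h : ∀ i ∈ s, ∀ j ∈ s, i ≠ j → cfdot H (φ i) (φ j) = 0) (c : ι → ℂ) {i : ι} (hi : i ∈ s) :
    cfdot H (∑ j ∈ s, c j • φ j) (φ i) = c i * cfdot H (φ i) (φ i) := by
  rw [cfdot_sum_left, Finset.sum_eq_single i (fun j hj hne => by simp [h j hj i hi hne])
    (fun hn => absurd hi hn), cfdot_smul_left]

/-- Cauchy–Schwarz. -/
theorem cfdot_sq_le (φ ψ : Γ → ℂ) : ‖cfdot H φ ψ‖ ^ 2 ≤ cfnorm H φ * cfnorm H ψ := by
  by_cases h0 : cfnorm H ψ = 0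
  · rw [cfdot_eq_zero_of fun x hx => Or.inr (apply_eq_zero_of_cfnorm h0 hx), h0]; simp
  have hpos : 0 < cfnorm H ψ := lt_of_le_of_ne (cfnorm_nonneg H ψ) (Ne.symm h0)
  set c := cfdot H φ ψ
  have h1 := cfnorm_nonneg H (φ - (c / cfnorm H ψ) • ψ)
  rw [cfnorm_sub, cfnorm_smul, cfdot_smul_right] at h1
  have h2 : (conj (c / (cfnorm H ψ : ℂ)) * c).re = ‖c‖ ^ 2 / cfnorm H ψ := by
    rw [map_div₀, Complex.conj_ofReal, div_mul_eq_mul_div, Complex.conj_mul', ← Complex.ofReal_pow,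
      ← Complex.ofReal_div, Complex.ofReal_re]
  rw [h2, norm_div, Complex.norm_real, Real.norm_eq_abs, abs_of_pos hpos] at h1
  have h3 : (‖c‖ / cfnorm H ψ) ^ 2 * cfnorm H ψ = ‖c‖ ^ 2 / cfnorm H ψ := by field_simp
  rw [h3] at h1
  have h4 : ‖c‖ ^ 2 / cfnorm H ψ ≤ cfnorm H φ := by linarith
  rwa [div_le_iff₀ hpos] at h4

/-- orthogonal projection on the span of an orthonormal family: Pythagoras. -/
theorem cfnorm_eq_proj {ι : Type*} {s : Finset ι} {e : ι → Γ → ℂ}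
    (h1 : ∀ i ∈ s, cfdot H (e i) (e i) = 1)
    (h : ∀ i ∈ s, ∀ j ∈ s, i ≠ j → cfdot H (e i) (e j) = 0) (φ : Γ → ℂ) :
    cfnorm H φ = ∑ i ∈ s, ‖cfdot H φ (e i)‖ ^ 2
      + cfnorm H (φ - ∑ i ∈ s, cfdot H φ (e i) • e i) := by
  set X := ∑ i ∈ s, cfdot H φ (e i) • e i
  have hX : ∀ i ∈ s, cfdot H (φ - X) (e i) = 0 := fun i hi => by
    rw [cfdot_sub_left, cfdot_sum_orth_left h _ hi, h1 i hi]; ring
  have h2 : cfdot H X (φ - X) = 0 := by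
    rw [cfdot_sum_left]
    exact Finset.sum_eq_zero fun i hi => by rw [cfdot_smul_left, cfdot_symm_zero (hX i hi), mul_zero]
  have h3 : cfnorm H X = ∑ i ∈ s, ‖cfdot H φ (e i)‖ ^ 2 := by
    rw [cfnorm_sum_orth]
    · exact Finset.sum_congr rfl fun i hi => by
        rw [cfnorm_smul, cfnorm_eq_one_iff.mpr (h1 i hi), mul_one]
    · intro i hi j hj hne; simp [h i hi j hj hne]
  rw [← h3, ← cfnorm_add_orth h2, add_sub_cancel]

/-- Bessel's inequality. -/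
theorem sum_sq_cfdot_le {ι : Type*} {s : Finset ι} {e : ι → Γ → ℂ}
    (h1 : ∀ i ∈ s, cfdot H (e i) (e i) = 1)
    (h : ∀ i ∈ s, ∀ j ∈ s, i ≠ j → cfdot H (e i) (e j) = 0) (φ : Γ → ℂ) :
    ∑ i ∈ s, ‖cfdot H φ (e i)‖ ^ 2 ≤ cfnorm H φ := by
  rw [cfnorm_eq_proj h1 h φ]
  linarith [cfnorm_nonneg H (φ - ∑ i ∈ s, cfdot H φ (e i) • e i)]

end dot

/-! ## induction -/

section ind
variable {G H K : Subgroup Γ}

theorem cfInd_def (G H : Subgroup Γ) (φ : Γ → ℂ) : cfInd G H φ =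
    cfRes G (fun x => (Nat.card H : ℂ)⁻¹ * ∑ g ∈ fs (G : Set Γ), cfRes H φ (g * x * g⁻¹)) := rfl

theorem cfInd_of_mem (H : Subgroup Γ) (φ : Γ → ℂ) {x : Γ} (hx : x ∈ G) :
    cfInd G H φ x = (Nat.card H : ℂ)⁻¹ * ∑ g ∈ fs (G : Set Γ), cfRes H φ (g * x * g⁻¹) := by
  rw [cfInd_def, cfRes_of_mem _ hx]

theorem cfInd_of_not_mem (H : Subgroup Γ) (φ : Γ → ℂ) {x : Γ} (hx : x ∉ G) :
    cfInd G H φ x = 0 := by rw [cfInd_def, cfRes_of_not_mem _ hx]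

theorem cfInd_mem_CF (G H : Subgroup Γ) (φ : Γ → ℂ) : cfInd G H φ ∈ CF G :=
  cfRes_mem_CF_of fun k hk x _ => by
    congr 1
    rw [← sum_fs_mul_right hk (fun g => cfRes H φ (g * x * g⁻¹))]
    exact Finset.sum_congr rfl fun g _ => by congr 1; group

@[simp] theorem cfInd_cfRes (G H : Subgroup Γ) (φ : Γ → ℂ) :
    cfInd G H (cfRes H φ) = cfInd G H φ := by
  change cfRes G _ = cfRes G _
  simp

theorem cfInd_congr (G : Subgroup Γ) {φ ψ : Γ → ℂ} (h : ∀ x ∈ H, φ x = ψ x) :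
    cfInd G H φ = cfInd G H ψ := by rw [← cfInd_cfRes, cfRes_congr h, cfInd_cfRes]

theorem card_eq_mul_relIndex (hHG : H ≤ G) : Nat.card G = Nat.card H * H.relIndex G := by
  rw [Subgroup.relIndex, ← Subgroup.card_mul_index (H.subgroupOf G)]
  congr 1
  exact Nat.card_congr (Subgroup.subgroupOfEquivOfLe hHG).toEquiv

theorem relIndex_pos (H G : Subgroup Γ) : 0 < H.relIndex G :=
  Nat.pos_of_ne_zero Subgroup.FiniteIndex.index_ne_zero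

theorem relIndexC_ne_zero (H G : Subgroup Γ) : (H.relIndex G : ℂ) ≠ 0 := by
  exact_mod_cast (relIndex_pos H G).ne'

theorem relIndex_eq_div (hHG : H ≤ G) : (H.relIndex G : ℂ) = (Nat.card G : ℂ) / Nat.card H := by
  rw [card_eq_mul_relIndex hHG, Nat.cast_mul, mul_div_cancel_left₀ _ (cardC_ne_zero H)]

theorem cfInd_one (hHG : H ≤ G) (φ : Γ → ℂ) : cfInd G H φ 1 = H.relIndex G * φ 1 := by
  rw [cfInd_of_mem H φ G.one_mem, relIndex_eq_div hHG]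
  simp [card_fs_subgroup]; ring

/-- the induced function vanishes outside the `G`-conjugates of the support. -/
theorem cfInd_eq_zero_of (G : Subgroup Γ) {φ : Γ → ℂ} {x : Γ}
    (h : ∀ g ∈ G, g * x * g⁻¹ ∈ H → φ (g * x * g⁻¹) = 0) : cfInd G H φ x = 0 := by
  by_cases hx : x ∈ G
  · rw [cfInd_of_mem H φ hx, Finset.sum_eq_zero, mul_zero]
    intro g hg
    by_cases hH : g * x * g⁻¹ ∈ H
    · rw [cfRes_of_mem _ hH, h g (by simpa using hg) hH]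
    · exact cfRes_of_not_mem _ hH
  · exact cfInd_of_not_mem H φ hx

theorem mem_classSupp {A : Set Γ} {x : Γ} :
    x ∈ classSupp A G ↔ ∃ g ∈ G, g * x * g⁻¹ ∈ A := by
  constructor
  · rintro ⟨a, ha, h, hh, rfl⟩
    exact ⟨h⁻¹, G.inv_mem hh, by simpa [mul_assoc] using ha⟩
  · rintro ⟨g, hg, h⟩
    exact ⟨_, h, g⁻¹, G.inv_mem hg, by simp [mul_assoc]⟩

theorem cfInd_mem_cfOn_classSupp (G H : Subgroup Γ) {A : Set Γ} {φ : Γ → ℂ} (hφ : φ ∈ cfOn A) :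
    cfInd G H φ ∈ cfOn (classSupp A G) := fun _ hx =>
  cfInd_eq_zero_of G fun g hg _ => hφ _ fun hA => hx (mem_classSupp.mpr ⟨g, hg, hA⟩)

theorem cfInd_mem_cfOn_of_conj (G H : Subgroup Γ) {A : Set Γ} {φ : Γ → ℂ} (hφ : φ ∈ cfOn A)
    (hA : ∀ g ∈ G, ∀ a ∈ A, g * a * g⁻¹ ∈ A) : cfInd G H φ ∈ cfOn A := fun x hx =>
  cfInd_eq_zero_of G fun g hg _ => hφ _ fun h => hx (by
    simpa [mul_assoc] using hA g⁻¹ (G.inv_mem hg) _ h)

/-- a function induced from a normal subgroup vanishes outside it. -/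
theorem cfInd_mem_cfOn_nml (hG : G ≤ N[H]) (φ : Γ → ℂ) : cfInd G H φ ∈ cfOn (H : Set Γ) :=
  fun _ hx => cfInd_eq_zero_of G fun _ hg h => absurd ((conj_mem_iff (hG hg) _).mp h) hx

/-- Frobenius reciprocity. -/
theorem cfdot_cfInd_left (hHG : H ≤ G) (φ : Γ → ℂ) {χ : Γ → ℂ} (hχ : χ ∈ CF G) :
    cfdot G (cfInd G H φ) χ = cfdot H φ χ := by
  have h1 : ∀ g ∈ (G : Set Γ), ∑ x ∈ fs (G : Set Γ), cfRes H φ (g * x * g⁻¹) * conj (χ x)
      = ∑ x ∈ fs (H : Set Γ), φ x * conj (χ x) := by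
    intro g hg
    have := sum_fs_conj_mem hg (fun x => cfRes H φ x * conj (χ x))
    simp only [CF_conj hχ hg] at this
    rw [this, ← sum_fs_subset (A := (H : Set Γ)) hHG _
      (fun x _ hx => by rw [cfRes_of_not_mem _ hx, zero_mul])]
    exact sum_fs_congr fun x hx => by rw [cfRes_of_mem _ hx]
  rw [cfdot, sum_fs_congr (g := fun x => (Nat.card H : ℂ)⁻¹ *
    ∑ g ∈ fs (G : Set Γ), cfRes H φ (g * x * g⁻¹) * conj (χ x))
    (fun x hx => by rw [cfInd_of_mem H φ hx, mul_assoc, Finset.sum_mul]),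
    ← Finset.mul_sum, Finset.sum_comm, sum_fs_congr h1, sum_fs_const, cfdot]
  have := cardC_ne_zero G
  simp only [SetLike.coe_sort_coe, nsmul_eq_mul]
  field_simp

theorem cfdot_cfInd_right (hHG : H ≤ G) {χ : Γ → ℂ} (hχ : χ ∈ CF G) (φ : Γ → ℂ) :
    cfdot G χ (cfInd G H φ) = cfdot H χ φ := by
  rw [← conj_cfdot, cfdot_cfInd_left hHG φ hχ, conj_cfdot]

theorem cfInd_self {φ : Γ → ℂ} (hφ : φ ∈ CF H) : cfInd H H φ = φ :=
  CF_ext (cfInd_mem_CF _ _ _) hφ fun x hx => by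
    rw [cfInd_of_mem H φ hx, cfRes_CF hφ, sum_fs_congr (fun g hg => CF_conj hφ hg x), sum_fs_const]
    simp only [SetLike.coe_sort_coe, nsmul_eq_mul]
    rw [inv_mul_cancel_left₀ (cardC_ne_zero H)]

theorem cfInd_cfInd (hHK : H ≤ K) (hKG : K ≤ G) (φ : Γ → ℂ) :
    cfInd G K (cfInd K H φ) = cfInd G H φ := by
  refine CF_ext (cfInd_mem_CF _ _ _) (cfInd_mem_CF _ _ _) fun x hx => ?_
  rw [cfInd_of_mem K _ hx, cfInd_of_mem H _ hx, cfRes_CF (cfInd_mem_CF _ _ _)]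
  have h1 : ∀ g ∈ (G : Set Γ), cfInd K H φ (g * x * g⁻¹) = (Nat.card H : ℂ)⁻¹ *
      ∑ k ∈ fs (K : Set Γ), cfRes H φ (k * g * x * (k * g)⁻¹) := by
    intro g _
    by_cases hK : g * x * g⁻¹ ∈ K
    · rw [cfInd_of_mem H _ hK]
      congr 1
      exact Finset.sum_congr rfl fun k _ => by congr 1; group
    · rw [cfInd_of_not_mem H _ hK, Finset.sum_eq_zero, mul_zero]
      intro k hk
      refine cfRes_of_not_mem _ fun hH => hK ?_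
      rw [← conj_mem_iff_of_mem (show k ∈ K by simpa using hk)]
      convert hHK hH using 1; group
  rw [sum_fs_congr h1, ← Finset.mul_sum, Finset.sum_comm,
    sum_fs_congr (fun k hk => sum_fs_mul_left (hKG hk) (fun g => cfRes H φ (g * x * g⁻¹))),
    sum_fs_const]
  have := cardC_ne_zero K
  simp only [SetLike.coe_sort_coe, nsmul_eq_mul]
  field_simp

theorem cfInd_mul_cfRes {χ : Γ → ℂ} (hχ : χ ∈ CF G) (φ : Γ → ℂ) :
    cfInd G H (φ * χ) = cfInd G H φ * χ := by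
  refine CF_ext (cfInd_mem_CF _ _ _) (mul_mem_CF (cfInd_mem_CF _ _ _) hχ) fun x hx => ?_
  rw [Pi.mul_apply, cfInd_of_mem H _ hx, cfInd_of_mem H _ hx, mul_assoc, Finset.sum_mul]
  congr 1
  refine sum_fs_congr fun g hg => ?_
  by_cases h : g * x * g⁻¹ ∈ H <;> simp [cfRes_apply, h, CF_conj hχ hg]

theorem cfInd_mul_cfRes' {χ : Γ → ℂ} (hχ : χ ∈ CF G) (φ : Γ → ℂ) :
    cfInd G H (φ * cfRes H χ) = cfInd G H φ * χ := by
  rw [← cfInd_mul_cfRes hχ]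
  exact cfInd_congr G fun x hx => by simp [cfRes_of_mem _ hx]

theorem cfAut_cfInd (u : ℂ →+* ℂ) (G H : Subgroup Γ) (φ : Γ → ℂ) :
    cfAut u (cfInd G H φ) = cfInd G H (cfAut u φ) := by
  refine CF_ext (cfAut_mem_CF u (cfInd_mem_CF _ _ _)) (cfInd_mem_CF _ _ _) fun x hx => ?_
  rw [cfAut_apply, cfInd_of_mem H _ hx, cfInd_of_mem H _ hx, ← cfAut_cfRes]
  simp

theorem cfInd_cfConj {g : Γ} (hgG : g ∈ G) (hgH : g ∈ N[H]) (φ : Γ → ℂ) :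
    cfInd G H (cfConj g φ) = cfInd G H φ := by
  refine CF_ext (cfInd_mem_CF _ _ _) (cfInd_mem_CF _ _ _) fun x hx => ?_
  rw [cfInd_of_mem H _ hx, cfInd_of_mem H _ hx, ← cfConj_cfRes hgH,
    ← sum_fs_mul_left hgG (fun k => cfRes H φ (k * x * k⁻¹))]
  congr 1
  exact Finset.sum_congr rfl fun k _ => by simp only [cfConj_apply]; congr 1; group

theorem cfConj_cfInd {g : Γ} (hgG : g ∈ N[G]) (hgH : g ∈ N[H]) (φ : Γ → ℂ) :
    cfConj g (cfInd G H φ) = cfInd G H (cfConj g φ) := by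
  refine CF_ext (cfConj_mem_CF (cfInd_mem_CF _ _ _) hgG) (cfInd_mem_CF _ _ _) fun x hx => ?_
  rw [cfConj_apply, cfInd_of_mem H _ ((conj_mem_iff hgG x).mpr hx), cfInd_of_mem H _ hx,
    ← cfConj_cfRes hgH, ← sum_fs_conj hgG (fun k => cfRes H φ (k * (g * x * g⁻¹) * k⁻¹))]
  congr 1
  exact Finset.sum_congr rfl fun k _ => by simp only [cfConj_apply]; congr 1; group

/-- value of a function induced from a normal subgroup. -/
theorem cfInd_nml_apply (hG : G ≤ N[H]) (φ : Γ → ℂ) {x : Γ} (hxG : x ∈ G) (hx : x ∈ H) :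
    cfInd G H φ x = (Nat.card H : ℂ)⁻¹ * ∑ g ∈ fs (G : Set Γ), cfConj g φ x := by
  rw [cfInd_of_mem H φ hxG]
  congr 1
  exact sum_fs_congr fun g hg => cfRes_of_mem _ ((conj_mem_iff (hG hg) x).mpr hx)

/-- an invariant function on a normal subgroup induces to a multiple of itself. -/
theorem cfInd_nml_invariant (hH : H ⊴ G) {φ : Γ → ℂ} (hφ : φ ∈ cfOn (H : Set Γ))
    (hinv : ∀ g ∈ G, cfConj g φ = φ) : cfInd G H φ = (H.relIndex G : ℂ) • φ := by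
  refine ext_on (cfInd_mem_cfOn_nml hH.norm φ) (Submodule.smul_mem _ _ hφ) fun x hx => ?_
  rw [cfInd_nml_apply hH.norm φ (hH.le hx) hx, sum_fs_congr (fun g hg => by rw [hinv g hg]),
    sum_fs_const, relIndex_eq_div hH.le]
  simp; ring

theorem cfInd_cfOne_nml (hH : H ⊴ G) : cfInd G H (cfOne H) = (H.relIndex G : ℂ) • cfOne H :=
  cfInd_nml_invariant hH (cfOne_mem_CF H).1 fun _ hg => cfConj_cfOne (hH.norm hg)

/-- `Ind (Res χ) = [G:H] χ|_H` for a normal subgroup. -/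
theorem cfInd_cfRes_nml (hH : H ⊴ G) {χ : Γ → ℂ} (hχ : χ ∈ CF G) :
    cfInd G H χ = (H.relIndex G : ℂ) • cfRes H χ := by
  rw [← cfInd_cfRes]
  exact cfInd_nml_invariant hH (cfRes_mem_cfOn _ _) fun g hg => by
    rw [cfConj_cfRes (hH.norm hg), cfConj_CF hχ hg]

/-- if `φ ∈ CF G` vanishes outside the subgroup `H` then `[G:H] ⟨φ, ψ⟩_G = ⟨φ, ψ⟩_H`. -/
theorem cfdot_of_cfOn (hHG : H ≤ G) {φ : Γ → ℂ} (hφ : φ ∈ cfOn (H : Set Γ)) (ψ : Γ → ℂ) :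
    cfdot H φ ψ = H.relIndex G * cfdot G φ ψ := by
  rw [cfdot, cfdot, ← sum_fs_subset (A := (H : Set Γ)) hHG _ (fun x _ hx => by simp [hφ x hx]),
    relIndex_eq_div hHG]
  have := cardC_ne_zero G
  field_simp

theorem cfnorm_cfRes_le (hHG : H ≤ G) (φ : Γ → ℂ) :
    cfnorm H φ ≤ H.relIndex G * cfnorm G φ := by
  rw [cfnorm, cfnorm, card_eq_mul_relIndex hHG]
  have h1 := cardR_pos H
  have h2 : (0 : ℝ) < H.relIndex G := by exact_mod_cast relIndex_pos H G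
  have h3 : ∑ x ∈ fs (H : Set Γ), ‖φ x‖ ^ 2 ≤ ∑ x ∈ fs (G : Set Γ), ‖φ x‖ ^ 2 :=
    Finset.sum_le_sum_of_subset_of_nonneg (fs_mono hHG) fun _ _ _ => by positivity
  push_cast
  calc _ ≤ (Nat.card H : ℝ)⁻¹ * ∑ x ∈ fs (G : Set Γ), ‖φ x‖ ^ 2 := by gcongr
    _ = _ := by field_simp

end ind

/-! ## TI sets -/

/-- `A` is a TI-subset of `G` normalised by `L`, and every element of `G` conjugating some element of
`A` into `A` lies in `L` (relative form of MathComp's `normedTI`, empty set allowed). -/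
structure NTI (G L : Subgroup Γ) (A : Set Γ) : Prop where
  le : L ≤ G
  sub : A ⊆ L
  norm : ∀ g ∈ L, ∀ a ∈ A, g * a * g⁻¹ ∈ A
  ti : ∀ a ∈ A, ∀ g ∈ G, g * a * g⁻¹ ∈ A → g ∈ L

section TI
variable {G L : Subgroup Γ} {A : Set Γ}

theorem NTI.cfInd_apply (h : NTI G L A) {φ : Γ → ℂ} (hφ : φ ∈ CFon L A) {a : Γ} (ha : a ∈ A) :
    cfInd G L φ a = φ a := by
  rw [cfInd_of_mem L φ (h.le (h.sub ha)), cfRes_CF hφ.1,
    ← sum_fs_subset (A := (L : Set Γ)) h.le _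
      (fun g hg hgL => hφ.2 _ fun hA => hgL (h.ti a ha g hg hA)),
    sum_fs_congr (fun g hg => CF_conj hφ.1 hg a), sum_fs_const]
  simp only [SetLike.coe_sort_coe, nsmul_eq_mul]
  rw [inv_mul_cancel_left₀ (cardC_ne_zero L)]

theorem NTI.cfdot_cfInd (h : NTI G L A) {φ ψ : Γ → ℂ} (hφ : φ ∈ cfOn A) (hψ : ψ ∈ CFon L A) :
    cfdot G (cfInd G L φ) (cfInd G L ψ) = cfdot L φ ψ := by
  rw [cfdot_cfInd_left h.le φ (cfInd_mem_CF _ _ _)]
  exact cfdot_congr_on hφ fun x hx _ => h.cfInd_apply hψ hx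

theorem NTI.mono (h : NTI G L A) {B : Set Γ} (hBA : B ⊆ A)
    (hB : ∀ g ∈ L, ∀ a ∈ B, g * a * g⁻¹ ∈ B) : NTI G L B :=
  ⟨h.le, hBA.trans h.sub, hB, fun a ha g hg hga => h.ti a (hBA ha) g hg (hBA hga)⟩

theorem NTI.cent_le (h : NTI G L A) {a : Γ} (ha : a ∈ A) : G ⊓ C{a} ≤ L := fun g hg =>
  h.ti a ha g hg.1 (by
    have := (Subgroup.mem_centralizer_singleton_iff).mp hg.2
    rw [this]; simpa using ha)

end TI

/-! ## `ℤ`-spans -/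

section zspan
variable {X : Type*}

theorem mem_zsp_of_mem {S : Finset (X → ℂ)} {φ : X → ℂ} (h : φ ∈ S) : φ ∈ zsp S :=
  Submodule.subset_span h

theorem zsp_mono {S T : Finset (X → ℂ)} (h : S ⊆ T) : zsp S ≤ zsp T := Submodule.span_mono h

theorem zsp_le {S : Finset (X → ℂ)} {E : Submodule ℤ (X → ℂ)} (h : ∀ φ ∈ S, φ ∈ E) : zsp S ≤ E :=
  Submodule.span_le.mpr h

theorem zsp_le_C {S : Finset (X → ℂ)} {E : Submodule ℂ (X → ℂ)} (h : ∀ φ ∈ S, φ ∈ E)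
    {φ : X → ℂ} (hφ : φ ∈ zsp S) : φ ∈ E := zsp_le (E := E.restrictScalars ℤ) h hφ

theorem mem_zsp_iff {S : Finset (X → ℂ)} {φ : X → ℂ} :
    φ ∈ zsp S ↔ ∃ c : (X → ℂ) → ℤ, φ = ∑ χ ∈ S, (c χ : ℂ) • χ := by
  rw [zsp, Submodule.mem_span_finset]
  constructor
  · rintro ⟨c, -, rfl⟩
    exact ⟨c, Finset.sum_congr rfl fun χ _ => (Int.cast_smul_eq_zsmul ℂ _ _).symm⟩
  · rintro ⟨c, rfl⟩
    classical
    refine ⟨fun χ => if χ ∈ S then c χ else 0, fun χ hχ => ?_, Finset.sum_congr rfl fun χ hχ => ?_⟩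
    · by_contra hn
      exact hχ (if_neg hn)
    · simp [hχ, Int.cast_smul_eq_zsmul]

theorem intCast_smul_mem {E : Submodule ℤ (X → ℂ)} (n : ℤ) {φ : X → ℂ} (h : φ ∈ E) :
    (n : ℂ) • φ ∈ E := by rw [Int.cast_smul_eq_zsmul]; exact E.smul_mem n h

theorem natCast_smul_mem {E : Submodule ℤ (X → ℂ)} (n : ℕ) {φ : X → ℂ} (h : φ ∈ E) :
    (n : ℂ) • φ ∈ E := by exact_mod_cast intCast_smul_mem (n : ℤ) h

theorem zsp_induction {S : Finset (X → ℂ)} {P : (X → ℂ) → Prop} {φ : X → ℂ} (h : φ ∈ zsp S)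
    (mem : ∀ χ ∈ S, P χ) (zero : P 0) (add : ∀ α ∈ zsp S, ∀ β ∈ zsp S, P α → P β → P (α + β))
    (neg : ∀ α ∈ zsp S, P α → P (-α)) : P φ := by
  have h' : φ ∈ AddSubgroup.closure (S : Set (X → ℂ)) := by
    rw [← Submodule.span_int_eq_addSubgroupClosure]; exact h
  have key : ∀ α, α ∈ AddSubgroup.closure (S : Set (X → ℂ)) → α ∈ zsp S := fun α hα => by
    rw [← Submodule.span_int_eq_addSubgroupClosure] at hα; exact hα
  induction h' using AddSubgroup.closure_induction with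
  | mem x hx => exact mem x hx
  | zero => exact zero
  | add x y hx hy ihx ihy => exact add x (key x hx) y (key y hy) (ihx (key x hx)) (ihy (key y hy))
  | neg x hx ih => exact neg x (key x hx) (ih (key x hx))

omit [Finite Γ] in
theorem mem_zspOn {S : Finset (Γ → ℂ)} {A : Set Γ} {φ : Γ → ℂ} :
    φ ∈ zspOn S A ↔ φ ∈ zsp S ∧ φ ∈ cfOn A := Iff.rfl

omit [Finite Γ] in
theorem mem_zsp0 {S : Finset (Γ → ℂ)} {φ : Γ → ℂ} : φ ∈ zsp0 S ↔ φ ∈ zsp S ∧ φ 1 = 0 := by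
  rw [zsp0, mem_zspOn, mem_cfOn]; simp

omit [Finite Γ] in
theorem zsp0_mono {S T : Finset (Γ → ℂ)} (h : S ⊆ T) : zsp0 S ≤ zsp0 T :=
  fun _ hφ => ⟨zsp_mono h hφ.1, hφ.2⟩

omit [Finite Γ] in
theorem zsp0_le_zsp (S : Finset (Γ → ℂ)) : zsp0 S ≤ zsp S := fun _ hφ => hφ.1

omit [Finite Γ] in
theorem sub_mem_zsp0 {S : Finset (Γ → ℂ)} {φ ψ : Γ → ℂ} (hφ : φ ∈ zsp S) (hψ : ψ ∈ zsp S)
    (h : φ 1 = ψ 1) : φ - ψ ∈ zsp0 S := mem_zsp0.mpr ⟨sub_mem hφ hψ, by simp [h]⟩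

omit [Finite Γ] in
theorem cfAut_mem_zsp (u : ℂ →+* ℂ) {S T : Finset (Γ → ℂ)} (h : ∀ φ ∈ S, cfAut u φ ∈ zsp T)
    {φ : Γ → ℂ} (hφ : φ ∈ zsp S) : cfAut u φ ∈ zsp T :=
  zsp_induction (P := fun φ => cfAut u φ ∈ zsp T) hφ h (by simp)
    (fun α _ β _ ha hb => by rw [map_add]; exact add_mem ha hb)
    (fun α _ ha => by rw [map_neg]; exact neg_mem ha)

theorem map_mem_of_zsp {Y : Type*} (f : (X → ℂ) →ₗ[ℂ] (Y → ℂ)) {S : Finset (X → ℂ)}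
    {E : Submodule ℤ (Y → ℂ)} (h : ∀ φ ∈ S, f φ ∈ E) {φ : X → ℂ} (hφ : φ ∈ zsp S) : f φ ∈ E :=
  zsp_induction (P := fun φ => f φ ∈ E) hφ h (by simp)
    (fun α _ β _ ha hb => by rw [map_add]; exact add_mem ha hb)
    (fun α _ ha => by rw [map_neg]; exact neg_mem ha)

theorem map_eq_of_zsp {Y : Type*} {f g : (X → ℂ) →ₗ[ℂ] (Y → ℂ)} {S : Finset (X → ℂ)}
    (h : ∀ φ ∈ S, f φ = g φ) {φ : X → ℂ} (hφ : φ ∈ zsp S) : f φ = g φ :=
  zsp_induction (P := fun φ => f φ = g φ) hφ h (by simp)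
    (fun α _ β _ ha hb => by rw [map_add, map_add, ha, hb])
    (fun α _ ha => by rw [map_neg, map_neg, ha])

theorem cfdot_eq_zero_of_zsp_left {H : Subgroup Γ} {S : Finset (Γ → ℂ)} {ψ : Γ → ℂ}
    (h : ∀ χ ∈ S, cfdot H χ ψ = 0) {φ : Γ → ℂ} (hφ : φ ∈ zsp S) : cfdot H φ ψ = 0 :=
  zsp_induction (P := fun φ => cfdot H φ ψ = 0) hφ h (by simp)
    (fun α _ β _ ha hb => by simp [ha, hb]) (fun α _ ha => by simp [ha])

theorem cfdot_eq_zero_of_zsp_right {H : Subgroup Γ} {S : Finset (Γ → ℂ)} {ψ : Γ → ℂ}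
    (h : ∀ χ ∈ S, cfdot H ψ χ = 0) {φ : Γ → ℂ} (hφ : φ ∈ zsp S) : cfdot H ψ φ = 0 :=
  cfdot_symm_zero (cfdot_eq_zero_of_zsp_left (fun χ hχ => cfdot_symm_zero (h χ hχ)) hφ)

theorem Orth.zsp {H : Subgroup Γ} {S T : Finset (Γ → ℂ)} (h : Orth H S T) {φ ψ : Γ → ℂ}
    (hφ : φ ∈ zsp S) (hψ : ψ ∈ zsp T) : cfdot H φ ψ = 0 :=
  cfdot_eq_zero_of_zsp_left (fun χ hχ => cfdot_eq_zero_of_zsp_right (h χ hχ) hψ) hφ

theorem Orth.symm {H : Subgroup Γ} {S T : Finset (Γ → ℂ)} (h : Orth H S T) : Orth H T S :=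
  fun φ hφ ψ hψ => cfdot_symm_zero (h ψ hψ φ hφ)

theorem PwOrth.mono {H : Subgroup Γ} {S T : Finset (Γ → ℂ)} (h : PwOrth H T) (hST : S ⊆ T) :
    PwOrth H S := fun φ hφ ψ hψ => h φ (hST hφ) ψ (hST hψ)

theorem Orthon.mono {H : Subgroup Γ} {S T : Finset (Γ → ℂ)} (h : Orthon H T) (hST : S ⊆ T) :
    Orthon H S := ⟨fun φ hφ => h.1 φ (hST hφ), h.2.mono hST⟩

open scoped Classical in
theorem Orthon.dot {H : Subgroup Γ} {S : Finset (Γ → ℂ)} (h : Orthon H S) {φ ψ : Γ → ℂ}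
    (hφ : φ ∈ S) (hψ : ψ ∈ S) : cfdot H φ ψ = if φ = ψ then 1 else 0 := by
  split_ifs with he
  · subst he; exact h.1 φ hφ
  · exact h.2 φ hφ ψ hψ he

theorem Orthon.cfnorm_sum {H : Subgroup Γ} {S : Finset (Γ → ℂ)} (h : Orthon H S) :
    cfnorm H (∑ α ∈ S, α) = S.card := by
  rw [cfnorm_sum_orth S (fun α => α) h.2,
    Finset.sum_congr rfl fun α hα => cfnorm_eq_one_iff.mpr (h.1 α hα)]
  simp

theorem Orthon.cfdot_sum_left {H : Subgroup Γ} {S : Finset (Γ → ℂ)} (h : Orthon H S)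
    (c : (Γ → ℂ) → ℂ) {α : Γ → ℂ} (hα : α ∈ S) : cfdot H (∑ β ∈ S, c β • β) α = c α := by
  rw [cfdot_sum_orth_left (φ := fun β => β) h.2 c hα, h.1 α hα, mul_one]

theorem Orthon.cfnorm_sum_smul {H : Subgroup Γ} {S : Finset (Γ → ℂ)} (h : Orthon H S)
    (c : (Γ → ℂ) → ℂ) : cfnorm H (∑ β ∈ S, c β • β) = ∑ β ∈ S, ‖c β‖ ^ 2 := by
  rw [cfnorm_sum_orth]
  · exact Finset.sum_congr rfl fun i hi => by
      rw [cfnorm_smul, cfnorm_eq_one_iff.mpr (h.1 i hi), mul_one]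
  · intro i hi j hj hne; simp [h.2 i hi j hj hne]

/-- the isometry condition only has to be checked on generators. -/
theorem cfdot_map_of_zsp {L : Subgroup Γ} {G : Subgroup Γ'} {S : Finset (Γ → ℂ)}
    (ν : (Γ → ℂ) →ₗ[ℂ] (Γ' → ℂ)) (h : ∀ φ ∈ S, ∀ ψ ∈ S, cfdot G (ν φ) (ν ψ) = cfdot L φ ψ)
    {φ ψ : Γ → ℂ} (hφ : φ ∈ zsp S) (hψ : ψ ∈ zsp S) : cfdot G (ν φ) (ν ψ) = cfdot L φ ψ := by
  refine zsp_induction (P := fun φ => cfdot G (ν φ) (ν ψ) = cfdot L φ ψ) hφ (fun χ hχ => ?_)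
    (by simp) (fun α _ β _ ha hb => by simp [ha, hb]) (fun α _ ha => by simp [ha])
  exact zsp_induction (P := fun ψ => cfdot G (ν χ) (ν ψ) = cfdot L χ ψ) hψ (h χ hχ)
    (by simp) (fun α _ β _ ha hb => by simp [ha, hb]) (fun α _ ha => by simp [ha])

theorem ZIsom.of_gen {L : Subgroup Γ} {G : Subgroup Γ'} {S : Finset (Γ → ℂ)}
    {ν : (Γ → ℂ) →ₗ[ℂ] (Γ' → ℂ)} (h : ∀ φ ∈ S, ∀ ψ ∈ S, cfdot G (ν φ) (ν ψ) = cfdot L φ ψ)
    (hv : ∀ φ ∈ S, ν φ ∈ H27.vchar G) : ZIsom L G (zsp S) ν :=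
  ⟨fun _ hφ _ hψ => cfdot_map_of_zsp ν h hφ hψ, fun _ hφ => map_mem_of_zsp ν hv hφ⟩

theorem ZIsom.mono {L : Subgroup Γ} {G : Subgroup Γ'} {E E' : Submodule ℤ (Γ → ℂ)}
    {ν : (Γ → ℂ) →ₗ[ℂ] (Γ' → ℂ)} (h : ZIsom L G E ν) (hE : E' ≤ E) : ZIsom L G E' ν :=
  ⟨fun φ hφ ψ hψ => h.dot φ (hE hφ) ψ (hE hψ), fun φ hφ => h.vchar φ (hE hφ)⟩

theorem ZIsom.norm {L : Subgroup Γ} {G : Subgroup Γ'} {E : Submodule ℤ (Γ → ℂ)}
    {ν : (Γ → ℂ) →ₗ[ℂ] (Γ' → ℂ)} (h : ZIsom L G E ν) {φ : Γ → ℂ} (hφ : φ ∈ E) :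
    cfnorm G (ν φ) = cfnorm L φ := cfnorm_congr_dot (h.dot φ hφ φ hφ)

theorem CohWith.mono {L : Subgroup Γ} {G : Subgroup Γ'} {S T : Finset (Γ → ℂ)}
    {τ ν : (Γ → ℂ) →ₗ[ℂ] (Γ' → ℂ)} (h : CohWith L G T τ ν) (hST : S ⊆ T) : CohWith L G S τ ν :=
  ⟨h.isom.mono (zsp_mono hST), fun φ hφ => h.ext φ (zsp0_mono hST hφ)⟩

theorem Coherent.mono {L : Subgroup Γ} {G : Subgroup Γ'} {S T : Finset (Γ → ℂ)}
    {τ : (Γ → ℂ) →ₗ[ℂ] (Γ' → ℂ)} (h : Coherent L G T τ) (hST : S ⊆ T) : Coherent L G S τ :=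
  let ⟨ν, hν⟩ := h; ⟨ν, hν.mono hST⟩

/-- the linear map sending each member `χ` of a pairwise orthogonal set `S` to `f χ`. -/
noncomputable def orthMap {Y : Type*} (L : Subgroup Γ) (S : Finset (Γ → ℂ))
    (f : (Γ → ℂ) → (Y → ℂ)) : (Γ → ℂ) →ₗ[ℂ] (Y → ℂ) where
  toFun φ := ∑ χ ∈ S, (cfdot L φ χ / cfdot L χ χ) • f χ
  map_add' φ ψ := by simp [add_div, add_smul, Finset.sum_add_distrib]
  map_smul' c φ := by simp [Finset.smul_sum, smul_smul, mul_div_assoc]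

theorem orthMap_apply {Y : Type*} {L : Subgroup Γ} {S : Finset (Γ → ℂ)} (hS : PwOrth L S)
    (f : (Γ → ℂ) → (Y → ℂ)) {χ : Γ → ℂ} (hχ : χ ∈ S) (h0 : cfdot L χ χ ≠ 0) :
    orthMap L S f χ = f χ := by
  change ∑ ψ ∈ S, (cfdot L χ ψ / cfdot L ψ ψ) • f ψ = f χ
  rw [Finset.sum_eq_single χ (fun ψ hψ hne => by simp [hS χ hχ ψ hψ hne.symm])
    (fun hn => absurd hχ hn), div_self h0, one_smul]

/-- expansion of an element of `ℤ[S]` along a pairwise orthogonal set. -/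
theorem PwOrth.eq_sum {L : Subgroup Γ} {S : Finset (Γ → ℂ)} (hS : PwOrth L S)
    (h0 : ∀ χ ∈ S, cfdot L χ χ ≠ 0) {φ : Γ → ℂ} (hφ : φ ∈ zsp S) :
    φ = ∑ χ ∈ S, (cfdot L φ χ / cfdot L χ χ) • χ :=
  map_eq_of_zsp (f := LinearMap.id) (g := orthMap L S (fun χ => χ))
    (fun χ hχ => (orthMap_apply hS (fun χ => χ) hχ (h0 χ hχ)).symm) hφ

end zspan

end H27
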