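import Mathlib
import Cfsg.Agent.H27.CF
import Cfsg.Agent.H4.Gen
import Cfsg.Agent.H24.Base1

/-!
# Characters in ambient style: `Irr`, `IsChar`, `vchar`, degrees, kernels, linear characters
-/

set_option autoImplicit false
set_option linter.unusedSectionVars false

namespace H27

open Cfsg H24 H4
open scoped ComplexConjugate

universe u v

variable {Γ : Type u} [Group Γ] {Γ' : Type v} [Group Γ']

/-! ## bridge with functions on the subtype -/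

theorem ext0_of_mem {H : Subgroup Γ} (θ : H → ℂ) {x : Γ} (hx : x ∈ H) :
    extendByZero H θ x = θ ⟨x, hx⟩ :=
  Subtype.val_injective.extend_apply θ 0 ⟨x, hx⟩

@[simp] theorem ext0_coe {H : Subgroup Γ} (θ : H → ℂ) (x : H) : extendByZero H θ x = θ x :=
  ext0_of_mem θ x.2

theorem ext0_of_not_mem {H : Subgroup Γ} (θ : H → ℂ) {x : Γ} (hx : x ∉ H) :
    extendByZero H θ x = 0 := by
  rw [extendByZero, Function.extend_apply' _ _ _ (by rintro ⟨y, rfl⟩; exact hx y.2)]; rfl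

theorem ext0_mem_cfOn {H : Subgroup Γ} (θ : H → ℂ) : extendByZero H θ ∈ cfOn (H : Set Γ) :=
  fun _ hx => ext0_of_not_mem θ hx

theorem res_ext0 {H : Subgroup Γ} (θ : H → ℂ) : (fun x : H => extendByZero H θ x) = θ :=
  funext fun x => ext0_coe θ x

theorem ext0_res (H : Subgroup Γ) (φ : Γ → ℂ) : extendByZero H (fun x : H => φ x) = cfRes H φ :=
  ext_on (ext0_mem_cfOn _) (cfRes_mem_cfOn _ _) fun x hx => by
    rw [ext0_of_mem _ hx, cfRes_of_mem _ hx]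

theorem ext0_injective {H : Subgroup Γ} : Function.Injective (extendByZero H) := fun θ φ h => by
  rw [← res_ext0 θ, h, res_ext0]

theorem eq_of_res_eq {H : Subgroup Γ} {φ ψ : Γ → ℂ} (hφ : φ ∈ cfOn (H : Set Γ))
    (hψ : ψ ∈ cfOn (H : Set Γ)) (h : (fun x : H => φ x) = fun x : H => ψ x) : φ = ψ :=
  ext_on hφ hψ fun x hx => congrFun h ⟨x, hx⟩

/-- extension by zero as a linear map. -/
noncomputable def ext0L (H : Subgroup Γ) : (H → ℂ) →ₗ[ℂ] (Γ → ℂ) where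
  toFun := extendByZero H
  map_add' θ φ := ext_on (ext0_mem_cfOn _) (add_mem (ext0_mem_cfOn _) (ext0_mem_cfOn _))
    fun x hx => by simp [ext0_of_mem _ hx]
  map_smul' c θ := ext_on (ext0_mem_cfOn _) (Submodule.smul_mem _ _ (ext0_mem_cfOn _))
    fun x hx => by simp [ext0_of_mem _ hx]

theorem ext0L_apply (H : Subgroup Γ) (θ : H → ℂ) : ext0L H θ = extendByZero H θ := rfl

/-- restriction to the subtype as a linear map. -/
def resL (H : Subgroup Γ) : (Γ → ℂ) →ₗ[ℂ] (H → ℂ) where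
  toFun φ := fun x => φ x
  map_add' _ _ := rfl
  map_smul' _ _ := rfl

theorem resL_apply (H : Subgroup Γ) (φ : Γ → ℂ) : resL H φ = fun x : H => φ x := rfl

theorem mem_CF_iff {H : Subgroup Γ} {φ : Γ → ℂ} :
    φ ∈ CF H ↔ IsClassFunction H (fun x : H => φ x) ∧ ∀ x, x ∉ H → φ x = 0 :=
  ⟨fun h => ⟨fun x g => h.2 g g.2 x, h.1⟩,
    fun h => mem_CF_of h.2 fun g hg x hx => h.1 ⟨x, hx⟩ ⟨g, hg⟩⟩

theorem CF.classFun {H : Subgroup Γ} {φ : Γ → ℂ} (h : φ ∈ CF H) :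
    IsClassFunction H (fun x : H => φ x) := (mem_CF_iff.mp h).1

theorem ext0_mem_CF {H : Subgroup Γ} {θ : H → ℂ} (h : IsClassFunction H θ) :
    extendByZero H θ ∈ CF H := mem_CF_iff.mpr ⟨by rwa [res_ext0], ext0_mem_cfOn θ⟩

theorem mem_CF_top {φ : Γ → ℂ} : φ ∈ CF ⊤ ↔ IsClassFunction Γ φ :=
  ⟨fun h x g => h.2 g (Subgroup.mem_top g) x,
    fun h => ⟨fun x hx => absurd (Subgroup.mem_top x) hx, fun g _ x => h x g⟩⟩

theorem isChar_ext0 {H : Subgroup Γ} {θ : H → ℂ} (h : IsCharacter H θ) :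
    IsChar H (extendByZero H θ) := ⟨by rwa [res_ext0], ext0_mem_cfOn θ⟩

theorem isChar_top {φ : Γ → ℂ} : IsChar ⊤ φ ↔ IsCharacter Γ φ :=
  ⟨fun h => h.1.comp (Subgroup.topEquiv (G := Γ)).symm.toMonoidHom,
    fun h => ⟨h.restrict ⊤, fun x hx => absurd (Subgroup.mem_top x) hx⟩⟩

variable [Finite Γ] [Finite Γ']

theorem finite_isIrr (H : Subgroup Γ) : {φ | IsIrr H φ}.Finite := by
  refine Set.Finite.subset (Set.finite_range (fun χ : IrrCharacter H => extendByZero H χ.1)) ?_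
  intro φ hφ
  have hφ' : IsIrr H φ := hφ
  exact ⟨⟨_, hφ'.1⟩, (ext0_res H φ).trans (cfRes_eq_self hφ'.2)⟩

theorem mem_Irr {H : Subgroup Γ} {φ : Γ → ℂ} : φ ∈ Irr H ↔ IsIrr H φ := by
  rw [Irr, dif_pos (finite_isIrr H), Set.Finite.mem_toFinset]; rfl

theorem ext0_mem_Irr {H : Subgroup Γ} {θ : H → ℂ} :
    extendByZero H θ ∈ Irr H ↔ IsIrrCharacter H θ := by
  rw [mem_Irr, IsIrr, res_ext0]; exact and_iff_left (ext0_mem_cfOn θ)

theorem mem_Irr_top {φ : Γ → ℂ} : φ ∈ Irr ⊤ ↔ IsIrrCharacter Γ φ := by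
  rw [mem_Irr]
  exact ⟨fun h => h.1.comp_mulEquiv (Subgroup.topEquiv (G := Γ)).symm,
    fun h => ⟨h.comp_mulEquiv (Subgroup.topEquiv (G := Γ)),
      fun x hx => absurd (Subgroup.mem_top x) hx⟩⟩

theorem sum_Irr_eq {M : Type*} [AddCommMonoid M] (H : Subgroup Γ) (F : (Γ → ℂ) → M) :
    ∑ χ ∈ Irr H, F χ = ∑ χ : IrrCharacter H, F (extendByZero H χ.1) := by
  symm
  refine Finset.sum_bij (fun χ _ => extendByZero H χ.1) (fun χ _ => ext0_mem_Irr.mpr χ.2)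
    (fun χ _ ψ _ h => Subtype.ext (ext0_injective h)) (fun φ hφ => ?_) (fun _ _ => rfl)
  have := mem_Irr.mp hφ
  exact ⟨⟨_, this.1⟩, Finset.mem_univ _, by rw [ext0_res, cfRes_eq_self this.2]⟩

theorem card_Irr_eq (H : Subgroup Γ) : (Irr H).card = Nat.card (IrrCharacter H) := by
  rw [Finset.card_eq_sum_ones, sum_Irr_eq, Nat.card_eq_fintype_card]; simp

theorem cfInd_top_ext0 {G : Type u} [Group G] [Fintype G] (H : Subgroup G) (θ : H → ℂ) :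
    cfInd ⊤ H (extendByZero H θ) = indFun H θ := by
  funext x
  rw [cfInd_of_mem H _ (Subgroup.mem_top x), cfRes_eq_self (ext0_mem_cfOn θ), indFun,
    ← sum_fs_inv ⊤, Subgroup.coe_top, fs_univ]
  simp

theorem cfInd_top {G : Type u} [Group G] [Fintype G] (H : Subgroup G) (φ : G → ℂ) :
    cfInd ⊤ H φ = indFun H (fun x : H => φ x) := by
  rw [← cfInd_top_ext0, ext0_res, cfInd_cfRes]

/-! ## orthogonality and completeness -/

section basic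
variable {H G K : Subgroup Γ} {φ ψ χ θ : Γ → ℂ}

theorem IsChar.CF (h : IsChar H φ) : φ ∈ CF H := mem_CF_iff.mpr ⟨h.1.classFun, h.2⟩

theorem IsChar.cfOn (h : IsChar H φ) : φ ∈ cfOn (H : Set Γ) := h.2

theorem irr_char (h : χ ∈ Irr H) : IsChar H χ := ⟨(mem_Irr.mp h).1.isCharacter, (mem_Irr.mp h).2⟩

theorem irr_CF (h : χ ∈ Irr H) : χ ∈ CF H := (irr_char h).CF

theorem irr_cfOn (h : χ ∈ Irr H) : χ ∈ cfOn (H : Set Γ) := (irr_char h).2

theorem irr_vchar (h : χ ∈ Irr H) : χ ∈ vchar H := mem_zsp_of_mem h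

theorem vchar_CF (h : φ ∈ vchar H) : φ ∈ CF H := zsp_le_C (fun _ hχ => irr_CF hχ) h

theorem vchar_cfOn (h : φ ∈ vchar H) : φ ∈ cfOn (H : Set Γ) := (vchar_CF h).1

theorem irr_dot_self (h : χ ∈ Irr H) : cfdot H χ χ = 1 := by
  have := Fintype.ofFinite H
  rw [cfdot_eq_classInner]; exact (mem_Irr.mp h).1.inner_self

theorem irr_norm (h : χ ∈ Irr H) : cfnorm H χ = 1 := cfnorm_eq_one_iff.mpr (irr_dot_self h)

theorem irr_dot_ne (h : χ ∈ Irr H) (h' : ψ ∈ Irr H) (hne : χ ≠ ψ) : cfdot H χ ψ = 0 := by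
  have := Fintype.ofFinite H
  rw [cfdot_eq_classInner]
  exact (mem_Irr.mp h).1.inner_of_ne (mem_Irr.mp h').1
    fun he => hne (eq_of_res_eq (irr_cfOn h) (irr_cfOn h') he)

theorem irr_orthon (H : Subgroup Γ) : Orthon H (Irr H) :=
  ⟨fun _ h => irr_dot_self h, fun _ h _ h' => irr_dot_ne h h'⟩

open scoped Classical in
theorem irr_dot (h : χ ∈ Irr H) (h' : ψ ∈ Irr H) : cfdot H χ ψ = if χ = ψ then 1 else 0 :=
  (irr_orthon H).dot h h'

theorem irr_eq_of_dot_ne (h : χ ∈ Irr H) (h' : ψ ∈ Irr H) (hne : cfdot H χ ψ ≠ 0) : χ = ψ := by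
  by_contra hc; exact hne (irr_dot_ne h h' hc)

theorem CF_eq_zero_of_dot (hφ : φ ∈ CF H) (h : ∀ χ ∈ Irr H, cfdot H φ χ = 0) : φ = 0 := by
  have := Fintype.ofFinite H
  refine eq_of_res_eq hφ.1 (Submodule.zero_mem _) ?_
  refine (CF.classFun hφ).eq_zero_of_inner fun χ hχ => ?_
  have := h _ (ext0_mem_Irr.mpr hχ)
  rwa [cfdot_eq_classInner, res_ext0] at this

theorem CF_ext_dot (hφ : φ ∈ CF H) (hψ : ψ ∈ CF H)
    (h : ∀ χ ∈ Irr H, cfdot H φ χ = cfdot H ψ χ) : φ = ψ :=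
  sub_eq_zero.mp (CF_eq_zero_of_dot (sub_mem hφ hψ) fun χ hχ => by simp [h χ hχ])

theorem CF_eq_sum (hφ : φ ∈ CF H) : φ = ∑ χ ∈ Irr H, cfdot H φ χ • χ :=
  CF_ext_dot hφ (Submodule.sum_mem _ fun _ hχ => Submodule.smul_mem _ _ (irr_CF hχ))
    fun _ hχ => ((irr_orthon H).cfdot_sum_left _ hχ).symm

theorem CF_apply_eq_sum (hφ : φ ∈ CF H) (x : Γ) : φ x = ∑ χ ∈ Irr H, cfdot H φ χ * χ x := by
  conv_lhs => rw [CF_eq_sum hφ]
  simp [Finset.sum_apply]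

theorem cfdot_eq_sum (hφ : φ ∈ CF H) (ψ : Γ → ℂ) :
    cfdot H φ ψ = ∑ χ ∈ Irr H, cfdot H φ χ * conj (cfdot H ψ χ) := by
  conv_lhs => rw [CF_eq_sum hφ]
  rw [cfdot_sum_left]
  exact Finset.sum_congr rfl fun χ _ => by rw [cfdot_smul_left, conj_cfdot]

theorem cfnorm_eq_sum (hφ : φ ∈ CF H) : cfnorm H φ = ∑ χ ∈ Irr H, ‖cfdot H φ χ‖ ^ 2 := by
  conv_lhs => rw [CF_eq_sum hφ]
  exact (irr_orthon H).cfnorm_sum_smul _

theorem exists_constt (hφ : φ ∈ CF H) (h0 : φ ≠ 0) : ∃ χ ∈ Irr H, cfdot H φ χ ≠ 0 := by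
  by_contra hc
  push Not at hc
  exact h0 (CF_eq_zero_of_dot hφ hc)

/-- two class functions with a nonzero inner product have a common constituent. -/
theorem exists_common_constt (hφ : φ ∈ CF H) (h0 : cfdot H φ ψ ≠ 0) :
    ∃ χ ∈ Irr H, cfdot H φ χ ≠ 0 ∧ cfdot H ψ χ ≠ 0 := by
  rw [cfdot_eq_sum hφ] at h0
  obtain ⟨χ, hχ, h⟩ := Finset.exists_ne_zero_of_sum_ne_zero h0
  exact ⟨χ, hχ, left_ne_zero_of_mul h, by simpa using right_ne_zero_of_mul h⟩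

/-! ## characters -/

theorem char_dot_nat (hφ : IsChar H φ) (hψ : IsChar H ψ) : ∃ n : ℕ, cfdot H φ ψ = n := by
  have := Fintype.ofFinite H
  rw [cfdot_eq_classInner]; exact hφ.1.inner_nat hψ.1

theorem isChar_of_dot (hφ : φ ∈ CF H) (h : ∀ χ ∈ Irr H, ∃ n : ℕ, cfdot H φ χ = n) :
    IsChar H φ := by
  have := Fintype.ofFinite H
  refine ⟨(CF.classFun hφ).isCharacter_of_inner_nat fun χ hχ => ?_, hφ.1⟩
  have := h _ (ext0_mem_Irr.mpr hχ)
  rwa [cfdot_eq_classInner, res_ext0] at this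

theorem isChar_zero (H : Subgroup Γ) : IsChar H 0 := ⟨isCharacter_zero, fun _ _ => rfl⟩

theorem IsChar.add (hφ : IsChar H φ) (hψ : IsChar H ψ) : IsChar H (φ + ψ) :=
  ⟨hφ.1.add hψ.1, add_mem hφ.cfOn hψ.cfOn⟩

theorem IsChar.mul (hφ : IsChar H φ) (hψ : IsChar H ψ) : IsChar H (φ * ψ) :=
  ⟨hφ.1.mul hψ.1, mul_mem_cfOn_left hφ.cfOn ψ⟩

theorem IsChar.natCast_smul (hφ : IsChar H φ) (n : ℕ) : IsChar H ((n : ℂ) • φ) :=
  ⟨hφ.1.natCast_smul n, Submodule.smul_mem _ _ hφ.cfOn⟩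

theorem IsChar.nsmul (hφ : IsChar H φ) (n : ℕ) : IsChar H (n • φ) := by
  rw [← Nat.cast_smul_eq_nsmul ℂ]; exact hφ.natCast_smul n

theorem isChar_sum {ι : Type*} (s : Finset ι) {f : ι → Γ → ℂ} (h : ∀ i ∈ s, IsChar H (f i)) :
    IsChar H (∑ i ∈ s, f i) :=
  Finset.sum_induction _ _ (fun _ _ ha hb => ha.add hb) (isChar_zero H) h

theorem IsChar.res (hφ : IsChar G φ) (hHG : H ≤ G) : IsChar H (cfRes H φ) :=
  ⟨by simpa using hφ.1.comp (Subgroup.inclusion hHG), cfRes_mem_cfOn H φ⟩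

theorem IsChar.dot_nat_of_le (hθ : IsChar H θ) (hφ : IsChar G φ) (hHG : H ≤ G) :
    ∃ n : ℕ, cfdot H θ φ = n := by
  rw [← cfdot_cfRes_right]; exact char_dot_nat hθ (hφ.res hHG)

theorem IsChar.dot_nat_of_le' (hφ : IsChar G φ) (hθ : IsChar H θ) (hHG : H ≤ G) :
    ∃ n : ℕ, cfdot H φ θ = n := by
  rw [← cfdot_cfRes_left]; exact char_dot_nat (hφ.res hHG) hθ

theorem IsChar.ind (hφ : IsChar H φ) (hHG : H ≤ G) : IsChar G (cfInd G H φ) :=
  isChar_of_dot (cfInd_mem_CF _ _ _) fun χ hχ => by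
    rw [cfdot_cfInd_left hHG φ (irr_CF hχ)]; exact hφ.dot_nat_of_le (irr_char hχ) hHG

/-- conjugation by an element normalising `H`, as an automorphism of `H`. -/
def conjHom (H : Subgroup Γ) {g : Γ} (hg : g ∈ N[H]) : H ≃* H where
  toFun x := ⟨g * x * g⁻¹, (conj_mem_iff hg x).mpr x.2⟩
  invFun x := ⟨g⁻¹ * x * g⁻¹⁻¹, (conj_mem_iff (Subgroup.inv_mem _ hg) x).mpr x.2⟩
  left_inv x := by ext; simp [mul_assoc]
  right_inv x := by ext; simp [mul_assoc]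
  map_mul' x y := by ext; simp [mul_assoc]

theorem IsChar.conj (hφ : IsChar H φ) {g : Γ} (hg : g ∈ N[H]) : IsChar H (cfConj g φ) :=
  ⟨hφ.1.comp (conjHom H hg).toMonoidHom, (cfConj_mem_CF hφ.CF hg).1⟩

theorem isCharacter_map {X : Type*} [Group X] {χ : X → ℂ} (h : IsCharacter X χ) (u : ℂ →+* ℂ) :
    IsCharacter X (fun x => u (χ x)) := by
  obtain ⟨n, ρ, rfl⟩ := h
  let ρ' : Representation ℂ X (Fin n → ℂ) :=
    { toFun := fun g => Matrix.toLin' ((LinearMap.toMatrix' (ρ g)).map u)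
      map_one' := by
        rw [map_one, Module.End.one_eq_id, LinearMap.toMatrix'_id,
          Matrix.map_one _ (map_zero u) (map_one u), Matrix.toLin'_one]
      map_mul' := fun g h => by
        rw [map_mul, Module.End.mul_eq_comp, LinearMap.toMatrix'_comp, Matrix.map_mul,
          Matrix.toLin'_mul, Module.End.mul_eq_comp] }
  refine ⟨n, ρ', funext fun g => ?_⟩
  change LinearMap.trace ℂ _ (Matrix.toLin' ((LinearMap.toMatrix' (ρ g)).map u)) =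
    u (LinearMap.trace ℂ _ (ρ g))
  rw [Matrix.trace_toLin'_eq, ← Matrix.toLin'_toMatrix' (ρ g), Matrix.trace_toLin'_eq,
    LinearMap.toMatrix'_toLin', Matrix.trace, Matrix.trace, map_sum]
  rfl

theorem IsChar.aut (hφ : IsChar H φ) (u : ℂ →+* ℂ) : IsChar H (cfAut u φ) :=
  ⟨isCharacter_map hφ.1 u, cfAut_mem_cfOn u hφ.cfOn⟩

theorem IsChar.conjC (hφ : IsChar H φ) : IsChar H (conjC φ) := hφ.aut _

theorem IsChar.eq_sum_nat (hφ : IsChar H φ) :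
    ∃ n : (Γ → ℂ) → ℕ, (∀ χ ∈ Irr H, cfdot H φ χ = n χ) ∧ φ = ∑ χ ∈ Irr H, (n χ : ℂ) • χ := by
  have : ∀ χ, ∃ n : ℕ, χ ∈ Irr H → cfdot H φ χ = n := fun χ => by
    by_cases h : χ ∈ Irr H
    · obtain ⟨n, hn⟩ := char_dot_nat hφ (irr_char h); exact ⟨n, fun _ => hn⟩
    · exact ⟨0, fun h' => absurd h' h⟩
  choose n hn using this
  refine ⟨n, hn, ?_⟩
  conv_lhs => rw [CF_eq_sum hφ.CF]
  exact Finset.sum_congr rfl fun χ hχ => by rw [hn χ hχ]

theorem IsChar.vchar (hφ : IsChar H φ) : φ ∈ vchar H := by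
  obtain ⟨n, -, h⟩ := hφ.eq_sum_nat
  rw [h]
  exact Submodule.sum_mem _ fun χ hχ => natCast_smul_mem _ (irr_vchar hχ)

theorem IsChar.sub_irr (hφ : IsChar H φ) (hχ : χ ∈ Irr H) (h : cfdot H φ χ ≠ 0) :
    IsChar H (φ - χ) := by
  have := Fintype.ofFinite H
  rw [cfdot_eq_classInner] at h
  exact ⟨hφ.1.sub_irr (mem_Irr.mp hχ).1 h, sub_mem hφ.cfOn (irr_cfOn hχ)⟩

theorem IsChar.sub_dot_smul (hφ : IsChar H φ) (hχ : χ ∈ Irr H) :
    IsChar H (φ - cfdot H φ χ • χ) := by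
  have := Fintype.ofFinite H
  rw [cfdot_eq_classInner]
  exact ⟨hφ.1.sub_inner_smul (mem_Irr.mp hχ).1,
    sub_mem hφ.cfOn (Submodule.smul_mem _ _ (irr_cfOn hχ))⟩

theorem IsChar.dot_re_nonneg (hφ : IsChar H φ) (hψ : IsChar H ψ) : 0 ≤ (cfdot H φ ψ).re := by
  obtain ⟨n, hn⟩ := char_dot_nat hφ hψ
  rw [hn, Complex.natCast_re]; positivity

/-- constituents of a summand are constituents of the sum. -/
theorem IsChar.dot_ne_zero_add (hφ : IsChar H φ) (hψ : IsChar H ψ) (hχ : IsChar H χ)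
    (h : cfdot H φ χ ≠ 0) : cfdot H (φ + ψ) χ ≠ 0 := by
  obtain ⟨n, hn⟩ := char_dot_nat hφ hχ
  obtain ⟨m, hm⟩ := char_dot_nat hψ hχ
  rw [cfdot_add_left, hn, hm]
  rw [hn] at h
  have : n ≠ 0 := by exact_mod_cast h
  exact_mod_cast (by omega : n + m ≠ 0)

/-! ## virtual characters -/

theorem mem_vchar_iff_gen :
    φ ∈ vchar H ↔ IsGeneralizedCharacter H (fun x : H => φ x) ∧ ∀ x, x ∉ H → φ x = 0 := by
  constructor
  · intro h
    refine ⟨?_, vchar_cfOn h⟩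
    exact zsp_induction (P := fun φ : Γ → ℂ => IsGeneralizedCharacter H (fun x : H => φ x)) h
      (fun χ hχ => (mem_Irr.mp hχ).1.isGen) isGen_zero (fun _ _ _ _ ha hb => ha.add hb)
      (fun _ _ ha => ha.neg)
  · rintro ⟨⟨α, β, hα, hβ, h⟩, h0⟩
    have : φ = extendByZero H α - extendByZero H β :=
      eq_of_res_eq h0 (sub_mem (ext0_mem_cfOn _) (ext0_mem_cfOn _)) (by
        rw [h]; funext x; simp)
    rw [this]
    exact sub_mem (isChar_ext0 hα).vchar (isChar_ext0 hβ).vchar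

theorem vchar_gen (h : φ ∈ vchar H) : IsGeneralizedCharacter H (fun x : H => φ x) :=
  (mem_vchar_iff_gen.mp h).1

theorem ext0_mem_vchar {θ : H → ℂ} (h : IsGeneralizedCharacter H θ) :
    extendByZero H θ ∈ vchar H := mem_vchar_iff_gen.mpr ⟨by rwa [res_ext0], ext0_mem_cfOn θ⟩

theorem mem_vchar_top : φ ∈ vchar ⊤ ↔ IsGeneralizedCharacter Γ φ := by
  rw [mem_vchar_iff_gen]
  exact ⟨fun h => h.1.comp (Subgroup.topEquiv (G := Γ)).symm.toMonoidHom,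
    fun h => ⟨h.restrict ⊤, fun x hx => absurd (Subgroup.mem_top x) hx⟩⟩

theorem vchar_eq_sub (h : φ ∈ vchar H) : ∃ α β, IsChar H α ∧ IsChar H β ∧ φ = α - β := by
  obtain ⟨⟨α, β, hα, hβ, h1⟩, h0⟩ := mem_vchar_iff_gen.mp h
  exact ⟨_, _, isChar_ext0 hα, isChar_ext0 hβ,
    eq_of_res_eq h0 (sub_mem (ext0_mem_cfOn _) (ext0_mem_cfOn _)) (by rw [h1]; funext x; simp)⟩

theorem vchar_dot_int (hφ : φ ∈ vchar H) (hψ : ψ ∈ vchar H) : ∃ n : ℤ, cfdot H φ ψ = n := by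
  have := Fintype.ofFinite H
  rw [cfdot_eq_classInner]; exact (vchar_gen hφ).inner_int (vchar_gen hψ)

theorem vchar_dot_comm (hφ : φ ∈ vchar H) (hψ : ψ ∈ vchar H) : cfdot H φ ψ = cfdot H ψ φ := by
  obtain ⟨n, hn⟩ := vchar_dot_int hφ hψ
  rw [hn, cfdot_symm_int hn]

theorem conj_vchar_dot (hφ : φ ∈ vchar H) (hψ : ψ ∈ vchar H) :
    conj (cfdot H φ ψ) = cfdot H φ ψ := by rw [conj_cfdot, vchar_dot_comm hφ hψ]

theorem vchar_norm_nat (hφ : φ ∈ vchar H) : ∃ n : ℕ, cfnorm H φ = n := by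
  have := Fintype.ofFinite H
  obtain ⟨n, hn⟩ := (vchar_gen hφ).inner_self_nat
  rw [← cfdot_eq_classInner] at hn
  exact ⟨n, cfnorm_eq_of_cfdot (by rw [hn]; simp)⟩

theorem vchar_one_le_norm (hφ : φ ∈ vchar H) (h0 : φ ≠ 0) : 1 ≤ cfnorm H φ := by
  obtain ⟨n, hn⟩ := vchar_norm_nat hφ
  have := cfnorm_pos (vchar_cfOn hφ) h0
  rw [hn] at this ⊢
  exact_mod_cast this

theorem mem_vchar_of_dot (hφ : φ ∈ CF H) (h : ∀ χ ∈ Irr H, ∃ n : ℤ, cfdot H φ χ = n) :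
    φ ∈ vchar H := by
  rw [CF_eq_sum hφ]
  refine Submodule.sum_mem _ fun χ hχ => ?_
  obtain ⟨n, hn⟩ := h χ hχ
  rw [hn]; exact intCast_smul_mem _ (irr_vchar hχ)

theorem vchar_coeff (hφ : φ ∈ vchar H) : ∃ n : (Γ → ℂ) → ℤ, (∀ χ ∈ Irr H, cfdot H φ χ = n χ) ∧
    φ = ∑ χ ∈ Irr H, (n χ : ℂ) • χ ∧ cfnorm H φ = ((∑ χ ∈ Irr H, n χ ^ 2 : ℤ) : ℝ) := by
  have : ∀ χ, ∃ n : ℤ, χ ∈ Irr H → cfdot H φ χ = n := fun χ => by
    by_cases h : χ ∈ Irr H
    · obtain ⟨n, hn⟩ := vchar_dot_int hφ (irr_vchar h); exact ⟨n, fun _ => hn⟩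
    · exact ⟨0, fun h' => absurd h' h⟩
  choose n hn using this
  refine ⟨n, hn, ?_, ?_⟩
  · conv_lhs => rw [CF_eq_sum (vchar_CF hφ)]
    exact Finset.sum_congr rfl fun χ hχ => by rw [hn χ hχ]
  · rw [cfnorm_eq_sum (vchar_CF hφ)]
    push_cast
    exact Finset.sum_congr rfl fun χ hχ => by rw [hn χ hχ, Complex.norm_intCast, sq_abs]

theorem vchar_mul (hφ : φ ∈ vchar H) (hψ : ψ ∈ vchar H) : φ * ψ ∈ vchar H :=
  mem_vchar_iff_gen.mpr ⟨(vchar_gen hφ).mul (vchar_gen hψ), mul_mem_cfOn_left (vchar_cfOn hφ) ψ⟩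

theorem vchar_res (hφ : φ ∈ vchar G) (hHG : H ≤ G) : cfRes H φ ∈ vchar H :=
  map_mem_of_zsp (cfRes H) (fun _ hχ => ((irr_char hχ).res hHG).vchar) hφ

theorem vchar_ind (hφ : φ ∈ vchar H) (hHG : H ≤ G) : cfInd G H φ ∈ vchar G :=
  map_mem_of_zsp (cfInd G H) (fun _ hχ => ((irr_char hχ).ind hHG).vchar) hφ

theorem vchar_conj (hφ : φ ∈ vchar H) {g : Γ} (hg : g ∈ N[H]) : cfConj g φ ∈ vchar H :=
  map_mem_of_zsp (cfConj g) (fun _ hχ => ((irr_char hχ).conj hg).vchar) hφ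

theorem vchar_aut (hφ : φ ∈ vchar H) (u : ℂ →+* ℂ) : cfAut u φ ∈ vchar H :=
  cfAut_mem_zsp u (fun _ hχ => ((irr_char hχ).aut u).vchar) hφ

theorem vchar_conjC (hφ : φ ∈ vchar H) : conjC φ ∈ vchar H := vchar_aut hφ _

theorem vchar_dot_int_of_le (hθ : θ ∈ vchar H) (hφ : φ ∈ vchar G) (hHG : H ≤ G) :
    ∃ n : ℤ, cfdot H θ φ = n := by
  rw [← cfdot_cfRes_right]; exact vchar_dot_int hθ (vchar_res hφ hHG)

theorem zsp_le_vchar {S : Finset (Γ → ℂ)} (h : ∀ χ ∈ S, χ ∈ vchar H) : zsp S ≤ vchar H := zsp_le h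

theorem vchar_apply_inv (hφ : φ ∈ vchar H) (x : Γ) : φ x⁻¹ = conj (φ x) := by
  by_cases hx : x ∈ H
  · exact (vchar_gen hφ).apply_inv ⟨x, hx⟩
  · rw [vchar_cfOn hφ x hx, vchar_cfOn hφ x⁻¹ (by simpa using hx), map_zero]

theorem vchar_isIntegral (hφ : φ ∈ vchar H) (x : Γ) : IsIntegral ℤ (φ x) := by
  by_cases hx : x ∈ H
  · exact (vchar_gen hφ).isIntegral ⟨x, hx⟩
  · rw [vchar_cfOn hφ x hx]; exact isIntegral_zero

theorem vchar_one_int (hφ : φ ∈ vchar H) : ∃ n : ℤ, φ 1 = n := (vchar_gen hφ).exists_int_apply_one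

theorem vchar_conj_one (hφ : φ ∈ vchar H) : conj (φ 1) = φ 1 := by
  rw [← vchar_apply_inv hφ, inv_one]

theorem vchar_aut_one (hφ : φ ∈ vchar H) (u : ℂ →+* ℂ) : u (φ 1) = φ 1 := by
  obtain ⟨n, hn⟩ := vchar_one_int hφ
  rw [hn, map_intCast]

theorem cfdot_cfAut (u : ℂ →+* ℂ) (φ : Γ → ℂ) (hψ : ψ ∈ vchar H) :
    cfdot H (cfAut u φ) (cfAut u ψ) = u (cfdot H φ ψ) := by
  have : ∀ x, conj (u (ψ x)) = u (conj (ψ x)) := fun x => by
    rw [← vchar_apply_inv hψ]; exact (vchar_apply_inv (vchar_aut hψ u) x).symm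
  simp only [cfdot, cfAut_apply, map_mul, map_sum, map_inv₀, map_natCast, this]

theorem cfdot_cfAut_vchar (u : ℂ →+* ℂ) (hφ : φ ∈ vchar H) (hψ : ψ ∈ vchar H) :
    cfdot H (cfAut u φ) (cfAut u ψ) = cfdot H φ ψ := by
  obtain ⟨n, hn⟩ := vchar_dot_int hφ hψ
  rw [cfdot_cfAut u φ hψ, hn, map_intCast]

theorem cfnorm_cfAut (u : ℂ →+* ℂ) (hφ : φ ∈ vchar H) : cfnorm H (cfAut u φ) = cfnorm H φ :=
  cfnorm_congr_dot (cfdot_cfAut_vchar u hφ hφ)

/-! ## degrees -/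

theorem deg_eq_of {n : ℕ} (h : φ 1 = n) : deg φ = n := by rw [deg, h]; simp

theorem IsChar.one_eq (hφ : IsChar H φ) : φ 1 = deg φ := by
  obtain ⟨n, hn⟩ := hφ.1.exists_nat_apply_one
  have hn' : φ 1 = n := hn
  rw [deg_eq_of hn', hn']

theorem IsChar.one_re (hφ : IsChar H φ) : (φ 1).re = deg φ := by rw [hφ.one_eq]; simp

theorem IsChar.eq_zero_of_one (hφ : IsChar H φ) (h : φ 1 = 0) : φ = 0 :=
  eq_of_res_eq hφ.cfOn (Submodule.zero_mem _) (hφ.1.eq_zero_of_apply_one h)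

theorem IsChar.deg_pos (hφ : IsChar H φ) (h0 : φ ≠ 0) : 0 < deg φ :=
  Nat.pos_of_ne_zero fun h => h0 (hφ.eq_zero_of_one (by rw [hφ.one_eq, h, Nat.cast_zero]))

theorem irr_one_eq (h : χ ∈ Irr H) : χ 1 = deg χ := (irr_char h).one_eq

theorem irr_one_ne_zero (h : χ ∈ Irr H) : χ 1 ≠ 0 := (mem_Irr.mp h).1.apply_one_ne_zero

theorem irr_ne_zero (h : χ ∈ Irr H) : χ ≠ 0 := fun h0 => irr_one_ne_zero h (by rw [h0]; rfl)

theorem irr_deg_pos (h : χ ∈ Irr H) : 0 < deg χ := (irr_char h).deg_pos (irr_ne_zero h)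

theorem irr_one_re_pos (h : χ ∈ Irr H) : 0 < (χ 1).re := by
  rw [(irr_char h).one_re]; exact_mod_cast irr_deg_pos h

theorem deg_congr {φ : Γ → ℂ} {ψ : Γ' → ℂ} (h : φ 1 = ψ 1) : deg φ = deg ψ := by
  rw [deg, deg, h]

theorem IsChar.one_eq_iff_deg {ψ : Γ' → ℂ} {H' : Subgroup Γ'} (hφ : IsChar H φ)
    (hψ : IsChar H' ψ) : φ 1 = ψ 1 ↔ deg φ = deg ψ := by
  rw [hφ.one_eq, hψ.one_eq, Nat.cast_inj]

theorem IsChar.deg_add (hφ : IsChar H φ) (hψ : IsChar H ψ) : deg (φ + ψ) = deg φ + deg ψ :=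
  deg_eq_of (by rw [Pi.add_apply, hφ.one_eq, hψ.one_eq, Nat.cast_add])

theorem IsChar.deg_mul (hφ : IsChar H φ) (hψ : IsChar K ψ) : deg (φ * ψ) = deg φ * deg ψ :=
  deg_eq_of (by rw [Pi.mul_apply, hφ.one_eq, hψ.one_eq, Nat.cast_mul])

theorem IsChar.deg_ind (hφ : IsChar H φ) (hHG : H ≤ G) :
    deg (cfInd G H φ) = H.relIndex G * deg φ :=
  deg_eq_of (by rw [cfInd_one hHG, hφ.one_eq, Nat.cast_mul])

@[simp] theorem deg_cfRes (H : Subgroup Γ) (φ : Γ → ℂ) : deg (cfRes H φ) = deg φ :=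
  deg_congr (cfRes_apply_one H φ)

@[simp] theorem deg_cfConj (g : Γ) (φ : Γ → ℂ) : deg (cfConj g φ) = deg φ := deg_congr (by simp)

theorem IsChar.deg_aut (hφ : IsChar H φ) (u : ℂ →+* ℂ) : deg (cfAut u φ) = deg φ :=
  deg_congr (vchar_aut_one hφ.vchar u)

@[simp] theorem deg_conjC (φ : Γ → ℂ) : deg (conjC φ) = deg φ := by simp [deg]

@[simp] theorem deg_cfOne (H : Subgroup Γ) : deg (cfOne H) = 1 := deg_eq_of (by simp)

theorem IsChar.norm_le (hφ : IsChar H φ) (x : Γ) : ‖φ x‖ ≤ deg φ := by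
  by_cases hx : x ∈ H
  · rw [← hφ.one_re]; exact hφ.1.norm_le ⟨x, hx⟩
  · rw [hφ.2 x hx]; simp

theorem IsChar.deg_le_of_constt (hφ : IsChar H φ) (hχ : χ ∈ Irr H) (h : cfdot H φ χ ≠ 0) :
    deg χ ≤ deg φ := by
  have := (hφ.sub_irr hχ h).deg_add (irr_char hχ)
  rw [sub_add_cancel] at this; omega

theorem IsChar.eq_of_constt_of_deg (hφ : IsChar H φ) (hχ : χ ∈ Irr H) (h : cfdot H φ χ ≠ 0)
    (hd : deg φ ≤ deg χ) : φ = χ := by
  have h1 := hφ.sub_irr hχ h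
  have := h1.deg_add (irr_char hχ)
  rw [sub_add_cancel] at this
  refine sub_eq_zero.mp (h1.eq_zero_of_one ?_)
  rw [h1.one_eq, show deg (φ - χ) = 0 by omega, Nat.cast_zero]

theorem IsChar.dot_mul_deg_le (hφ : IsChar H φ) (hχ : χ ∈ Irr H) {n : ℕ}
    (hn : cfdot H φ χ = n) : n * deg χ ≤ deg φ := by
  have h1 := hφ.sub_dot_smul hχ
  rw [hn] at h1
  have := h1.deg_add ((irr_char hχ).natCast_smul n)
  rw [sub_add_cancel, deg_eq_of (φ := (n : ℂ) • χ) (n := n * deg χ)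
    (by rw [Pi.smul_apply, irr_one_eq hχ]; simp)] at this
  omega

/-- the values of a character on the powers of `x` as power sums of roots of unity. -/
theorem IsChar.eigenvalues (hφ : IsChar H φ) {x : Γ} (hx : x ∈ H) :
    ∃ ω : Fin (deg φ) → ℂ, (∀ i, ω i ^ orderOf x = 1) ∧ ∀ k : ℕ, φ (x ^ k) = ∑ i, ω i ^ k := by
  obtain ⟨n, ω, h1, h2, h3⟩ := hφ.1.exists_eigenvalues ⟨x, hx⟩
  have : deg φ = n := deg_eq_of h1
  subst this
  refine ⟨ω, fun i => ?_, fun k => ?_⟩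
  · have := h2 i; rwa [Subgroup.orderOf_mk] at this
  · exact h3 k

/-! ## norm one -/

theorem vchar_norm_one (hφ : φ ∈ vchar H) (h : cfnorm H φ = 1) : IsDirr H φ := by
  have := Fintype.ofFinite H
  have h' := cfnorm_eq_one_iff.mp h
  rw [cfdot_eq_classInner] at h'
  rcases (vchar_gen hφ).irr_or_neg_of_inner_self h' with h1 | h1
  · exact Or.inl (mem_Irr.mpr ⟨h1, vchar_cfOn hφ⟩)
  · exact Or.inr (mem_Irr.mpr ⟨h1, neg_mem (vchar_cfOn hφ)⟩)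

theorem IsDirr.vchar (h : IsDirr H φ) : φ ∈ vchar H := by
  rcases h with h | h
  · exact irr_vchar h
  · simpa using neg_mem (irr_vchar h)

theorem IsDirr.CF (h : IsDirr H φ) : φ ∈ CF H := vchar_CF h.vchar

theorem IsDirr.norm (h : IsDirr H φ) : cfnorm H φ = 1 := by
  rcases h with h | h
  · exact irr_norm h
  · simpa using irr_norm h

theorem IsDirr.dot_self (h : IsDirr H φ) : cfdot H φ φ = 1 := cfnorm_eq_one_iff.mp h.norm

theorem isDirr_iff : IsDirr H φ ↔ φ ∈ vchar H ∧ cfnorm H φ = 1 :=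
  ⟨fun h => ⟨h.vchar, h.norm⟩, fun h => vchar_norm_one h.1 h.2⟩

theorem irr_dirr (h : χ ∈ Irr H) : IsDirr H χ := Or.inl h

theorem IsDirr.neg (h : IsDirr H φ) : IsDirr H (-φ) := by
  rcases h with h | h
  · exact Or.inr (by simpa using h)
  · exact Or.inl h

theorem IsDirr.aut (h : IsDirr H φ) (u : ℂ →+* ℂ) : IsDirr H (cfAut u φ) :=
  vchar_norm_one (vchar_aut h.vchar u) (by rw [cfnorm_cfAut u h.vchar, h.norm])

theorem IsDirr.exists_sign (h : IsDirr H φ) :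
    ∃ (ε : ℤ) (χ : Γ → ℂ), (ε = 1 ∨ ε = -1) ∧ χ ∈ Irr H ∧ φ = (ε : ℂ) • χ := by
  rcases h with h | h
  · exact ⟨1, φ, Or.inl rfl, h, by simp⟩
  · exact ⟨-1, -φ, Or.inr rfl, h, by simp⟩

theorem IsDirr.sign_smul (h : IsDirr H φ) {ε : ℤ} (hε : ε = 1 ∨ ε = -1) :
    IsDirr H ((ε : ℂ) • φ) := by
  rcases hε with rfl | rfl
  · simpa using h
  · simpa using h.neg

theorem IsDirr.one_ne_zero (h : IsDirr H φ) : φ 1 ≠ 0 := by
  rcases h with h | h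
  · exact irr_one_ne_zero h
  · simpa using irr_one_ne_zero h

theorem IsDirr.ne_zero (h : IsDirr H φ) : φ ≠ 0 := fun h0 => h.one_ne_zero (by rw [h0]; rfl)

theorem IsDirr.ne_neg (h : IsDirr H φ) : φ ≠ -φ := fun h0 => h.one_ne_zero (by
  have := congrFun h0 1
  rw [Pi.neg_apply] at this
  linear_combination this / 2)

theorem IsDirr.irr_of_pos (h : IsDirr H φ) (h1 : 0 ≤ (φ 1).re) : φ ∈ Irr H := by
  rcases h with h | h
  · exact h
  · have := irr_one_re_pos h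
    simp at this; linarith

theorem IsDirr.cases (h : IsDirr H φ) (h' : IsDirr H ψ) :
    φ = ψ ∨ φ = -ψ ∨ cfdot H φ ψ = 0 := by
  by_cases h0 : cfdot H φ ψ = 0
  · exact Or.inr (Or.inr h0)
  rcases h with h | h <;> rcases h' with h' | h'
  · exact Or.inl (irr_eq_of_dot_ne h h' h0)
  · exact Or.inr (Or.inl (irr_eq_of_dot_ne h h' (by simpa using h0)))
  · exact Or.inr (Or.inl (neg_eq_iff_eq_neg.mp (irr_eq_of_dot_ne h h' (by simpa using h0))))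
  · exact Or.inl (neg_injective (irr_eq_of_dot_ne h h' (by simpa using h0)))

theorem IsDirr.dot_cases (h : IsDirr H φ) (h' : IsDirr H ψ) :
    (φ = ψ ∧ cfdot H φ ψ = 1) ∨ (φ = -ψ ∧ cfdot H φ ψ = -1) ∨ cfdot H φ ψ = 0 := by
  rcases h.cases h' with rfl | rfl | h0
  · exact Or.inl ⟨rfl, h.dot_self⟩
  · exact Or.inr (Or.inl ⟨rfl, by simp [h'.dot_self]⟩)
  · exact Or.inr (Or.inr h0)

theorem IsDirr.eq_of_dot_one (h : IsDirr H φ) (h' : IsDirr H ψ) (h1 : cfdot H φ ψ = 1) :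
    φ = ψ := by
  rcases h.dot_cases h' with h2 | h2 | h2
  · exact h2.1
  · rw [h2.2] at h1; norm_num at h1
  · rw [h2] at h1; norm_num at h1

theorem IsDirr.dot_eq_zero (h : IsDirr H φ) (h' : IsDirr H ψ) (h1 : φ ≠ ψ) (h2 : φ ≠ -ψ) :
    cfdot H φ ψ = 0 := ((h.cases h').resolve_left h1).resolve_left h2

theorem irr_of_norm_one (hφ : IsChar H φ) (h : cfnorm H φ = 1) : φ ∈ Irr H :=
  (vchar_norm_one hφ.vchar h).irr_of_pos (by rw [hφ.one_re]; positivity)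

theorem irr_of_dot_one (hφ : IsChar H φ) (h : cfdot H φ φ = 1) : φ ∈ Irr H :=
  irr_of_norm_one hφ (cfnorm_eq_one_iff.mpr h)

theorem mem_Irr_iff : φ ∈ Irr H ↔ IsChar H φ ∧ cfnorm H φ = 1 :=
  ⟨fun h => ⟨irr_char h, irr_norm h⟩, fun h => irr_of_norm_one h.1 h.2⟩

theorem irr_ne_neg (h : χ ∈ Irr H) (h' : ψ ∈ Irr H) : χ ≠ -ψ := fun he => by
  have h1 := irr_one_re_pos h
  have h2 := irr_one_re_pos h'
  rw [he] at h1; simp at h1; linarith

theorem irr_aut (h : χ ∈ Irr H) (u : ℂ →+* ℂ) : cfAut u χ ∈ Irr H :=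
  irr_of_norm_one ((irr_char h).aut u) (by rw [cfnorm_cfAut u (irr_vchar h), irr_norm h])

theorem irr_conjC (h : χ ∈ Irr H) : conjC χ ∈ Irr H := irr_aut h _

theorem irr_conj (h : χ ∈ Irr H) {g : Γ} (hg : g ∈ N[H]) : cfConj g χ ∈ Irr H :=
  irr_of_dot_one ((irr_char h).conj hg) (by rw [cfdot_cfConj hg, irr_dot_self h])

theorem irr_of_res (hφ : IsChar G φ) (hHG : H ≤ G) (h : cfRes H φ ∈ Irr H) : φ ∈ Irr G :=
  mem_Irr.mpr ⟨hφ.1.isIrr_of_comp (Subgroup.inclusion hHG) (by simpa using (mem_Irr.mp h).1), hφ.2⟩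

theorem isChar_cfOne (H : Subgroup Γ) : IsChar H (cfOne H) :=
  ⟨by simpa [cfOne] using isCharacter_one, (cfOne_mem_CF H).1⟩

theorem cfOne_mem_Irr (H : Subgroup Γ) : cfOne H ∈ Irr H :=
  irr_of_dot_one (isChar_cfOne H) cfdot_cfOne_cfOne

theorem cfOne_vchar (H : Subgroup Γ) : cfOne H ∈ vchar H := irr_vchar (cfOne_mem_Irr H)

/-- a virtual character of norm `n ≤ 3` (or with no constituent of multiplicity `> 1`) is the sum of
an orthonormal set of `n` signed irreducible characters. -/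
theorem vchar_eq_sum_dirr (hφ : φ ∈ vchar H) (h : ∀ χ ∈ Irr H, ‖cfdot H φ χ‖ ≤ 1) :
    ∃ S : Finset (Γ → ℂ), (∀ α ∈ S, IsDirr H α) ∧ Orthon H S ∧ φ = ∑ α ∈ S, α ∧
      (S.card : ℝ) = cfnorm H φ := by
  classical
  obtain ⟨n, hn, h1, -⟩ := vchar_coeff hφ
  have hn' : ∀ χ ∈ Irr H, n χ ≠ 0 → n χ = 1 ∨ n χ = -1 := fun χ hχ h0 => by
    have := h χ hχ
    rw [hn χ hχ, Complex.norm_intCast] at this
    have h2 : |n χ| ≤ 1 := by exact_mod_cast this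
    rcases abs_le.mp h2 with ⟨h3, h4⟩
    omega
  set T := (Irr H).filter (fun χ => n χ ≠ 0)
  have hT : ∀ χ ∈ T, χ ∈ Irr H ∧ (n χ = 1 ∨ n χ = -1) := fun χ hχ =>
    ⟨(Finset.mem_filter.mp hχ).1, hn' χ (Finset.mem_filter.mp hχ).1 (Finset.mem_filter.mp hχ).2⟩
  have hd : ∀ χ ∈ T, IsDirr H ((n χ : ℂ) • χ) := fun χ hχ =>
    (irr_dirr (hT χ hχ).1).sign_smul (hT χ hχ).2
  have ho : ∀ χ ∈ T, ∀ ψ ∈ T, χ ≠ ψ → cfdot H ((n χ : ℂ) • χ) ((n ψ : ℂ) • ψ) = 0 :=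
    fun χ hχ ψ hψ hne => by simp [irr_dot_ne (hT χ hχ).1 (hT ψ hψ).1 hne]
  have hinj : Set.InjOn (fun χ => (n χ : ℂ) • χ) T := fun χ hχ ψ hψ he => by
    by_contra hne
    have h2 := ho χ hχ ψ hψ hne
    have he' : (n χ : ℂ) • χ = (n ψ : ℂ) • ψ := he
    rw [← he', (hd χ hχ).dot_self] at h2
    exact one_ne_zero h2
  have hS : Orthon H (T.image (fun χ => (n χ : ℂ) • χ)) := by
    refine ⟨fun α hα => ?_, fun α hα β hβ hne => ?_⟩
    · obtain ⟨χ, hχ, rfl⟩ := Finset.mem_image.mp hα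
      exact (hd χ hχ).dot_self
    · obtain ⟨χ, hχ, rfl⟩ := Finset.mem_image.mp hα
      obtain ⟨ψ, hψ, rfl⟩ := Finset.mem_image.mp hβ
      exact ho χ hχ ψ hψ fun he => hne (by rw [he])
  have hsum : φ = ∑ α ∈ T.image (fun χ => (n χ : ℂ) • χ), α := by
    rw [Finset.sum_image hinj, Finset.sum_filter_of_ne, ← h1]
    intro χ _ h0 h2
    exact h0 (by rw [h2]; simp)
  refine ⟨_, fun α hα => ?_, hS, hsum, ?_⟩
  · obtain ⟨χ, hχ, rfl⟩ := Finset.mem_image.mp hα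
    exact hd χ hχ
  · rw [← hS.cfnorm_sum, ← hsum]

theorem norm_dot_irr_sq_le (φ : Γ → ℂ) (hχ : cfnorm H χ = 1) :
    ‖cfdot H φ χ‖ ^ 2 ≤ cfnorm H φ := by
  simpa [hχ] using cfdot_sq_le φ χ (H := H)

theorem vchar_small_norm (hφ : φ ∈ vchar H) (h : cfnorm H φ < 4) :
    ∃ S : Finset (Γ → ℂ), (∀ α ∈ S, IsDirr H α) ∧ Orthon H S ∧ φ = ∑ α ∈ S, α ∧
      (S.card : ℝ) = cfnorm H φ := by
  refine vchar_eq_sum_dirr hφ fun χ hχ => ?_
  obtain ⟨n, hn⟩ := vchar_dot_int hφ (irr_vchar hχ)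
  have h1 := norm_dot_irr_sq_le φ (irr_norm hχ)
  rw [hn, Complex.norm_intCast] at h1 ⊢
  have h2 : |n| ^ 2 < 4 := by
    have : ((|n| ^ 2 : ℤ) : ℝ) < 4 := by push_cast; linarith
    exact_mod_cast this
  have h3 : |n| ≤ 1 := by nlinarith [abs_nonneg n]
  exact_mod_cast h3

theorem vchar_norm_two (hφ : φ ∈ vchar H) (h : cfnorm H φ = 2) :
    ∃ α β, IsDirr H α ∧ IsDirr H β ∧ cfdot H α β = 0 ∧ φ = α + β := by
  classical
  obtain ⟨S, h1, h2, h3, h4⟩ := vchar_small_norm hφ (by rw [h]; norm_num)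
  rw [h] at h4
  obtain ⟨α, β, hne, rfl⟩ := Finset.card_eq_two.mp (by exact_mod_cast h4)
  exact ⟨α, β, h1 α (by simp), h1 β (by simp), h2.2 α (by simp) β (by simp) hne,
    by rw [h3, Finset.sum_pair hne]⟩

theorem vchar_norm_two_sub (hφ : φ ∈ vchar H) (h : cfnorm H φ = 2) (h1 : φ 1 = 0) :
    ∃ χ ∈ Irr H, ∃ ψ ∈ Irr H, χ ≠ ψ ∧ φ = χ - ψ := by
  obtain ⟨α, β, hα, hβ, h0, rfl⟩ := vchar_norm_two hφ h
  have h2 : (α 1).re + (β 1).re = 0 := by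
    rw [← Complex.add_re, ← Pi.add_apply, h1, Complex.zero_re]
  rcases hα with hα | hα <;> rcases hβ with hβ | hβ
  · linarith [irr_one_re_pos hα, irr_one_re_pos hβ]
  · refine ⟨α, hα, -β, hβ, fun he => ?_, by simp⟩
    have := irr_dot_self hα
    nth_rewrite 2 [he] at this
    simp [h0] at this
  · refine ⟨β, hβ, -α, hα, fun he => ?_, by simp [add_comm]⟩
    have := irr_dot_self hβ
    nth_rewrite 1 [he] at this
    simp [h0] at this
  · have h3 := irr_one_re_pos hα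
    have h4 := irr_one_re_pos hβ
    simp at h3 h4; linarith

theorem vchar_norm_three (hφ : φ ∈ vchar H) (h : cfnorm H φ = 3) :
    ∃ α β γ, IsDirr H α ∧ IsDirr H β ∧ IsDirr H γ ∧ cfdot H α β = 0 ∧ cfdot H α γ = 0 ∧
      cfdot H β γ = 0 ∧ φ = α + β + γ := by
  classical
  obtain ⟨S, h1, h2, h3, h4⟩ := vchar_small_norm hφ (by rw [h]; norm_num)
  rw [h] at h4
  obtain ⟨α, β, γ, h5, h6, h7, rfl⟩ := Finset.card_eq_three.mp (by exact_mod_cast h4)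
  refine ⟨α, β, γ, h1 α (by simp), h1 β (by simp), h1 γ (by simp),
    h2.2 α (by simp) β (by simp) h5, h2.2 α (by simp) γ (by simp) h6,
    h2.2 β (by simp) γ (by simp) h7, ?_⟩
  rw [h3, Finset.sum_insert (by simp [h5, h6]), Finset.sum_pair h7, add_assoc]

/-! ## kernels of characters -/

theorem IsChar.mem_cfker (hφ : IsChar H φ) {x : Γ} : x ∈ cfker H φ ↔ x ∈ H ∧ φ x = φ 1 := by
  refine ⟨fun h => ⟨h.1, cfker_apply h⟩, fun h => ⟨h.1, fun y => ?_⟩⟩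
  by_cases hy : y ∈ H
  · obtain ⟨n, ρ, hρ⟩ := hφ.1
    have h1 : ∀ z : H, φ z = ρ.character z := fun z => (congrFun hρ z).symm
    have h2 : ρ ⟨x, h.1⟩ = LinearMap.id := by
      rw [← rep_char_eq_iff, ← h1, ← Representation.char_one ρ, ← h1]; exact h.2
    have := h1 (⟨x, h.1⟩ * ⟨y, hy⟩)
    rw [Representation.character, map_mul, h2] at this
    rw [h1 ⟨y, hy⟩]
    exact this
  · rw [hφ.2 y hy, hφ.2 _ (by rwa [H.mul_mem_cancel_left h.1])]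

theorem IsChar.le_cfker (hφ : IsChar H φ) (hK : K ≤ H) : K ≤ cfker H φ ↔ ∀ x ∈ K, φ x = φ 1 :=
  ⟨fun h _ hx => cfker_apply (h hx), fun h x hx => hφ.mem_cfker.mpr ⟨hK hx, h x hx⟩⟩

theorem IsChar.cfker_add (hφ : IsChar H φ) (hψ : IsChar H ψ) :
    cfker H (φ + ψ) = cfker H φ ⊓ cfker H ψ := by
  refine le_antisymm (fun x hx => ?_) (cfker_add_le H φ ψ)
  have h1 := cfker_apply hx
  simp only [Pi.add_apply, hφ.one_eq, hψ.one_eq] at h1
  have h2 := congrArg Complex.re h1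
  simp only [Complex.add_re, Complex.natCast_re] at h2
  have h3 := (Complex.re_le_norm (φ x)).trans (hφ.norm_le x)
  have h4 := (Complex.re_le_norm (ψ x)).trans (hψ.norm_le x)
  have key : ∀ (z : ℂ) (n : ℕ), ‖z‖ ≤ n → z.re = n → z = n := fun z n ha hb => by
    have hz : z.re = ‖z‖ := le_antisymm (Complex.re_le_norm z) (hb ▸ ha)
    have := (Complex.re_eq_norm.mp hz)
    apply Complex.ext
    · simpa using hb
    · simpa using (Complex.nonneg_iff.mp this).2.symm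
  exact ⟨hφ.mem_cfker.mpr ⟨hx.1, by rw [hφ.one_eq]; exact key _ _ (hφ.norm_le x) (by linarith)⟩,
    hψ.mem_cfker.mpr ⟨hx.1, by rw [hψ.one_eq]; exact key _ _ (hψ.norm_le x) (by linarith)⟩⟩

theorem IsChar.cfker_le_constt (hφ : IsChar H φ) (hχ : χ ∈ Irr H) (h : cfdot H φ χ ≠ 0) :
    cfker H φ ≤ cfker H χ := by
  have := (hφ.sub_irr hχ h).cfker_add (irr_char hχ)
  rw [sub_add_cancel] at this
  rw [this]; exact inf_le_right

theorem IsChar.cfker_res (hφ : IsChar G φ) (hHG : H ≤ G) :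
    cfker H (cfRes H φ) = H ⊓ cfker G φ := by
  ext x
  rw [(hφ.res hHG).mem_cfker, Subgroup.mem_inf, hφ.mem_cfker]
  refine and_congr_right fun hx => ?_
  rw [cfRes_of_mem _ hx, cfRes_apply_one]
  exact ⟨fun h => ⟨hHG hx, h⟩, fun h => h.2⟩

theorem cfRes_eq_of_le_cfker (hK : K ≤ cfker H φ) : cfRes K φ = φ 1 • cfOne K :=
  ext_on (cfRes_mem_cfOn _ _) (Submodule.smul_mem _ _ (cfOne_mem_CF K).1) fun x hx => by
    rw [cfRes_of_mem _ hx, cfker_apply (hK hx)]; simp [cfOne_of_mem hx]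

theorem cfdot_cfOne_of_le_cfker (hK : K ≤ cfker H φ) : cfdot K φ (cfOne K) = φ 1 := by
  rw [← cfdot_cfRes_left, cfRes_eq_of_le_cfker hK]; simp

theorem irr_eq_cfOne_iff (hχ : χ ∈ Irr H) : χ = cfOne H ↔ H ≤ cfker H χ := by
  refine ⟨fun h => by rw [h, cfker_cfOne], fun h => irr_eq_of_dot_ne hχ (cfOne_mem_Irr H) ?_⟩
  rw [cfdot_cfOne_of_le_cfker h]; exact irr_one_ne_zero hχ

theorem le_cfker_ind (hK : K ⊴ G) (hHG : H ≤ G) (hφ : K ≤ cfker H φ) :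
    K ≤ cfker G (cfInd G H φ) := fun x hx => ⟨hK.le hx, fun y => by
  by_cases hy : y ∈ G
  · rw [cfInd_of_mem H φ hy, cfInd_of_mem H φ (G.mul_mem (hK.le hx) hy)]
    congr 1
    refine sum_fs_congr fun g hg => ?_
    have h1 := hφ (hK.conj_mem hg hx)
    rw [← (mem_cfker_cfRes h1 h1.1).2 (g * y * g⁻¹)]
    congr 1; group
  · rw [cfInd_of_not_mem H φ hy,
      cfInd_of_not_mem H φ (by rwa [G.mul_mem_cancel_left (hK.le hx)])]⟩

/-- if the restriction of an irreducible character to a normal subgroup contains the principal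
character then the subgroup lies in the kernel. -/
theorem irr_le_cfker_of_dot (hK : K ⊴ H) (hχ : χ ∈ Irr H) (h : cfdot K χ (cfOne K) ≠ 0) :
    K ≤ cfker H χ := by
  have h1 : cfdot H (cfInd H K (cfOne K)) χ ≠ 0 := by
    rw [cfdot_cfInd_left hK.le _ (irr_CF hχ)]; exact fun h0 => h (cfdot_symm_zero h0)
  exact (le_cfker_ind hK hK.le (cfker_cfOne K).ge).trans
    (((isChar_cfOne K).ind hK.le).cfker_le_constt hχ h1)

open scoped Classical in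
theorem cfdot_cfOne_nml (hK : K ⊴ H) (hχ : χ ∈ Irr H) :
    cfdot K χ (cfOne K) = if K ≤ cfker H χ then χ 1 else 0 := by
  split_ifs with h
  · exact cfdot_cfOne_of_le_cfker h
  · by_contra hc; exact h (irr_le_cfker_of_dot hK hχ hc)

theorem mem_irrK : χ ∈ irrK H K ↔ χ ∈ Irr H ∧ K ≤ cfker H χ := by
  classical
  rw [irrK, Finset.mem_filter]

theorem mem_irrKD {M : Subgroup Γ} :
    χ ∈ irrKD K H M ↔ χ ∈ Irr K ∧ M ≤ cfker K χ ∧ ¬ H ≤ cfker K χ := by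
  classical
  rw [irrKD, Finset.mem_filter]

theorem irrK_bot (H : Subgroup Γ) : irrK H ⊥ = Irr H := by ext; simp [mem_irrK]

theorem cfOne_mem_irrK (hK : K ≤ H) : cfOne H ∈ irrK H K :=
  mem_irrK.mpr ⟨cfOne_mem_Irr H, by rwa [cfker_cfOne]⟩

theorem irrK_sub (H K : Subgroup Γ) : irrK H K ⊆ Irr H := fun _ h => (mem_irrK.mp h).1

theorem cfInd_cfOne_eq_sum (hK : K ⊴ H) : cfInd H K (cfOne K) = ∑ χ ∈ irrK H K, χ 1 • χ := by
  classical
  rw [CF_eq_sum (cfInd_mem_CF H K (cfOne K)), irrK, Finset.sum_filter]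
  refine Finset.sum_congr rfl fun χ hχ => ?_
  rw [cfdot_cfInd_left hK.le _ (irr_CF hχ), ← conj_cfdot, cfdot_cfOne_nml hK hχ]
  split_ifs
  · rw [vchar_conj_one (irr_vchar hχ)]
  · simp

open scoped Classical in
/-- `∑_{χ ∈ Irr(H/K)} χ(1) χ(x)`. -/
theorem sum_irrK_deg_mul (hK : K ⊴ H) (x : Γ) :
    ∑ χ ∈ irrK H K, χ 1 * χ x = if x ∈ K then (K.relIndex H : ℂ) else 0 := by
  have := congrFun (cfInd_cfOne_eq_sum hK) x
  rw [cfInd_cfOne_nml hK] at this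
  simp only [Finset.sum_apply, Pi.smul_apply, smul_eq_mul] at this
  rw [← this]
  split_ifs with h
  · rw [cfOne_of_mem h, mul_one]
  · rw [cfOne_of_not_mem h, mul_zero]

theorem sum_irrK_deg_sq (hK : K ⊴ H) : ∑ χ ∈ irrK H K, deg χ ^ 2 = K.relIndex H := by
  have := sum_irrK_deg_mul hK 1
  rw [if_pos K.one_mem, Finset.sum_congr rfl
    (g := fun χ => (deg χ : ℂ) ^ 2) (fun χ hχ => by rw [irr_one_eq (mem_irrK.mp hχ).1, ← sq])] at this
  exact_mod_cast this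

open scoped Classical in
theorem sum_Irr_deg_mul (H : Subgroup Γ) (x : Γ) :
    ∑ χ ∈ Irr H, χ 1 * χ x = if x = 1 then (Nat.card H : ℂ) else 0 := by
  have := sum_irrK_deg_mul (Nml.bot H) x
  rw [irrK_bot] at this
  rw [this]; simp

theorem sum_Irr_deg_sq (H : Subgroup Γ) : ∑ χ ∈ Irr H, deg χ ^ 2 = Nat.card H := by
  have := sum_irrK_deg_sq (Nml.bot H)
  rwa [irrK_bot, Subgroup.relIndex_bot_left] at this

/-- an element of `H` outside a normal subgroup `K` is not in the kernel of some irreducible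
character of `H / K`. -/
theorem exists_irrK_not_mem (hK : K ⊴ H) {x : Γ} (hxK : x ∉ K) :
    ∃ χ ∈ irrK H K, x ∉ cfker H χ := by
  by_contra hc
  push Not at hc
  have h1 := sum_irrK_deg_mul hK x
  have h2 := sum_irrK_deg_mul hK 1
  rw [if_neg hxK, Finset.sum_congr rfl (fun χ hχ => by rw [cfker_apply (hc χ hχ)]), h2,
    if_pos K.one_mem] at h1
  exact relIndexC_ne_zero K H h1

theorem irrKD_nonempty {M : Subgroup Γ} (hM : M ⊴ K) (h : ¬ H ≤ M) : (irrKD K H M).Nonempty := by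
  obtain ⟨x, hx, hxM⟩ := Set.not_subset.mp h
  obtain ⟨χ, hχ, h1⟩ := exists_irrK_not_mem hM hxM
  exact ⟨χ, mem_irrKD.mpr ⟨(mem_irrK.mp hχ).1, (mem_irrK.mp hχ).2, fun h2 => h1 (h2 hx)⟩⟩

theorem irrKD_eq_sdiff [DecidableEq (Γ → ℂ)] (K H M : Subgroup Γ) :
    irrKD K H M = irrK K M \ irrK K (H ⊔ M) := by
  ext χ
  simp only [mem_irrKD, Finset.mem_sdiff, mem_irrK, sup_le_iff]
  tauto

theorem irrK_anti (H : Subgroup Γ) {M : Subgroup Γ} (h : M ≤ K) : irrK H K ⊆ irrK H M :=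
  fun _ hχ => mem_irrK.mpr ⟨(mem_irrK.mp hχ).1, h.trans (mem_irrK.mp hχ).2⟩

theorem sum_irrKD_deg_sq {M : Subgroup Γ} (hM : M ⊴ K) (hH : H ⊴ K) :
    ∑ χ ∈ irrKD K H M, deg χ ^ 2 + (H ⊔ M).relIndex K = M.relIndex K := by
  classical
  rw [irrKD_eq_sdiff, ← sum_irrK_deg_sq hM, ← sum_irrK_deg_sq (hH.sup hM),
    Finset.sum_sdiff (irrK_anti K le_sup_right)]

/-! ## column orthogonality and the basic product formula -/

theorem irr_sum_conj_mul (hχ : χ ∈ Irr H) {a z : Γ} (ha : a ∈ H) (hz : z ∈ H) :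
    ∑ x ∈ fs (H : Set Γ), χ (x * a * x⁻¹ * z) = (Nat.card H : ℂ) * χ a * χ z / χ 1 := by
  have := Fintype.ofFinite H
  have h := (mem_Irr.mp hχ).1.sum_conj_mul ⟨a, ha⟩ ⟨z, hz⟩
  rw [sum_fs_eq_subtype (H : Set Γ)]
  exact h

theorem card_centralizer_subtype {x : Γ} (hx : x ∈ H) :
    Nat.card (Subgroup.centralizer ({⟨x, hx⟩} : Set H)) = Nat.card ↥(H ⊓ C{x}) := by
  rw [← card_subgroupOf_of_le (inf_le_left : H ⊓ C{x} ≤ H)]
  congr 2
  ext y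
  simp [Subgroup.mem_subgroupOf, Subgroup.mem_centralizer_singleton_iff, Subtype.ext_iff]

theorem sum_Irr_norm_sq {x : Γ} (hx : x ∈ H) :
    ∑ χ ∈ Irr H, ‖χ x‖ ^ 2 = Nat.card ↥(H ⊓ C{x}) := by
  rw [sum_Irr_eq, ← card_centralizer_subtype hx, ← sum_norm_sq_irr]
  exact Finset.sum_congr rfl fun χ _ => by rw [ext0_of_mem _ hx]

theorem sum_Irr_mul_conj_of_not_conj {x y : Γ} (hx : x ∈ H) (hy : y ∈ H)
    (h : ∀ g ∈ H, g * x * g⁻¹ ≠ y) : ∑ χ ∈ Irr H, χ x * conj (χ y) = 0 := by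
  rw [sum_Irr_eq, ← column_orth_of_not_isConj (G := H) (g := ⟨x, hx⟩) (h := ⟨y, hy⟩)]
  · exact Finset.sum_congr rfl fun χ _ => by rw [ext0_of_mem _ hx, ext0_of_mem _ hy]
  · intro hc
    obtain ⟨g, hg⟩ := isConj_iff.mp hc
    exact h g g.2 (congrArg Subtype.val hg)

/-- an element central modulo the kernel acts as a scalar. -/
theorem irr_mul_of_central (hχ : χ ∈ Irr H) {z : Γ} (hz : z ∈ H)
    (hc : ∀ x ∈ H, x * z * x⁻¹ * z⁻¹ ∈ cfker H χ) (y : Γ) : χ (z * y) * χ 1 = χ z * χ y := by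
  by_cases hy : y ∈ H
  · have h := irr_sum_conj_mul hχ hz hy
    rw [sum_fs_congr (g := fun _ => χ (z * y)) (fun x hx => by
      rw [← (hc x hx).2 (z * y)]; congr 1; group), sum_fs_const] at h
    have h1 := irr_one_ne_zero hχ
    have h2 := cardC_ne_zero H
    simp only [SetLike.coe_sort_coe, nsmul_eq_mul] at h
    field_simp at h
    linear_combination h
  · rw [irr_cfOn hχ y hy, irr_cfOn hχ (z * y) (by
      rwa [SetLike.mem_coe, H.mul_mem_cancel_left hz])]; simp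

theorem irr_norm_of_central (hχ : χ ∈ Irr H) {z : Γ} (hz : z ∈ H)
    (hc : ∀ x ∈ H, x * z * x⁻¹ * z⁻¹ ∈ cfker H χ) : ‖χ z‖ = deg χ := by
  have h := irr_mul_of_central hχ hz hc z⁻¹
  rw [mul_inv_cancel, vchar_apply_inv (irr_vchar hχ), irr_one_eq hχ, Complex.mul_conj'] at h
  have h1 : (deg χ : ℝ) ^ 2 = ‖χ z‖ ^ 2 := by rw [sq]; exact_mod_cast h
  exact ((sq_eq_sq₀ (by positivity) (by positivity)).mp h1).symm

/-- `χ(1)² ≤ [H : D]` when `D` is central modulo the kernel of `χ`. -/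
theorem irr_deg_sq_le {D : Subgroup Γ} (hχ : χ ∈ Irr H) (hD : D ≤ H)
    (hc : ∀ z ∈ D, ∀ x ∈ H, x * z * x⁻¹ * z⁻¹ ∈ cfker H χ) : deg χ ^ 2 ≤ D.relIndex H := by
  have h1 := cfnorm_cfRes_le hD χ
  rw [irr_norm hχ, mul_one, cfnorm, sum_fs_congr (g := fun _ => (deg χ : ℝ) ^ 2)
    (fun z hz => by rw [irr_norm_of_central hχ (hD hz) (hc z hz)]), sum_fs_const] at h1
  simp only [SetLike.coe_sort_coe, nsmul_eq_mul] at h1
  rw [inv_mul_cancel_left₀ (cardR_pos D).ne'] at h1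
  exact_mod_cast h1

/-! ## linear characters -/

theorem IsLin.irr (h : IsLin H φ) : φ ∈ Irr H := h.1

theorem IsLin.one (h : IsLin H φ) : φ 1 = 1 := h.2

theorem IsLin.char (h : IsLin H φ) : IsChar H φ := irr_char h.1

theorem IsLin.deg (h : IsLin H φ) : deg φ = 1 := deg_eq_of (by rw [h.2, Nat.cast_one])

theorem IsChar.isLin (h : IsChar H φ) (h1 : φ 1 = 1) : IsLin H φ :=
  ⟨mem_Irr.mpr ⟨h.1.isIrr_of_apply_one h1, h.2⟩, h1⟩

theorem IsChar.isLin_of_deg (h : IsChar H φ) (h1 : H27.deg φ = 1) : IsLin H φ :=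
  h.isLin (by rw [h.one_eq, h1, Nat.cast_one])

theorem IsLin.apply_mul (h : IsLin H φ) {x y : Γ} (hx : x ∈ H) (hy : y ∈ H) :
    φ (x * y) = φ x * φ y := h.char.1.map_mul_of_apply_one h.2 ⟨x, hx⟩ ⟨y, hy⟩

theorem IsLin.apply_pow (h : IsLin H φ) {x : Γ} (hx : x ∈ H) (n : ℕ) : φ (x ^ n) = φ x ^ n := by
  induction n with
  | zero => simp [h.2]
  | succ n ih => rw [pow_succ, h.apply_mul (H.pow_mem hx n) hx, ih, pow_succ]

theorem IsLin.mul_inv (h : IsLin H φ) {x : Γ} (hx : x ∈ H) : φ x * φ x⁻¹ = 1 := by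
  rw [← h.apply_mul hx (H.inv_mem hx), mul_inv_cancel, h.2]

theorem IsLin.apply_ne_zero (h : IsLin H φ) {x : Γ} (hx : x ∈ H) : φ x ≠ 0 :=
  left_ne_zero_of_mul_eq_one (h.mul_inv hx)

theorem IsLin.apply_inv (h : IsLin H φ) {x : Γ} (hx : x ∈ H) : φ x⁻¹ = (φ x)⁻¹ :=
  eq_inv_of_mul_eq_one_right (h.mul_inv hx)

theorem IsLin.mul_conj (h : IsLin H φ) {x : Γ} (hx : x ∈ H) : φ x * conj (φ x) = 1 := by
  rw [← vchar_apply_inv (irr_vchar h.1), h.mul_inv hx]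

theorem IsLin.norm_apply (h : IsLin H φ) {x : Γ} (hx : x ∈ H) : ‖φ x‖ = 1 := by
  have := h.mul_conj hx
  rw [Complex.mul_conj'] at this
  have h1 : ‖φ x‖ ^ 2 = 1 := by exact_mod_cast this
  exact (sq_eq_sq₀ (by positivity) (by positivity)).mp (by rw [h1, one_pow])

theorem IsLin.pow_orderOf (h : IsLin H φ) {x : Γ} (hx : x ∈ H) : φ x ^ orderOf x = 1 := by
  rw [← h.apply_pow hx, pow_orderOf_eq_one, h.2]

theorem IsLin.mul_conjC (h : IsLin H φ) : φ * conjC φ = cfOne H :=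
  ext_on (mul_mem_cfOn_left h.char.cfOn _) (cfOne_mem_CF H).1 fun x hx => by
    rw [cfOne_of_mem hx]; exact h.mul_conj hx

theorem IsLin.mem_cfker (h : IsLin H φ) {x : Γ} : x ∈ cfker H φ ↔ x ∈ H ∧ φ x = 1 := by
  rw [h.char.mem_cfker, h.2]

theorem isLin_of_mul (h0 : ∀ x, x ∉ H → φ x = 0) (h1 : φ 1 = 1)
    (hm : ∀ x ∈ H, ∀ y ∈ H, φ (x * y) = φ x * φ y) : IsLin H φ := by
  let f : H →* ℂ := ⟨⟨fun x => φ x, h1⟩, fun x y => hm x x.2 y y.2⟩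
  exact ⟨mem_Irr.mpr ⟨isIrrCharacter_monoidHom f, h0⟩, h1⟩

theorem isLin_ext0 (ω : H →* ℂˣ) : IsLin H (extendByZero H (fun x => (ω x : ℂ))) :=
  ⟨ext0_mem_Irr.mpr (isIrrCharacter_linear ω), by rw [ext0_of_mem _ H.one_mem]; exact
    (congrArg Units.val (map_one ω))⟩

theorem IsLin.exists_hom (h : IsLin H φ) :
    ∃ ω : H →* ℂˣ, φ = extendByZero H (fun x => (ω x : ℂ)) := by
  obtain ⟨ω, hω⟩ := h.char.1.exists_linear h.2
  exact ⟨ω, by rw [← hω, ext0_res, cfRes_eq_self h.char.cfOn]⟩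

theorem isLin_cfOne (H : Subgroup Γ) : IsLin H (cfOne H) := ⟨cfOne_mem_Irr H, by simp⟩

theorem IsLin.mul (h : IsLin H φ) (h' : IsLin H ψ) : IsLin H (φ * ψ) :=
  (h.char.mul h'.char).isLin (by simp [h.2, h'.2])

theorem IsLin.aut (h : IsLin H φ) (u : ℂ →+* ℂ) : IsLin H (cfAut u φ) :=
  ⟨irr_aut h.1 u, by simp [h.2]⟩

theorem IsLin.conjC (h : IsLin H φ) : IsLin H (conjC φ) := h.aut _

theorem IsLin.conj (h : IsLin H φ) {g : Γ} (hg : g ∈ N[H]) : IsLin H (cfConj g φ) :=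
  ⟨irr_conj h.1 hg, by simp [h.2]⟩

theorem IsLin.res (h : IsLin G φ) (hHG : H ≤ G) : IsLin H (cfRes H φ) :=
  (h.char.res hHG).isLin (by simp [h.2])

theorem IsLin.pow (h : IsLin H φ) {n : ℕ} (hn : n ≠ 0) : IsLin H (φ ^ n) := by
  induction n with
  | zero => exact absurd rfl hn
  | succ n ih =>
    rcases eq_or_ne n 0 with rfl | h0
    · simpa using h
    · rw [pow_succ]; exact (ih h0).mul h

theorem IsLin.cfdot_mul (h : IsLin H θ) (φ ψ : Γ → ℂ) :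
    cfdot H (φ * θ) (ψ * θ) = cfdot H φ ψ := by
  rw [cfdot_mul_left, mul_assoc, h.mul_conjC]
  exact cfdot_congr (fun _ _ => rfl) fun x hx => by simp [cfOne_of_mem hx]

theorem irr_mul_lin (hχ : χ ∈ Irr H) (h : IsLin H θ) : χ * θ ∈ Irr H :=
  irr_of_dot_one ((irr_char hχ).mul h.char) (by rw [h.cfdot_mul, irr_dot_self hχ])

theorem IsLin.mul_cancel (h : IsLin H θ) (hφ : φ ∈ cfOn (H : Set Γ)) (hψ : ψ ∈ cfOn (H : Set Γ))
    (he : φ * θ = ψ * θ) : φ = ψ :=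
  ext_on hφ hψ fun x hx => mul_right_cancel₀ (h.apply_ne_zero hx) (congrFun he x)

theorem IsLin.der_le_cfker (h : IsLin H φ) : ⁅H, H⁆ ≤ cfker H φ := by
  rw [Subgroup.commutator_le]
  intro x hx y hy
  rw [h.mem_cfker, commutatorElement_def]
  refine ⟨by apply_rules [H.mul_mem, H.inv_mem], ?_⟩
  rw [h.apply_mul (by apply_rules [H.mul_mem, H.inv_mem]) (H.inv_mem hy),
    h.apply_mul (H.mul_mem hx hy) (H.inv_mem hx), h.apply_mul hx hy]
  linear_combination (φ y * φ y⁻¹) * h.mul_inv hx + h.mul_inv hy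

theorem irr_lin_of_der_le (hχ : χ ∈ Irr H) (h : ⁅H, H⁆ ≤ cfker H χ) : IsLin H χ := by
  have h1 := irr_deg_sq_le hχ le_rfl fun z hz x hx =>
    h (Subgroup.commutator_mem_commutator hx hz)
  rw [Subgroup.relIndex_self] at h1
  have := irr_deg_pos hχ
  exact (irr_char hχ).isLin_of_deg (by nlinarith)

theorem irr_lin_of_abl (hH : Abl H) (hχ : χ ∈ Irr H) : IsLin H χ :=
  ⟨hχ, (mem_Irr.mp hχ).1.apply_one_of_comm fun a b => hH.is_comm.comm a b⟩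

theorem irrK_lin (hK : ⁅H, H⁆ ≤ K) (hχ : χ ∈ irrK H K) : IsLin H χ :=
  irr_lin_of_der_le (mem_irrK.mp hχ).1 (hK.trans (mem_irrK.mp hχ).2)

theorem card_irrK_of_der_le (hK : ⁅H, H⁆ ≤ K) (hKH : K ≤ H) : (irrK H K).card = K.relIndex H := by
  rw [← sum_irrK_deg_sq (nml_of_der1_le hK hKH),
    Finset.sum_congr rfl (fun χ hχ => by rw [(irrK_lin hK hχ).deg, one_pow])]
  simp

theorem card_Irr_of_abl (hH : Abl H) : (Irr H).card = Nat.card H := by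
  rw [← sum_Irr_deg_sq, Finset.sum_congr rfl
    (fun χ hχ => by rw [(irr_lin_of_abl hH hχ).deg, one_pow])]
  simp

open scoped Classical in
theorem sum_irrK_apply_of_der_le (hK : ⁅H, H⁆ ≤ K) (hKH : K ≤ H) (x : Γ) :
    ∑ χ ∈ irrK H K, χ x = if x ∈ K then (K.relIndex H : ℂ) else 0 := by
  rw [← sum_irrK_deg_mul (nml_of_der1_le hK hKH)]
  exact Finset.sum_congr rfl fun χ hχ => by rw [(irrK_lin hK hχ).2, one_mul]

theorem mul_mem_irrK_lin (hχ : χ ∈ irrK H K) (hθ : θ ∈ irrK H K) (hl : IsLin H θ) :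
    χ * θ ∈ irrK H K :=
  mem_irrK.mpr ⟨irr_mul_lin (mem_irrK.mp hχ).1 hl,
    (le_inf (mem_irrK.mp hχ).2 (mem_irrK.mp hθ).2).trans (cfker_mul_le H χ θ)⟩

theorem aut_mem_irrK (hχ : χ ∈ irrK H K) (u : ℂ →+* ℂ) : cfAut u χ ∈ irrK H K :=
  mem_irrK.mpr ⟨irr_aut (mem_irrK.mp hχ).1 u, by rw [cfker_cfAut]; exact (mem_irrK.mp hχ).2⟩

theorem aut_mem_irrKD {M : Subgroup Γ} (hχ : χ ∈ irrKD K H M) (u : ℂ →+* ℂ) :
    cfAut u χ ∈ irrKD K H M := by
  rw [mem_irrKD] at hχ ⊢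
  rw [cfker_cfAut]; exact ⟨irr_aut hχ.1 u, hχ.2⟩

/-- restriction of an irreducible character to a subgroup that is central modulo the kernel. -/
theorem irr_res_central {Z : Subgroup Γ} (hχ : χ ∈ Irr H) (hZ : Z ≤ H)
    (hc : ∀ z ∈ Z, ∀ x ∈ H, x * z * x⁻¹ * z⁻¹ ∈ cfker H χ) :
    ∃ lam, IsLin Z lam ∧ cfRes Z χ = χ 1 • lam ∧ ∀ z ∈ Z, ∀ y, χ (z * y) = lam z * χ y := by
  have h1 := irr_one_ne_zero hχ
  refine ⟨(χ 1)⁻¹ • cfRes Z χ, isLin_of_mul (Submodule.smul_mem _ _ (cfRes_mem_cfOn _ _))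
    (by simp [h1]) fun x hx y hy => ?_, by rw [smul_smul, mul_inv_cancel₀ h1, one_smul],
    fun z hz y => ?_⟩
  · simp only [Pi.smul_apply, smul_eq_mul, cfRes_of_mem _ hx, cfRes_of_mem _ hy,
      cfRes_of_mem _ (Z.mul_mem hx hy)]
    have := irr_mul_of_central hχ (hZ hx) (hc x hx) y
    field_simp
    linear_combination this
  · simp only [Pi.smul_apply, smul_eq_mul, cfRes_of_mem _ hz]
    have := irr_mul_of_central hχ (hZ hz) (hc z hz) y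
    field_simp
    linear_combination this

/-- every irreducible character of a subgroup lies under an irreducible character of the group. -/
theorem exists_irr_over (hHG : H ≤ G) (hθ : θ ∈ Irr H) : ∃ χ ∈ Irr G, cfdot H θ χ ≠ 0 := by
  have h0 : cfInd G H θ ≠ 0 := fun h => by
    have := congrFun h 1
    rw [cfInd_one hHG] at this
    exact mul_ne_zero (relIndexC_ne_zero H G) (irr_one_ne_zero hθ) this
  obtain ⟨χ, hχ, h⟩ := exists_constt (cfInd_mem_CF G H θ) h0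
  exact ⟨χ, hχ, by rwa [cfdot_cfInd_left hHG θ (irr_CF hχ)] at h⟩

/-- every irreducible character lies over an irreducible character of any subgroup. -/
theorem exists_irr_under (hHG : H ≤ G) (hχ : χ ∈ Irr G) : ∃ θ ∈ Irr H, cfdot H χ θ ≠ 0 := by
  have h0 : cfRes H χ ≠ 0 := fun h => irr_one_ne_zero hχ (by simpa using congrFun h 1)
  obtain ⟨θ, hθ, h⟩ := exists_constt (cfRes_mem_CF hHG (irr_CF hχ)) h0
  exact ⟨θ, hθ, by simpa using h⟩

theorem cfInd_ne_zero (hHG : H ≤ G) (hθ : θ ∈ Irr H) : cfInd G H θ ≠ 0 := fun h => by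
  have := congrFun h 1
  rw [cfInd_one hHG] at this
  exact mul_ne_zero (relIndexC_ne_zero H G) (irr_one_ne_zero hθ) this

/-- a linear character of a subgroup of an abelian group (modulo `K`) extends. -/
theorem exists_lin_extension (hHG : H ≤ G) (hK : ⁅G, G⁆ ≤ K) (hKH : K ≤ H) (hθ : θ ∈ irrK H K) :
    ∃ χ ∈ irrK G K, cfRes H χ = θ := by
  have hKG := nml_of_der1_le hK (hKH.trans hHG)
  obtain ⟨χ, hχ, h⟩ := exists_irr_over hHG (mem_irrK.mp hθ).1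
  have h1 : χ ∈ irrK G K := mem_irrK.mpr ⟨hχ,
    (le_cfker_ind hKG hHG (mem_irrK.mp hθ).2).trans
      (((irr_char (mem_irrK.mp hθ).1).ind hHG).cfker_le_constt hχ
        (by rwa [cfdot_cfInd_left hHG θ (irr_CF hχ)]))⟩
  refine ⟨χ, h1, (irr_eq_of_dot_ne (mem_irrK.mp hθ).1 ((irrK_lin hK h1).res hHG).1 ?_).symm⟩
  simpa using h

end basic

end H27
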