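import Mathlib
import Cfsg.Agent.H27.Char
import Cfsg.Agent.H4.Central

/-!
# Clifford theory in ambient style: Peterfalvi (1.1), (1.2), (1.5)–(1.8)
-/

set_option autoImplicit false
set_option linter.unusedSectionVars false

namespace H27

open Cfsg H24 H4
open scoped ComplexConjugate

universe u v

variable {Γ : Type u} [Group Γ] [Finite Γ]
variable {G H K T : Subgroup Γ} {φ ψ χ θ : Γ → ℂ}

/-! ## conjugacy classes of functions -/

theorem mem_cfclass : ψ ∈ cfclass G φ ↔ ∃ g ∈ G, cfConj g φ = ψ := by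
  classical
  simp [cfclass]

theorem cfConj_mem_cfclass {g : Γ} (hg : g ∈ G) (φ : Γ → ℂ) : cfConj g φ ∈ cfclass G φ :=
  mem_cfclass.mpr ⟨g, hg, rfl⟩

theorem self_mem_cfclass (G : Subgroup Γ) (φ : Γ → ℂ) : φ ∈ cfclass G φ :=
  mem_cfclass.mpr ⟨1, G.one_mem, cfConj_one φ⟩

theorem cfclass_symm (h : ψ ∈ cfclass G φ) : φ ∈ cfclass G ψ := by
  obtain ⟨g, hg, rfl⟩ := mem_cfclass.mp h
  exact mem_cfclass.mpr ⟨g⁻¹, G.inv_mem hg, by simp⟩

theorem cfclass_trans (h : ψ ∈ cfclass G φ) (h' : χ ∈ cfclass G ψ) : χ ∈ cfclass G φ := by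
  obtain ⟨g, hg, rfl⟩ := mem_cfclass.mp h
  obtain ⟨k, hk, rfl⟩ := mem_cfclass.mp h'
  exact mem_cfclass.mpr ⟨g * k, G.mul_mem hg hk, cfConj_mul g k φ⟩

theorem cfclass_eq (h : ψ ∈ cfclass G φ) : cfclass G ψ = cfclass G φ :=
  Finset.ext fun _ => ⟨cfclass_trans h, cfclass_trans (cfclass_symm h)⟩

theorem cfclass_apply_one (h : ψ ∈ cfclass G φ) : ψ 1 = φ 1 := by
  obtain ⟨g, -, rfl⟩ := mem_cfclass.mp h; simp

theorem cfclass_irr (hG : G ≤ N[H]) (hθ : θ ∈ Irr H) (h : ψ ∈ cfclass G θ) : ψ ∈ Irr H := by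
  obtain ⟨g, hg, rfl⟩ := mem_cfclass.mp h; exact irr_conj hθ (hG hg)

theorem cfclass_le_cfker (hG : G ≤ N[H]) (hK : G ≤ N[K]) (h : ψ ∈ cfclass G θ) :
    K ≤ cfker H ψ ↔ K ≤ cfker H θ := by
  obtain ⟨g, hg, rfl⟩ := mem_cfclass.mp h; exact le_cfker_cfConj (hG hg) (hK hg)

theorem cfConj_eq_iff {g k : Γ} (hg : g ∈ G) (hk : k ∈ G) :
    cfConj g φ = cfConj k φ ↔ g * k⁻¹ ∈ inertia G φ := by
  rw [mem_inertia, and_iff_right (G.mul_mem hg (G.inv_mem hk)), cfConj_mul]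
  constructor
  · intro h; rw [h]; simp
  · intro h; rw [← cfConj_cfConj_inv k (cfConj g φ), h]

theorem cfclass_of_invariant (h : G ≤ inertia G φ) : cfclass G φ = {φ} := by
  ext ψ
  rw [mem_cfclass, Finset.mem_singleton]
  exact ⟨fun ⟨g, hg, he⟩ => by rw [← he, (h hg).2], fun he => ⟨1, G.one_mem, by rw [he, cfConj_one]⟩⟩

theorem sum_cfConj {M : Type*} [AddCommMonoid M] (G : Subgroup Γ) (φ : Γ → ℂ) (F : (Γ → ℂ) → M) :
    ∑ g ∈ fs (G : Set Γ), F (cfConj g φ) = Nat.card (inertia G φ) • ∑ ψ ∈ cfclass G φ, F ψ := by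
  classical
  rw [Finset.sum_comp F (fun g => cfConj g φ), Finset.smul_sum]
  refine Finset.sum_congr rfl fun ψ hψ => ?_
  obtain ⟨k, hk, rfl⟩ := mem_cfclass.mp hψ
  congr 1
  rw [← card_fs_subgroup]
  refine Finset.card_bij (fun g _ => g * k⁻¹) (fun g hg => ?_) (fun _ _ _ _ h => by simpa using h)
    (fun g hg => ⟨g * k, ?_, by simp⟩)
  · simp only [Finset.mem_filter, mem_fs, SetLike.mem_coe] at hg ⊢
    exact (cfConj_eq_iff hg.1 hk).mp hg.2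
  · simp only [Finset.mem_filter, mem_fs, SetLike.mem_coe] at hg ⊢
    exact ⟨G.mul_mem hg.1 hk, (cfConj_eq_iff (G.mul_mem hg.1 hk) hk).mpr (by simpa using hg)⟩

theorem card_cfclass (G : Subgroup Γ) (φ : Γ → ℂ) :
    (cfclass G φ).card = (inertia G φ).relIndex G := by
  have h := sum_cfConj G φ (fun _ => (1 : ℕ))
  rw [sum_fs_const, ← Finset.card_eq_sum_ones] at h
  simp only [SetLike.coe_sort_coe, smul_eq_mul, mul_one] at h
  rw [card_eq_mul_relIndex (inertia_le G φ)] at h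
  exact (Nat.eq_of_mul_eq_mul_left (Nat.card_pos) h).symm

/-! ## Peterfalvi (1.5) -/

theorem cfRes_cfInd_nml (hH : H ⊴ G) (hφ : φ ∈ cfOn (H : Set Γ)) :
    cfRes H (cfInd G H φ) = (Nat.card H : ℂ)⁻¹ • ∑ g ∈ fs (G : Set Γ), cfConj g φ := by
  refine ext_on (cfRes_mem_cfOn _ _) (Submodule.smul_mem _ _ (Submodule.sum_mem _ fun g hg x hx =>
    hφ _ (by rwa [SetLike.mem_coe, conj_mem_iff (hH.norm (by simpa using hg))]))) fun x hx => ?_
  rw [cfRes_of_mem _ hx, cfInd_nml_apply hH.norm φ (hH.le hx) hx]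
  simp [Finset.sum_apply]

theorem cfInd_nml_eq (hH : H ⊴ G) (hφ : φ ∈ cfOn (H : Set Γ)) :
    cfInd G H φ = (Nat.card H : ℂ)⁻¹ • ∑ g ∈ fs (G : Set Γ), cfConj g φ := by
  rw [← cfRes_cfInd_nml hH hφ, cfRes_eq_self (cfInd_mem_cfOn_nml hH.norm φ)]

/-- (1.5)(a). -/
theorem cfInd_nml_eq_sum_cfclass (hH : H ⊴ G) (hφ : φ ∈ CF H) :
    cfInd G H φ = (H.relIndex (inertia G φ) : ℂ) • ∑ ψ ∈ cfclass G φ, ψ := by
  rw [cfInd_nml_eq hH hφ.1, sum_cfConj G φ (fun ψ => ψ), relIndex_eq_div (le_inertia hH.le hφ),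
    ← Nat.cast_smul_eq_nsmul ℂ, smul_smul, div_eq_inv_mul]

theorem cfdot_sum_cfclass (hG : G ≤ N[H]) (hθ : θ ∈ Irr H) (hψ : ψ ∈ Irr H)
    [Decidable (ψ ∈ cfclass G θ)] :
    cfdot H (∑ φ ∈ cfclass G θ, φ) ψ = if ψ ∈ cfclass G θ then 1 else 0 := by
  classical
  rw [cfdot_sum_left, Finset.sum_congr rfl (fun φ hφ => irr_dot (cfclass_irr hG hθ hφ) hψ),
    Finset.sum_ite_eq']
  congr

theorem cfdot_cfInd_cfInd_nml (hH : H ⊴ G) (hθ : θ ∈ Irr H) (hψ : ψ ∈ Irr H)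
    [Decidable (ψ ∈ cfclass G θ)] :
    cfdot G (cfInd G H θ) (cfInd G H ψ) =
      if ψ ∈ cfclass G θ then (H.relIndex (inertia G θ) : ℂ) else 0 := by
  rw [cfdot_cfInd_right hH.le (cfInd_mem_CF _ _ _), cfInd_nml_eq_sum_cfclass hH (irr_CF hθ),
    cfdot_smul_left, cfdot_sum_cfclass hH.norm hθ hψ]
  split_ifs <;> simp

/-- (1.5)(b). -/
theorem cfnorm_cfInd_irr (hH : H ⊴ G) (hθ : θ ∈ Irr H) :
    cfnorm G (cfInd G H θ) = H.relIndex (inertia G θ) := by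
  classical
  refine cfnorm_eq_of_cfdot ?_
  rw [cfdot_cfInd_cfInd_nml hH hθ hθ, if_pos (self_mem_cfclass G θ)]; simp

theorem inertia_ind_irr (hH : H ⊴ G) (hθ : θ ∈ Irr H) (h : inertia G θ ≤ H) :
    cfInd G H θ ∈ Irr G :=
  irr_of_norm_one ((irr_char hθ).ind hH.le) (by
    rw [cfnorm_cfInd_irr hH hθ, Subgroup.relIndex_eq_one.mpr h, Nat.cast_one])

theorem ind_irr_iff (hH : H ⊴ G) (hθ : θ ∈ Irr H) : cfInd G H θ ∈ Irr G ↔ inertia G θ ≤ H := by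
  refine ⟨fun h => ?_, inertia_ind_irr hH hθ⟩
  have := irr_norm h
  rw [cfnorm_cfInd_irr hH hθ] at this
  exact Subgroup.relIndex_eq_one.mp (by exact_mod_cast this)

/-- (1.5)(c). -/
theorem cfInd_eq_of_cfclass (hG : G ≤ N[H]) (h : ψ ∈ cfclass G θ) :
    cfInd G H ψ = cfInd G H θ := by
  obtain ⟨g, hg, rfl⟩ := mem_cfclass.mp h; exact cfInd_cfConj hg (hG hg) θ

theorem cfInd_orth_of_not_cfclass (hH : H ⊴ G) (hθ : θ ∈ Irr H) (hψ : ψ ∈ Irr H)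
    (h : ψ ∉ cfclass G θ) : cfdot G (cfInd G H θ) (cfInd G H ψ) = 0 := by
  classical
  rw [cfdot_cfInd_cfInd_nml hH hθ hψ, if_neg h]

theorem cfInd_eq_iff_cfclass (hH : H ⊴ G) (hθ : θ ∈ Irr H) (hψ : ψ ∈ Irr H) :
    cfInd G H ψ = cfInd G H θ ↔ ψ ∈ cfclass G θ := by
  refine ⟨fun h => ?_, cfInd_eq_of_cfclass hH.norm⟩
  by_contra hc
  have := cfInd_orth_of_not_cfclass hH hθ hψ hc
  rw [h, cfdot_self_eq_zero (cfInd_mem_CF _ _ _).1] at this
  exact cfInd_ne_zero hH.le hθ this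

theorem cfInd_orth_of_ne (hH : H ⊴ G) (hθ : θ ∈ Irr H) (hψ : ψ ∈ Irr H)
    (h : cfInd G H θ ≠ cfInd G H ψ) : cfdot G (cfInd G H θ) (cfInd G H ψ) = 0 :=
  cfInd_orth_of_not_cfclass hH hθ hψ fun hc => h (cfInd_eq_of_cfclass hH.norm hc).symm

/-- (1.5)(d). -/
theorem scaled_cfInd_sum_cfclass (hH : H ⊴ G) (hθ : θ ∈ Irr H) :
    (cfInd G H θ 1 / cfnorm G (cfInd G H θ)) • cfInd G H θ =
      (H.relIndex G : ℂ) • ∑ ψ ∈ cfclass G θ, ψ 1 • ψ := by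
  have h0 : ∑ ψ ∈ cfclass G θ, ψ 1 • ψ = θ 1 • ∑ ψ ∈ cfclass G θ, ψ := by
    rw [Finset.smul_sum]
    exact Finset.sum_congr rfl (fun ψ hψ => by rw [cfclass_apply_one hψ])
  rw [h0, cfnorm_cfInd_irr hH hθ, cfInd_one hH.le, cfInd_nml_eq_sum_cfclass hH (irr_CF hθ),
    smul_smul, smul_smul]
  congr 1
  have := relIndexC_ne_zero H (inertia G θ)
  push_cast
  field_simp

/-- sums over a conjugation-invariant set of irreducible characters of a normal subgroup, grouped by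
the induced character. -/
theorem sum_image_cfInd {M : Type*} [AddCommMonoid M] [DecidableEq (Γ → ℂ)] (hH : H ⊴ G)
    {X : Finset (Γ → ℂ)} (hX : X ⊆ Irr H) (hc : ∀ θ ∈ X, ∀ g ∈ G, cfConj g θ ∈ X)
    (F : (Γ → ℂ) → M) (f : (Γ → ℂ) → M)
    (hF : ∀ θ ∈ X, F (cfInd G H θ) = ∑ ψ ∈ cfclass G θ, f ψ) :
    ∑ φ ∈ X.image (cfInd G H), F φ = ∑ θ ∈ X, f θ := by
  rw [← Finset.sum_fiberwise_of_maps_to (s := X) (t := X.image (cfInd G H)) (g := cfInd G H)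
    (fun θ hθ => Finset.mem_image_of_mem _ hθ)]
  refine Finset.sum_congr rfl fun φ hφ => ?_
  obtain ⟨θ, hθ, rfl⟩ := Finset.mem_image.mp hφ
  rw [hF θ hθ]
  refine Finset.sum_congr ?_ fun _ _ => rfl
  ext ψ
  rw [Finset.mem_filter]
  constructor
  · intro h
    obtain ⟨g, hg, rfl⟩ := mem_cfclass.mp h
    exact ⟨hc θ hθ g hg, cfInd_cfConj hg (hH.norm hg) θ⟩
  · intro h
    exact (cfInd_eq_iff_cfclass hH (hX hθ) (hX h.1)).mp h.2

/-- MathComp `card_imset_Ind_irr`. -/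
theorem card_image_cfInd_irr [DecidableEq (Γ → ℂ)] (hH : H ⊴ G) {X : Finset (Γ → ℂ)}
    (hX : X ⊆ Irr H) (hc : ∀ θ ∈ X, ∀ g ∈ G, cfConj g θ ∈ X)
    (hi : ∀ θ ∈ X, cfInd G H θ ∈ Irr G) : X.card = H.relIndex G * (X.image (cfInd G H)).card := by
  have := sum_image_cfInd hH hX hc (fun _ => H.relIndex G) (fun _ => 1) fun θ hθ => by
    rw [← Finset.card_eq_sum_ones, card_cfclass,
      le_antisymm ((ind_irr_iff hH (hX hθ)).mp (hi θ hθ)) (le_inertia hH.le (irr_CF (hX hθ)))]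
  rw [← Finset.card_eq_sum_ones, Finset.sum_const, smul_eq_mul] at this
  rw [← this, mul_comm]

/-! ## Clifford's theorem -/

theorem cfdot_cfConj_right (hH : H ⊴ G) (hχ : χ ∈ CF G) {g : Γ} (hg : g ∈ G) (θ : Γ → ℂ) :
    cfdot H χ (cfConj g θ) = cfdot H χ θ := by
  rw [← cfdot_cfConj (hH.norm hg) χ θ, cfConj_CF hχ hg]

theorem cfdot_cfclass (hH : H ⊴ G) (hχ : χ ∈ CF G) (h : ψ ∈ cfclass G θ) :
    cfdot H χ ψ = cfdot H χ θ := by
  obtain ⟨g, hg, rfl⟩ := mem_cfclass.mp h; exact cfdot_cfConj_right hH hχ hg θ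

theorem char_dot_ne_zero_of_constt (hφ : IsChar G φ) (hψ : IsChar G ψ) (hχ : χ ∈ Irr G)
    (h1 : cfdot G φ χ ≠ 0) (h2 : cfdot G ψ χ ≠ 0) : cfdot G φ ψ ≠ 0 := by
  have := (irr_char hχ).dot_ne_zero_add (hφ.sub_irr hχ h1) hψ (fun h => h2 (cfdot_symm_zero h))
  rwa [add_sub_cancel] at this

theorem clifford_cfclass (hH : H ⊴ G) (hχ : χ ∈ Irr G) (hθ : θ ∈ Irr H) (hψ : ψ ∈ Irr H)
    (h1 : cfdot H χ θ ≠ 0) (h2 : cfdot H χ ψ ≠ 0) : ψ ∈ cfclass G θ := by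
  by_contra hc
  refine char_dot_ne_zero_of_constt ((irr_char hθ).ind hH.le) ((irr_char hψ).ind hH.le) hχ ?_ ?_
    (cfInd_orth_of_not_cfclass hH hθ hψ hc)
  · rw [cfdot_cfInd_left hH.le _ (irr_CF hχ)]; exact fun h => h1 (cfdot_symm_zero h)
  · rw [cfdot_cfInd_left hH.le _ (irr_CF hχ)]; exact fun h => h2 (cfdot_symm_zero h)

theorem clifford_res (hH : H ⊴ G) (hχ : χ ∈ Irr G) (hθ : θ ∈ Irr H) (h1 : cfdot H χ θ ≠ 0) :
    cfRes H χ = cfdot H χ θ • ∑ ψ ∈ cfclass G θ, ψ := by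
  classical
  refine CF_ext_dot (cfRes_mem_CF hH.le (irr_CF hχ)) (Submodule.smul_mem _ _
    (Submodule.sum_mem _ fun ψ hψ => irr_CF (cfclass_irr hH.norm hθ hψ))) fun ψ hψ => ?_
  rw [cfdot_smul_left, cfdot_sum_cfclass hH.norm hθ hψ, cfdot_cfRes_left]
  split_ifs with h
  · rw [cfdot_cfclass hH (irr_CF hχ) h, mul_one]
  · rw [mul_zero]; by_contra hc; exact h (clifford_cfclass hH hχ hθ hψ h1 hc)

theorem clifford_one (hH : H ⊴ G) (hχ : χ ∈ Irr G) (hθ : θ ∈ Irr H) (h1 : cfdot H χ θ ≠ 0) :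
    χ 1 = cfdot H χ θ * (inertia G θ).relIndex G * θ 1 := by
  have := congrFun (clifford_res hH hχ hθ h1) 1
  rw [cfRes_apply_one, Pi.smul_apply, Finset.sum_apply,
    Finset.sum_congr rfl (fun ψ hψ => cfclass_apply_one hψ), Finset.sum_const, card_cfclass] at this
  rw [this]; simp [mul_assoc]

theorem clifford_deg (hH : H ⊴ G) (hχ : χ ∈ Irr G) (hθ : θ ∈ Irr H) {e : ℕ} (he : e ≠ 0)
    (h1 : cfdot H χ θ = e) : deg χ = e * (inertia G θ).relIndex G * deg θ :=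
  deg_eq_of (by
    rw [clifford_one hH hχ hθ (by rw [h1]; exact_mod_cast he), h1, irr_one_eq hθ]; push_cast; rfl)

theorem clifford_res_invariant (hH : H ⊴ G) (hχ : χ ∈ Irr G) (hθ : θ ∈ Irr H)
    (hI : G ≤ inertia G θ) (h1 : cfdot H χ θ ≠ 0) : cfRes H χ = cfdot H χ θ • θ := by
  rw [clifford_res hH hχ hθ h1, cfclass_of_invariant hI, Finset.sum_singleton]

theorem le_inertia_res (hH : H ⊴ G) (hχ : χ ∈ CF G) : G ≤ inertia G (cfRes H χ) := fun _ hg =>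
  ⟨hg, by rw [cfConj_cfRes (hH.norm hg), cfConj_CF hχ hg]⟩

theorem inertia_inertia (G : Subgroup Γ) (θ : Γ → ℂ) :
    inertia G θ ≤ inertia (inertia G θ) θ := fun _ hg => ⟨hg, hg.2⟩

theorem inertia_eq_inf (hT : T ≤ G) (θ : Γ → ℂ) : inertia T θ = T ⊓ inertia G θ := by
  ext g; simp only [mem_inertia, Subgroup.mem_inf]
  exact ⟨fun h => ⟨h.1, hT h.1, h.2⟩, fun h => ⟨h.1, h.2.2⟩⟩

theorem nml_inertia (hH : H ⊴ G) (hθ : θ ∈ CF H) : H ⊴ inertia G θ :=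
  hH.of_le (le_inertia hH.le hθ) (inertia_le G θ)

theorem inertia_cfAut (u : ℂ →+* ℂ) (G : Subgroup Γ) (θ : Γ → ℂ) :
    inertia G (cfAut u θ) = inertia G θ := by
  ext g; simp only [mem_inertia, ← cfAut_cfConj, (cfAut_injective u).eq_iff]

/-- a constituent of the restriction to a normal subgroup has the same normal subgroups in its
kernel. -/
theorem le_cfker_constt_res_iff (hH : H ⊴ G) (hK : K ⊴ G) (hKH : K ≤ H) (hχ : χ ∈ Irr G)
    (hθ : θ ∈ Irr H) (h1 : cfdot H χ θ ≠ 0) : K ≤ cfker H θ ↔ K ≤ cfker G χ := by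
  constructor
  · intro h
    refine (le_cfker_ind hK hH.le h).trans (((irr_char hθ).ind hH.le).cfker_le_constt hχ ?_)
    rw [cfdot_cfInd_left hH.le _ (irr_CF hχ)]; exact fun h0 => h1 (cfdot_symm_zero h0)
  · intro h
    exact (le_cfker_cfRes h hKH).trans
      (((irr_char hχ).res hH.le).cfker_le_constt hθ (by simpa using h1))

/-! ## Peterfalvi (1.6) -/

theorem cfdot_res_ind_ne_zero (hHG : H ≤ G) (hθ : θ ∈ Irr H) : cfdot H (cfInd G H θ) θ ≠ 0 := by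
  rw [← cfdot_cfInd_right hHG (cfInd_mem_CF _ _ _), Ne, cfdot_self_eq_zero (cfInd_mem_CF _ _ _).1]
  exact cfInd_ne_zero hHG hθ

theorem cfker_ind_le (hHG : H ≤ G) (hθ : θ ∈ Irr H) : cfker G (cfInd G H θ) ≤ cfker H θ := by
  intro x hx
  have hxH : x ∈ H := by
    by_contra hxH
    have h1 := cfker_apply hx
    have hc := (irr_char hθ)
    have h2 : ‖cfInd G H θ x‖ < deg (cfInd G H θ) := by
      rw [cfInd_of_mem H θ hx.1, hc.deg_ind hHG, norm_mul, norm_inv, Complex.norm_natCast,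
        inv_mul_lt_iff₀ (cardR_pos H)]
      have h3 : (Nat.card H : ℝ) * ((H.relIndex G * deg θ : ℕ) : ℝ) =
          ∑ _g ∈ fs (G : Set Γ), (deg θ : ℝ) := by
        rw [sum_fs_const]; simp [card_eq_mul_relIndex hHG, mul_assoc]
      rw [h3]
      refine (norm_sum_le _ _).trans_lt (Finset.sum_lt_sum (fun g _ => ?_) ⟨1, by simp, ?_⟩)
      · rw [cfRes_CF hc.CF]; exact hc.norm_le _
      · rw [cfRes_of_not_mem _ (by simpa using hxH), norm_zero]; exact_mod_cast irr_deg_pos hθ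
    rw [h1, (hc.ind hHG).one_eq, Complex.norm_natCast] at h2
    exact lt_irrefl _ h2
  exact (((irr_char hθ).ind hHG).res hHG).cfker_le_constt hθ
    (by simpa using cfdot_res_ind_ne_zero hHG hθ) (mem_cfker_cfRes hx hxH)

/-- (1.6)(a). -/
theorem le_cfker_ind_iff (hK : K ⊴ G) (hHG : H ≤ G) (hθ : θ ∈ Irr H) :
    K ≤ cfker G (cfInd G H θ) ↔ K ≤ cfker H θ :=
  ⟨fun h => h.trans (cfker_ind_le hHG hθ), le_cfker_ind hK hHG⟩

/-! ## Peterfalvi (1.1), (1.2), (1.5)(e) -/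

/-- (1.1). -/
theorem odd_conjC_eq_iff (hodd : Odd (Nat.card G)) (hχ : χ ∈ Irr G) :
    conjC χ = χ ↔ χ = cfOne G := by
  refine ⟨fun h => ?_, fun h => by rw [h, conjC, cfAut_cfOne]⟩
  by_contra hne
  have h0 := irr_dot_ne hχ (cfOne_mem_Irr G) hne
  have hinv : ∀ x, χ x⁻¹ = χ x := fun x => by
    rw [vchar_apply_inv (irr_vchar hχ)]; exact congrFun h x
  have h1 : ∑ x ∈ fs (G : Set Γ), χ x = 0 := by
    rw [cfdot, mul_eq_zero, or_iff_right (inv_ne_zero (cardC_ne_zero G)),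
      sum_fs_congr (g := fun x => χ x) (fun x hx => by simp [cfOne_of_mem hx])] at h0
    exact h0
  have hne' : ∀ x ∈ G, x ≠ 1 → x⁻¹ ≠ x := fun x hx h1 h2 => by
    have h3 : x ^ 2 = 1 := by rw [sq]; nth_rewrite 1 [← h2]; simp
    have h4 : orderOf x ∣ 2 := orderOf_dvd_of_pow_eq_one h3
    have h5 := orderOf_dvd_card' hx
    rcases (Nat.dvd_prime Nat.prime_two).mp h4 with h6 | h6
    · exact h1 (orderOf_eq_one_iff.mp h6)
    · rw [h6] at h5; exact (Nat.not_even_iff_odd.mpr hodd) (even_iff_two_dvd.mpr h5)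
  -- the sum over `G \ {1}` is twice an algebraic integer
  have key : ∀ (s : Finset Γ), (∀ x ∈ s, x ∈ G ∧ x ≠ 1) → (∀ x ∈ s, x⁻¹ ∈ s) →
      ∃ a : ℂ, IsIntegral ℤ a ∧ ∑ x ∈ s, χ x = 2 * a := by
    classical
    intro s
    induction s using Finset.strongInduction with
    | H s ih =>
      intro hs hs'
      rcases s.eq_empty_or_nonempty with rfl | ⟨x, hx⟩
      · exact ⟨0, isIntegral_zero, by simp⟩
      · have hxx := hne' x (hs x hx).1 (hs x hx).2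
        have hm : x⁻¹ ∈ s.erase x := Finset.mem_erase.mpr ⟨hxx, hs' x hx⟩
        obtain ⟨a, ha, h2⟩ := ih ((s.erase x).erase x⁻¹)
          ((Finset.erase_ssubset hm).trans (Finset.erase_ssubset hx))
          (fun y hy => hs y (Finset.mem_of_mem_erase (Finset.mem_of_mem_erase hy)))
          (fun y hy => by
            simp only [Finset.mem_erase] at hy ⊢
            exact ⟨fun h => hy.2.1 (inv_injective h), fun h => hy.1 (by rw [← h, inv_inv]),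
              hs' y hy.2.2⟩)
        refine ⟨a + χ x, ha.add (vchar_isIntegral (irr_vchar hχ) x), ?_⟩
        rw [← Finset.sum_erase_add _ _ hx, ← Finset.sum_erase_add _ _ hm, h2, hinv]; ring
  obtain ⟨a, ha, h2⟩ := key (fs ((G : Set Γ) \ {1})) (fun x hx => by simpa using hx)
    (fun x hx => by simpa using hx)
  rw [sum_fs_diff (B := {1}) (by simp), h2, sum_fs_singleton, irr_one_eq hχ] at h1
  have h3 : IsIntegral ℤ (((deg χ : ℕ) : ℂ) / (2 : ℕ)) := by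
    have : ((deg χ : ℕ) : ℂ) / (2 : ℕ) = -a := by push_cast; linear_combination h1 / 2
    rw [this]; exact ha.neg
  have h4 := nat_dvd_of_isIntegral_div (by norm_num) h3
  have h5 : deg χ ∣ Nat.card G := (mem_Irr.mp hχ).1.degree_dvd_card (irr_one_eq hχ)
  exact (Nat.not_even_iff_odd.mpr hodd) (even_iff_two_dvd.mpr (h4.trans h5))

theorem odd_conjC_ne (hodd : Odd (Nat.card G)) (hχ : χ ∈ Irr G) (h1 : χ ≠ cfOne G) :
    conjC χ ≠ χ := fun h => h1 ((odd_conjC_eq_iff hodd hχ).mp h)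

theorem odd_irr_dot_conjC (hodd : Odd (Nat.card G)) (hχ : χ ∈ Irr G) (h1 : χ ≠ cfOne G) :
    cfdot G χ (conjC χ) = 0 := irr_dot_ne hχ (irr_conjC hχ) (odd_conjC_ne hodd hχ h1).symm

theorem odd_dirr_dot_conjC (hodd : Odd (Nat.card G)) (hχ : IsDirr G χ)
    (h1 : cfdot G χ (cfOne G) = 0) : cfdot G χ (conjC χ) = 0 := by
  obtain ⟨ε, ψ, -, hψ, rfl⟩ := hχ.exists_sign
  have h2 : ψ ≠ cfOne G := by
    rintro rfl
    exact hχ.one_ne_zero (by simpa using h1)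
  rw [conjC, cfAut_smul, cfdot_smul_left, cfdot_smul_right, odd_irr_dot_conjC hodd hψ h2]; simp

theorem irr_deg_dvd_card (hχ : χ ∈ Irr G) : deg χ ∣ Nat.card G :=
  (mem_Irr.mp hχ).1.degree_dvd_card (irr_one_eq hχ)

theorem irr_deg_odd (hodd : Odd (Nat.card G)) (hχ : χ ∈ Irr G) : Odd (deg χ) :=
  hodd.of_dvd_nat (irr_deg_dvd_card hχ)

theorem irr_deg_dvd_index_central {Z : Subgroup Γ} (hχ : χ ∈ Irr G) (hZ : Z ≤ G)
    (hc : ∀ z ∈ Z, ∀ x ∈ G, x * z * x⁻¹ * z⁻¹ ∈ cfker G χ) : deg χ ∣ Z.relIndex G :=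
  (mem_Irr.mp hχ).1.degree_dvd_index (Z.subgroupOf G) (fun z hz => by
    rw [irr_norm_of_central hχ z.2 (hc z hz)]; exact (irr_char hχ).one_re.symm) (irr_one_eq hχ)

/-- (1.5)(e). -/
theorem odd_induced_orthogonal (hH : H ⊴ G) (hodd : Odd (Nat.card G)) (hθ : θ ∈ Irr H)
    (h1 : θ ≠ cfOne H) : cfdot G (cfInd G H θ) (conjC (cfInd G H θ)) = 0 := by
  rw [conjC, cfAut_cfInd]
  refine cfInd_orth_of_not_cfclass hH hθ (irr_conjC hθ) fun hc => ?_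
  obtain ⟨g, hg, he⟩ := mem_cfclass.mp hc
  have h2 : g * g ∈ inertia G θ := ⟨G.mul_mem hg hg, by
    rw [cfConj_mul, he, ← cfAut_cfConj, he]; exact conjC_conjC θ⟩
  have h3 : g ∈ inertia G θ := by
    obtain ⟨k, hk⟩ := hodd.of_dvd_nat (orderOf_dvd_card' hg)
    have : g = (g * g) ^ (k + 1) := by
      rw [← sq, ← pow_mul, show 2 * (k + 1) = orderOf g + 1 by omega, pow_succ, pow_orderOf_eq_one,
        one_mul]
    rw [this]; exact Subgroup.pow_mem _ h2 _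
  exact odd_conjC_ne (odd_of_le hodd hH.le) hθ h1 (he.symm.trans h3.2)

/-- averaging an irreducible character over a coset of a normal subgroup. -/
theorem sum_coset_irr (hH : H ⊴ G) (hχ : χ ∈ Irr G) (hk : ¬ H ≤ cfker G χ) (g : Γ) :
    ∑ h ∈ fs (H : Set Γ), χ (g * h) = 0 := by
  classical
  set ψ : Γ → ℂ := cfRes G (fun x => ∑ h ∈ fs (H : Set Γ), χ (x * h)) with hψ
  have hψG : ψ ∈ CF G := cfRes_mem_CF_of fun k hk x _ => by
    rw [← sum_fs_conj (hH.norm hk) (fun h => χ (k * x * k⁻¹ * h))]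
    refine Finset.sum_congr rfl fun h _ => ?_
    rw [← CF_conj (irr_CF hχ) hk (x * h)]; congr 1; group
  have hdot : ∀ η ∈ Irr G, cfdot G ψ η = 0 := fun η hη => by
    have h1 : ∀ h ∈ H, ∑ x ∈ fs (G : Set Γ), χ (x * h) * conj (η x) =
        if χ = η then (Nat.card G : ℂ) / χ 1 * χ h else 0 := fun h hh => by
      have := Fintype.ofFinite G
      have h2 := (mem_Irr.mp hχ).1.sum_conj_mul_mul (mem_Irr.mp hη).1 ⟨h, hH.le hh⟩
      rw [sum_fs_eq_subtype (G : Set Γ), Finset.sum_congr rfl (fun x _ => mul_comm _ _)]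
      refine h2.trans ?_
      have : ((fun x : G => χ x) = fun x : G => η x) ↔ χ = η :=
        ⟨eq_of_res_eq (irr_cfOn hχ) (irr_cfOn hη), fun h => by rw [h]⟩
      simp only [this]; rfl
    rw [hψ, cfdot_cfRes_left, cfdot]
    simp only [Finset.sum_mul]
    rw [Finset.sum_comm, sum_fs_congr h1]
    split_ifs with he
    · have h3 : cfdot H χ (cfOne H) = 0 := by rw [cfdot_cfOne_nml hH hχ, if_neg hk]
      rw [cfdot, mul_eq_zero, or_iff_right (inv_ne_zero (cardC_ne_zero H)),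
        sum_fs_congr (g := fun x => χ x) (fun x hx => by simp [cfOne_of_mem hx])] at h3
      rw [← Finset.mul_sum, h3]; simp
    · simp
  by_cases hg : g ∈ G
  · have := congrFun (CF_eq_zero_of_dot hψG hdot) g
    rwa [hψ, cfRes_of_mem _ hg] at this
  · exact Finset.sum_eq_zero fun h hh => irr_cfOn hχ _ (by
      rwa [SetLike.mem_coe, G.mul_mem_cancel_right (hH.le (by simpa using hh))])

/-- (1.2). -/
theorem irr_reg_off_ker_0 (hH : H ⊴ G) (hχ : χ ∈ Irr G) (hk : ¬ H ≤ cfker G χ) {g : Γ}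
    (hg : g ∈ G) (hC : H ⊓ C{g} = ⊥) : χ g = 0 := by
  have h1 := sum_coset_irr hH hχ hk g
  have hinj : Set.InjOn (fun h => g⁻¹ * h * g * h⁻¹) (H : Set Γ) := fun a ha b hb he => by
    have : b⁻¹ * a ∈ H ⊓ C{g} := ⟨H.mul_mem (H.inv_mem hb) ha,
      Subgroup.mem_centralizer_singleton_iff.mpr (by
        have he' : g⁻¹ * a * g * a⁻¹ = g⁻¹ * b * g * b⁻¹ := he
        calc b⁻¹ * a * g = b⁻¹ * g * (g⁻¹ * a * g * a⁻¹) * a := by group
          _ = b⁻¹ * g * (g⁻¹ * b * g * b⁻¹) * a := by rw [he']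
          _ = _ := by group)⟩
    rw [hC, Subgroup.mem_bot] at this
    exact (inv_mul_eq_one.mp this).symm
  have hmaps : Set.MapsTo (fun h => g⁻¹ * h * g * h⁻¹) (H : Set Γ) (H : Set Γ) := fun a ha =>
    H.mul_mem (by simpa using hH.conj_mem (G.inv_mem hg) ha) (H.inv_mem ha)
  have hbij := (Set.toFinite (H : Set Γ)).injOn_iff_bijOn_of_mapsTo hmaps |>.mp hinj
  rw [← sum_fs_bij _ hbij (fun h => χ (g * h)), sum_fs_congr (g := fun _ => χ g) (fun h hh => by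
    rw [← CF_conj (irr_CF hχ) (hH.le hh) g]; congr 1; group), sum_fs_const] at h1
  simpa [(Nat.card_pos (α := H)).ne'] using h1

/-! ## the Clifford correspondence, Peterfalvi (1.7)(a) -/

theorem clifford_corr_aux (hH : H ⊴ G) (hθ : θ ∈ Irr H) (hψ : ψ ∈ Irr (inertia G θ))
    (h1 : cfdot H ψ θ ≠ 0) (hχ : χ ∈ Irr G) (h2 : cfdot (inertia G θ) χ ψ ≠ 0) :
    cfInd G (inertia G θ) ψ = χ ∧ cfdot H ψ θ = cfdot H χ θ := by
  set T := inertia G θ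
  have hHT : H ⊴ T := nml_inertia hH (irr_CF hθ)
  have hTG : T ≤ G := inertia_le G θ
  obtain ⟨f, hf⟩ := (irr_char hψ).dot_nat_of_le' (irr_char hθ) hHT.le
  have hres := ((irr_char hχ).res hTG).sub_irr hψ (by simpa using h2)
  obtain ⟨d, hd⟩ := hres.dot_nat_of_le' (irr_char hθ) hHT.le
  have he : cfdot H χ θ = (f + d : ℕ) := by
    rw [cfdot_sub_left, hf, cfdot_congr (fun x hx => cfRes_of_mem χ (hHT.le hx))
      (fun _ _ => rfl)] at hd
    push_cast; linear_combination hd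
  have hf0 : f ≠ 0 := by rintro rfl; exact h1 (by simpa using hf)
  have h3 := clifford_deg hH hχ hθ (by omega) he
  have h4 := clifford_deg hHT hψ hθ hf0 hf
  rw [Subgroup.relIndex_eq_one.mpr (inertia_inertia G θ), mul_one] at h4
  have h5 : cfdot G (cfInd G T ψ) χ ≠ 0 := by
    rw [cfdot_cfInd_left hTG _ (irr_CF hχ)]; exact fun h => h2 (cfdot_symm_zero h)
  have h6 := ((irr_char hψ).ind hTG).deg_le_of_constt hχ h5
  have h7 := (irr_char hψ).deg_ind hTG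
  have h8 : d = 0 := by
    rw [h7, h3, h4] at h6
    have h9 := Nat.mul_pos (relIndex_pos T G) (irr_deg_pos hθ)
    by_contra hd0
    have : 0 < d * (T.relIndex G * deg θ) := Nat.mul_pos (Nat.pos_of_ne_zero hd0) h9
    nlinarith
  refine ⟨((irr_char hψ).ind hTG).eq_of_constt_of_deg hχ h5 ?_, by rw [he, hf, h8, add_zero]⟩
  rw [h7, h3, h4, h8]; nlinarith

theorem clifford_ind_irr (hH : H ⊴ G) (hθ : θ ∈ Irr H) (hψ : ψ ∈ Irr (inertia G θ))
    (h1 : cfdot H ψ θ ≠ 0) : cfInd G (inertia G θ) ψ ∈ Irr G := by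
  obtain ⟨χ, hχ, h⟩ := exists_irr_over (inertia_le G θ) hψ
  rw [(clifford_corr_aux hH hθ hψ h1 hχ fun h0 => h (cfdot_symm_zero h0)).1]; exact hχ

theorem clifford_ind_dot (hH : H ⊴ G) (hθ : θ ∈ Irr H) (hψ : ψ ∈ Irr (inertia G θ))
    (h1 : cfdot H ψ θ ≠ 0) : cfdot H (cfInd G (inertia G θ) ψ) θ = cfdot H ψ θ :=
  (clifford_corr_aux hH hθ hψ h1 (clifford_ind_irr hH hθ hψ h1)
    (cfdot_res_ind_ne_zero (inertia_le G θ) hψ)).2.symm

theorem clifford_ind_inj (hH : H ⊴ G) (hθ : θ ∈ Irr H) {ψ' : Γ → ℂ} (hψ : ψ ∈ Irr (inertia G θ))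
    (hψ' : ψ' ∈ Irr (inertia G θ)) (h1 : cfdot H ψ θ ≠ 0) (h1' : cfdot H ψ' θ ≠ 0)
    (he : cfInd G (inertia G θ) ψ = cfInd G (inertia G θ) ψ') : ψ = ψ' := by
  by_contra hne
  set T := inertia G θ
  have hHT : H ⊴ T := nml_inertia hH (irr_CF hθ)
  have hTG : T ≤ G := inertia_le G θ
  have h2 := (((irr_char hψ).ind hTG).res hTG).sub_irr hψ
    (by simpa using cfdot_res_ind_ne_zero hTG hψ)
  have h3 := h2.sub_irr hψ' (by
    rw [cfdot_sub_left, irr_dot_ne hψ hψ' hne, he, sub_zero]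
    simpa using cfdot_res_ind_ne_zero hTG hψ')
  obtain ⟨d, hd⟩ := h3.dot_nat_of_le' (irr_char hθ) hHT.le
  obtain ⟨f, hf⟩ := (irr_char hψ').dot_nat_of_le' (irr_char hθ) hHT.le
  rw [cfdot_sub_left, cfdot_sub_left, cfdot_congr (fun x hx => cfRes_of_mem _ (hHT.le hx))
    (fun _ _ => rfl), clifford_ind_dot hH hθ hψ h1, hf] at hd
  have : ((d + f : ℕ) : ℂ) = 0 := by push_cast; linear_combination -hd
  have h4 : f = 0 := by have : d + f = 0 := by exact_mod_cast this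
                        omega
  exact h1' (by rw [hf, h4, Nat.cast_zero])

theorem clifford_ind_surj (hH : H ⊴ G) (hθ : θ ∈ Irr H) (hχ : χ ∈ Irr G) (h1 : cfdot H χ θ ≠ 0) :
    ∃ ψ ∈ Irr (inertia G θ), cfdot H ψ θ = cfdot H χ θ ∧ cfInd G (inertia G θ) ψ = χ := by
  set T := inertia G θ
  have hHT : H ⊴ T := nml_inertia hH (irr_CF hθ)
  have hTG : T ≤ G := inertia_le G θ
  have h2 : cfdot T (cfInd T H θ) χ ≠ 0 := by
    rw [← cfdot_cfRes_right, cfdot_cfInd_left hHT.le _ (cfRes_mem_CF hTG (irr_CF hχ)),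
      cfdot_congr (fun _ _ => rfl) (fun x hx => cfRes_of_mem _ (hHT.le hx))]
    exact fun h => h1 (cfdot_symm_zero h)
  obtain ⟨ψ, hψ, h3, h4⟩ := exists_common_constt (cfInd_mem_CF _ _ _) h2
  rw [cfdot_cfInd_left hHT.le _ (irr_CF hψ)] at h3
  have := clifford_corr_aux hH hθ hψ (fun h => h3 (cfdot_symm_zero h)) hχ h4
  exact ⟨ψ, hψ, this.2, this.1⟩

/-! ## Gallagher's theorem -/

theorem cfInd_res_eq_sum (hH : H ⊴ G) (hχ : χ ∈ CF G) :
    cfInd G H χ = ∑ β ∈ irrK G H, β 1 • (β * χ) := by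
  have h := cfInd_mul_cfRes (H := H) hχ (cfOne H)
  rw [cfOne_mul_eq_cfRes, cfInd_cfRes, cfInd_cfOne_eq_sum hH, Finset.sum_mul] at h
  rw [h]; simp

theorem gallagher_dot (hH : H ⊴ G) (hχ : IsChar G χ) (hr : cfRes H χ ∈ Irr H) {β γ : Γ → ℂ}
    (hβ : β ∈ irrK G H) (hγ : γ ∈ irrK G H) : cfdot G (β * χ) (γ * χ) = cfdot G β γ := by
  classical
  have hc : ∀ β ∈ irrK G H, IsChar G (β * χ) := fun β hβ => (irr_char (mem_irrK.mp hβ).1).mul hχ
  have hm : ∀ β γ, ∃ m : ℕ, β ∈ irrK G H → γ ∈ irrK G H → cfdot G (β * χ) (γ * χ) = m := by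
    intro β γ
    by_cases h : β ∈ irrK G H ∧ γ ∈ irrK G H
    · obtain ⟨m, hm⟩ := char_dot_nat (hc β h.1) (hc γ h.2); exact ⟨m, fun _ _ => hm⟩
    · exact ⟨0, fun h1 h2 => absurd ⟨h1, h2⟩ h⟩
  choose m hm using hm
  have hm1 : ∀ β ∈ irrK G H, 1 ≤ m β β := fun β hβ => Nat.pos_of_ne_zero fun h0 => by
    have h1 := hm β β hβ hβ
    rw [h0, Nat.cast_zero, cfdot_self_eq_zero (hc β hβ).cfOn] at h1
    have h2 := congrFun h1 1
    exact mul_ne_zero (irr_one_ne_zero (mem_irrK.mp hβ).1) (by simpa using irr_one_ne_zero hr) h2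
  have h1 : cfdot G (cfInd G H χ) (cfInd G H χ) = H.relIndex G := by
    rw [← cfInd_cfRes, cfdot_self, cfnorm_cfInd_irr hH hr,
      le_antisymm (inertia_le G _) (le_inertia_res hH hχ.CF)]; simp
  rw [cfInd_res_eq_sum hH hχ.CF, cfdot_sum_left, ← sum_irrK_deg_sq hH,
    Finset.sum_congr rfl (g := fun β => ((∑ γ ∈ irrK G H, deg β * deg γ * m β γ : ℕ) : ℂ))
    (fun β hβ => by
      rw [cfdot_sum_right]; push_cast
      refine Finset.sum_congr rfl fun γ hγ => ?_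
      rw [cfdot_smul_left, cfdot_smul_right, hm β γ hβ hγ, irr_one_eq (mem_irrK.mp hβ).1,
        irr_one_eq (mem_irrK.mp hγ).1, map_natCast, mul_assoc])] at h1
  have h2 : ∑ β ∈ irrK G H, ∑ γ ∈ irrK G H, deg β * deg γ * m β γ =
      ∑ β ∈ irrK G H, deg β ^ 2 := by exact_mod_cast h1
  have h3 : ∀ β ∈ irrK G H, deg β ^ 2 ≤ ∑ γ ∈ irrK G H, deg β * deg γ * m β γ := fun β hβ =>
    le_trans (by rw [sq]; exact Nat.le_mul_of_pos_right _ (hm1 β hβ))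
      (Finset.single_le_sum (f := fun γ => deg β * deg γ * m β γ) (fun _ _ => Nat.zero_le _) hβ)
  have h4 := (Finset.sum_eq_sum_iff_of_le h3).mp h2.symm β hβ
  rw [← Finset.add_sum_erase _ _ hβ] at h4
  have hd := irr_deg_pos (mem_irrK.mp hβ).1
  have h5 : deg β * deg β * 1 ≤ deg β * deg β * m β β := Nat.mul_le_mul_left _ (hm1 β hβ)
  rw [hm β γ hβ hγ, irr_dot (mem_irrK.mp hβ).1 (mem_irrK.mp hγ).1]
  split_ifs with he
  · subst he
    have h6 : deg β * deg β * m β β = deg β * deg β * 1 := by rw [sq] at h4; omega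
    rw [Nat.eq_of_mul_eq_mul_left (Nat.mul_pos hd hd) h6, Nat.cast_one]
  · have h6 : ∑ γ ∈ (irrK G H).erase β, deg β * deg γ * m β γ = 0 := by rw [sq] at h4; omega
    have h7 := Finset.sum_eq_zero_iff.mp h6 γ (Finset.mem_erase.mpr ⟨Ne.symm he, hγ⟩)
    have hd' := irr_deg_pos (mem_irrK.mp hγ).1
    rw [(mul_eq_zero.mp h7).resolve_left (Nat.mul_pos hd hd').ne', Nat.cast_zero]

theorem gallagher_irr (hH : H ⊴ G) (hχ : IsChar G χ) (hr : cfRes H χ ∈ Irr H) {β : Γ → ℂ}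
    (hβ : β ∈ irrK G H) : β * χ ∈ Irr G :=
  irr_of_dot_one ((irr_char (mem_irrK.mp hβ).1).mul hχ)
    (by rw [gallagher_dot hH hχ hr hβ hβ, irr_dot_self (mem_irrK.mp hβ).1])

theorem gallagher_inj (hH : H ⊴ G) (hχ : IsChar G χ) (hr : cfRes H χ ∈ Irr H) {β γ : Γ → ℂ}
    (hβ : β ∈ irrK G H) (hγ : γ ∈ irrK G H) (he : β * χ = γ * χ) : β = γ := by
  refine irr_eq_of_dot_ne (mem_irrK.mp hβ).1 (mem_irrK.mp hγ).1 ?_
  rw [← gallagher_dot hH hχ hr hβ hγ, he, irr_dot_self (gallagher_irr hH hχ hr hγ)]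
  exact one_ne_zero

theorem gallagher_surj (hH : H ⊴ G) (hχ : IsChar G χ) (hr : cfRes H χ ∈ Irr H) (hψ : ψ ∈ Irr G)
    (h : cfdot H χ ψ ≠ 0) : ∃ β ∈ irrK G H, ψ = β * χ := by
  rw [← cfdot_cfInd_left hH.le _ (irr_CF hψ), cfInd_res_eq_sum hH hχ.CF, cfdot_sum_left] at h
  obtain ⟨β, hβ, h1⟩ := Finset.exists_ne_zero_of_sum_ne_zero h
  rw [cfdot_smul_left] at h1
  exact ⟨β, hβ, (irr_eq_of_dot_ne (gallagher_irr hH hχ hr hβ) hψ (right_ne_zero_of_mul h1)).symm⟩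

/-! ## Peterfalvi (1.7)(b), (1.8) -/

/-- (1.7)(b) for an invariant character. -/
theorem cfInd_central_invariant (hH : H ⊴ T) (hab : ⁅T, T⁆ ≤ H) (hθ : θ ∈ Irr H)
    (hI : T ≤ inertia T θ) : ∃ (e : ℕ) (X : Finset (Γ → ℂ)), 0 < e ∧ X ⊆ Irr T ∧
      e ^ 2 * X.card = H.relIndex T ∧ cfInd T H θ = (e : ℂ) • ∑ ψ ∈ X, ψ ∧
      (∀ ψ ∈ X, cfRes H ψ = (e : ℂ) • θ) ∧ ∀ ψ ∈ X, ∀ ψ' ∈ X, ∃ β ∈ irrK T H, ψ' = ψ * β := by
  classical
  obtain ⟨ψ₀, hψ₀, h0⟩ := exists_irr_over hH.le hθ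
  obtain ⟨e, he⟩ := (irr_char hψ₀).dot_nat_of_le' (irr_char hθ) hH.le
  have h0' : cfdot H ψ₀ θ ≠ 0 := fun h => h0 (cfdot_symm_zero h)
  have he0 : e ≠ 0 := by rintro rfl; exact h0' (by simpa using he)
  set X := (Irr T).filter (fun ψ => cfdot H ψ θ ≠ 0)
  have hX : ∀ ψ ∈ X, ∀ ψ' ∈ X, ∃ β ∈ irrK T H, ψ' = ψ * β := fun ψ hψ ψ' hψ' => by
    obtain ⟨h1, h2⟩ := Finset.mem_filter.mp hψ
    obtain ⟨h1', h2'⟩ := Finset.mem_filter.mp hψ'
    have h3 : cfdot H ψ ψ' ≠ 0 := by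
      rw [← cfdot_cfRes_left, clifford_res_invariant hH h1 hθ hI h2, cfdot_smul_left]
      exact mul_ne_zero h2 fun h => h2' (cfdot_symm_zero h)
    rw [← cfdot_cfInd_left hH.le _ (irr_CF h1'), cfInd_res_eq_sum hH (irr_CF h1),
      cfdot_sum_left] at h3
    obtain ⟨β, hβ, h4⟩ := Finset.exists_ne_zero_of_sum_ne_zero h3
    rw [cfdot_smul_left, mul_comm β] at h4
    exact ⟨β, hβ, (irr_eq_of_dot_ne (irr_mul_lin h1 (irrK_lin hab hβ)) h1'
      (right_ne_zero_of_mul h4)).symm⟩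
  have hψ₀X : ψ₀ ∈ X := Finset.mem_filter.mpr ⟨hψ₀, h0'⟩
  have hres : ∀ ψ ∈ X, cfRes H ψ = (e : ℂ) • θ := fun ψ hψ => by
    obtain ⟨β, hβ, rfl⟩ := hX ψ₀ hψ₀X ψ hψ
    rw [← he, ← clifford_res_invariant hH hψ₀ hθ hI h0']
    exact cfRes_congr fun x hx => by
      rw [Pi.mul_apply, cfker_apply ((mem_irrK.mp hβ).2 hx), (irrK_lin hab hβ).2, mul_one]
  have hsum : cfInd T H θ = (e : ℂ) • ∑ ψ ∈ X, ψ := by
    rw [CF_eq_sum (cfInd_mem_CF T H θ), Finset.smul_sum, Finset.sum_filter]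
    refine Finset.sum_congr rfl fun ψ hψ => ?_
    rw [cfdot_cfInd_left hH.le _ (irr_CF hψ)]
    split_ifs with h
    · rw [← cfdot_cfRes_right, hres ψ (Finset.mem_filter.mpr ⟨hψ, h⟩), cfdot_smul_right,
        irr_dot_self hθ]; simp
    · rw [cfdot_symm_zero (not_not.mp h), zero_smul]
  refine ⟨e, X, Nat.pos_of_ne_zero he0, Finset.filter_subset _ _, ?_, hsum, hres, hX⟩
  have h1 := cfnorm_cfInd_irr hH hθ
  rw [le_antisymm (inertia_le T θ) hI, hsum, cfnorm_natCast_smul,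
    ((irr_orthon T).mono (Finset.filter_subset _ _)).cfnorm_sum] at h1
  exact_mod_cast h1

/-- (1.7)(b). -/
theorem cfInd_central_inertia (hH : H ⊴ G) (hθ : θ ∈ Irr H)
    (hab : ⁅inertia G θ, inertia G θ⁆ ≤ H) : ∃ (e : ℕ) (X : Finset (Γ → ℂ)), 0 < e ∧ X ⊆ Irr G ∧
      e ^ 2 * X.card = H.relIndex (inertia G θ) ∧ cfInd G H θ = (e : ℂ) • ∑ χ ∈ X, χ ∧
      (∀ χ ∈ X, deg χ = (inertia G θ).relIndex G * e * deg θ) ∧
      ∀ ψ ∈ Irr (inertia G θ), cfdot H ψ θ ≠ 0 → cfdot H ψ θ = e := by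
  classical
  set T := inertia G θ
  have hHT : H ⊴ T := nml_inertia hH (irr_CF hθ)
  have hTG : T ≤ G := inertia_le G θ
  obtain ⟨e, X, he, hX, h1, h2, h3, -⟩ := cfInd_central_invariant hHT hab hθ (inertia_inertia G θ)
  have h4 : ∀ ψ ∈ X, cfdot H ψ θ = e := fun ψ hψ => by
    rw [← cfdot_cfRes_left, h3 ψ hψ, cfdot_smul_left, irr_dot_self hθ, mul_one]
  have h5 : ∀ ψ ∈ X, cfdot H ψ θ ≠ 0 := fun ψ hψ => by rw [h4 ψ hψ]; exact_mod_cast he.ne'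
  have hinj : Set.InjOn (cfInd G T) X := fun ψ hψ ψ' hψ' h =>
    clifford_ind_inj hH hθ (hX hψ) (hX hψ') (h5 ψ hψ) (h5 ψ' hψ') h
  refine ⟨e, X.image (cfInd G T), he, fun χ hχ => ?_, by rw [Finset.card_image_of_injOn hinj, h1],
    ?_, fun χ hχ => ?_, fun ψ hψ h => ?_⟩
  · obtain ⟨ψ, hψ, rfl⟩ := Finset.mem_image.mp hχ
    exact clifford_ind_irr hH hθ (hX hψ) (h5 ψ hψ)
  · rw [Finset.sum_image hinj, ← map_sum, ← map_smul, ← h2, cfInd_cfInd hHT.le hTG]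
  · obtain ⟨ψ, hψ, rfl⟩ := Finset.mem_image.mp hχ
    rw [(irr_char (hX hψ)).deg_ind hTG, mul_assoc]
    congr 1
    refine deg_eq_of ?_
    rw [← cfRes_apply_one H ψ, h3 ψ hψ, Pi.smul_apply, irr_one_eq hθ]; simp
  · refine h4 ψ ?_
    by_contra hc
    refine h (cfdot_symm_zero ?_)
    rw [← cfdot_cfInd_left hHT.le _ (irr_CF hψ), h2, cfdot_smul_left, cfdot_sum_left,
      Finset.sum_eq_zero (fun ψ' hψ' => irr_dot_ne (hX hψ') hψ fun h => hc (h ▸ hψ')), mul_zero]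

theorem irr_deg_le_index_mul (hHG : H ≤ G) (hχ : χ ∈ Irr G) (hθ : θ ∈ Irr H)
    (h : cfdot H χ θ ≠ 0) : deg χ ≤ H.relIndex G * deg θ := by
  rw [← (irr_char hθ).deg_ind hHG]
  refine ((irr_char hθ).ind hHG).deg_le_of_constt hχ ?_
  rw [cfdot_cfInd_left hHG _ (irr_CF hχ)]; exact fun h0 => h (cfdot_symm_zero h0)

/-- (1.8): `χ(1) ≤ [G : C] √[C : D]`. -/
theorem irr1_bound_quo {B C D : Subgroup Γ} (hχ : χ ∈ Irr G) (hB : B ≤ cfker G χ) (hDC : D ≤ C)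
    (hCG : C ≤ G) (hc : ⁅C, D⁆ ≤ B) : deg χ ^ 2 ≤ C.relIndex G ^ 2 * D.relIndex C := by
  obtain ⟨θ, hθ, h⟩ := exists_irr_under hCG hχ
  have h1 := irr_deg_le_index_mul hCG hχ hθ h
  have h2 := irr_deg_sq_le hθ hDC fun z hz x hx =>
    ((irr_char hχ).res hCG).cfker_le_constt hθ (by simpa using h)
      (mem_cfker_cfRes (hB (hc (Subgroup.commutator_mem_commutator hx hz)))
        (C.mul_mem (C.mul_mem (C.mul_mem hx (hDC hz)) (C.inv_mem hx)) (C.inv_mem (hDC hz))))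
  calc deg χ ^ 2 ≤ (C.relIndex G * deg θ) ^ 2 := by gcongr
    _ = C.relIndex G ^ 2 * deg θ ^ 2 := by ring
    _ ≤ _ := by gcongr

end H27
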