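import Mathlib
import Cfsg.Agent.H27.Clifford
import Cfsg.Agent.H25.MFT

/-!
# Vocabulary for Peterfalvi §4–§14 (second batch of definitions)
-/

set_option autoImplicit false
set_option linter.unusedSectionVars false

namespace H27

open Cfsg H24

universe u v

variable {Γ : Type u} [Group Γ]

/-- `H^#`. -/
abbrev shp (H : Subgroup Γ) : Set Γ := (H : Set Γ) \ {1}

theorem mem_shp {H : Subgroup Γ} {x : Γ} : x ∈ shp H ↔ x ∈ H ∧ x ≠ 1 := Iff.rfl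

/-- `L` is a Frobenius group with kernel `K` (MathComp `[Frobenius L with kernel K]`). -/
def FrobK (L K : Subgroup Γ) : Prop := ∃ E, Frob L K E

/-- Hypothesis (6.4) (MathComp `odd_Frobenius_quotient K L M`). -/
structure OddFrobQuo (K L M : Subgroup Γ) : Prop where
  odd : Odd (Nat.card L)
  nml : M ⊴ L
  le : M ≤ K
  nil : Nil (quo K M)
  frob : FrobK (quo L (⁅K, K⁆ ⊔ M)) (quo K (⁅K, K⁆ ⊔ M))

open scoped Classical in
/-- the irreducible members of `S`. -/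
noncomputable def irrPart (L : Subgroup Γ) (S : Finset (Γ → ℂ)) : Finset (Γ → ℂ) :=
  S.filter (fun φ => φ ∈ Irr L)

open scoped Classical in
/-- the reducible members of `S`. -/
noncomputable def redPart (L : Subgroup Γ) (S : Finset (Γ → ℂ)) : Finset (Γ → ℂ) :=
  S.filter (fun φ => φ ∉ Irr L)

theorem mem_irrPart {L : Subgroup Γ} {S : Finset (Γ → ℂ)} {φ : Γ → ℂ} :
    φ ∈ irrPart L S ↔ φ ∈ S ∧ φ ∈ Irr L := by
  classical
  unfold irrPart; convert Finset.mem_filter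

theorem mem_redPart {L : Subgroup Γ} {S : Finset (Γ → ℂ)} {φ : Γ → ℂ} :
    φ ∈ redPart L S ↔ φ ∈ S ∧ φ ∉ Irr L := by
  classical
  unfold redPart; convert Finset.mem_filter

/-! ## The types of maximal subgroups, ambient style -/

/-- `M_F`. -/
abbrev Fc (M : Subgroup Γ) : Subgroup Γ := fittingHallOf M

/-- MathComp `is_typeF_inertia M U U1`. -/
structure TypeFInertia (M U U₁ : Subgroup Γ) : Prop where
  nml : U₁ ⊴ U
  abl : Abl U₁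
  cent : ∀ x ∈ Fc M, x ≠ 1 → U ⊓ C{x} ≤ U₁

/-- MathComp `is_typeF_complement M U U0`. -/
structure TypeFCompl (M U U₀ : Subgroup Γ) : Prop where
  le : U₀ ≤ U
  exp : Monoid.exponent U₀ = Monoid.exponent U
  frob : Frob (Fc M ⊔ U₀) (Fc M) U₀

/-- MathComp `of_typeF M U`. -/
structure TypeF (M U : Subgroup Γ) : Prop where
  ne : Fc M ≠ ⊥
  neU : U ≠ ⊥
  sd : SD (Fc M) U M
  inert : ∃ U₁, TypeFInertia M U U₁
  compl : ∃ U₀, TypeFCompl M U U₀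

/-- MathComp `of_typeI M U`. -/
structure TypeI (M U : Subgroup Γ) : Prop where
  tF : TypeF M U
  cases : NormedTI (shp (Fc M)) M ∨ (Abl (Fc M) ∧ rank (Fc M) = 2) ∨
    ((∀ p ∈ primesOf (Fc M), Monoid.exponent U ∣ p - 1) ∧
      ∃ p ∈ primesOf (Fc M), Cyc O[{p}ᶜ, Fc M])

/-- `M` is of type I in the sense of MathComp.  This SHADOWS the frozen `Cfsg.IsOfTypeI`, whose
case (c) asks for `O_{p'}(M)` (not only `O_{p'}(M_F)`) to be cyclic, which B & G do not prove. -/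
def IsOfTypeI (M : Subgroup Γ) : Prop := ∃ U, TypeI M U

open scoped Classical in
/-- `A(M)` (shadows `Cfsg.typeA`; same text, with the above notion of type I). -/
noncomputable def typeA (M : Subgroup Γ) : Set Γ :=
  if IsOfTypeI M then
    {a | a ∈ M ∧ a ≠ 1 ∧ ∃ x ∈ Fc M, x ≠ 1 ∧ a * x = x * a}
  else
    {a | a ∈ ⁅M, M⁆ ∧ a ≠ 1 ∧ ∃ x ∈ typeCore M, x ≠ 1 ∧ a * x = x * a}

/-- `A₀(M)` (shadows `Cfsg.typeA0`; same text, with the above notion of type I). -/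
noncomputable def typeA0 (M : Subgroup Γ) : Set Γ :=
  typeA M ∪ {v | ¬ IsOfTypeI M ∧ ∃ W₁ U W₂ : Subgroup Γ, IsTypePWith M W₁ U W₂ ∧
    ∃ m ∈ M, ∃ w ∈ W₁ ⊔ W₂, w ∉ W₁ ∧ w ∉ W₂ ∧ v = m * w * m⁻¹}

/-- MathComp `of_typeP M U defW`. -/
structure TypeP (M U W W₁ W₂ : Subgroup Γ) : Prop where
  tp : IsTypePWith M W₁ U W₂
  dp : DP W₁ W₂ W

/-- MathComp `of_typeII_IV M U defW`. -/
structure Type24 (M U W W₁ W₂ : Subgroup Γ) : Prop where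
  tP : TypeP M U W W₁ W₂
  neU : U ≠ ⊥
  prime : (Nat.card W₁).Prime
  ti : NormedTI (shp F[M]) M

/-- `L` supports `M` (MathComp `FTsupports M L`, with `A(M)`). -/
def FTsupports (M L : Subgroup Γ) : Prop := ∃ x ∈ typeA M, ¬ C{x} ≤ M ∧ C{x} ≤ L

/-! ## Peterfalvi §9 -/

open scoped Classical in
/-- `H₀` of (9.4) (MathComp `Ptype_Fcore_kernel`). -/
noncomputable def pK (M U : Subgroup Γ) : Subgroup Γ :=
  if h : ∃ H₀, Chief M H₀ (Fc M) ∧ Fc M ⊓ C[U] ≤ H₀ then Classical.choose h else ⊥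

/-- `C = C_U(H / H₀)` of (9.5) (MathComp `Ptype_Fcompl_kernel`). -/
noncomputable def pC (M U : Subgroup Γ) : Subgroup Γ := U ⊓ centQ (Fc M) (pK M U)

/-- the prime `p` dividing `|H / H₀|`. -/
noncomputable def pP (M U : Subgroup Γ) : ℕ := ((pK M U).relIndex (Fc M)).minFac

/-- `u = |U / C|`. -/
noncomputable def pU (M U : Subgroup Γ) : ℕ := (pC M U).relIndex U

/-- `U` acts irreducibly on `H / H₀` (MathComp `typeP_Galois`). -/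
def TypePGalois (M U : Subgroup Γ) : Prop :=
  ∀ X, pK M U ≤ X → X ≤ Fc M → U ≤ N[X] → X = pK M U ∨ X = Fc M

/-- the conclusion of (9.7)(a); `H₁` is the preimage in `H` of the book's `H₁ ≤ H / H₀`. -/
structure NonGalH1 (M U W₁ H₁ : Subgroup Γ) (a : ℕ) : Prop where
  le0 : pK M U ≤ H₁
  leH : H₁ ≤ Fc M
  card : (pK M U).relIndex H₁ = pP M U
  norm : U ≤ N[H₁]
  indep : iSupIndep (fun w : W₁ => quo (cj (w : Γ) H₁) (pK M U))
  sup : ⨆ w : W₁, cj (w : Γ) H₁ = Fc M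
  defa : a = (U ⊓ centQ H₁ (pK M U)).relIndex U
  one_lt : 1 < a
  dvd : a ∣ pP M U - 1
  cyc : Cyc (quo U (U ⊓ centQ H₁ (pK M U)))
  emb : ∃ f : U →* Multiplicative (Fin (Nat.card W₁ - 1) → ZMod a),
    ∀ x : U, f x = 1 ↔ (x : Γ) ∈ pC M U

/-- a finite field model of the action of `U` on `H / H₀`, with `W₂ H₀ / H₀` the prime field
(the conclusion of (9.7)(b); with `H₀ = C = 1` it is the hypothesis of B & G, Appendix C). -/
structure FieldModel (H H₀ U C W₂ : Subgroup Γ) (p : ℕ) (F : Type) [Field F] (f ψ : Γ → F) :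
    Prop where
  surj : ∀ y : F, ∃ x ∈ H, f x = y
  add : ∀ x ∈ H, ∀ y ∈ H, f (x * y) = f x + f y
  ker : ∀ x ∈ H, f x = 0 ↔ x ∈ H₀
  ne : ∀ u ∈ U, ψ u ≠ 0
  act : ∀ u ∈ U, ∀ x ∈ H, f (u * x * u⁻¹) = ψ u * f x
  mul : ∀ u ∈ U, ∀ v ∈ U, ψ (u * v) = ψ u * ψ v
  kerU : ∀ u ∈ U, ψ u = 1 ↔ u ∈ C
  prime : ∀ x ∈ H, x ∈ W₂ ⊔ H₀ ↔ f x ^ p = f x

variable [Finite Γ]

/-- MathComp `typeP_pair S T defW`. -/
structure TypePPair (S T W W₁ W₂ : Subgroup Γ) : Prop where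
  cyc : CyclicTI ⊤ W W₁ W₂
  maxS : IsCoatom S
  maxT : IsCoatom T
  sdS : SD ⁅S, S⁆ W₁ S
  sdT : SD ⁅T, T⁆ W₂ T
  inf : S ⊓ T = W
  two : IsOfTypeII S ∨ IsOfTypeII T
  notIS : ¬ IsOfTypeI S
  notIT : ¬ IsOfTypeI T
  cover : ∀ M : Subgroup Γ, IsCoatom M → ¬ IsOfTypeI M → ∃ g, M = cj g S ∨ M = cj g T

/-- the Dade isometry relative to `A₀(M)` (MathComp `FT_Dade0`). -/
noncomputable abbrev tau0 (M : Subgroup Γ) := Dade (typeA0 M) M (supportR M)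
/-- the Dade isometry relative to `A(M)` (MathComp `FT_Dade`). -/
noncomputable abbrev tauA (M : Subgroup Γ) := Dade (typeA M) M (supportR M)
/-- the Dade isometry relative to `A₁(M)` (MathComp `FT_Dade1`). -/
noncomputable abbrev tauA1 (M : Subgroup Γ) := Dade (typeA1 M) M (supportR M)
/-- the Dade isometry relative to `M_F^#` (MathComp `FT_DadeF`). -/
noncomputable abbrev tauF (M : Subgroup Γ) := Dade (shp (Fc M)) M (supportR M)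

/-- `η_ω = ω^σ`, the cyclic TI isometry into the ambient group; `η_ij = eta W W₁ W₂ (i * j)`. -/
noncomputable abbrev eta (W W₁ W₂ : Subgroup Γ) := cycIso ⊤ W W₁ W₂

open scoped Classical in
/-- the set `T` of (4.9) (MathComp `uniform_prTIred_seq`). -/
noncomputable def prUnif (L W W₁ W₂ : Subgroup Γ) (k : Γ → ℂ) : Finset (Γ → ℂ) :=
  ((irrK W W₁).filter
    (fun j => j ≠ cfOne W ∧ prRed L W W₁ W₂ j 1 = prRed L W W₁ W₂ k 1)).image (prRed L W W₁ W₂)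

open scoped Classical in
/-- the set `R(μ_j)` of (5.3)(b). -/
noncomputable def prRmu (L W W₁ W₂ : Subgroup Γ) (j : Γ → ℂ) : Finset (Γ → ℂ) :=
  (irrK W W₂).image (fun i => (prSign L W W₁ W₂ j : ℂ) • eta W W₁ W₂ (i * j)) ∪
  (irrK W W₂).image (fun i => -((prSign L W W₁ W₂ j : ℂ) • eta W W₁ W₂ (i * conjC j)))

theorem mem_prUnif {L W W₁ W₂ : Subgroup Γ} {k φ : Γ → ℂ} :
    φ ∈ prUnif L W W₁ W₂ k ↔ ∃ j ∈ irrK W W₁, j ≠ cfOne W ∧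
      prRed L W W₁ W₂ j 1 = prRed L W W₁ W₂ k 1 ∧ φ = prRed L W W₁ W₂ j := by
  classical
  unfold prUnif
  simp only [Finset.mem_image, Finset.mem_filter]
  constructor
  · rintro ⟨j, ⟨h1, h2, h3⟩, rfl⟩; exact ⟨j, h1, h2, h3, rfl⟩
  · rintro ⟨j, h1, h2, h3, rfl⟩; exact ⟨j, ⟨h1, h2, h3⟩, rfl⟩

theorem mem_prRmu {L W W₁ W₂ : Subgroup Γ} {j α : Γ → ℂ} :
    α ∈ prRmu L W W₁ W₂ j ↔ ∃ i ∈ irrK W W₂,
      α = (prSign L W W₁ W₂ j : ℂ) • eta W W₁ W₂ (i * j) ∨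
      α = -((prSign L W W₁ W₂ j : ℂ) • eta W W₁ W₂ (i * conjC j)) := by
  classical
  unfold prRmu
  simp only [Finset.mem_union, Finset.mem_image]
  constructor
  · rintro (⟨i, hi, rfl⟩ | ⟨i, hi, rfl⟩)
    · exact ⟨i, hi, Or.inl rfl⟩
    · exact ⟨i, hi, Or.inr rfl⟩
  · rintro ⟨i, hi, rfl | rfl⟩
    · exact Or.inl ⟨i, hi, rfl⟩
    · exact Or.inr ⟨i, hi, rfl⟩

/-- `S(Y)` of (9.5): `{Ind_{M'}^M θ | Y ≤ ker θ, ¬ M_F ≤ ker θ}`. -/
noncomputable abbrev pS (M Y : Subgroup Γ) : Finset (Γ → ℂ) := seqIndD ⁅M, M⁆ M (Fc M) Y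

/-- MathComp `isIndHC` of §9. -/
structure IsIndHC (M U W₁ : Subgroup Γ) (ζ : Γ → ℂ) : Prop where
  one : ζ 1 = (Nat.card W₁ * pU M U : ℕ)
  mem : ζ ∈ pS M (pK M U ⊔ pC M U)
  ind : ∃ ξ, IsLin (Fc M ⊔ pC M U) ξ ∧ ζ = cfInd M (Fc M ⊔ pC M U) ξ

/-! ## Peterfalvi §10 -/

/-- the constants `d`, `δ`, `n` of (10.3). -/
structure Const345 (M W W₁ W₂ : Subgroup Γ) (d : ℕ) (δ : ℤ) (n : ℕ) : Prop where
  deg : ∀ i ∈ irrK W W₂, ∀ j ∈ irrK W W₁, j ≠ cfOne W → prMu M W W₁ W₂ (i * j) 1 = d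
  sign : ∀ j ∈ irrK W W₁, j ≠ cfOne W → prSign M W W₁ W₂ j = δ
  one_lt : 1 < d
  ratio : (d : ℤ) = n * Nat.card W₁ + δ

/-- `α_ij = μ_ij − δ μ_i0 − n ζ` (MathComp `FTtype345_bridge`). -/
noncomputable def bridge345 (M W W₁ W₂ : Subgroup Γ) (δ : ℤ) (n : ℕ) (ζ i j : Γ → ℂ) : Γ → ℂ :=
  prMu M W W₁ W₂ (i * j) - (δ : ℂ) • prMu M W W₁ W₂ i - (n : ℂ) • ζ

/-- `α − γ` is orthogonal to all the `η_ij` (MathComp `eq_proj_eta`). -/
def EqProjEta (W W₁ W₂ : Subgroup Γ) (α γ : Γ → ℂ) : Prop :=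
  ∀ ω ∈ Irr W, cfdot ⊤ (α - γ) (eta W W₁ W₂ ω) = 0

/-! ## Peterfalvi §13 -/

/-- irreducible characters of `S` induced from `F(S)` (MathComp `irr_Ind_Fitting`). -/
def IrrIndF (S : Subgroup Γ) (φ : Γ → ℂ) : Prop := φ ∈ Irr S ∧ φ ∈ seqIndT F[S] S

/-- MathComp `typeP_TIred_coherent`. -/
def TIredCoh (S W W₁ W₂ : Subgroup Γ) (τ₁ : (Γ → ℂ) →ₗ[ℂ] (Γ → ℂ)) : Prop :=
  ∀ j ∈ irrK W W₁, j ≠ cfOne W →
    τ₁ (prRed S W W₁ W₂ j) = ∑ i ∈ irrK W W₂, eta W W₁ W₂ (i * j)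

/-- `β_j = Ind_{P W₁}^S 1 − μ_0j` (MathComp `FTtypeP_bridge`). -/
noncomputable def bridgeP (S W W₁ W₂ : Subgroup Γ) (j : Γ → ℂ) : Γ → ℂ :=
  cfInd S (Fc S ⊔ W₁) (cfOne (Fc S ⊔ W₁)) - prMu S W W₁ W₂ j

/-- `Γ = β_j^τ − 1 + η_0j` (MathComp `FTtypeP_bridge_gap`; independent of `j ≠ 0`). -/
noncomputable def gapP (S W W₁ W₂ : Subgroup Γ) (j : Γ → ℂ) : Γ → ℂ :=
  tau0 S (bridgeP S W W₁ W₂ j) - cfOne ⊤ + eta W W₁ W₂ j

/-- `Ind_H^L 1 − φ` with `H = L_F` (MathComp `FTtype1_bridge`). -/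
noncomputable def bridgeI (L : Subgroup Γ) (φ : Γ → ℂ) : Γ → ℂ :=
  cfInd L (Fc L) (cfOne (Fc L)) - φ

end H27
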