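import Mathlib
import Cfsg.Agent.H27.Clifford
import Cfsg.Agent.H24.Base3

/-!
# Characters and morphisms: pull-backs, inflation, conjugate subgroups, products
-/

set_option autoImplicit false
set_option linter.unusedSectionVars false
set_option linter.unusedVariables false

namespace H27

open Cfsg H24 H4
open scoped ComplexConjugate

universe u v

variable {Γ : Type u} [Group Γ] [Finite Γ] {Γ' : Type v} [Group Γ'] [Finite Γ']

/-! ## sums over fibres -/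

theorem sum_fs_fiber {α β M : Type*} [Finite α] [Finite β] [AddCommMonoid M] {A : Set α}
    {B : Set β} (e : α → β) (he : ∀ x ∈ A, e x ∈ B) {n : ℕ}
    (hn : ∀ y ∈ B, {x | x ∈ A ∧ e x = y}.ncard = n) (F : β → M) :
    ∑ x ∈ fs A, F (e x) = n • ∑ y ∈ fs B, F y := by
  classical
  rw [← Finset.sum_fiberwise_of_maps_to (s := fs A) (t := fs B) (g := e)
    (fun x hx => mem_fs.mpr (he x (mem_fs.mp hx))), Finset.smul_sum]
  refine Finset.sum_congr rfl fun y hy => ?_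
  rw [Finset.sum_congr rfl (g := fun _ => F y) (fun x hx => by rw [(Finset.mem_filter.mp hx).2]),
    Finset.sum_const, ← hn y (mem_fs.mp hy), ← card_fs_ncard]
  congr 2
  ext x; simp

theorem ncard_eq_card_of_bij {α : Type*} {S : Set α} {H : Subgroup Γ} (e : Γ → α)
    (he : Set.BijOn e (H : Set Γ) S) : S.ncard = Nat.card H := by
  rw [← he.image_eq, he.injOn.ncard_image]; rfl

theorem sum_fs_ap {M : Type*} [AddCommMonoid M] {D H : Subgroup Γ} (f : D →* Γ') (hH : H ≤ D)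
    (F : Γ' → M) :
    ∑ x ∈ fs (H : Set Γ), F (ap f x) =
      Nat.card ↥(pre f ⊥ ⊓ H) • ∑ y ∈ fs (img f H : Set Γ'), F y := by
  refine sum_fs_fiber (ap f) (fun x hx => ap_mem_img f hx (hH hx)) (fun y hy => ?_) F
  obtain ⟨x₀, hx₀, rfl⟩ := (mem_img_of_le hH).mp hy
  refine ncard_eq_card_of_bij (fun k => k * x₀) ⟨fun k hk => ?_, fun a _ b _ h => ?_, fun x hx => ?_⟩
  · refine ⟨H.mul_mem hk.2 hx₀, ?_⟩
    rw [ap_mul f (hH hk.2) (hH hx₀), (mem_pre_bot.mp hk.1).2, one_mul]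
  · exact mul_right_cancel h
  · refine ⟨x * x₀⁻¹, ⟨mem_pre_bot.mpr ⟨D.mul_mem (hH hx.1) (D.inv_mem (hH hx₀)), ?_⟩,
      H.mul_mem hx.1 (H.inv_mem hx₀)⟩, by simp⟩
    rw [ap_mul f (hH hx.1) (D.inv_mem (hH hx₀)), ap_inv f (hH hx₀), hx.2, mul_inv_cancel]

theorem fs_prod {α β : Type*} [Finite α] [Finite β] (A : Set α) (B : Set β) :
    fs (A ×ˢ B) = fs A ×ˢ fs B := by
  ext x; simp

theorem sum_fs_isProd {N : Type*} [AddCommMonoid N] {K H M : Subgroup Γ} (h : IsProd K H M)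
    (F : Γ → N) :
    ∑ k ∈ fs (K : Set Γ), ∑ x ∈ fs (H : Set Γ), F (k * x) =
      Nat.card ↥(K ⊓ H) • ∑ m ∈ fs (M : Set Γ), F m := by
  rw [← Finset.sum_product', ← fs_prod]
  refine sum_fs_fiber (fun p : Γ × Γ => p.1 * p.2)
    (fun p hp => M.mul_mem (h.left_le hp.1) (h.right_le hp.2)) (fun m hm => ?_) F
  obtain ⟨a, ha, b, hb, rfl⟩ := h.mul m hm
  refine ncard_eq_card_of_bij (fun c => (a * c, c⁻¹ * b))
    ⟨fun c hc => ?_, fun c _ d _ e => ?_, fun p hp => ?_⟩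
  · exact ⟨⟨K.mul_mem ha hc.1, H.mul_mem (H.inv_mem hc.2) hb⟩, by simp [mul_assoc]⟩
  · exact mul_left_cancel (congrArg Prod.fst e)
  · obtain ⟨⟨h1, h2⟩, h3⟩ := hp
    have h4 : a⁻¹ * p.1 = b * p.2⁻¹ := by
      rw [inv_mul_eq_iff_eq_mul, ← mul_assoc, eq_mul_inv_iff_mul_eq]; exact h3
    refine ⟨a⁻¹ * p.1, ⟨K.mul_mem (K.inv_mem ha) h1, ?_⟩, ?_⟩
    · rw [h4]; exact H.mul_mem hb (H.inv_mem h2)
    · refine Prod.ext (by simp) ?_
      simp only [h4]; simp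

/-! ## pull-back along morphisms -/
section morph
variable {D G H K : Subgroup Γ} (f : D →* Γ') {φ ψ : Γ' → ℂ} {x : Γ}

theorem cfMorph_apply (φ : Γ' → ℂ) (hx : x ∈ H) : cfMorph f H φ x = φ (ap f x) :=
  cfRes_of_mem (fun x => φ (ap f x)) hx

theorem cfMorph_of_not_mem (φ : Γ' → ℂ) (hx : x ∉ H) : cfMorph f H φ x = 0 :=
  cfRes_of_not_mem (fun x => φ (ap f x)) hx

@[simp] theorem cfMorph_apply_one (H : Subgroup Γ) (φ : Γ' → ℂ) : cfMorph f H φ 1 = φ 1 := by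
  rw [cfMorph_apply f φ H.one_mem, ap_one]

theorem cfMorph_mem_cfOn (H : Subgroup Γ) (φ : Γ' → ℂ) : cfMorph f H φ ∈ cfOn (H : Set Γ) :=
  cfRes_mem_cfOn _ _

theorem cfMorph_mem_CF (hH : H ≤ D) (hφ : φ ∈ CF (img f H)) : cfMorph f H φ ∈ CF H :=
  cfRes_mem_CF_of fun g hg x hx => by
    rw [ap_conj f (hH hg) (hH hx), CF_conj hφ (ap_mem_img f hg (hH hg))]

theorem cfMorph_cfOne (hH : H ≤ D) : cfMorph f H (cfOne (img f H)) = cfOne H :=
  cfRes_congr fun x hx => cfOne_of_mem (ap_mem_img f hx (hH hx))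

theorem cfMorph_mul (H : Subgroup Γ) (φ ψ : Γ' → ℂ) :
    cfMorph f H (φ * ψ) = cfMorph f H φ * cfMorph f H ψ :=
  cfRes_mul H (fun x => φ (ap f x)) (fun x => ψ (ap f x))

theorem cfMorph_cfRes (hH : H ≤ D) {X : Subgroup Γ'} (hX : img f H ≤ X) (φ : Γ' → ℂ) :
    cfMorph f H (cfRes X φ) = cfMorph f H φ :=
  cfRes_congr fun x hx => cfRes_of_mem φ (hX (ap_mem_img f hx (hH hx)))

theorem cfRes_cfMorph (hK : K ≤ H) (φ : Γ' → ℂ) : cfRes K (cfMorph f H φ) = cfMorph f K φ :=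
  cfRes_cfRes hK _

theorem cfAut_cfMorph (u : ℂ →+* ℂ) (H : Subgroup Γ) (φ : Γ' → ℂ) :
    cfAut u (cfMorph f H φ) = cfMorph f H (cfAut u φ) :=
  cfAut_cfRes u H _

theorem cfConj_cfMorph (hH : H ≤ D) {g : Γ} (hg : g ∈ D) (hgH : g ∈ N[H]) (φ : Γ' → ℂ) :
    cfConj g (cfMorph f H φ) = cfMorph f H (cfConj (ap f g) φ) := by
  change cfConj g (cfRes H _) = cfRes H _
  rw [cfConj_cfRes hgH]
  exact cfRes_congr fun x hx => by simp only [cfConj_apply, ap_conj f hg (hH hx)]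

theorem cfdot_cfMorph (hH : H ≤ D) (φ ψ : Γ' → ℂ) :
    cfdot H (cfMorph f H φ) (cfMorph f H ψ) = cfdot (img f H) φ ψ := by
  change cfdot H (cfRes H _) (cfRes H _) = _
  rw [cfdot_cfRes_left, cfdot_cfRes_right, cfdot_def, cfdot_def,
    sum_fs_ap f hH (fun y => φ y * conj (ψ y)), ← card_img_mul f hH, nsmul_eq_mul]
  have h1 := cardC_ne_zero (pre f ⊥ ⊓ H)
  have h2 := cardC_ne_zero (img f H)
  push_cast
  field_simp

theorem cfnorm_cfMorph (hH : H ≤ D) (φ : Γ' → ℂ) :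
    cfnorm H (cfMorph f H φ) = cfnorm (img f H) φ :=
  cfnorm_congr_dot (cfdot_cfMorph f hH φ φ)

theorem cfMorph_inj (hH : H ≤ D) (hφ : φ ∈ cfOn (img f H : Set Γ')) (hψ : ψ ∈ cfOn (img f H : Set Γ'))
    (h : cfMorph f H φ = cfMorph f H ψ) : φ = ψ :=
  ext_on hφ hψ fun y hy => by
    obtain ⟨x, hx, rfl⟩ := (mem_img_of_le hH).mp hy
    rw [← cfMorph_apply f φ hx, h, cfMorph_apply f ψ hx]

/-- the surjection `H → f(H)`. -/
def imgHom (hH : H ≤ D) : H →* img f H :=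
  (f.comp (Subgroup.inclusion hH)).codRestrict (img f H) fun x => by
    have := ap_mem_img f x.2 (hH x.2)
    rwa [ap_of_mem f (hH x.2)] at this

theorem coe_imgHom (hH : H ≤ D) (x : H) : (imgHom f hH x : Γ') = ap f x :=
  (ap_of_mem f (hH x.2)).symm

theorem IsChar.morph (hH : H ≤ D) (hφ : IsChar (img f H) φ) : IsChar H (cfMorph f H φ) := by
  refine ⟨?_, cfMorph_mem_cfOn f H φ⟩
  convert hφ.1.comp (imgHom f hH) using 1
  funext x
  rw [cfMorph_apply f φ x.2, coe_imgHom]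

theorem irr_morph (hH : H ≤ D) (hφ : φ ∈ Irr (img f H)) : cfMorph f H φ ∈ Irr H :=
  irr_of_dot_one ((irr_char hφ).morph f hH) (by rw [cfdot_cfMorph f hH, irr_dot_self hφ])

theorem IsLin.morph (hH : H ≤ D) (hφ : IsLin (img f H) φ) : IsLin H (cfMorph f H φ) :=
  ⟨irr_morph f hH hφ.1, by rw [cfMorph_apply_one, hφ.2]⟩

theorem vchar_morph (hH : H ≤ D) (hφ : φ ∈ vchar (img f H)) : cfMorph f H φ ∈ vchar H :=
  map_mem_of_zsp (cfMorph f H) (fun χ hχ => irr_vchar (irr_morph f hH hχ)) hφ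

theorem ker_le_cfker_cfMorph (hH : H ≤ D) (φ : Γ' → ℂ) :
    H ⊓ pre f ⊥ ≤ cfker H (cfMorph f H φ) := fun x hx => by
  refine ⟨hx.1, fun y => ?_⟩
  by_cases hy : y ∈ H
  · rw [cfMorph_apply f φ (H.mul_mem hx.1 hy), cfMorph_apply f φ hy, ap_mul f (hH hx.1) (hH hy),
      (mem_pre_bot.mp hx.2).2, one_mul]
  · rw [cfMorph_of_not_mem f φ hy, cfMorph_of_not_mem f φ (fun h => hy ((H.mul_mem_cancel_left hx.1).mp h))]

theorem cfker_cfMorph (hH : H ≤ D) (hφ : φ ∈ cfOn (img f H : Set Γ')) :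
    cfker H (cfMorph f H φ) = H ⊓ pre f (cfker (img f H) φ) := by
  ext x
  constructor
  · rintro ⟨hx, h⟩
    have hx' := ap_mem_img f hx (hH hx)
    refine ⟨hx, mem_pre.mpr ⟨hH hx, hx', fun z => ?_⟩⟩
    by_cases hz : z ∈ img f H
    · obtain ⟨y, hy, rfl⟩ := (mem_img_of_le hH).mp hz
      rw [← ap_mul f (hH hx) (hH hy), ← cfMorph_apply f φ (H.mul_mem hx hy), h,
        cfMorph_apply f φ hy]
    · rw [hφ z hz, hφ _ (fun h => hz (((img f H).mul_mem_cancel_left hx').mp h))]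
  · rintro ⟨hx, h⟩
    refine ⟨hx, fun y => ?_⟩
    by_cases hy : y ∈ H
    · rw [cfMorph_apply f φ (H.mul_mem hx hy), cfMorph_apply f φ hy, ap_mul f (hH hx) (hH hy),
        (mem_pre.mp h).2.2]
    · rw [cfMorph_of_not_mem f φ hy,
        cfMorph_of_not_mem f φ (fun h => hy ((H.mul_mem_cancel_left hx).mp h))]

theorem le_cfker_cfMorph (hH : H ≤ D) (hK : K ≤ H) (hφ : φ ∈ cfOn (img f H : Set Γ')) :
    K ≤ cfker H (cfMorph f H φ) ↔ img f K ≤ cfker (img f H) φ := by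
  rw [cfker_cfMorph f hH hφ, img_le_iff (hK.trans hH), le_inf_iff]
  exact and_iff_right hK

theorem mem_CF_of_cfMorph (hH : H ≤ D) (hφ : φ ∈ cfOn (img f H : Set Γ'))
    (h : cfMorph f H φ ∈ CF H) : φ ∈ CF (img f H) :=
  mem_CF_of hφ fun a ha b hb => by
    obtain ⟨g, hg, rfl⟩ := (mem_img_of_le hH).mp ha
    obtain ⟨y, hy, rfl⟩ := (mem_img_of_le hH).mp hb
    rw [← ap_conj f (hH hg) (hH hy), ← cfMorph_apply f φ hy,
      ← cfMorph_apply f φ ((conj_mem_iff_of_mem hg y).mpr hy), CF_conj h hg]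

theorem exists_cfMorph_eq' (hH : H ≤ D) {χ : Γ → ℂ} (hχ : χ ∈ cfOn (H : Set Γ))
    (hk : H ⊓ pre f ⊥ ≤ cfker H χ) : ∃ φ ∈ cfOn (img f H : Set Γ'), cfMorph f H φ = χ := by
  classical
  refine ⟨fun z => if h : z ∈ img f H then χ (Classical.choose ((mem_img_of_le hH).mp h)) else 0,
    fun z hz => dif_neg hz, ext_on (cfMorph_mem_cfOn f H _) hχ fun x hx => ?_⟩
  have hx' := ap_mem_img f hx (hH hx)
  rw [cfMorph_apply f _ hx, dif_pos hx']
  obtain ⟨hc, hc'⟩ := Classical.choose_spec ((mem_img_of_le hH).mp hx')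
  set c := Classical.choose ((mem_img_of_le hH).mp hx')
  have : x * c⁻¹ ∈ cfker H χ := hk ⟨H.mul_mem hx (H.inv_mem hc), mem_pre_bot.mpr
    ⟨D.mul_mem (hH hx) (D.inv_mem (hH hc)), by
      rw [ap_mul f (hH hx) (D.inv_mem (hH hc)), ap_inv f (hH hc), hc', mul_inv_cancel]⟩⟩
  rw [← cfker_mul_left this c, inv_mul_cancel_right]

theorem exists_cfMorph_eq (hH : H ≤ D) {χ : Γ → ℂ} (hχ : χ ∈ CF H) (hk : H ⊓ pre f ⊥ ≤ cfker H χ) :
    ∃ φ ∈ CF (img f H), cfMorph f H φ = χ := by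
  obtain ⟨φ, hφ, rfl⟩ := exists_cfMorph_eq' f hH (CF_le_cfOn H hχ) hk
  exact ⟨φ, mem_CF_of_cfMorph f hH hφ hχ, rfl⟩

theorem char_of_morph (hH : H ≤ D) (hφ : φ ∈ cfOn (img f H : Set Γ'))
    (h : IsChar H (cfMorph f H φ)) : IsChar (img f H) φ :=
  isChar_of_dot (mem_CF_of_cfMorph f hH hφ h.CF) fun χ hχ => by
    rw [← cfdot_cfMorph f hH]; exact char_dot_nat h ((irr_char hχ).morph f hH)

theorem vchar_of_morph (hH : H ≤ D) (hφ : φ ∈ cfOn (img f H : Set Γ'))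
    (h : cfMorph f H φ ∈ vchar H) : φ ∈ vchar (img f H) :=
  mem_vchar_of_dot (mem_CF_of_cfMorph f hH hφ (vchar_CF h)) fun χ hχ => by
    rw [← cfdot_cfMorph f hH]; exact vchar_dot_int h (vchar_morph f hH (irr_vchar hχ))

theorem irr_of_morph (hH : H ≤ D) (hφ : φ ∈ cfOn (img f H : Set Γ'))
    (h : cfMorph f H φ ∈ Irr H) : φ ∈ Irr (img f H) :=
  irr_of_dot_one (char_of_morph f hH hφ (irr_char h)) (by rw [← cfdot_cfMorph f hH, irr_dot_self h])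

theorem exists_irr_morph_eq (hH : H ≤ D) {χ : Γ → ℂ} (hχ : χ ∈ Irr H)
    (hk : H ⊓ pre f ⊥ ≤ cfker H χ) : ∃ φ ∈ Irr (img f H), cfMorph f H φ = χ := by
  obtain ⟨φ, hφ, rfl⟩ := exists_cfMorph_eq' f hH (irr_cfOn hχ) hk
  exact ⟨φ, irr_of_morph f hH hφ hχ, rfl⟩

theorem exists_char_morph_eq (hH : H ≤ D) {χ : Γ → ℂ} (hχ : IsChar H χ)
    (hk : H ⊓ pre f ⊥ ≤ cfker H χ) : ∃ φ, IsChar (img f H) φ ∧ cfMorph f H φ = χ := by
  obtain ⟨φ, hφ, rfl⟩ := exists_cfMorph_eq' f hH hχ.cfOn hk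
  exact ⟨φ, char_of_morph f hH hφ hχ, rfl⟩

theorem image_cfMorph_Irr [DecidableEq (Γ → ℂ)] (hH : H ≤ D) :
    (Irr (img f H)).image (cfMorph f H) = irrK H (H ⊓ pre f ⊥) := by
  ext χ
  rw [Finset.mem_image, mem_irrK]
  constructor
  · rintro ⟨φ, hφ, rfl⟩
    exact ⟨irr_morph f hH hφ, ker_le_cfker_cfMorph f hH φ⟩
  · rintro ⟨h1, h2⟩
    exact exists_irr_morph_eq f hH h1 h2

theorem cfMorph_injOn_Irr (hH : H ≤ D) : Set.InjOn (cfMorph f H) (Irr (img f H) : Set (Γ' → ℂ)) :=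
  fun _ h1 _ h2 h => cfMorph_inj f hH (irr_cfOn h1) (irr_cfOn h2) h

theorem cfMorph_eq_cfOne_iff (hH : H ≤ D) (hφ : φ ∈ cfOn (img f H : Set Γ')) :
    cfMorph f H φ = cfOne H ↔ φ = cfOne (img f H) :=
  ⟨fun h => cfMorph_inj f hH hφ (CF_le_cfOn _ (cfOne_mem_CF _)) (h.trans (cfMorph_cfOne f hH).symm),
    fun h => h ▸ cfMorph_cfOne f hH⟩

@[simp] theorem deg_cfMorph (H : Subgroup Γ) (φ : Γ' → ℂ) : deg (cfMorph f H φ) = deg φ :=
  deg_congr (cfMorph_apply_one f H φ)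

theorem mem_iff_ap_mem_img (hH : H ≤ G) (hG : G ≤ D) (hk : G ⊓ pre f ⊥ ≤ H) (hx : x ∈ G) :
    ap f x ∈ img f H ↔ x ∈ H := by
  refine ⟨fun h => ?_, fun h => ap_mem_img f h (hG hx)⟩
  obtain ⟨y, hy, e⟩ := (mem_img_of_le (hH.trans hG)).mp h
  have : x * y⁻¹ ∈ H := hk ⟨G.mul_mem hx (G.inv_mem (hH hy)), mem_pre_bot.mpr
    ⟨D.mul_mem (hG hx) (D.inv_mem (hG (hH hy))), by
      rw [ap_mul f (hG hx) (D.inv_mem (hG (hH hy))), ap_inv f (hG (hH hy)), e, mul_inv_cancel]⟩⟩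
  simpa using H.mul_mem this hy

/-- (1.6)(b). -/
theorem cfInd_cfMorph (hH : H ≤ G) (hG : G ≤ D) (hk : G ⊓ pre f ⊥ ≤ H) (φ : Γ' → ℂ) :
    cfInd G H (cfMorph f H φ) = cfMorph f G (cfInd (img f G) (img f H) φ) := by
  refine ext_on (CF_le_cfOn _ (cfInd_mem_CF _ _ _)) (cfMorph_mem_cfOn f G _) fun x hx => ?_
  rw [cfInd_of_mem H _ hx, cfMorph_apply f _ hx, cfInd_of_mem _ _ (ap_mem_img f hx (hG hx))]
  have e : pre f ⊥ ⊓ G = pre f ⊥ ⊓ H :=
    le_antisymm (le_inf inf_le_left (by rw [inf_comm]; exact hk)) (inf_le_inf_left _ hH)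
  rw [sum_fs_congr (g := fun g => cfRes (img f H) φ (ap f g * ap f x * (ap f g)⁻¹)) (fun g hg => ?_),
    sum_fs_ap f hG (fun z => cfRes (img f H) φ (z * ap f x * z⁻¹)), ← card_img_mul f (hH.trans hG),
    e, nsmul_eq_mul]
  · have h1 := cardC_ne_zero (pre f ⊥ ⊓ H)
    have h2 := cardC_ne_zero (img f H)
    push_cast
    field_simp
  · have hy : g * x * g⁻¹ ∈ G := (conj_mem_iff_of_mem hg x).mpr hx
    rw [← ap_conj f (hG hg) (hG hx), cfRes_eq_self (cfMorph_mem_cfOn f H φ)]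
    by_cases h : g * x * g⁻¹ ∈ H
    · rw [cfMorph_apply f φ h, cfRes_of_mem φ ((mem_iff_ap_mem_img f hH hG hk hy).mpr h)]
    · rw [cfMorph_of_not_mem f φ h,
        cfRes_of_not_mem φ (fun h' => h ((mem_iff_ap_mem_img f hH hG hk hy).mp h'))]

theorem cfConj_mem_cfOn_of_mem_N {X : Subgroup Γ'} {z : Γ'} (hz : z ∈ N[X]) (hφ : φ ∈ cfOn (X : Set Γ')) :
    cfConj z φ ∈ cfOn (X : Set Γ') :=
  fun y hy => hφ _ fun h => hy ((conj_mem_iff hz y).mp h)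

theorem inertia_cfMorph (hH : H ⊴ G) (hG : G ≤ D) (hφ : φ ∈ cfOn (img f H : Set Γ')) :
    inertia G (cfMorph f H φ) = G ⊓ pre f (inertia (img f G) φ) := by
  ext g
  rw [mem_inertia, Subgroup.mem_inf, mem_pre, mem_inertia]
  refine and_congr_right fun hg => ?_
  rw [cfConj_cfMorph f (hH.le.trans hG) (hG hg) (hH.norm hg)]
  refine ⟨fun h => ⟨hG hg, ap_mem_img f hg (hG hg), cfMorph_inj f (hH.le.trans hG)
    (cfConj_mem_cfOn_of_mem_N (ap_mem_N f (hH.norm hg) (hG hg)) hφ) hφ h⟩, fun h => by rw [h.2.2]⟩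

end morph

/-! ## inflation from a quotient -/
section mod
variable {G H K : Subgroup Γ} {φ : QN K → ℂ}

theorem inf_ker_coset (hK : K ≤ H) : H ⊓ pre (coset K) ⊥ = K := by
  rw [ker_coset, inf_eq_right.mpr hK]

theorem le_cfker_cfMod (hK : K ⊴ H) (φ : QN K → ℂ) : K ≤ cfker H (cfMod K H φ) := by
  have := ker_le_cfker_cfMorph (coset K) hK.norm φ
  rwa [inf_ker_coset hK.le] at this

theorem irr_mod (hK : K ⊴ H) (hφ : φ ∈ Irr (quo H K)) : cfMod K H φ ∈ irrK H K :=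
  mem_irrK.mpr ⟨irr_morph _ hK.norm hφ, le_cfker_cfMod hK φ⟩

theorem exists_irr_mod_eq (hH : H ≤ N[K]) {χ : Γ → ℂ} (hχ : χ ∈ Irr H) (hk : H ⊓ K ≤ cfker H χ) :
    ∃ φ ∈ Irr (quo H K), cfMod K H φ = χ :=
  exists_irr_morph_eq _ hH hχ (by rwa [ker_coset])

theorem image_cfMod_Irr [DecidableEq (Γ → ℂ)] (hK : K ⊴ H) :
    (Irr (quo H K)).image (cfMod K H) = irrK H K := by
  rw [image_cfMorph_Irr _ hK.norm, inf_ker_coset hK.le]

theorem card_irrK_eq_quo (hK : K ⊴ H) : (irrK H K).card = (Irr (quo H K)).card := by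
  classical
  rw [← image_cfMod_Irr hK, Finset.card_image_of_injOn (cfMorph_injOn_Irr _ hK.norm)]

theorem sum_irrK_eq_quo {N : Type*} [AddCommMonoid N] (hK : K ⊴ H) (F : (Γ → ℂ) → N) :
    ∑ χ ∈ irrK H K, F χ = ∑ φ ∈ Irr (quo H K), F (cfMod K H φ) := by
  classical
  rw [← image_cfMod_Irr hK, Finset.sum_image (cfMorph_injOn_Irr _ hK.norm)]

theorem cfInd_cfMod (hK : K ⊴ G) (hKH : K ≤ H) (hH : H ≤ G) (φ : QN K → ℂ) :
    cfInd G H (cfMod K H φ) = cfMod K G (cfInd (quo G K) (quo H K) φ) :=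
  cfInd_cfMorph _ hH hK.norm (by rw [ker_coset]; exact inf_le_right.trans hKH) φ

end mod

/-! ## conjugate subgroups -/
section cjg
variable {G H K : Subgroup Γ} {φ ψ : Γ → ℂ} (g : Γ)

theorem cfConj_inv_apply (φ : Γ → ℂ) (x : Γ) : cfConj g⁻¹ φ x = φ (g⁻¹ * x * g) := by
  rw [cfConj_apply, inv_inv]

theorem cfConj_inv_conj (φ : Γ → ℂ) (x : Γ) : cfConj g⁻¹ φ (g * x * g⁻¹) = φ x := by
  rw [cfConj_inv_apply]; congr 1; group

theorem cfConj_mem_cfOn_cj (hφ : φ ∈ cfOn (H : Set Γ)) : cfConj g⁻¹ φ ∈ cfOn (cj g H : Set Γ) :=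
  fun x hx => by rw [cfConj_inv_apply]; exact hφ _ fun h => hx (mem_cj.mpr h)

theorem cfConj_mem_CF_cj (hφ : φ ∈ CF H) : cfConj g⁻¹ φ ∈ CF (cj g H) :=
  ⟨cfConj_mem_cfOn_cj g (CF_le_cfOn H hφ), fun k hk x => by
    rw [cfConj_inv_apply, cfConj_inv_apply, ← CF_conj hφ (mem_cj.mp hk) (g⁻¹ * x * g)]
    congr 1; group⟩

theorem sum_fs_cj {N : Type*} [AddCommMonoid N] (H : Subgroup Γ) (F : Γ → N) :
    ∑ x ∈ fs (cj g H : Set Γ), F x = ∑ x ∈ fs (H : Set Γ), F (g * x * g⁻¹) :=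
  (sum_fs_bij (fun x => g * x * g⁻¹) ⟨fun x hx => conj_mem_cj g hx,
    fun a _ b _ h => by simpa using h,
    fun y hy => by obtain ⟨x, hx, rfl⟩ := mem_cj'.mp hy; exact ⟨x, hx, rfl⟩⟩ F).symm

theorem cfdot_cfConj_cj (H : Subgroup Γ) (φ ψ : Γ → ℂ) :
    cfdot (cj g H) (cfConj g⁻¹ φ) (cfConj g⁻¹ ψ) = cfdot H φ ψ := by
  rw [cfdot_def, cfdot_def, card_cj, sum_fs_cj]
  simp only [cfConj_inv_conj]

theorem cfnorm_cfConj_cj (H : Subgroup Γ) (φ : Γ → ℂ) :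
    cfnorm (cj g H) (cfConj g⁻¹ φ) = cfnorm H φ :=
  cfnorm_congr_dot (cfdot_cfConj_cj g H φ φ)

/-- conjugation as a morphism `g H g⁻¹ → H`. -/
def cjHom (H : Subgroup Γ) : H24.cj g H →* H where
  toFun x := ⟨g⁻¹ * x * g, mem_cj.mp x.2⟩
  map_one' := by ext; simp
  map_mul' x y := by ext; simp [mul_assoc]

theorem IsChar.cj (hφ : IsChar H φ) : IsChar (cj g H) (cfConj g⁻¹ φ) := by
  refine ⟨?_, cfConj_mem_cfOn_cj g hφ.cfOn⟩
  convert hφ.1.comp (cjHom g H) using 1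
  funext x
  rw [cfConj_inv_apply]; rfl

theorem irr_cj (hφ : φ ∈ Irr H) : cfConj g⁻¹ φ ∈ Irr (cj g H) :=
  irr_of_dot_one ((irr_char hφ).cj g) (by rw [cfdot_cfConj_cj, irr_dot_self hφ])

theorem vchar_cj (hφ : φ ∈ vchar H) : cfConj g⁻¹ φ ∈ vchar (cj g H) :=
  map_mem_of_zsp (cfConj g⁻¹) (fun χ hχ => irr_vchar (irr_cj g hχ)) hφ

theorem cfker_cj (H : Subgroup Γ) (φ : Γ → ℂ) :
    cfker (cj g H) (cfConj g⁻¹ φ) = cj g (cfker H φ) := by
  ext x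
  rw [mem_cfker, mem_cj, mem_cj, mem_cfker]
  refine and_congr_right fun _ => ⟨fun h y => ?_, fun h y => ?_⟩
  · have := h (g * y * g⁻¹)
    rw [cfConj_inv_conj, cfConj_inv_apply] at this
    rw [← this]; congr 1; group
  · rw [cfConj_inv_apply, cfConj_inv_apply, ← h (g⁻¹ * y * g)]; congr 1; group

theorem cfRes_cj (H : Subgroup Γ) (φ : Γ → ℂ) :
    cfRes (cj g H) (cfConj g⁻¹ φ) = cfConj g⁻¹ (cfRes H φ) := by
  funext x
  by_cases hx : x ∈ cj g H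
  · rw [cfRes_of_mem _ hx, cfConj_inv_apply, cfConj_inv_apply, cfRes_of_mem _ (mem_cj.mp hx)]
  · rw [cfRes_of_not_mem _ hx, cfConj_inv_apply, cfRes_of_not_mem _ (fun h => hx (mem_cj.mpr h))]

theorem cfOne_cj (H : Subgroup Γ) : cfConj g⁻¹ (cfOne H) = cfOne (cj g H) :=
  (cfRes_cj g H 1).symm

theorem cfInd_cj (G H : Subgroup Γ) (φ : Γ → ℂ) :
    cfInd (cj g G) (cj g H) (cfConj g⁻¹ φ) = cfConj g⁻¹ (cfInd G H φ) := by
  rw [cfInd_def, cfInd_def, ← cfRes_cj, card_cj]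
  congr 1
  funext x
  rw [cfConj_inv_apply, sum_fs_cj, cfRes_cj]
  congr 1
  refine Finset.sum_congr rfl fun k _ => ?_
  rw [cfConj_inv_apply]; congr 1; group

theorem cfInd_cj_of_mem {g : Γ} (hg : g ∈ G) (H : Subgroup Γ) (φ : Γ → ℂ) :
    cfInd G (cj g H) (cfConj g⁻¹ φ) = cfInd G H φ := by
  have := cfInd_cj g G H φ
  rwa [cj_of_mem hg, cfConj_CF (cfInd_mem_CF _ _ _) (G.inv_mem hg)] at this

end cjg

/-! ## products `M = K H` with `K ⊴ M` (covers `cfSdprod`, `cfDprodl`, `cfDprodr`) -/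
section prod
variable {M K H A B G : Subgroup Γ} {χ χ' θ i j i' j' : Γ → ℂ}

theorem cfdot_res_of_ker (h : IsProd K H M) (hχ : K ≤ cfker M χ) (hχ' : K ≤ cfker M χ') :
    cfdot H χ χ' = cfdot M χ χ' := by
  have h1 := sum_fs_isProd h (fun x => χ x * conj (χ' x))
  rw [sum_fs_congr (g := fun _ => ∑ x ∈ fs (H : Set Γ), χ x * conj (χ' x))
    (fun k hk => Finset.sum_congr rfl fun x _ => by
      rw [cfker_mul_left (hχ hk), cfker_mul_left (hχ' hk)]), sum_fs_const, nsmul_eq_mul,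
    nsmul_eq_mul] at h1
  have h2 : (Nat.card M : ℂ) * Nat.card ↥(K ⊓ H) = Nat.card K * Nat.card H := by
    exact_mod_cast h.card
  have h3 := cardC_ne_zero M
  have h4 := cardC_ne_zero K
  have h5 := cardC_ne_zero H
  have h6 := cardC_ne_zero (K ⊓ H)
  rw [cfdot_def, cfdot_def]
  change (Nat.card K : ℂ) * _ = _ at h1
  field_simp
  apply mul_left_cancel₀ h6
  linear_combination (Nat.card M : ℂ)⁻¹ * 0 + (∑ x ∈ fs (H : Set Γ), χ x * conj (χ' x)) * h2 +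
    (Nat.card H : ℂ) * h1

theorem irrK_res (h : IsProd K H M) (hχ : χ ∈ irrK M K) : cfRes H χ ∈ irrK H (K ⊓ H) := by
  obtain ⟨h1, h2⟩ := mem_irrK.mp hχ
  refine mem_irrK.mpr ⟨irr_of_dot_one ((irr_char h1).res h.right_le) ?_,
    le_cfker_cfRes (inf_le_left.trans h2) inf_le_right⟩
  rw [cfdot_cfRes_left, cfdot_cfRes_right, cfdot_res_of_ker h h2 h2, irr_dot_self h1]

theorem res_inj_of_ker (h : IsProd K H M) (h0 : χ ∈ cfOn (M : Set Γ)) (h0' : χ' ∈ cfOn (M : Set Γ))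
    (hχ : K ≤ cfker M χ) (hχ' : K ≤ cfker M χ') (he : ∀ x ∈ H, χ x = χ' x) : χ = χ' :=
  ext_on h0 h0' fun m hm => by
    obtain ⟨a, ha, b, hb, rfl⟩ := h.mul m hm
    rw [cfker_mul_left (hχ ha), cfker_mul_left (hχ' ha), he b hb]

theorem exists_char_ext (h : IsProd K H M) (hK : K ⊴ M) (hθ : IsChar H θ)
    (hk : K ⊓ H ≤ cfker H θ) : ∃ χ, IsChar M χ ∧ K ≤ cfker M χ ∧ cfRes H χ = θ := by
  obtain ⟨φ, hφ, rfl⟩ := exists_char_morph_eq (coset K) (h.right_le.trans hK.norm) hθ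
    (by rw [ker_coset, inf_comm]; exact hk)
  refine ⟨cfMod K M φ, IsChar.morph _ hK.norm ?_, le_cfker_cfMod hK φ, cfRes_cfMorph _ h.right_le φ⟩
  have e : quo M K = quo H K := h.quo_eq hK.norm
  change IsChar (quo M K) φ
  rwa [e]

theorem exists_irrK_ext (h : IsProd K H M) (hK : K ⊴ M) (hθ : θ ∈ irrK H (K ⊓ H)) :
    ∃ χ ∈ irrK M K, cfRes H χ = θ := by
  obtain ⟨h1, h2⟩ := mem_irrK.mp hθ
  obtain ⟨χ, hχ, hk, rfl⟩ := exists_char_ext h hK (irr_char h1) h2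
  exact ⟨χ, mem_irrK.mpr ⟨irr_of_res hχ h.right_le h1, hk⟩, rfl⟩

theorem cfRes_injOn_irrK (h : IsProd K H M) : Set.InjOn (cfRes H) (irrK M K : Set (Γ → ℂ)) :=
  fun χ h1 χ' h2 e => res_inj_of_ker h (irr_cfOn (mem_irrK.mp h1).1) (irr_cfOn (mem_irrK.mp h2).1)
    (mem_irrK.mp h1).2 (mem_irrK.mp h2).2 fun x hx => by
      rw [← cfRes_of_mem χ hx, e, cfRes_of_mem χ' hx]

theorem image_cfRes_irrK [DecidableEq (Γ → ℂ)] (h : IsProd K H M) (hK : K ⊴ M) :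
    (irrK M K).image (cfRes H) = irrK H (K ⊓ H) := by
  ext θ
  rw [Finset.mem_image]
  exact ⟨fun ⟨χ, h1, h2⟩ => h2 ▸ irrK_res h h1, exists_irrK_ext h hK⟩

theorem card_irrK_of_isProd (h : IsProd K H M) (hK : K ⊴ M) :
    (irrK M K).card = (irrK H (K ⊓ H)).card := by
  classical
  rw [← image_cfRes_irrK h hK, Finset.card_image_of_injOn (cfRes_injOn_irrK h)]

theorem card_irrK_of_sd (h : SD K H M) : (irrK M K).card = (Irr H).card := by
  rw [card_irrK_of_isProd h.isProd h.nml, h.inf, irrK_bot]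

theorem sum_irrK_of_sd {N : Type*} [AddCommMonoid N] (h : SD K H M) (F : (Γ → ℂ) → N) :
    ∑ χ ∈ irrK M K, F (cfRes H χ) = ∑ θ ∈ Irr H, F θ := by
  classical
  rw [← irrK_bot H, ← h.inf, ← image_cfRes_irrK h.isProd h.nml,
    Finset.sum_image (cfRes_injOn_irrK h.isProd)]

/-- Mackey for a product: `Res_H Ind_X^M θ = Ind_{X ⊓ H}^H θ` when `M = X H`. -/
theorem cfRes_cfInd_of_prod {X : Subgroup Γ} (h : IsProd X H M) (hθ : θ ∈ CF X) :
    cfRes H (cfInd M X θ) = cfInd H (X ⊓ H) θ := by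
  refine ext_on (cfRes_mem_cfOn _ _) (CF_le_cfOn _ (cfInd_mem_CF _ _ _)) fun x hx => ?_
  rw [cfRes_of_mem _ hx, cfInd_of_mem _ _ (h.right_le hx), cfInd_of_mem _ _ hx, cfRes_CF hθ]
  have h1 := sum_fs_isProd h (fun m => θ (m * x * m⁻¹))
  rw [sum_fs_congr (g := fun _ => ∑ k ∈ fs (H : Set Γ), cfRes (X ⊓ H) θ (k * x * k⁻¹))
    (fun a ha => sum_fs_congr fun k hk => ?_), sum_fs_const, nsmul_eq_mul, nsmul_eq_mul] at h1
  · have h4 := cardC_ne_zero X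
    have h6 := cardC_ne_zero (X ⊓ H)
    change (Nat.card X : ℂ) * _ = _ at h1
    field_simp
    linear_combination -h1
  · have e : a * k * x * (a * k)⁻¹ = a * (k * x * k⁻¹) * a⁻¹ := by group
    rw [e, CF_conj hθ ha]
    have hy : k * x * k⁻¹ ∈ H := (conj_mem_iff_of_mem hk x).mpr hx
    by_cases hX : k * x * k⁻¹ ∈ X
    · rw [cfRes_of_mem _ (show _ ∈ X ⊓ H from ⟨hX, hy⟩)]
    · rw [cfRes_of_not_mem _ (fun h : _ ∈ X ⊓ H => hX h.1), CF_zero hθ hX]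

theorem dprod_mul_apply (h : DP A B G) (hi : B ≤ cfker G i) (hj : A ≤ cfker G j) {a b : Γ}
    (ha : a ∈ A) (hb : b ∈ B) : (i * j) (a * b) = i a * j b := by
  rw [Pi.mul_apply, cfker_mul_left (hj ha), ← comm_of_cent h.cent hb ha, cfker_mul_left (hi hb)]

theorem dprod_cfdot (h : DP A B G) (hi : B ≤ cfker G i) (hi' : B ≤ cfker G i')
    (hj : A ≤ cfker G j) (hj' : A ≤ cfker G j') :
    cfdot G (i * j) (i' * j') = cfdot G i i' * cfdot G j j' := by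
  rw [← cfdot_res_of_ker h.isProd.symm hi hi', ← cfdot_res_of_ker h.isProd hj hj', cfdot_def,
    cfdot_def, cfdot_def]
  have h1 := sum_fs_isProd h.isProd (fun x => (i * j) x * conj ((i' * j') x))
  rw [h.inf, Subgroup.card_bot, one_smul] at h1
  rw [← h1, h.card, sum_fs_congr (g := fun a => ∑ b ∈ fs (B : Set Γ),
    (i a * conj (i' a)) * (j b * conj (j' b))) (fun a ha => sum_fs_congr fun b hb => by
      rw [dprod_mul_apply h hi hj ha hb, dprod_mul_apply h hi' hj' ha hb, map_mul]; ring),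
    ← Finset.sum_mul_sum]
  push_cast
  ring

theorem dprod_irr (h : DP A B G) (hi : i ∈ irrK G B) (hj : j ∈ irrK G A) : i * j ∈ Irr G := by
  obtain ⟨h1, h2⟩ := mem_irrK.mp hi
  obtain ⟨h3, h4⟩ := mem_irrK.mp hj
  exact irr_of_dot_one ((irr_char h1).mul (irr_char h3))
    (by rw [dprod_cfdot h h2 h2 h4 h4, irr_dot_self h1, irr_dot_self h3, one_mul])

theorem dprod_inj (h : DP A B G) (hi : i ∈ irrK G B) (hj : j ∈ irrK G A) (hi' : i' ∈ irrK G B)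
    (hj' : j' ∈ irrK G A) : i * j = i' * j' ↔ i = i' ∧ j = j' := by
  refine ⟨fun e => ?_, fun e => by rw [e.1, e.2]⟩
  have h0 := irr_dot_self (dprod_irr h hi hj)
  obtain ⟨h1, h2⟩ := mem_irrK.mp hi
  obtain ⟨h3, h4⟩ := mem_irrK.mp hj
  obtain ⟨h1', h2'⟩ := mem_irrK.mp hi'
  obtain ⟨h3', h4'⟩ := mem_irrK.mp hj'
  nth_rewrite 2 [e] at h0
  rw [dprod_cfdot h h2 h2' h4 h4'] at h0
  exact ⟨irr_eq_of_dot_ne h1 h1' (left_ne_zero_of_mul_eq_one h0),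
    irr_eq_of_dot_ne h3 h3' (right_ne_zero_of_mul_eq_one h0)⟩

theorem dprod_injOn (h : DP A B G) : Set.InjOn (fun p : (Γ → ℂ) × (Γ → ℂ) => p.1 * p.2)
    (irrK G B ×ˢ irrK G A : Finset _) := fun p hp q hq e => by
  have hp' := Finset.mem_product.mp hp
  have hq' := Finset.mem_product.mp hq
  obtain ⟨e1, e2⟩ := (dprod_inj h hp'.1 hp'.2 hq'.1 hq'.2).mp e
  exact Prod.ext e1 e2

theorem dprod_image [DecidableEq (Γ → ℂ)] (h : DP A B G) :
    (irrK G B ×ˢ irrK G A).image (fun p : (Γ → ℂ) × (Γ → ℂ) => p.1 * p.2) = Irr G := by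
  have hs : (irrK G B ×ˢ irrK G A).image (fun p : (Γ → ℂ) × (Γ → ℂ) => p.1 * p.2) ⊆ Irr G := by
    intro χ hχ
    obtain ⟨p, hp, rfl⟩ := Finset.mem_image.mp hχ
    exact dprod_irr h (Finset.mem_product.mp hp).1 (Finset.mem_product.mp hp).2
  by_contra hne
  obtain ⟨χ, h1, h2⟩ := Finset.exists_of_ssubset (Finset.ssubset_iff_subset_ne.mpr ⟨hs, hne⟩)
  have := Finset.sum_lt_sum_of_subset (f := fun χ : Γ → ℂ => deg χ ^ 2) hs h1 h2
    (pow_pos (irr_deg_pos h1) 2) (fun _ _ _ => Nat.zero_le _)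
  rw [sum_Irr_deg_sq, Finset.sum_image (dprod_injOn h), Finset.sum_product,
    Finset.sum_congr rfl (g := fun i => ∑ j ∈ irrK G A, deg i ^ 2 * deg j ^ 2)
      (fun i hi => Finset.sum_congr rfl fun j hj => by
        rw [(irr_char (mem_irrK.mp hi).1).deg_mul (irr_char (mem_irrK.mp hj).1), mul_pow]),
    ← Finset.sum_mul_sum, sum_irrK_deg_sq h.nml_right, sum_irrK_deg_sq h.nml_left,
    h.sd.relIndex_left, h.sd.relIndex_right, h.card] at this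
  exact lt_irrefl _ this

theorem dprod_surj (h : DP A B G) (hχ : χ ∈ Irr G) :
    ∃ i ∈ irrK G B, ∃ j ∈ irrK G A, χ = i * j := by
  classical
  rw [← dprod_image h] at hχ
  obtain ⟨p, hp, rfl⟩ := Finset.mem_image.mp hχ
  exact ⟨p.1, (Finset.mem_product.mp hp).1, p.2, (Finset.mem_product.mp hp).2, rfl⟩

theorem dprod_sum_Irr {N : Type*} [AddCommMonoid N] (h : DP A B G) (F : (Γ → ℂ) → N) :
    ∑ χ ∈ Irr G, F χ = ∑ i ∈ irrK G B, ∑ j ∈ irrK G A, F (i * j) := by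
  classical
  rw [← dprod_image h, Finset.sum_image (dprod_injOn h), Finset.sum_product]

theorem dprod_irrK_inter (h : DP A B G) (hi : i ∈ irrK G B) (hj : i ∈ irrK G A) :
    i = cfOne G :=
  (irr_eq_cfOne_iff (mem_irrK.mp hi).1).mpr
    (by rw [← h.sup]; exact h.sup ▸ sup_le (mem_irrK.mp hj).2 (mem_irrK.mp hi).2)

end prod

end H27
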