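import Mathlib
import Cfsg.Agent.H27.Defs2
import Cfsg.Agent.H27.Morph
import Cfsg.Agent.H24.Base5
import Cfsg.Agent.H26.Coprime
import Cfsg.Agent.H4.Galois
import Cfsg.Agent.H5.BrauerPerm
import Cfsg.Agent.H5.Extend

/-!
# Peterfalvi §1: Brauer's permutation lemma, Frobenius groups, Galois action, (1.4)

The material on morphisms and products is in `H27.Morph`.
-/

set_option autoImplicit false
set_option linter.unusedSectionVars false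
set_option linter.unusedVariables false

namespace H27

open Cfsg H24 H4
open scoped ComplexConjugate

universe u v

variable {Γ : Type u} [Group Γ] [Finite Γ] {Γ' : Type v} [Group Γ'] [Finite Γ']

/-! ## Brauer's permutation lemma, Frobenius groups, extensions -/
section frob
variable {G H K L : Subgroup Γ} {χ θ : Γ → ℂ}

theorem image_carrier_mk (x : H) :
    Subtype.val '' (ConjClasses.mk x).carrier = classSupp {(x : Γ)} H := by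
  ext y
  simp only [Set.mem_image, ConjClasses.mem_carrier_iff_mk_eq, ConjClasses.mk_eq_mk_iff_isConj,
    H24.mem_classSupp, Set.mem_singleton_iff, exists_eq_left]
  constructor
  · rintro ⟨z, hz, rfl⟩
    obtain ⟨c, hc⟩ := isConj_iff.mp hz.symm
    exact ⟨c, c.2, (congrArg Subtype.val hc).symm⟩
  · rintro ⟨h, hh, rfl⟩
    exact ⟨⟨h, hh⟩ * x * (⟨h, hh⟩ : H)⁻¹, IsConj.symm (isConj_iff.mpr ⟨(⟨h, hh⟩ : H), rfl⟩), rfl⟩

/-- Brauer's permutation lemma for an element normalising `H`. -/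
theorem card_fix_irr_classes {g : Γ} (hg : g ∈ N[H]) :
    {θ | θ ∈ Irr H ∧ cfConj g θ = θ}.ncard =
      {c : Set Γ | ∃ x ∈ H, c = classSupp {x} H ∧ g * x * g⁻¹ ∈ c}.ncard := by
  have h := H5.brauer_perm (G := H)
    (fun χ => ⟨fun x => χ.1 (conjHom H hg x), χ.2.comp_mulEquiv (conjHom H hg)⟩)
    (ConjClasses.map (conjHom H hg).toMonoidHom) (conjHom H hg) (fun _ _ => rfl) (fun _ => rfl)
  have e1 : {θ | θ ∈ Irr H ∧ cfConj g θ = θ} = (fun χ : IrrCharacter H => extendByZero H χ.1) ''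
      {χ | (⟨fun x => χ.1 (conjHom H hg x), χ.2.comp_mulEquiv (conjHom H hg)⟩ :
        IrrCharacter H) = χ} := by
    ext θ
    constructor
    · rintro ⟨h1, h2⟩
      refine ⟨⟨_, (mem_Irr.mp h1).1⟩, Subtype.ext (funext fun x => congrFun h2 x), ?_⟩
      change extendByZero H (fun x : H => θ x) = θ
      rw [ext0_res, cfRes_eq_self (irr_cfOn h1)]
    · rintro ⟨χ, h1, rfl⟩
      have h0 : extendByZero H χ.1 ∈ Irr H := ext0_mem_Irr.mpr χ.2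
      refine ⟨h0, ext_on (irr_cfOn (irr_conj h0 hg)) (irr_cfOn h0) fun x hx => ?_⟩
      change extendByZero H χ.1 _ = extendByZero H χ.1 _
      rw [ext0_of_mem _ ((conj_mem_iff hg x).mpr hx), ext0_of_mem _ hx]
      exact congrFun (congrArg Subtype.val h1) ⟨x, hx⟩
  have e2 : {c : Set Γ | ∃ x ∈ H, c = classSupp {x} H ∧ g * x * g⁻¹ ∈ c} =
      (fun C : ConjClasses H => Subtype.val '' C.carrier) ''
        {C | ConjClasses.map (conjHom H hg).toMonoidHom C = C} := by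
    ext c
    constructor
    · rintro ⟨x, hx, rfl, h1⟩
      refine ⟨ConjClasses.mk ⟨x, hx⟩, ?_, image_carrier_mk ⟨x, hx⟩⟩
      have h2 := (image_carrier_mk (⟨x, hx⟩ : H)).symm ▸ h1
      obtain ⟨z, hz, e⟩ := h2
      change ConjClasses.mk (conjHom H hg ⟨x, hx⟩) = _
      rw [← ConjClasses.mem_carrier_iff_mk_eq]
      have : conjHom H hg ⟨x, hx⟩ = z := Subtype.ext e.symm
      rwa [this]
    · rintro ⟨C, hC, rfl⟩
      obtain ⟨x, rfl⟩ := ConjClasses.mk_surjective C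
      refine ⟨x, x.2, image_carrier_mk x, conjHom H hg x, ?_, rfl⟩
      rw [ConjClasses.mem_carrier_iff_mk_eq]
      exact hC
  rw [e1, e2, Set.ncard_image_of_injective _ (fun χ ψ h => Subtype.ext (ext0_injective h)),
    Set.ncard_image_of_injective]
  · exact h
  · intro C D h
    obtain ⟨x, rfl⟩ := ConjClasses.mk_surjective C
    have h' := Set.image_injective.mpr Subtype.val_injective h
    rw [← ConjClasses.mem_carrier_iff_mk_eq, ← h']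
    exact ConjClasses.mem_carrier_mk

theorem exists_ne_iff_one_lt_ncard {α : Type*} {S : Set α} (hS : S.Finite) {a : α} (ha : a ∈ S) :
    (∃ x ∈ S, x ≠ a) ↔ 1 < S.ncard :=
  ⟨fun ⟨x, hx, h⟩ => (Set.one_lt_ncard_iff hS).mpr ⟨x, a, hx, ha, h⟩,
    fun h => Set.exists_ne_of_one_lt_ncard h a⟩

theorem classSupp_one (H : Subgroup Γ) : classSupp {(1 : Γ)} H = {1} := by
  ext y; simp [H24.mem_classSupp]; exact fun _ => ⟨1, H.one_mem⟩

/-- `g` fixes a non-principal irreducible character of `H` iff it fixes a nontrivial class. -/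
theorem exists_fix_irr_iff_class {g : Γ} (hg : g ∈ N[H]) :
    (∃ θ ∈ Irr H, θ ≠ cfOne H ∧ cfConj g θ = θ) ↔
      ∃ x ∈ H, x ≠ 1 ∧ ∃ h ∈ H, g * x * g⁻¹ = h * x * h⁻¹ := by
  have h1 := exists_ne_iff_one_lt_ncard (S := {θ | θ ∈ Irr H ∧ cfConj g θ = θ})
    ((Irr H).finite_toSet.subset fun _ h => h.1) ⟨cfOne_mem_Irr H, cfConj_cfOne hg⟩
  have h2 := exists_ne_iff_one_lt_ncard
    (S := {c : Set Γ | ∃ x ∈ H, c = classSupp {x} H ∧ g * x * g⁻¹ ∈ c}) (Set.toFinite _)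
    (a := {1}) ⟨1, H.one_mem, (classSupp_one H).symm, by simp⟩
  rw [card_fix_irr_classes hg, ← h2] at h1
  constructor
  · rintro ⟨θ, a, b, c⟩
    obtain ⟨_, ⟨x, hx, rfl, y, rfl, h, hh, e⟩, hne⟩ := h1.mp ⟨θ, ⟨a, c⟩, b⟩
    exact ⟨_, hx, fun h => hne (by rw [h, classSupp_one]), h, hh, e⟩
  · rintro ⟨x, hx, hne, h, hh, e⟩
    obtain ⟨θ, ⟨a, c⟩, b⟩ := h1.mpr ⟨classSupp {x} H, ⟨x, hx, rfl, x, rfl, h, hh, e⟩, fun h' => hne
      (by have := subset_classSupp {x} H rfl; rwa [h'] at this)⟩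
    exact ⟨θ, a, b, c⟩

theorem exists_fix_irr_iff' {g : Γ} (hg : g ∈ N[H]) :
    (∃ θ ∈ Irr H, θ ≠ cfOne H ∧ cfConj g θ = θ) ↔ H ⊓ C{g} ≠ ⊥ := by
  rw [exists_fix_irr_iff_class hg]
  constructor
  · rintro ⟨x, hx, hne, h, hh, e⟩ hC
    obtain ⟨k, hk, e'⟩ := exists_conj_of_fpf hg hC (H.inv_mem hh)
    have : k⁻¹ * x * k ∈ H ⊓ C{g} := ⟨H.mul_mem (H.mul_mem (H.inv_mem hk) hx) hk, mem_C1.mpr (by
      have e1 : g = k⁻¹ * (h⁻¹ * g) * k := by rw [← e']; group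
      have e2 : x * (h⁻¹ * g) = (h⁻¹ * g) * x := by
        calc x * (h⁻¹ * g) = h⁻¹ * (h * x * h⁻¹) * g := by group
          _ = (h⁻¹ * g) * x := by rw [← e]; group
      calc k⁻¹ * x * k * g = k⁻¹ * x * k * (k⁻¹ * (h⁻¹ * g) * k) := by rw [← e1]
        _ = k⁻¹ * (x * (h⁻¹ * g)) * k := by group
        _ = (k⁻¹ * (h⁻¹ * g) * k) * (k⁻¹ * x * k) := by rw [e2]; group
        _ = g * (k⁻¹ * x * k) := by rw [← e1])⟩
    rw [hC, Subgroup.mem_bot] at this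
    exact hne (by calc x = k * (k⁻¹ * x * k) * k⁻¹ := by group
      _ = 1 := by rw [this]; group)
  · intro h
    obtain ⟨x, hx, hne⟩ := exists_ne_one h
    exact ⟨x, hx.1, hne, 1, H.one_mem, by
      rw [← mem_C1.mp hx.2]; group⟩

/-- an element with no fixed point on `H^#` fixes no nontrivial irreducible character of `H`. -/
theorem not_fix_irr_of_fpf {g : Γ} (hg : g ∈ N[H]) (hC : H ⊓ C{g} = ⊥) (hθ : θ ∈ Irr H)
    (h1 : θ ≠ cfOne H) : cfConj g θ ≠ θ :=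
  fun h => (exists_fix_irr_iff' hg).mp ⟨θ, hθ, h1, h⟩ hC

/-- an element of coprime order with no fixed point on `H^#` fixes no nontrivial irreducible
character of `H`. -/
theorem not_fix_irr_of_coprime {g : Γ} (hg : g ∈ N[H]) (hc : (orderOf g).Coprime (Nat.card H))
    (hC : H ⊓ C{g} = ⊥) (hθ : θ ∈ Irr H) (h1 : θ ≠ cfOne H) : cfConj g θ ≠ θ :=
  not_fix_irr_of_fpf hg hC hθ h1

/-- ambient form of S1536. -/
theorem exists_fix_irr_iff (hH : H ⊴ G) (hall : IsHall G H) {g : Γ} (hg : g ∈ G) :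
    (∃ θ ∈ Irr H, θ ≠ cfOne H ∧ cfConj g θ = θ) ↔ H ⊓ C{g} ≠ ⊥ :=
  exists_fix_irr_iff' (hH.norm hg)

theorem FrobK.nml (h : FrobK L K) : K ⊴ L := by
  obtain ⟨E, h⟩ := h; exact h.nml

theorem FrobK.ne_bot (h : FrobK L K) : K ≠ ⊥ := by
  obtain ⟨E, h⟩ := h; exact h.ker_ne

theorem FrobK.cent_le (h : FrobK L K) {x : Γ} (hx : x ∈ K) (h1 : x ≠ 1) : L ⊓ C{x} ≤ K := by
  obtain ⟨E, h⟩ := h; exact h.cent1_ker hx h1

theorem FrobK.isHall (h : FrobK L K) : IsHall L K := by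
  obtain ⟨E, h⟩ := h; exact h.isHall_ker

theorem FrobK.index_dvd (h : FrobK L K) : K.relIndex L ∣ Nat.card K - 1 := by
  obtain ⟨E, h⟩ := h; rw [h.sd.relIndex_left]; exact h.dvd_pred

theorem FrobK.one_lt_index (h : FrobK L K) : 1 < K.relIndex L := by
  obtain ⟨E, h⟩ := h; rw [h.sd.relIndex_left]; exact one_lt_card h.compl_ne

theorem inertia_Frobenius_ker (hK : K ⊴ L) (hc : ∀ x ∈ K, x ≠ 1 → L ⊓ C{x} ≤ K) (hθ : θ ∈ Irr K)
    (h1 : θ ≠ cfOne K) : inertia L θ = K := by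
  refine le_antisymm (fun g hg => ?_) (le_inertia hK.le (irr_CF hθ))
  obtain ⟨x, hx, hne, h, hh, e⟩ := (exists_fix_irr_iff_class (hK.norm hg.1)).mp ⟨θ, hθ, h1, hg.2⟩
  have : h⁻¹ * g ∈ K := hc x hx hne ⟨L.mul_mem (L.inv_mem (hK.le hh)) hg.1, mem_C1.mpr (by
    calc h⁻¹ * g * x = h⁻¹ * (g * x * g⁻¹) * g := by group
      _ = x * (h⁻¹ * g) := by rw [e]; group)⟩
  simpa using K.mul_mem hh this

theorem irr_induced_Frobenius_ker (hK : K ⊴ L) (hc : ∀ x ∈ K, x ≠ 1 → L ⊓ C{x} ≤ K)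
    (hθ : θ ∈ Irr K) (h1 : θ ≠ cfOne K) : cfInd L K θ ∈ Irr L :=
  inertia_ind_irr hK hθ (inertia_Frobenius_ker hK hc hθ h1).le

theorem Frobenius_Ind_irrP (hK : K ⊴ L) (hc : ∀ x ∈ K, x ≠ 1 → L ⊓ C{x} ≤ K) (hχ : χ ∈ Irr L)
    (hk : ¬ K ≤ cfker L χ) : ∃ θ ∈ Irr K, θ ≠ cfOne K ∧ χ = cfInd L K θ := by
  obtain ⟨θ, hθ, h⟩ := exists_irr_under hK.le hχ
  have h1 : θ ≠ cfOne K := fun e => hk (irr_le_cfker_of_dot hK hχ (e ▸ h))
  refine ⟨θ, hθ, h1, irr_eq_of_dot_ne hχ (irr_induced_Frobenius_ker hK hc hθ h1) ?_⟩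
  rwa [cfdot_cfInd_right hK.le (irr_CF hχ)]

theorem index_dvd_of_cent (hK : K ⊴ L) (hc : ∀ x ∈ K, x ≠ 1 → L ⊓ C{x} ≤ K) :
    K.relIndex L ∣ Nat.card K - 1 := by
  classical
  have h1 := sum_Irr_deg_sq L
  rw [← Finset.sum_sdiff (irrK_sub L K), sum_irrK_deg_sq hK, card_eq_mul_relIndex hK.le] at h1
  have h2 : K.relIndex L ^ 2 ∣ ∑ χ ∈ Irr L \ irrK L K, deg χ ^ 2 := Finset.dvd_sum fun χ hχ => by
    obtain ⟨a, b⟩ := Finset.mem_sdiff.mp hχ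
    obtain ⟨θ, hθ, -, rfl⟩ := Frobenius_Ind_irrP hK hc a (fun h => b (mem_irrK.mpr ⟨a, h⟩))
    rw [(irr_char hθ).deg_ind hK.le, mul_pow]
    exact Dvd.intro _ rfl
  have h3 : ∑ χ ∈ Irr L \ irrK L K, deg χ ^ 2 = K.relIndex L * (Nat.card K - 1) := by
    rw [Nat.mul_sub_one, mul_comm, ← h1, Nat.add_sub_cancel]
  rw [h3, sq] at h2
  exact Nat.dvd_of_mul_dvd_mul_left (relIndex_pos K L) h2

theorem frobK_of_cent (hK : K ⊴ L) (h1 : K ≠ ⊥) (h2 : K ≠ L)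
    (hc : ∀ x ∈ K, x ≠ 1 → L ⊓ C{x} ≤ K) : FrobK L K := by
  have h3 : (Nat.card K).Coprime (K.relIndex L) := by
    have h4 : (Nat.card K).Coprime (Nat.card K - 1) := by
      have := card_pos K
      obtain ⟨n, hn⟩ : ∃ n, Nat.card K = n + 1 := ⟨Nat.card K - 1, by omega⟩
      rw [hn]; simp
    exact h4.coprime_dvd_right (index_dvd_of_cent hK hc)
  obtain ⟨E, hE⟩ := H26.SchurZassenhaus_split hK ⟨hK.le, h3⟩
  exact ⟨E, hE.frob_of_cent1 h1 (fun h => h2 (SD.eq_of_right_bot (h ▸ hE))) hc⟩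

theorem odd_Frobenius_index_ler (hodd : Odd (Nat.card L)) (h : FrobK L K) :
    2 * K.relIndex L + 1 ≤ Nat.card K := by
  have h1 := h.index_dvd
  have h2 : Odd (Nat.card K) := odd_of_le hodd h.nml.le
  have h3 : Odd (K.relIndex L) := hodd.of_dvd_nat (Dvd.intro_left _ (card_mul_relIndex h.nml.le))
  have h4 := one_lt_card h.ne_bot
  have h5 : 2 ∣ Nat.card K - 1 := by obtain ⟨k, hk⟩ := h2; omega
  have h6 := Nat.le_of_dvd (by omega)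
    (Nat.Coprime.mul_dvd_of_dvd_of_dvd (Nat.coprime_two_left.mpr h3) h5 h1)
  omega

/-- an invariant irreducible character of a normal Hall subgroup extends. -/
theorem extend_coprime_irr (hH : H ⊴ G) (hall : IsHall G H) (hθ : θ ∈ Irr H)
    (hI : G ≤ inertia G θ) : ∃ χ ∈ Irr G, cfRes H χ = θ := by
  have := hH.normal
  obtain ⟨χ, h1, h2⟩ := H5.extends_of_coprime_card (H.subgroupOf G)
    (θ := fun n => θ ((n : G) : Γ))
    ((mem_Irr.mp hθ).1.comp_mulEquiv (Subgroup.subgroupOfEquivOfLe hH.le))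
    (fun g => funext fun n => congrFun (hI g.2).2 ((n : G) : Γ))
    (by rw [card_subgroupOf_of_le hH.le]; exact hall.2.symm)
  refine ⟨extendByZero G χ, ext0_mem_Irr.mpr h1,
    ext_on (cfRes_mem_cfOn _ _) (irr_cfOn hθ) fun x hx => ?_⟩
  rw [cfRes_of_mem _ hx, ext0_of_mem _ (hH.le hx)]
  exact h2 ⟨⟨x, hH.le hx⟩, hx⟩

/-- (1.7)(c). -/
theorem cfInd_Hall_central_inertia (hH : H ⊴ G) (hθ : θ ∈ Irr H)
    (hab : ⁅inertia G θ, inertia G θ⁆ ≤ H) (hall : IsHall (inertia G θ) H) :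
    ∃ X : Finset (Γ → ℂ), X ⊆ Irr G ∧ X.card = H.relIndex (inertia G θ) ∧
      cfInd G H θ = ∑ χ ∈ X, χ ∧ (∀ χ ∈ X, deg χ = (inertia G θ).relIndex G * deg θ) ∧
      ∀ χ ∈ X, ∃ ψ ∈ Irr (inertia G θ), cfRes H ψ = θ ∧ χ = cfInd G (inertia G θ) ψ := by
  classical
  have hT := nml_inertia hH (irr_CF hθ)
  obtain ⟨ψ, hψ, hr⟩ := extend_coprime_irr hT hall hθ (inertia_inertia G θ)
  have hr' : cfRes H ψ ∈ Irr H := hr ▸ hθ
  have key : ∀ β ∈ irrK (inertia G θ) H, β * ψ ∈ Irr (inertia G θ) ∧ cfRes H (β * ψ) = θ :=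
    fun β hβ => ⟨gallagher_irr hT (irr_char hψ) hr' hβ, by
      rw [cfRes_mul, cfRes_eq_of_le_cfker (mem_irrK.mp hβ).2, (irrK_lin hab hβ).one, one_smul, hr,
        cfOne_mul (irr_cfOn hθ)]⟩
  have hdot : ∀ β ∈ irrK (inertia G θ) H, cfdot H (β * ψ) θ ≠ 0 := fun β hβ => by
    rw [← cfdot_cfRes_left, (key β hβ).2, irr_dot_self hθ]; exact one_ne_zero
  have hinj : Set.InjOn (fun β => cfInd G (inertia G θ) (β * ψ))
      (irrK (inertia G θ) H : Set (Γ → ℂ)) := fun β hβ γ hγ e =>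
    gallagher_inj hT (irr_char hψ) hr' hβ hγ
      (clifford_ind_inj hH hθ (key β hβ).1 (key γ hγ).1 (hdot β hβ) (hdot γ hγ) e)
  refine ⟨(irrK (inertia G θ) H).image (fun β => cfInd G (inertia G θ) (β * ψ)), ?_, ?_, ?_, ?_, ?_⟩
  · intro χ hχ
    obtain ⟨β, hβ, rfl⟩ := Finset.mem_image.mp hχ
    exact clifford_ind_irr hH hθ (key β hβ).1 (hdot β hβ)
  · rw [Finset.card_image_of_injOn hinj, card_irrK_of_der_le hab hT.le]
  · rw [Finset.sum_image hinj, ← map_sum, ← cfInd_cfInd hT.le (inertia_le G θ) θ]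
    congr 1
    conv_lhs => rw [← hr, cfInd_cfRes, hr, cfInd_res_eq_sum hT (irr_CF hψ)]
    exact Finset.sum_congr rfl fun β hβ => by rw [(irrK_lin hab hβ).one, one_smul]
  · intro χ hχ
    obtain ⟨β, hβ, rfl⟩ := Finset.mem_image.mp hχ
    rw [(irr_char (key β hβ).1).deg_ind (inertia_le G θ), ← deg_cfRes H (β * ψ), (key β hβ).2]
  · intro χ hχ
    obtain ⟨β, hβ, rfl⟩ := Finset.mem_image.mp hχ
    exact ⟨β * ψ, (key β hβ).1, (key β hβ).2, rfl⟩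

end frob

/-! ## Galois action: (1.9), (1.10) -/
section galois
variable {G H : Subgroup Γ} {φ ψ χ : Γ → ℂ}

/-- (1.9)(a). -/
theorem exists_aut_pow {a b k : ℕ} (ha : 0 < a) (hb : 0 < b) (hab : a.Coprime b) (hk : k.Coprime a) :
    ∃ u : ℂ →+* ℂ, (∀ z : ℂ, z ^ a = 1 → u z = z ^ k) ∧ ∀ z : ℂ, z ^ b = 1 → u z = z := by
  obtain ⟨u, h1, h2⟩ := H4.exists_ringEquiv_pow_fix ha.ne' hb.ne' hab hk
  exact ⟨u, h1, h2⟩

/-- an algebraic integer fixed by all endomorphisms of `ℂ` is an integer. -/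
theorem int_of_fixed {z : ℂ} (hz : IsIntegral ℤ z) (h : ∀ u : ℂ →+* ℂ, u z = z) :
    ∃ n : ℤ, z = n :=
  H4.exists_int_of_forall_ringEquiv hz fun u => h u

theorem vchar_aut_apply' (hφ : φ ∈ vchar G) {u : ℂ →+* ℂ} {x : Γ} {n k : ℕ}
    (hu : ∀ z : ℂ, z ^ n = 1 → u z = z ^ k) (hx : x ∈ G) (hn : x ^ n = 1) :
    u (φ x) = φ (x ^ k) :=
  (vchar_gen hφ).map_apply_eq_pow u hu (g := ⟨x, hx⟩) (Subtype.ext hn)

theorem vchar_aut_apply (hφ : φ ∈ vchar G) {u : ℂ →+* ℂ} {x : Γ} {k : ℕ}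
    (hu : ∀ z : ℂ, z ^ orderOf x = 1 → u z = z ^ k) (hx : x ∈ G) : u (φ x) = φ (x ^ k) :=
  vchar_aut_apply' hφ hu hx (pow_orderOf_eq_one x)

theorem exists_coprime_part (a : ℕ) {n : ℕ} (hn : 0 < n) :
    ∃ b, 0 < b ∧ a.Coprime b ∧ ∀ m, m ∣ n → m.Coprime a → m ∣ b := by
  classical
  refine ⟨∏ m ∈ n.divisors.filter (fun m => m.Coprime a), m, Finset.prod_pos fun m hm => ?_,
    Nat.Coprime.prod_right fun m hm => (Finset.mem_filter.mp hm).2.symm, fun m h1 h2 =>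
      Finset.dvd_prod_of_mem _ (Finset.mem_filter.mpr ⟨Nat.mem_divisors.mpr ⟨h1, hn.ne'⟩, h2⟩)⟩
  exact Nat.pos_of_mem_divisors (Finset.mem_filter.mp hm).1

/-- (1.9)(b). -/
theorem make_pi_cfAut (G : Subgroup Γ) {a k : ℕ} (ha : 0 < a) (hk : k.Coprime a) :
    ∃ u : ℂ →+* ℂ, (∀ z : ℂ, z ^ a = 1 → u z = z ^ k) ∧
      (∀ φ ∈ vchar G, ∀ x ∈ G, orderOf x ∣ a → u (φ x) = φ (x ^ k)) ∧
      ∀ φ ∈ vchar G, ∀ x : Γ, (orderOf x).Coprime a → u (φ x) = φ x := by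
  obtain ⟨b, hb, hab, h⟩ := exists_coprime_part a (card_pos G)
  obtain ⟨u, h1, h2⟩ := exists_aut_pow ha hb hab hk
  refine ⟨u, h1, fun φ hφ x hx ho => vchar_aut_apply' hφ h1 hx (orderOf_dvd_iff_pow_eq_one.mp ho),
    fun φ hφ x hc => ?_⟩
  by_cases hx : x ∈ G
  · rw [vchar_aut_apply' (k := 1) hφ (fun z hz => by rw [h2 z hz, pow_one]) hx
      (orderOf_dvd_iff_pow_eq_one.mp (h _ (orderOf_dvd_card' hx) hc)), pow_one]
  · rw [vchar_cfOn hφ x hx, map_zero]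

/-- a virtual character value that is constant on the generators of `⟨x⟩` is an integer. -/
theorem vchar_int_of_pow (hφ : φ ∈ vchar G) {x : Γ}
    (h : ∀ k : ℕ, k.Coprime (orderOf x) → φ (x ^ k) = φ x) : ∃ n : ℤ, φ x = n := by
  by_cases hx : x ∈ G
  · exact (vchar_gen hφ).exists_int_of_pow (g := ⟨x, hx⟩) (orderOf_pos x).ne'
      (Subtype.ext (pow_orderOf_eq_one x)) h
  · exact ⟨0, by rw [vchar_cfOn hφ x hx, Int.cast_zero]⟩

theorem isIntegral_of_pow_eq_one {z : ℂ} {n : ℕ} (hn : 0 < n) (h : z ^ n = 1) : IsIntegral ℤ z :=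
  IsIntegral.of_pow hn (h ▸ isIntegral_one)

/-- (1.10)(a). -/
theorem vchar_ker_mod_prim {p : ℕ} (hp : p.Prime) {ε : ℂ} (hε : IsPrimitiveRoot ε p)
    (hφ : φ ∈ vchar G) {x y : Γ} (hx : x ∈ G) (ho : orderOf x = p) (hxy : x * y = y * x) :
    ∃ w : ℂ, IsIntegral ℤ w ∧ φ (x * y) - φ y = (1 - ε) * w := by
  by_cases hy : y ∈ G
  swap
  · exact ⟨0, isIntegral_zero, by
      rw [vchar_cfOn hφ y hy, vchar_cfOn hφ _ (fun h => hy ((G.mul_mem_cancel_left hx).mp h))]; simp⟩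
  have : NeZero p := ⟨hp.ne_zero⟩
  set A := Subgroup.zpowers x ⊔ Subgroup.zpowers y
  have hA : Abl A := (abl_zpowers x).sup (abl_zpowers y)
    (by rw [C_zpowers, Subgroup.zpowers_le]; exact mem_C1.mpr hxy)
  have hAG : A ≤ G := sup_le (Subgroup.zpowers_le.mpr hx) (Subgroup.zpowers_le.mpr hy)
  have hxA : x ∈ A := Subgroup.mem_sup_left (Subgroup.mem_zpowers x)
  have hyA : y ∈ A := Subgroup.mem_sup_right (Subgroup.mem_zpowers y)
  rw [← cfRes_of_mem φ (A.mul_mem hxA hyA), ← cfRes_of_mem φ hyA]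
  refine zsp_induction (P := fun ψ => ∃ w : ℂ, IsIntegral ℤ w ∧ ψ (x * y) - ψ y = (1 - ε) * w)
    (vchar_res hφ hAG) (fun χ hχ => ?_) ⟨0, isIntegral_zero, by simp⟩ ?_ ?_
  · have hl := irr_lin_of_abl hA hχ
    obtain ⟨i, -, hi⟩ := hε.eq_pow_of_pow_eq_one (ho ▸ hl.pow_orderOf hxA)
    have hεi := isIntegral_of_pow_eq_one hp.pos hε.pow_eq_one
    refine ⟨-(∑ j ∈ Finset.range i, ε ^ j) * χ y,
      (IsIntegral.sum _ fun j _ => hεi.pow j).neg.mul (vchar_isIntegral (irr_vchar hχ) y), ?_⟩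
    rw [hl.apply_mul hxA hyA, ← hi]
    linear_combination (-(χ y)) * geom_sum_mul ε i
  · rintro α - β - ⟨w, hw, e⟩ ⟨w', hw', e'⟩
    exact ⟨w + w', hw.add hw', by simp only [Pi.add_apply]; linear_combination e + e'⟩
  · rintro α - ⟨w, hw, e⟩
    exact ⟨-w, hw.neg, by simp only [Pi.neg_apply]; linear_combination -e⟩

/-- (1.10)(b). -/
theorem int_dvd_of_prim {p : ℕ} (hp : p.Prime) {ε : ℂ} (hε : IsPrimitiveRoot ε p) {n : ℤ} {w : ℂ}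
    (hw : IsIntegral ℤ w) (h : (n : ℂ) = (1 - ε) * w) : (p : ℤ) ∣ n := by
  obtain ⟨q, rfl⟩ : ∃ q, p = q + 1 := ⟨p - 1, (Nat.sub_add_cancel hp.pos).symm⟩
  have h1 : ∀ k ∈ Finset.range q, ∃ v : ℂ, IsIntegral ℤ v ∧ (n : ℂ) = (1 - ε ^ (k + 1)) * v := by
    intro k hk
    have hk' := Finset.mem_range.mp hk
    obtain ⟨u, hu⟩ := H4.exists_ringEquiv_pow (n := q + 1) (m := k + 1) hp.ne_zero
      ((Nat.coprime_of_lt_prime (by omega) (by omega) hp).symm)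
    refine ⟨u w, hw.map_of_comp_eq (RingHom.id ℤ) (u : ℂ →+* ℂ) (RingHom.ext_int _ _), ?_⟩
    have := congrArg u h
    rwa [map_intCast, map_mul, map_sub, map_one, hu ε hε.pow_eq_one] at this
  choose! v hv using h1
  have h2 : (n : ℂ) ^ q = ((q + 1 : ℕ) : ℂ) * ∏ k ∈ Finset.range q, v k := by
    rw [Nat.cast_succ, ← hε.prod_one_sub_pow_eq_order, ← Finset.prod_mul_distrib,
      ← Finset.prod_congr rfl (fun k hk => (hv k hk).2), Finset.prod_const, Finset.card_range]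
  have hq : ((q + 1 : ℕ) : ℂ) ≠ 0 := Nat.cast_ne_zero.mpr hp.ne_zero
  obtain ⟨m, hm⟩ := int_of_fixed (IsIntegral.prod _ fun k hk => (hv k hk).1) fun u => by
    have : ∏ k ∈ Finset.range q, v k = (n : ℂ) ^ q / ((q + 1 : ℕ) : ℂ) := by
      rw [h2]; field_simp
    rw [this, map_div₀, map_pow, map_intCast, map_natCast]
  rw [hm] at h2
  have h3 : n ^ q = ((q + 1 : ℕ) : ℤ) * m := by exact_mod_cast h2
  exact (Nat.prime_iff_prime_int.mp hp).dvd_of_dvd_pow (n := q) ⟨m, h3⟩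

theorem zpowers_pow_eq_of_coprime {y : Γ} {m : ℕ} (h : m.Coprime (orderOf y)) :
    Subgroup.zpowers (y ^ m) = Subgroup.zpowers y :=
  le_antisymm (Subgroup.zpowers_le.mpr (Subgroup.pow_mem _ (Subgroup.mem_zpowers y) m))
    (Subgroup.zpowers_le.mpr (mem_zpowers_pow_iff.mpr h))

/-- the sum of `|φ(y)|²` over a set of elements of `G` closed under `y ↦ y ^ m` (`m` prime to
`|G|`) on which `φ` does not vanish. -/
theorem ncard_le_sum_norm_sq (hφ : φ ∈ vchar G) {S : Set Γ} (hS : S ⊆ G)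
    (hp : ∀ y ∈ S, ∀ m : ℕ, m.Coprime (orderOf y) → y ^ m ∈ S) (h : ∀ y ∈ S, φ y ≠ 0) :
    (Nat.card S : ℝ) ≤ ∑ y ∈ fs S, ‖φ y‖ ^ 2 := by
  have hb : Set.BijOn (Subtype.val : G → Γ) {y : G | (y : Γ) ∈ S} S :=
    ⟨fun _ h => h, Subtype.val_injective.injOn, fun y hy => ⟨⟨y, hS hy⟩, hy, rfl⟩⟩
  have h1 := (vchar_gen hφ).card_le_sum_norm_sq (fs {y : G | (y : Γ) ∈ S})
    (fun g hg m hm => mem_fs.mpr (hp g (by simpa using hg) m
      (hm.coprime_dvd_right (orderOf_dvd_card' g.2)))) (fun g hg => h g (by simpa using hg))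
  rw [sum_fs_bij _ hb (fun y => ‖φ y‖ ^ 2)] at h1
  have h2 := sum_fs_bij _ hb (fun _ => (1 : ℕ))
  rw [← Finset.card_eq_sum_ones, ← Finset.card_eq_sum_ones, card_fs S] at h2
  rwa [h2] at h1

/-- MathComp `sum_norm2_char_generators`, for virtual characters. -/
theorem sum_norm2_vchar_generators (hφ : φ ∈ vchar G) {x : Γ} (hx : x ∈ G)
    (h : ∀ y, Subgroup.zpowers y = Subgroup.zpowers x → φ y ≠ 0) :
    (Nat.card {y : Γ // Subgroup.zpowers y = Subgroup.zpowers x} : ℝ) ≤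
      ∑ y ∈ fs {y : Γ | Subgroup.zpowers y = Subgroup.zpowers x}, ‖φ y‖ ^ 2 :=
  ncard_le_sum_norm_sq hφ (S := {y : Γ | Subgroup.zpowers y = Subgroup.zpowers x})
    (fun y hy => Subgroup.zpowers_le.mpr hx (by
      rw [← show Subgroup.zpowers y = Subgroup.zpowers x from hy]; exact Subgroup.mem_zpowers y))
    (fun y hy m hm => (zpowers_pow_eq_of_coprime hm).trans hy) h

/-- MathComp `cfdot_real_vchar_even`. -/
theorem cfdot_real_vchar_even (hodd : Odd (Nat.card G)) (hφ : φ ∈ vchar G) (rφ : conjC φ = φ)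
    (hψ : ψ ∈ vchar G) (rψ : conjC ψ = ψ) :
    ∃ n : ℤ, cfdot G φ ψ = cfdot G φ (cfOne G) * cfdot G ψ (cfOne G) + 2 * n := by
  classical
  obtain ⟨a, ha, -⟩ := vchar_coeff hφ
  obtain ⟨b, hb, -⟩ := vchar_coeff hψ
  have key : ∀ {φ : Γ → ℂ} {a : (Γ → ℂ) → ℤ}, conjC φ = φ →
      (∀ χ ∈ Irr G, cfdot G φ χ = a χ) → ∀ χ ∈ Irr G, a (conjC χ) = a χ := by
    intro φ a r ha χ hχ
    have := ha _ (irr_conjC hχ)
    rw [cfdot_conjC_right, r, ha χ hχ, map_intCast] at this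
    exact_mod_cast this.symm
  have h1 : cfdot G φ ψ = ((∑ χ ∈ Irr G, a χ * b χ : ℤ) : ℂ) := by
    rw [cfdot_eq_sum (vchar_CF hφ)]
    push_cast
    exact Finset.sum_congr rfl fun χ hχ => by rw [ha χ hχ, hb χ hχ, map_intCast]
  have h2 : ∑ χ ∈ (Irr G).erase (cfOne G), ((a χ * b χ : ℤ) : ZMod 2) = 0 := by
    refine Finset.sum_involution (fun χ _ => conjC χ) (fun χ hχ => ?_) (fun χ hχ _ => ?_)
      (fun χ hχ => ?_) (fun χ _ => conjC_conjC χ)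
    · have hχ' := Finset.mem_of_mem_erase hχ
      rw [key rφ ha χ hχ', key rψ hb χ hχ']
      exact CharTwo.add_self_eq_zero _
    · exact odd_conjC_ne hodd (Finset.mem_of_mem_erase hχ) (Finset.ne_of_mem_erase hχ)
    · refine Finset.mem_erase.mpr ⟨fun e => Finset.ne_of_mem_erase hχ ?_,
        irr_conjC (Finset.mem_of_mem_erase hχ)⟩
      rw [← conjC_conjC χ, e]; exact cfAut_cfOne _ _
  rw [← Int.cast_sum, ZMod.intCast_zmod_eq_zero_iff_dvd] at h2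
  obtain ⟨n, hn⟩ := h2
  refine ⟨n, ?_⟩
  rw [h1, ha _ (cfOne_mem_Irr G), hb _ (cfOne_mem_Irr G),
    ← Finset.add_sum_erase _ _ (cfOne_mem_Irr G), hn]
  push_cast
  ring

end galois

/-- (1.4). -/
theorem vchar_isometry_base {H : Subgroup Γ} {L : Subgroup Γ'} {X : Finset (Γ → ℂ)}
    {τ : (Γ → ℂ) →ₗ[ℂ] (Γ' → ℂ)} (hX : X ⊆ Irr H) (hd : ∀ χ ∈ X, ∀ ψ ∈ X, χ 1 = ψ 1)
    (hτ : ZIsom H L (zsp0 X) τ) (h1 : ∀ φ ∈ zsp0 X, τ φ 1 = 0) :
    ∃ (μ : (Γ → ℂ) → (Γ' → ℂ)) (ε : ℤ), (ε = 1 ∨ ε = -1) ∧ (∀ χ ∈ X, μ χ ∈ Irr L) ∧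
      Set.InjOn μ X ∧ ∀ χ ∈ X, ∀ ψ ∈ X, τ (χ - ψ) = (ε : ℂ) • (μ χ - μ ψ) := by
  classical
  have hm : ∀ χ ∈ X, ∀ ψ ∈ X, χ - ψ ∈ zsp0 X := fun χ hχ ψ hψ =>
    sub_mem_zsp0 (mem_zsp_of_mem hχ) (mem_zsp_of_mem hψ) (hd χ hχ ψ hψ)
  rcases X.eq_empty_or_nonempty with rfl | ⟨χ₀, h₀⟩
  · exact ⟨fun _ => 0, 1, Or.inl rfl, by simp, by simp, by simp⟩
  suffices h : ∃ (c : Γ' → ℂ) (m : (Γ → ℂ) → (Γ' → ℂ)) (ε : ℤ), (ε = 1 ∨ ε = -1) ∧ c ∈ Irr L ∧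
      ∀ χ ∈ X, χ ≠ χ₀ → m χ ∈ Irr L ∧ τ (χ - χ₀) = (ε : ℂ) • (m χ - c) by
    obtain ⟨c, m, ε, hε, hc, h⟩ := h
    have h2 : ∀ χ ∈ X, τ (χ - χ₀) = (ε : ℂ) • (Function.update m χ₀ c χ - c) := fun χ hχ => by
      by_cases e : χ = χ₀
      · subst e; simp
      · rw [Function.update_of_ne e, (h χ hχ e).2]
    have h3 : ∀ χ ∈ X, ∀ ψ ∈ X,
        τ (χ - ψ) = (ε : ℂ) • (Function.update m χ₀ c χ - Function.update m χ₀ c ψ) :=
      fun χ hχ ψ hψ => by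
        rw [← sub_sub_sub_cancel_right χ ψ χ₀, map_sub, h2 χ hχ, h2 ψ hψ, ← smul_sub,
          sub_sub_sub_cancel_right]
    refine ⟨Function.update m χ₀ c, ε, hε, fun χ hχ => ?_, fun χ hχ ψ hψ e => ?_, h3⟩
    · by_cases e : χ = χ₀
      · subst e; simpa using hc
      · rw [Function.update_of_ne e]; exact (h χ hχ e).1
    · have h4 := hτ.norm (hm χ hχ ψ hψ)
      rw [h3 χ hχ ψ hψ, e, sub_self, smul_zero, cfnorm_zero, eq_comm,
        cfnorm_eq_zero_CF (sub_mem (irr_CF (hX hχ)) (irr_CF (hX hψ)))] at h4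
      exact sub_eq_zero.mp h4
  have h2 : ∀ χ, ∃ a b, χ ∈ X → χ ≠ χ₀ → a ∈ Irr L ∧ b ∈ Irr L ∧ a ≠ b ∧ τ (χ - χ₀) = a - b := by
    intro χ
    by_cases h : χ ∈ X ∧ χ ≠ χ₀
    · obtain ⟨a, ha, b, hb, hne, e⟩ := vchar_norm_two_sub (hτ.vchar _ (hm χ h.1 χ₀ h₀)) (by
        rw [hτ.norm (hm χ h.1 χ₀ h₀), cfnorm_sub_orth (irr_dot_ne (hX h.1) (hX h₀) h.2),
          irr_norm (hX h.1), irr_norm (hX h₀)]; norm_num) (h1 _ (hm χ h.1 χ₀ h₀))
      exact ⟨a, b, fun _ _ => ⟨ha, hb, hne, e⟩⟩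
    · exact ⟨0, 0, fun a b => absurd ⟨a, b⟩ h⟩
  choose a b hab using h2
  have h3 : ∀ χ ∈ X, χ ≠ χ₀ → ∀ ψ ∈ X, ψ ≠ χ₀ → a χ = a ψ ∨ b χ = b ψ := by
    intro χ hχ n1 ψ hψ n2
    by_cases e : χ = ψ
    · exact Or.inl (by rw [e])
    by_contra hc
    push Not at hc
    obtain ⟨a1, b1, -, e1⟩ := hab χ hχ n1
    obtain ⟨a2, b2, -, e2⟩ := hab ψ hψ n2
    have h4 := hτ.dot _ (hm χ hχ χ₀ h₀) _ (hm ψ hψ χ₀ h₀)
    rw [e1, e2] at h4
    simp only [cfdot_sub_left, cfdot_sub_right, irr_dot_ne a1 a2 hc.1, irr_dot_ne b1 b2 hc.2,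
      irr_dot_ne (hX hχ) (hX hψ) e, irr_dot_ne (hX hχ) (hX h₀) n1,
      irr_dot_ne (hX h₀) (hX hψ) (Ne.symm n2), irr_dot_self (hX h₀)] at h4
    obtain ⟨k, hk⟩ := char_dot_nat (irr_char a1) (irr_char b2)
    obtain ⟨l, hl⟩ := char_dot_nat (irr_char b1) (irr_char a2)
    rw [hk, hl] at h4
    have : ((k + l + 1 : ℕ) : ℂ) = 0 := by push_cast; linear_combination -h4
    exact Nat.succ_ne_zero _ (Nat.cast_eq_zero.mp this)
  have h4 : ∀ χ ∈ X, χ ≠ χ₀ → ∀ ψ ∈ X, ψ ≠ χ₀ → a χ = a ψ → b χ = b ψ → χ = ψ := by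
    intro χ hχ n1 ψ hψ n2 e1 e2
    have h5 := hτ.norm (hm χ hχ ψ hψ)
    rw [← sub_sub_sub_cancel_right χ ψ χ₀, map_sub, (hab χ hχ n1).2.2.2, (hab ψ hψ n2).2.2.2, e1,
      e2, sub_self, cfnorm_zero, sub_sub_sub_cancel_right, eq_comm,
      cfnorm_eq_zero_CF (sub_mem (irr_CF (hX hχ)) (irr_CF (hX hψ)))] at h5
    exact sub_eq_zero.mp h5
  by_cases hall : ∃ χ₁ ∈ X, χ₁ ≠ χ₀ ∧ ∃ χ₂ ∈ X, χ₂ ≠ χ₀ ∧ a χ₁ ≠ a χ₂
  · obtain ⟨χ₁, m1, n1, χ₂, m2, n2, hne⟩ := hall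
    have e12 := (h3 χ₁ m1 n1 χ₂ m2 n2).resolve_left hne
    refine ⟨b χ₁, a, 1, Or.inl rfl, (hab χ₁ m1 n1).2.1, fun χ hχ n => ⟨(hab χ hχ n).1, ?_⟩⟩
    have : b χ = b χ₁ := by
      by_contra hb
      exact hne (((h3 χ hχ n χ₁ m1 n1).resolve_right hb).symm.trans
        ((h3 χ hχ n χ₂ m2 n2).resolve_right (e12 ▸ hb)))
    rw [(hab χ hχ n).2.2.2, this]; simp
  · push Not at hall
    by_cases hne : ∃ χ₁ ∈ X, χ₁ ≠ χ₀
    · obtain ⟨χ₁, m1, n1⟩ := hne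
      refine ⟨a χ₁, b, -1, Or.inr rfl, (hab χ₁ m1 n1).1, fun χ hχ n => ⟨(hab χ hχ n).2.1, ?_⟩⟩
      rw [(hab χ hχ n).2.2.2, hall χ hχ n χ₁ m1 n1]; simp
    · exact ⟨cfOne L, a, 1, Or.inl rfl, cfOne_mem_Irr L, fun χ hχ n => absurd ⟨χ, hχ, n⟩ hne⟩

end H27
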