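import Mathlib
import Cfsg.Agent.H27.PF1

/-!
# Peterfalvi §2 (the Dade isometry)
-/

set_option autoImplicit false
set_option linter.unusedSectionVars false
set_option linter.unusedVariables false

namespace H27

open Cfsg H24
open scoped ComplexConjugate

universe u v

variable {Γ : Type u} [Group Γ] [Finite Γ]
variable {A A₁ : Set Γ} {L : Subgroup Γ} {R R' : Γ → Subgroup Γ} {α β φ ψ : Γ → ℂ} {a u g x : Γ}

/-! ## rewriting lemmas for `conjC` -/

theorem conjC_apply (φ : Γ → ℂ) (x : Γ) : conjC φ x = conj (φ x) := rfl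
theorem conjC_add (φ ψ : Γ → ℂ) : conjC (φ + ψ) = conjC φ + conjC ψ := map_add _ _ _
theorem conjC_sub (φ ψ : Γ → ℂ) : conjC (φ - ψ) = conjC φ - conjC ψ := map_sub _ _ _
theorem conjC_neg (φ : Γ → ℂ) : conjC (-φ) = -conjC φ := map_neg _ _
theorem conjC_zero : conjC (0 : Γ → ℂ) = 0 := map_zero _
theorem conjC_mul (φ ψ : Γ → ℂ) : conjC (φ * ψ) = conjC φ * conjC ψ := cfAut_mul _ _ _
theorem conjC_smul (c : ℂ) (φ : Γ → ℂ) : conjC (c • φ) = conj c • conjC φ := cfAut_smul _ _ _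
theorem conjC_intCast_smul (n : ℤ) (φ : Γ → ℂ) : conjC ((n : ℂ) • φ) = (n : ℂ) • conjC φ := by
  rw [conjC_smul, map_intCast]
theorem conjC_natCast_smul (n : ℕ) (φ : Γ → ℂ) : conjC ((n : ℂ) • φ) = (n : ℂ) • conjC φ := by
  rw [conjC_smul, map_natCast]
theorem conjC_sum {ι : Type*} (s : Finset ι) (f : ι → Γ → ℂ) :
    conjC (∑ i ∈ s, f i) = ∑ i ∈ s, conjC (f i) := map_sum _ _ _
theorem conjC_cfOne (H : Subgroup Γ) : conjC (cfOne H) = cfOne H := cfAut_cfOne _ _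
theorem conjC_cfRes (H : Subgroup Γ) (φ : Γ → ℂ) : conjC (cfRes H φ) = cfRes H (conjC φ) :=
  cfAut_cfRes _ _ _
theorem conjC_cfInd (G H : Subgroup Γ) (φ : Γ → ℂ) : conjC (cfInd G H φ) = cfInd G H (conjC φ) :=
  cfAut_cfInd _ _ _ _
theorem conjC_cfConj (g : Γ) (φ : Γ → ℂ) : conjC (cfConj g φ) = cfConj g (conjC φ) := rfl
theorem cfker_conjC (H : Subgroup Γ) (φ : Γ → ℂ) : cfker H (conjC φ) = cfker H φ := cfker_cfAut _ _ _
theorem conjC_eq_cfOne_iff {H : Subgroup Γ} : conjC φ = cfOne H ↔ φ = cfOne H :=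
  ⟨fun h => by rw [← conjC_conjC φ, h, conjC_cfOne], fun h => h ▸ conjC_cfOne H⟩

/-! ## TI sets -/

theorem nti_of_normedTI (h : NormedTI A L) : NTI ⊤ L A :=
  ⟨le_top, fun a ha => h.cent1_le ha (self_mem_C1 a), fun _ hg _ ha => h.conj_mem hg ha,
    fun a ha g _ hg => h.ti a ha g hg⟩

theorem NTI.normedTI (h : NTI ⊤ L A) (hA : A.Nonempty) : NormedTI A L :=
  ⟨hA, le_normalizer_set_iff.mpr h.norm, fun a ha g hg => h.ti a ha g trivial hg⟩

theorem NormedTI_normalizer (h : NormedTI A L) : Subgroup.normalizer A = L := h.norm_eq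

theorem normedTI_iff (h1 : (1 : Γ) ∉ A) :
    NormedTI A L ↔ A.Nonempty ∧ IsTISubset A ∧ Subgroup.normalizer A = L :=
  ⟨fun h => ⟨h.nonempty, h.isTISubset, h.norm_eq⟩,
    fun h => h.2.2 ▸ normedTI_of_isTISubset h.2.1 h.1 h1⟩

theorem normedTI_shp_iff {H : Subgroup Γ} :
    NormedTI (shp H) L ↔ H ≠ ⊥ ∧ IsTISubset (H : Set Γ) ∧ N[H] = L :=
  ⟨fun h => ⟨h.ne_bot, (normedTI_subgroup_iff h.ne_bot).mp (h.N_eq ▸ h), h.N_eq⟩,
    fun h => h.2.2 ▸ (normedTI_subgroup_iff h.1).mpr h.2.1⟩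

theorem card_classSupp_nti {G : Subgroup Γ} (h : NTI G L A) :
    (classSupp A G).ncard = A.ncard * L.relIndex G := by
  have h1 := sum_fs_fiber (A := (G : Set Γ) ×ˢ A) (B := classSupp A G)
    (fun p : Γ × Γ => p.1 * p.2 * p.1⁻¹) (fun p hp => conj_mem_classSupp hp.2 hp.1)
    (n := Nat.card L) (fun y hy => ?_) (fun _ => (1 : ℕ))
  · rw [← Finset.card_eq_sum_ones, ← Finset.card_eq_sum_ones, fs_prod, Finset.card_product,
      card_fs_subgroup, card_fs_ncard, card_fs_ncard, card_eq_mul_relIndex h.le, smul_eq_mul,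
      mul_assoc] at h1
    rw [← Nat.eq_of_mul_eq_mul_left (card_pos L) h1, mul_comm]
  · obtain ⟨a, ha, g, hg, rfl⟩ := hy
    refine ncard_eq_card_of_bij (fun l => (g * l⁻¹, l * a * l⁻¹))
      ⟨fun l hl => ⟨⟨G.mul_mem hg (G.inv_mem (h.le hl)), h.norm l hl a ha⟩, by
        simp only; group⟩, fun l _ k _ e => ?_, fun p hp => ?_⟩
    · exact inv_injective (mul_left_cancel (congrArg Prod.fst e))
    · obtain ⟨⟨h1, h2⟩, h3⟩ := hp
      have e : p.1⁻¹ * g * a * (p.1⁻¹ * g)⁻¹ = p.2 := by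
        calc p.1⁻¹ * g * a * (p.1⁻¹ * g)⁻¹ = p.1⁻¹ * (g * a * g⁻¹) * p.1 := by group
          _ = p.2 := by rw [← h3]; group
      exact ⟨p.1⁻¹ * g, h.ti a ha _ (G.mul_mem (G.inv_mem h1) hg) (e ▸ h2),
        Prod.ext (by simp) e⟩

/-- sums over the class support of a TI set. -/
theorem sum_classSupp_nti {N : Type*} [AddCommMonoid N] {G : Subgroup Γ} (h : NTI G L A)
    (F : Γ → N) (hF : ∀ g ∈ G, ∀ x, F (g * x * g⁻¹) = F x) :
    ∑ x ∈ fs (classSupp A G), F x = L.relIndex G • ∑ x ∈ fs A, F x := by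
  classical
  rw [← Finset.sum_fiberwise_of_maps_to (s := fs (classSupp A G)) (g := F)
      (t := (fs (classSupp A G)).image F) (fun x hx => Finset.mem_image_of_mem F hx),
    ← Finset.sum_fiberwise_of_maps_to (s := fs A) (g := F) (t := (fs (classSupp A G)).image F)
      (fun x hx => Finset.mem_image_of_mem F (fs_mono (subset_classSupp A G) hx)), Finset.smul_sum]
  refine Finset.sum_congr rfl fun c _ => ?_
  rw [Finset.sum_congr rfl (g := fun _ => c) (fun x hx => (Finset.mem_filter.mp hx).2),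
    Finset.sum_congr rfl (g := fun _ => c) (fun x hx => (Finset.mem_filter.mp hx).2),
    Finset.sum_const, Finset.sum_const, smul_smul]
  congr 1
  have h1 := card_classSupp_nti (h.mono (B := {a | a ∈ A ∧ F a = c}) (fun _ h => h.1)
    (fun g hg a ha => ⟨h.norm g hg a ha.1, (hF g (h.le hg) a).trans ha.2⟩))
  rw [← card_fs_ncard, ← card_fs_ncard, mul_comm] at h1
  convert h1 using 2
  · ext y
    simp only [Finset.mem_filter, mem_fs]
    constructor
    · rintro ⟨⟨a, ha, g, hg, rfl⟩, e⟩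
      exact ⟨a, ⟨ha, (hF g hg a).symm.trans e⟩, g, hg, rfl⟩
    · rintro ⟨a, ha, g, hg, rfl⟩
      exact ⟨⟨a, ha.1, g, hg, rfl⟩, (hF g hg a).trans ha.2⟩
  · congr 1
    ext y; simp

theorem ncard_class {G : Subgroup Γ} (ha : a ∈ G) :
    (classSupp {a} G).ncard = (G ⊓ C{a}).relIndex G := by
  rw [card_classSupp_nti (L := G ⊓ C{a}) (A := {a}) ⟨inf_le_left, ?_, ?_, ?_⟩,
    Set.ncard_singleton, one_mul]
  · rintro _ rfl; exact ⟨ha, self_mem_C1 _⟩
  · rintro g hg _ rfl; exact mem_C1_iff_conj.mp hg.2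
  · rintro _ rfl g hg e; exact ⟨hg, mem_C1_iff_conj.mpr e⟩

/-! ## the Dade hypothesis -/

/-- (2.3). -/
theorem normedTI_Dade (h : NTI ⊤ L A) (h1 : (1 : Γ) ∉ A) : DadeHypothesis A L (fun _ => ⊥) where
  one_not_mem := h1
  subset := h.sub
  conj_mem := h.norm
  fusion := fun a ha g hg => ⟨g, h.ti a ha g trivial hg, rfl⟩
  le_centralizer := fun _ _ => bot_le
  conj_mem_H := fun _ _ c _ u hu => by rw [Subgroup.mem_bot] at hu ⊢; rw [hu]; group
  inf_eq_bot := fun _ _ => bot_inf_eq _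
  sup_eq := fun a ha => by
    rw [bot_sup_eq, inf_eq_right]; exact le_trans (le_inf le_top le_rfl) (h.cent_le ha)
  coprime := fun _ _ _ _ => by rw [Subgroup.card_bot]; exact Nat.coprime_one_left _

theorem Dade_nml (hD : DadeHypothesis A L R) (ha : a ∈ A) : R a ⊴ C{a} :=
  ⟨hD.le_centralizer a ha, le_N_iff.mpr (hD.conj_mem_H a ha)⟩

theorem Dade_sd (hD : DadeHypothesis A L R) (ha : a ∈ A) : SD (R a) (L ⊓ C{a}) C{a} :=
  ⟨inf_le_right.trans (Dade_nml hD ha).norm, hD.inf_eq_bot a ha, hD.sup_eq a ha⟩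

theorem Dade_R_inf_L (hD : DadeHypothesis A L R) (ha : a ∈ A) : R a ⊓ L = ⊥ := by
  rw [← hD.inf_eq_bot a ha, inf_comm L, ← inf_assoc, inf_eq_left.mpr (hD.le_centralizer a ha)]

theorem Dade_R_eq_bot (hD : DadeHypothesis A L R) (ha : a ∈ A) (h : C{a} ≤ L) : R a = ⊥ := by
  rw [← Dade_R_inf_L hD ha, inf_eq_left.mpr ((hD.le_centralizer a ha).trans h)]

theorem Dade_comm (hD : DadeHypothesis A L R) (ha : a ∈ A) (hu : u ∈ R a) : a * u = u * a :=
  (mem_C1.mp (hD.le_centralizer a ha hu)).symm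

/-- the set of primes dividing the order of some `C_L(b)`, `b ∈ A`. -/
def dadePi (A : Set Γ) (L : Subgroup Γ) : Set ℕ := {p | ∃ b ∈ A, p ∣ Nat.card ↥(L ⊓ C{b})}

theorem Dade_isPi_R (hD : DadeHypothesis A L R) (ha : a ∈ A) : IsPi (dadePi A L)ᶜ (R a) :=
  fun p hp h ⟨b, hb, h'⟩ => hp.one_lt.ne' (Nat.eq_one_of_dvd_coprimes (hD.coprime a ha b hb) h h')

theorem Dade_isPi_C (L : Subgroup Γ) (ha : a ∈ A) : IsPi (dadePi A L) (L ⊓ C{a}) :=
  fun _ _ h => ⟨a, ha, h⟩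

theorem Dade_piElt (hD : DadeHypothesis A L R) (ha : a ∈ A) : PiElt (dadePi A L) a :=
  (Dade_isPi_C L ha).piElt ⟨hD.subset ha, self_mem_C1 a⟩

theorem Dade_hall (hD : DadeHypothesis A L R) (ha : a ∈ A) : Hall (dadePi A L)ᶜ C{a} (R a) :=
  (Dade_sd hD ha).hall_left (Dade_isPi_R hD ha) (by rw [compl_compl]; exact Dade_isPi_C L ha)

theorem Dade_mem_R (hD : DadeHypothesis A L R) (ha : a ∈ A) (hx : PiElt (dadePi A L)ᶜ x)
    (hc : x ∈ C{a}) : x ∈ R a :=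
  (Dade_hall hD ha).mem_of_nml (Dade_nml hD ha).norm hx hc

/-- the signalizer is determined by `A` and `L`. -/
theorem def_Dade_signalizer (hD : DadeHypothesis A L R) (hD' : DadeHypothesis A L R') (ha : a ∈ A) :
    R a = R' a :=
  (Dade_hall hD' ha).eq_of_nml (Dade_nml hD' ha).norm (Dade_hall hD ha)

theorem DadeJ' (hD : DadeHypothesis A L R) (ha : a ∈ A) (hx : x * a * x⁻¹ ∈ A) :
    R (x * a * x⁻¹) = cj x (R a) :=
  ((Dade_hall hD hx).eq_of_nml (Dade_nml hD hx).norm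
    (cj_C1 x a ▸ (Dade_hall hD ha).cj x)).symm

/-- (2.4)(a). -/
theorem DadeJ (hD : DadeHypothesis A L R) (ha : a ∈ A) (hx : x ∈ L) :
    R (x * a * x⁻¹) = cj x (R a) :=
  DadeJ' hD ha (hD.conj_mem x hx a ha)

theorem Dade_cover_eq (hD : DadeHypothesis A L R) {b v : Γ} (ha : a ∈ A) (hb : b ∈ A)
    (hu : u ∈ R a) (hv : v ∈ R b) (h : g * (a * u) * g⁻¹ = b * v) : g * a * g⁻¹ = b :=
  (piElt_decomp_unique ((Dade_piElt hD ha).conj g) (((Dade_isPi_R hD ha).piElt hu).conj g)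
    (Dade_piElt hD hb) ((Dade_isPi_R hD hb).piElt hv)
    (by calc g * a * g⁻¹ * (g * u * g⁻¹) = g * (a * u) * g⁻¹ := by group
      _ = g * u * g⁻¹ * (g * a * g⁻¹) := by rw [Dade_comm hD ha hu]; group)
    (Dade_comm hD hb hv) (by rw [← h]; group)).1

/-- (2.4)(b). -/
theorem Dade_cover_conj (hD : DadeHypothesis A L R) {b v : Γ} (ha : a ∈ A) (hb : b ∈ A)
    (hu : u ∈ R a) (hv : v ∈ R b) (h : g * (a * u) * g⁻¹ = b * v) : ∃ x ∈ L, x * a * x⁻¹ = b := by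
  have e := Dade_cover_eq hD ha hb hu hv h
  have := hD.fusion a ha g (e ▸ hb)
  rwa [e] at this

/-- (2.4)(c): the coset `a R(a)` is a TI set with normaliser `C(a)`. -/
theorem Dade_cover_nti (hD : DadeHypothesis A L R) (ha : a ∈ A) :
    NTI ⊤ C{a} ((fun u => a * u) '' (R a : Set Γ)) where
  le := le_top
  sub := by
    rintro _ ⟨u, hu, rfl⟩
    exact Subgroup.mul_mem _ (self_mem_C1 a) (hD.le_centralizer a ha hu)
  norm := by
    rintro g hg _ ⟨u, hu, rfl⟩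
    refine ⟨g * u * g⁻¹, hD.conj_mem_H a ha g hg u hu, ?_⟩
    calc a * (g * u * g⁻¹) = g * a * g⁻¹ * (g * u * g⁻¹) := by rw [mem_C1_iff_conj.mp hg]
      _ = g * (a * u) * g⁻¹ := by group
  ti := by
    rintro _ ⟨u, hu, rfl⟩ g - ⟨v, hv, e⟩
    exact mem_C1_iff_conj.mpr (Dade_cover_eq hD ha ha hu hv e.symm)

theorem mem_dadeSupp : x ∈ dadeSupp A R ↔ ∃ a ∈ A, ∃ u ∈ R a, ∃ g : Γ, x = g * (a * u) * g⁻¹ := by
  refine exists_congr fun a => and_congr_right fun _ => exists_congr fun u =>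
    and_congr_right fun _ => ⟨fun ⟨g, h⟩ => ⟨g⁻¹, by rw [← h]; group⟩, fun ⟨g, h⟩ => ⟨g⁻¹, ?_⟩⟩
  rw [h]; group

theorem one_not_mem_dadeSupp (hD : DadeHypothesis A L R) : (1 : Γ) ∉ dadeSupp A R := by
  rintro ⟨a, ha, u, hu, g, h⟩
  have e : a = u⁻¹ := by
    rw [mul_one, mul_inv_cancel] at h; exact eq_inv_of_mul_eq_one_left h.symm
  have : a ∈ R a ⊓ L := ⟨by have := (R a).inv_mem hu; rwa [← e] at this, hD.subset ha⟩
  rw [Dade_R_inf_L hD ha, Subgroup.mem_bot] at this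
  exact hD.one_not_mem (this ▸ ha)

theorem conj_mem_dadeSupp (g : Γ) : g * x * g⁻¹ ∈ dadeSupp A R ↔ x ∈ dadeSupp A R := by
  refine exists_congr fun a => and_congr_right fun _ => exists_congr fun u =>
    and_congr_right fun _ => ⟨fun ⟨y, h⟩ => ⟨y * g, by rw [← h]; group⟩,
      fun ⟨y, h⟩ => ⟨y * g⁻¹, ?_⟩⟩
  rw [← h]; group

theorem mul_mem_dadeSupp (ha : a ∈ A) (hu : u ∈ R a) : a * u ∈ dadeSupp A R :=
  ⟨a, ha, u, hu, 1, by group⟩

theorem subset_dadeSupp (A : Set Γ) (R : Γ → Subgroup Γ) : A ⊆ dadeSupp A R :=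
  fun a ha => by simpa using mul_mem_dadeSupp (R := R) ha (R a).one_mem

theorem classSupp_subset_dadeSupp (A : Set Γ) (R : Γ → Subgroup Γ) :
    classSupp A ⊤ ⊆ dadeSupp A R := by
  rintro _ ⟨a, ha, g, -, rfl⟩
  exact (conj_mem_dadeSupp g).mpr (subset_dadeSupp A R ha)

theorem dadeSupp_mono (h : A₁ ⊆ A) (R : Γ → Subgroup Γ) : dadeSupp A₁ R ⊆ dadeSupp A R :=
  fun _ ⟨a, ha, h'⟩ => ⟨a, h ha, h'⟩

theorem dadeSupp_congr (h : ∀ a ∈ A, R a = R' a) : dadeSupp A R = dadeSupp A R' := by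
  ext x
  exact exists_congr fun a => and_congr_right fun ha => by rw [h a ha]

theorem dadeSupp_of_bot (h : ∀ a ∈ A, R a = ⊥) : dadeSupp A R = classSupp A ⊤ := by
  refine Set.Subset.antisymm (fun x hx => ?_) (classSupp_subset_dadeSupp A R)
  obtain ⟨a, ha, u, hu, g, rfl⟩ := mem_dadeSupp.mp hx
  rw [h a ha, Subgroup.mem_bot] at hu
  rw [hu, mul_one]
  exact conj_mem_classSupp ha trivial

theorem dadeSupp_nti (hD : DadeHypothesis A L R) (hs : A₁ ⊆ A) (h : NTI ⊤ L A₁) :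
    dadeSupp A₁ R = classSupp A₁ ⊤ :=
  dadeSupp_of_bot fun a ha =>
    Dade_R_eq_bot hD (hs ha) (le_trans (le_inf le_top le_rfl) (h.cent_le ha))

/-! ## the Dade map -/

/-- (2.5). -/
theorem DadeE (hD : DadeHypothesis A L R) (hα : α ∈ CF L) (ha : a ∈ A) (hu : u ∈ R a) (g : Γ) :
    Dade A L R α (g * (a * u) * g⁻¹) = α a := by
  have h : ∃ b : ↥L, (b : Γ) ∈ A ∧ ∃ x : Γ, ∃ v ∈ R (b : Γ),
      x * (g * (a * u) * g⁻¹) * x⁻¹ = (b : Γ) * v :=
    ⟨⟨a, hD.subset ha⟩, ha, g⁻¹, u, hu, by group⟩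
  change dadeIsometry A L R (fun x : L => α x) _ = _
  rw [dadeIsometry, dif_pos h]
  obtain ⟨hb, x, v, hv, e⟩ := Classical.choose_spec h
  obtain ⟨y, hy, e'⟩ := Dade_cover_conj hD ha hb hu hv (g := x * g) (by rw [← e]; group)
  rw [← e', CF_conj hα hy]

theorem Dade_mul (hD : DadeHypothesis A L R) (hα : α ∈ CF L) (ha : a ∈ A) (hu : u ∈ R a) :
    Dade A L R α (a * u) = α a := by
  simpa using DadeE hD hα ha hu 1

theorem Dade_id (hD : DadeHypothesis A L R) (hα : α ∈ CF L) (ha : a ∈ A) :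
    Dade A L R α a = α a := by
  simpa using Dade_mul hD hα ha (R a).one_mem

theorem Dade_mem_cfOn (A : Set Γ) (L : Subgroup Γ) (R : Γ → Subgroup Γ) (α : Γ → ℂ) :
    Dade A L R α ∈ cfOn (dadeSupp A R) := fun g hg => by
  change dadeIsometry A L R (fun x : L => α x) _ = _
  rw [dadeIsometry, dif_neg]
  rintro ⟨a, ha, x, u, hu, e⟩
  exact hg ⟨a, ha, u, hu, x, e⟩

theorem Dade_mem_CF (hD : DadeHypothesis A L R) (hα : α ∈ CF L) : Dade A L R α ∈ CF ⊤ :=
  mem_CF_of (fun x hx => absurd trivial hx) fun g _ x _ => by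
    by_cases hx : x ∈ dadeSupp A R
    · obtain ⟨a, ha, u, hu, y, rfl⟩ := mem_dadeSupp.mp hx
      rw [DadeE hD hα ha hu, ← DadeE hD hα ha hu (g * y)]
      congr 1; group
    · rw [Dade_mem_cfOn A L R α x hx,
        Dade_mem_cfOn A L R α _ (fun h => hx ((conj_mem_dadeSupp g).mp h))]

theorem Dade_one (hD : DadeHypothesis A L R) (α : Γ → ℂ) : Dade A L R α 1 = 0 :=
  Dade_mem_cfOn A L R α 1 (one_not_mem_dadeSupp hD)

theorem Dade_aut (u : ℂ →+* ℂ) (A : Set Γ) (L : Subgroup Γ) (R : Γ → Subgroup Γ) (α : Γ → ℂ) :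
    Dade A L R (cfAut u α) = cfAut u (Dade A L R α) := by
  funext g
  change dadeIsometry A L R (fun x : L => u (α x)) g = u (dadeIsometry A L R (fun x : L => α x) g)
  simp only [dadeIsometry]
  split_ifs <;> simp

theorem Dade_conjC (A : Set Γ) (L : Subgroup Γ) (R : Γ → Subgroup Γ) (α : Γ → ℂ) :
    Dade A L R (conjC α) = conjC (Dade A L R α) := Dade_aut _ A L R α

theorem Dade_congr (h : ∀ a ∈ A, α a = β a) : Dade A L R α = Dade A L R β := by
  funext g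
  change dadeIsometry A L R (fun x : L => α x) g = dadeIsometry A L R (fun x : L => β x) g
  simp only [dadeIsometry]
  split_ifs with h'
  · exact h _ (Classical.choose_spec h').1
  · rfl

theorem Dade_congr_R (hD : DadeHypothesis A L R) (hD' : DadeHypothesis A L R') (hα : α ∈ CF L) :
    Dade A L R α = Dade A L R' α := by
  have e := dadeSupp_congr fun a ha => def_Dade_signalizer hD hD' ha
  refine ext_on (Dade_mem_cfOn A L R α) (e ▸ Dade_mem_cfOn A L R' α) fun x hx => ?_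
  obtain ⟨a, ha, u, hu, y, rfl⟩ := mem_dadeSupp.mp hx
  rw [DadeE hD hα ha hu, DadeE hD' hα ha (def_Dade_signalizer hD hD' ha ▸ hu)]

/-- summation of a class function over the Dade support. -/
theorem sum_dadeSupp (hD : DadeHypothesis A L R) (F : Γ → ℂ) (hF : ∀ g x, F (g * x * g⁻¹) = F x) :
    (Nat.card L : ℂ) * ∑ x ∈ fs (dadeSupp A R), F x =
      Nat.card Γ * ∑ a ∈ fs A, (Nat.card (R a) : ℂ)⁻¹ * ∑ u ∈ fs (R a : Set Γ), F (a * u) := by
  classical
  set D : Γ → Set Γ := fun a => classSupp ((fun u => a * u) '' (R a : Set Γ)) ⊤ with hDdef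
  have h1 : ∀ a ∈ A, (Nat.card Γ : ℂ) * ((Nat.card (R a) : ℂ)⁻¹ * ∑ u ∈ fs (R a : Set Γ), F (a * u))
      = ∑ x ∈ fs (dadeSupp A R), if x ∈ D a then (Nat.card ↥(L ⊓ C{a}) : ℂ) * F x else 0 := by
    intro a ha
    have h2 := sum_classSupp_nti (Dade_cover_nti hD ha) F (fun g _ => hF g)
    rw [← sum_fs_bij (fun u => a * u) (A := (R a : Set Γ))
      (Set.InjOn.bijOn_image (mul_right_injective a).injOn) F, nsmul_eq_mul] at h2
    rw [← Finset.sum_filter, ← Finset.mul_sum]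
    have e : (fs (dadeSupp A R)).filter (· ∈ D a) = fs (D a) := by
      ext x
      simp only [Finset.mem_filter, mem_fs, and_iff_right_iff_imp]
      rintro ⟨_, ⟨u, hu, rfl⟩, g, -, rfl⟩
      exact (conj_mem_dadeSupp g).mpr (mul_mem_dadeSupp ha hu)
    rw [e, h2, ← Subgroup.card_top (G := Γ), card_eq_mul_relIndex (le_top (a := C{a})),
      (Dade_sd hD ha).card]
    have := cardC_ne_zero (R a)
    push_cast
    field_simp
  rw [Finset.mul_sum, Finset.mul_sum, sum_fs_congr h1, Finset.sum_comm]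
  refine sum_fs_congr fun x hx => ?_
  obtain ⟨a, ha, u, hu, g, rfl⟩ := mem_dadeSupp.mp hx
  rw [← Finset.sum_filter, ← Finset.sum_mul]
  congr 1
  have e : (fs A).filter (fun b => g * (a * u) * g⁻¹ ∈ D b) = fs (classSupp {a} L) := by
    ext b
    simp only [Finset.mem_filter, mem_fs]
    constructor
    · rintro ⟨hb, _, ⟨v, hv, rfl⟩, y, -, e⟩
      obtain ⟨z, hz, e'⟩ := Dade_cover_conj hD ha hb hu hv (g := y⁻¹ * g) (by
        calc y⁻¹ * g * (a * u) * (y⁻¹ * g)⁻¹ = y⁻¹ * (g * (a * u) * g⁻¹) * y := by group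
          _ = b * v := by rw [e]; group)
      exact ⟨a, rfl, z, hz, e'.symm⟩
    · rintro ⟨_, rfl, z, hz, rfl⟩
      refine ⟨hD.conj_mem z hz _ ha, _, ⟨z * u * z⁻¹, ?_, rfl⟩, g * z⁻¹, trivial, by group⟩
      rw [DadeJ hD ha hz]; exact conj_mem_cj z hu
  rw [e, sum_fs_congr (g := fun _ => (Nat.card ↥(L ⊓ C{a}) : ℂ)), sum_fs_const,
    Nat.card_coe_set_eq, ncard_class (hD.subset ha), nsmul_eq_mul,
    card_eq_mul_relIndex (inf_le_left : L ⊓ C{a} ≤ L)]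
  · push_cast; ring
  · rintro _ ⟨_, rfl, z, hz, rfl⟩
    rw [← cj_C1, ← cj_of_mem hz, ← cj_inf, card_cj, cj_of_mem hz]

/-- (2.7), general form. -/
theorem general_Dade_reciprocity (hD : DadeHypothesis A L R) (hα : α ∈ CFon L A) (hφ : φ ∈ CF ⊤)
    (hψ : ∀ a ∈ A, ψ a = (Nat.card (R a) : ℂ)⁻¹ * ∑ u ∈ fs (R a : Set Γ), φ (a * u)) :
    cfdot ⊤ (Dade A L R α) φ = cfdot L α ψ := by
  have h1 := sum_dadeSupp hD (fun x => Dade A L R α x * conj (φ x)) (fun g x => by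
    rw [CF_conj (Dade_mem_CF hD hα.1) trivial, CF_conj hφ trivial])
  rw [sum_fs_subset (B := ((⊤ : Subgroup Γ) : Set Γ)) (fun _ _ => trivial) _
      (fun x _ hx => by rw [Dade_mem_cfOn A L R α x hx, zero_mul]),
    sum_fs_congr (A := A) (g := fun a => α a * conj (ψ a)) (fun a ha => by
      rw [hψ a ha, map_mul, map_sum, map_inv₀, map_natCast, mul_left_comm]
      congr 1
      rw [Finset.mul_sum]
      refine sum_fs_congr fun u hu => ?_
      rw [Dade_mul hD hα.1 ha hu]),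
    sum_fs_subset hD.subset _ (fun x _ hx => by rw [hα.2 x hx, zero_mul])] at h1
  rw [cfdot_def, cfdot_def, Subgroup.card_top]
  have h2 := cardC_ne_zero L
  have h3 : (Nat.card Γ : ℂ) ≠ 0 := Nat.cast_ne_zero.mpr Nat.card_pos.ne'
  field_simp
  linear_combination h1

theorem Dade_reciprocity (hD : DadeHypothesis A L R) (hα : α ∈ CFon L A) (hφ : φ ∈ CF ⊤)
    (h : ∀ a ∈ A, ∀ u ∈ R a, φ (a * u) = φ a) : cfdot ⊤ (Dade A L R α) φ = cfdot L α φ :=
  general_Dade_reciprocity hD hα hφ fun a ha => by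
    rw [sum_fs_congr (h a ha), sum_fs_const, nsmul_eq_mul]
    exact (inv_mul_cancel_left₀ (cardC_ne_zero _) _).symm

theorem cfdot_Dade_one (hD : DadeHypothesis A L R) (hα : α ∈ CFon L A) :
    cfdot ⊤ (Dade A L R α) (cfOne ⊤) = cfdot L α (cfOne L) := by
  rw [Dade_reciprocity hD hα (cfOne_mem_CF ⊤) (fun _ _ _ _ => by simp), ← cfdot_cfRes_right,
    cfRes_cfOne le_top]

/-- (2.6)(a). -/
theorem Dade_isometry (hD : DadeHypothesis A L R) (hα : α ∈ CFon L A) (hβ : β ∈ CF L) :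
    cfdot ⊤ (Dade A L R α) (Dade A L R β) = cfdot L α β := by
  rw [Dade_reciprocity hD hα (Dade_mem_CF hD hβ)
    (fun a ha u hu => by rw [Dade_mul hD hβ ha hu, Dade_id hD hβ ha])]
  exact cfdot_congr_on hα.2 fun a ha _ => Dade_id hD hβ ha

theorem Dade_isometry' (hD : DadeHypothesis A L R) (hα : α ∈ CF L) (hβ : β ∈ CFon L A) :
    cfdot ⊤ (Dade A L R α) (Dade A L R β) = cfdot L α β := by
  rw [← conj_cfdot, Dade_isometry hD hβ hα, conj_cfdot]

theorem cfnorm_Dade (hD : DadeHypothesis A L R) (hα : α ∈ CFon L A) :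
    cfnorm ⊤ (Dade A L R α) = cfnorm L α :=
  cfnorm_congr_dot (Dade_isometry hD hα hα.1)

/-! ## (2.6)(b): the Dade map preserves virtual characters -/

/-- averaging a class function over a coset `K b`, `b` acting coprimely on `K`. -/
theorem coprime_coset_avg {K : Subgroup Γ} {b : Γ} (hb : b ∈ N[K])
    (hc : (Nat.card K).Coprime (orderOf b)) (F : Γ → ℂ)
    (hF : ∀ g ∈ K, ∀ x, F (g * x * g⁻¹) = F x) :
    (Nat.card K : ℂ)⁻¹ * ∑ h ∈ fs (K : Set Γ), F (h * b) =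
      (Nat.card ↥(K ⊓ C{b}) : ℂ)⁻¹ * ∑ c ∈ fs ((K ⊓ C{b} : Subgroup Γ) : Set Γ), F (c * b) := by
  set e : Γ × Γ → Γ := fun p => p.1 * (p.2 * b) * p.1⁻¹ with he
  set P : Set (Γ × Γ) := (K : Set Γ) ×ˢ ((K ⊓ C{b} : Subgroup Γ) : Set Γ)
  have hb' : PiElt (primesOf K)ᶜ b :=
    piElt_iff.mpr (isPi_compl_of_coprime (by rwa [card_zpowers']))
  have hfib : ∀ y ∈ e '' P, {p | p ∈ P ∧ e p = y}.ncard = Nat.card ↥(K ⊓ C{b}) := by
    rintro _ ⟨⟨k, c⟩, ⟨hk, hc'⟩, rfl⟩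
    refine ncard_eq_card_of_bij (fun t => (k * t⁻¹, t * c * t⁻¹))
      ⟨fun t ht => ⟨⟨K.mul_mem hk (K.inv_mem ht.1), (conj_mem_iff_of_mem ht c).mpr hc'⟩, ?_⟩,
        fun l _ k _ e => inv_injective (mul_left_cancel (congrArg Prod.fst e)), fun p hp => ?_⟩
    · calc k * t⁻¹ * (t * c * t⁻¹ * b) * (k * t⁻¹)⁻¹
          = k * (c * (t⁻¹ * (t * b * t⁻¹) * t)) * k⁻¹ := by rw [mem_C1_iff_conj.mp ht.2]; group
        _ = k * (c * b) * k⁻¹ := by group
    · obtain ⟨⟨h1, h2⟩, h3⟩ := hp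
      have h4 := piElt_decomp_unique (π := primesOf K)
        (((isPi_primesOf K).piElt hc'.1).conj (p.1⁻¹ * k)) (hb'.conj (p.1⁻¹ * k))
        ((isPi_primesOf K).piElt h2.1) hb'
        (by calc _ = p.1⁻¹ * k * (c * b) * (p.1⁻¹ * k)⁻¹ := by group
          _ = _ := by rw [mem_C1.mp hc'.2]; group) (mem_C1.mp h2.2)
        (by calc _ = p.1⁻¹ * (k * (c * b) * k⁻¹) * p.1 := by group
          _ = _ := by
            have : p.1 * (p.2 * b) * p.1⁻¹ = k * (c * b) * k⁻¹ := h3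
            rw [← this]; group)
      exact ⟨p.1⁻¹ * k, ⟨K.mul_mem (K.inv_mem h1) hk, mem_C1_iff_conj.mpr h4.2⟩,
        Prod.ext (by simp) h4.1⟩
  have hS : e '' P = (fun h => h * b) '' (K : Set Γ) := by
    refine Set.eq_of_subset_of_ncard_le ?_ ?_
    · rintro _ ⟨⟨k, c⟩, ⟨hk, hc'⟩, rfl⟩
      exact ⟨k * c * (b * k⁻¹ * b⁻¹), K.mul_mem (K.mul_mem hk hc'.1) (conj_mem hb (K.inv_mem hk)),
        by simp only [he]; group⟩
    · have h1 := sum_fs_fiber e (fun p hp => Set.mem_image_of_mem e hp) hfib (fun _ => (1 : ℕ))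
      rw [← Finset.card_eq_sum_ones, ← Finset.card_eq_sum_ones, fs_prod, Finset.card_product,
        card_fs_subgroup, card_fs_subgroup, card_fs_ncard, smul_eq_mul, mul_comm] at h1
      rw [← Nat.eq_of_mul_eq_mul_left (card_pos _) h1,
        Set.ncard_image_of_injective _ (mul_left_injective b)]
      exact le_rfl
  have h1 := sum_fs_fiber e (fun p hp => Set.mem_image_of_mem e hp) hfib F
  rw [hS, ← sum_fs_bij (fun h => h * b) (Set.InjOn.bijOn_image (mul_left_injective b).injOn) F,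
    fs_prod, Finset.sum_product, sum_fs_congr (g := fun _ =>
      ∑ c ∈ fs ((K ⊓ C{b} : Subgroup Γ) : Set Γ), F (c * b))
      (fun k hk => Finset.sum_congr rfl fun c _ => hF k hk _), sum_fs_const, nsmul_eq_mul,
    nsmul_eq_mul] at h1
  have h2 := cardC_ne_zero K
  have h3 := cardC_ne_zero (K ⊓ C{b})
  change (Nat.card K : ℂ) * _ = _ at h1
  field_simp
  linear_combination -h1

theorem exists_vchar_ext {K H M : Subgroup Γ} (h : SD K H M) {θ : Γ → ℂ} (hθ : θ ∈ vchar H) :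
    ∃ χ ∈ vchar M, ∀ k ∈ K, ∀ y ∈ H, χ (k * y) = θ y := by
  obtain ⟨θ₁, θ₂, h1, h2, rfl⟩ := vchar_eq_sub hθ
  obtain ⟨χ₁, a1, b1, rfl⟩ := exists_char_ext h.isProd h.nml h1 (by rw [h.inf]; exact bot_le)
  obtain ⟨χ₂, a2, b2, rfl⟩ := exists_char_ext h.isProd h.nml h2 (by rw [h.inf]; exact bot_le)
  refine ⟨χ₁ - χ₂, sub_mem a1.vchar a2.vchar, fun k hk y hy => ?_⟩
  rw [Pi.sub_apply, Pi.sub_apply, cfker_mul_left (b1 hk), cfker_mul_left (b2 hk),
    cfRes_of_mem _ hy, cfRes_of_mem _ hy]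

theorem sd_avg_int {K H G : Subgroup Γ} (hn : H ≤ N[K]) (hi : K ⊓ H = ⊥) (hH : H ≤ L)
    (hα : α ∈ vchar L) (hG : K ⊔ H ≤ G) (hφ : φ ∈ vchar G) :
    ∃ n : ℤ, ∑ y ∈ fs (H : Set Γ), α y * conj ((Nat.card K : ℂ)⁻¹ *
      ∑ h ∈ fs (K : Set Γ), φ (h * y)) = Nat.card H * n := by
  have h := SD.mk_sup hn hi
  obtain ⟨χ, hχ, e⟩ := exists_vchar_ext h (vchar_res hα hH)
  obtain ⟨n, hn⟩ := vchar_dot_int_of_le hχ hφ hG
  refine ⟨n, ?_⟩
  have h1 := sum_fs_isProd h.isProd (fun x => χ x * conj (φ x))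
  rw [hi, Subgroup.card_bot, one_smul] at h1
  rw [← hn, cfdot_def, ← h1, h.card, Finset.sum_comm]
  have h2 := cardC_ne_zero K
  have h3 := cardC_ne_zero H
  rw [sum_fs_congr (A := (H : Set Γ)) (g := fun y => (Nat.card K : ℂ)⁻¹ *
    ∑ k ∈ fs (K : Set Γ), χ (k * y) * conj (φ (k * y))) (fun y hy => by
      rw [map_mul, map_sum, map_inv₀, map_natCast, mul_left_comm, Finset.mul_sum]
      congr 1
      exact sum_fs_congr fun k hk => by rw [e k hk y hy, cfRes_of_mem _ hy]), ← Finset.mul_sum]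
  push_cast
  field_simp

theorem sum_orbit_int {X Y : Type*} [Group X] [Finite X] [MulAction X Y] (s : Finset Y)
    (hs : ∀ g : X, ∀ y ∈ s, g • y ∈ s) (T : Y → ℂ) (hT : ∀ g : X, ∀ y ∈ s, T (g • y) = T y)
    (hi : ∀ y ∈ s, ∃ n : ℤ, T y = Nat.card (MulAction.stabilizer X y) * n) :
    ∃ n : ℤ, ∑ y ∈ s, T y = Nat.card X * n := by
  classical
  rw [← Finset.sum_fiberwise_of_maps_to (g := Quotient.mk (MulAction.orbitRel X Y))
    (t := s.image (Quotient.mk (MulAction.orbitRel X Y))) (fun y hy => Finset.mem_image_of_mem _ hy)]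
  refine Finset.sum_induction _ (fun z : ℂ => ∃ n : ℤ, z = Nat.card X * n)
    (fun _ _ ⟨m, hm⟩ ⟨n, hn⟩ => ⟨m + n, by rw [hm, hn]; push_cast; ring⟩) ⟨0, by simp⟩ fun q hq => ?_
  obtain ⟨y, hy, rfl⟩ := Finset.mem_image.mp hq
  obtain ⟨n, hn⟩ := hi y hy
  refine ⟨n, ?_⟩
  have e : ((s.filter fun z => Quotient.mk (MulAction.orbitRel X Y) z =
      Quotient.mk (MulAction.orbitRel X Y) y : Finset Y) : Set Y) = MulAction.orbit X y := by
    ext z
    simp only [Finset.coe_filter, Set.mem_setOf_eq, Quotient.eq, MulAction.orbitRel_apply]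
    exact ⟨fun h => h.2, fun h => ⟨by obtain ⟨g, rfl⟩ := h; exact hs g y hy, h⟩⟩
  rw [Finset.sum_congr rfl (g := fun _ => T y) (fun z hz => by
    obtain ⟨g, rfl⟩ : z ∈ MulAction.orbit X y := e ▸ Finset.mem_coe.mpr hz
    exact hT g y hy), Finset.sum_const, ← Set.ncard_coe_finset, e, ← MulAction.index_stabilizer,
    hn, nsmul_eq_mul, ← (MulAction.stabilizer X y).index_mul_card]
  push_cast
  ring

/-- the conjugate of a subset. -/
def cjs (g : Γ) (B : Set Γ) : Set Γ := (fun x => g * x * g⁻¹) '' B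

theorem mem_cjs {B : Set Γ} : x ∈ cjs g B ↔ g⁻¹ * x * g ∈ B :=
  ⟨fun ⟨y, hy, e⟩ => by rw [← e]; simpa [mul_assoc] using hy, fun h => ⟨_, h, by group⟩⟩

theorem ncard_cjs (g : Γ) (B : Set Γ) : (cjs g B).ncard = B.ncard :=
  Set.ncard_image_of_injective _ fun a b h => by simpa using h

theorem cjs_eq_iff {B : Set Γ} : cjs g B = B ↔ g ∈ Subgroup.normalizer B := by
  rw [Subgroup.mem_set_normalizer_iff'']
  exact ⟨fun h x => by rw [← mem_cjs, h], fun h => Set.ext fun x => by rw [mem_cjs, ← h]⟩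

theorem normalizer_cjs (g : Γ) (B : Set Γ) :
    Subgroup.normalizer (cjs g B) = cj g (Subgroup.normalizer B) := by
  ext y
  rw [mem_cj, Subgroup.mem_set_normalizer_iff, Subgroup.mem_set_normalizer_iff]
  constructor
  · intro h x
    have := h (g * x * g⁻¹)
    rw [mem_cjs, mem_cjs] at this
    convert this using 2 <;> group
  · intro h x
    rw [mem_cjs, mem_cjs, h]
    congr! 1; group

/-- the action of `L` on the subsets of `Γ` by conjugation. -/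
abbrev cjsAction (L : Subgroup Γ) : MulAction L (Set Γ) where
  smul g B := cjs g B
  one_smul B := Set.ext fun x => by
    change x ∈ cjs ((1 : L) : Γ) B ↔ _
    rw [mem_cjs]; simp
  mul_smul g h B := Set.ext fun x => by
    change x ∈ cjs ((g * h : L) : Γ) B ↔ x ∈ cjs (g : Γ) (cjs (h : Γ) B)
    rw [mem_cjs, mem_cjs, mem_cjs]; simp [mul_assoc]

theorem sum_cjs_int (s : Set (Set Γ)) (hs : ∀ g ∈ L, ∀ B ∈ s, cjs g B ∈ s) (T : Set Γ → ℂ)
    (hT : ∀ g ∈ L, ∀ B ∈ s, T (cjs g B) = T B)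
    (hi : ∀ B ∈ s, ∃ n : ℤ, T B = Nat.card ↥(L ⊓ Subgroup.normalizer B) * n) :
    ∃ n : ℤ, ∑ B ∈ fs s, T B = Nat.card L * n := by
  letI := cjsAction L
  refine sum_orbit_int (X := L) (fs s) (fun g B hB => mem_fs.mpr (hs g g.2 B (mem_fs.mp hB))) T
    (fun g B hB => hT g g.2 B (mem_fs.mp hB)) fun B hB => ?_
  have : MulAction.stabilizer L B = (Subgroup.normalizer B).subgroupOf L := by
    ext g; exact cjs_eq_iff
  rw [this, card_subgroupOf, inf_comm]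
  exact hi B (mem_fs.mp hB)

/-- `H(B)` of (2.8). -/
def dadeSig (R : Γ → Subgroup Γ) (B : Set Γ) : Subgroup Γ := ⨅ a ∈ B, R a

theorem mem_dadeSig {B : Set Γ} : x ∈ dadeSig R B ↔ ∀ a ∈ B, x ∈ R a := by
  simp [dadeSig, Subgroup.mem_iInf]

theorem dadeSig_cjs (hD : DadeHypothesis A L R) {B : Set Γ} (hB : B ⊆ A) (hg : g ∈ L) :
    dadeSig R (cjs g B) = cj g (dadeSig R B) := by
  ext y
  rw [mem_cj, mem_dadeSig, mem_dadeSig]
  constructor
  · intro h a ha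
    have := h _ ⟨a, ha, rfl⟩
    rwa [DadeJ hD (hB ha) hg, mem_cj] at this
  · rintro h _ ⟨a, ha, rfl⟩
    rw [DadeJ hD (hB ha) hg, mem_cj]
    exact h a ha

theorem dadeSig_inf_C (hD : DadeHypothesis A L R) {B : Set Γ} (hB : B ⊆ A) (hne : B.Nonempty)
    (ha : a ∈ A) : dadeSig R B ⊓ C{a} = dadeSig R (insert a B) := by
  obtain ⟨b, hb⟩ := hne
  ext y
  rw [Subgroup.mem_inf, mem_dadeSig, mem_dadeSig, Set.forall_mem_insert]
  exact ⟨fun h => ⟨Dade_mem_R hD ha ((Dade_isPi_R hD (hB hb)).piElt (h.1 b hb)) h.2, h.1⟩,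
    fun h => ⟨h.2, hD.le_centralizer a ha h.1⟩⟩

theorem sum_sign_subsets (ha : a ∈ A) (F : Set Γ → ℂ) :
    ∑ B ∈ fs {B : Set Γ | B ⊆ A ∧ a ∈ Subgroup.normalizer B},
      (-1 : ℂ) ^ B.ncard * F (insert a B) = 0 := by
  classical
  have hn : ∀ B : Set Γ, a ∈ Subgroup.normalizer B → a ∈ Subgroup.normalizer (symmDiff B {a}) := by
    intro B hB
    rw [Subgroup.mem_set_normalizer_iff] at hB ⊢
    intro x
    have : x = a ↔ a * x * a⁻¹ = a := ⟨fun h => by rw [h]; group, fun h => by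
      calc x = a⁻¹ * (a * x * a⁻¹) * a := by group
        _ = a := by rw [h]; group⟩
    simp only [Set.mem_symmDiff, Set.mem_singleton_iff, ← hB x, ← this]
  refine Finset.sum_involution (fun B _ => symmDiff B {a}) (fun B hB => ?_) (fun B _ _ h => ?_)
    (fun B hB => ?_) (fun B _ => symmDiff_symmDiff_cancel_right _ _)
  · by_cases h : a ∈ B
    · have e : symmDiff B {a} = B \ {a} := by
        ext x; simp only [Set.mem_symmDiff, Set.mem_singleton_iff, Set.mem_diff]; grind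
      rw [e, Set.insert_diff_singleton, ← Set.ncard_diff_singleton_add_one h, pow_succ]
      ring
    · have e : symmDiff B {a} = insert a B := by
        ext x; simp only [Set.mem_symmDiff, Set.mem_singleton_iff, Set.mem_insert_iff]; grind
      rw [e, Set.insert_idem, Set.ncard_insert_of_notMem h, pow_succ]
      ring
  · have : a ∈ symmDiff B {a} ↔ a ∈ B := by rw [h]
    simp [Set.mem_symmDiff] at this
  · obtain ⟨h1, h2⟩ := mem_fs.mp hB
    refine mem_fs.mpr ⟨fun x hx => ?_, hn B h2⟩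
    rcases hx with h | h
    · exact h1 h.1
    · rw [h.1]; exact ha

/-- (2.6)(b). -/
theorem Dade_vchar (hD : DadeHypothesis A L R) (hα : α ∈ vchar L) (hA : α ∈ cfOn A) :
    Dade A L R α ∈ vchar ⊤ := by
  classical
  have hαL := vchar_CF hα
  refine mem_vchar_of_dot (Dade_mem_CF hD hαL) fun χ hχ => ?_
  set avg : Subgroup Γ → Γ → ℂ := fun K y =>
    (Nat.card K : ℂ)⁻¹ * ∑ h ∈ fs (K : Set Γ), χ (h * y) with havg
  rw [general_Dade_reciprocity hD ⟨hαL, hA⟩ (irr_CF hχ) (ψ := fun a => avg (R a) a) (fun a ha => by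
    simp only [havg]
    rw [sum_fs_congr fun u hu => by rw [← Dade_comm hD ha hu]])]
  set T : Set Γ → ℂ := fun B => (-1 : ℂ) ^ B.ncard *
    ∑ y ∈ fs ((L ⊓ Subgroup.normalizer B : Subgroup Γ) : Set Γ), α y * conj (avg (dadeSig R B) y)
    with hT
  have hnorm : ∀ B ⊆ A, L ⊓ Subgroup.normalizer B ≤ N[dadeSig R B] := fun B hB g hg => by
    rw [mem_N_iff_cj, ← dadeSig_cjs hD hB hg.1, cjs_eq_iff.mpr hg.2]
  obtain ⟨n, hn⟩ := sum_cjs_int (L := L) {B | B ⊆ A ∧ B.Nonempty} (fun g hg B hB =>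
      ⟨by rintro _ ⟨b, hb, rfl⟩; exact hD.conj_mem g hg b (hB.1 hb), hB.2.image _⟩) T
    (fun g hg B hB => by
      simp only [hT, havg]
      rw [ncard_cjs, normalizer_cjs, dadeSig_cjs hD hB.1 hg, card_cj, ← cj_of_mem hg, ← cj_inf,
        sum_fs_cj, cj_of_mem hg]
      congr 1
      refine Finset.sum_congr rfl fun y _ => ?_
      rw [CF_conj hαL hg, sum_fs_cj]
      congr 3
      refine Finset.sum_congr rfl fun h _ => ?_
      rw [← CF_conj (irr_CF hχ) (g := g) trivial (h * y)]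
      congr 1; group)
    (fun B hB => by
      obtain ⟨b, hb⟩ := hB.2
      obtain ⟨m, hm⟩ := sd_avg_int (hnorm B hB.1) (eq_bot_of_le (Dade_R_inf_L hD (hB.1 hb))
        (inf_le_inf (fun x hx => mem_dadeSig.mp hx b hb) inf_le_left)) inf_le_left hα le_top
        (irr_vchar hχ)
      refine ⟨(-1) ^ B.ncard * m, ?_⟩
      simp only [hT, havg]
      rw [hm]; push_cast; ring)
  refine ⟨-n, ?_⟩
  have h1 : ∀ B ∈ {B : Set Γ | B ⊆ A ∧ B.Nonempty}, T B = ∑ a ∈ fs A,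
      if a ∈ Subgroup.normalizer B then
        α a * ((-1 : ℂ) ^ B.ncard * conj (avg (dadeSig R (insert a B)) a)) else 0 := by
    intro B hB
    obtain ⟨b, hb⟩ := hB.2
    simp only [hT]
    rw [← Finset.sum_filter, ← sum_fs_subset
      (A := {a | a ∈ A ∧ a ∈ Subgroup.normalizer B})
      (B := ((L ⊓ Subgroup.normalizer B : Subgroup Γ) : Set Γ))
      (fun a ha => ⟨hD.subset ha.1, ha.2⟩) (fun y => α y * conj (avg (dadeSig R B) y))
      (fun a ha h => by rw [hA a (fun h' => h ⟨h', ha.2⟩), zero_mul]), Finset.mul_sum]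
    refine Finset.sum_congr (by ext a; simp) fun a ha => ?_
    obtain ⟨a1, a2⟩ := Finset.mem_filter.mp ha
    have a1' := mem_fs.mp a1
    rw [← dadeSig_inf_C hD hB.1 ⟨b, hb⟩ a1']
    simp only [havg]
    rw [coprime_coset_avg (hnorm B hB.1 ⟨hD.subset a1', a2⟩)
      (card_zpowers' a ▸ ((Dade_isPi_R hD (hB.1 hb)).of_le
        (fun x hx => mem_dadeSig.mp hx b hb)).coprime' (Dade_piElt hD a1').isPi) χ
      (fun g _ x => CF_conj (irr_CF hχ) trivial x)]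
    ring
  rw [sum_fs_congr h1, Finset.sum_comm, sum_fs_congr (A := A)
    (g := fun a => -(α a * conj (avg (R a) a))) (fun a ha => ?_), Finset.sum_neg_distrib,
    sum_fs_subset hD.subset _ (fun x _ hx => by rw [hA x hx, zero_mul])] at hn
  · rw [cfdot_def, ← neg_neg (∑ x ∈ _, _), hn]
    have := cardC_ne_zero L
    push_cast
    field_simp
  · have h2 := sum_sign_subsets ha (fun B => conj (avg (dadeSig R B) a))
    rw [sum_fs_diff (B := {∅}) (by rintro _ rfl; exact ⟨Set.empty_subset _, by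
      rw [Subgroup.mem_set_normalizer_iff]; simp⟩), sum_fs_singleton] at h2
    have e : dadeSig R (insert a ∅) = R a := by ext x; simp [mem_dadeSig]
    rw [e, Set.ncard_empty, pow_zero, one_mul] at h2
    rw [← Finset.sum_filter, ← Finset.mul_sum, ← mul_neg, ← eq_neg_of_add_eq_zero_left h2]
    congr 1
    refine Finset.sum_congr ?_ fun _ _ => rfl
    ext B
    simp only [Finset.mem_filter, mem_fs, Set.mem_setOf_eq, Set.mem_diff, Set.mem_singleton_iff,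
      Set.nonempty_iff_ne_empty]
    tauto

theorem Dade_ZIsom (hD : DadeHypothesis A L R) {E : Submodule ℤ (Γ → ℂ)}
    (hE : ∀ α ∈ E, α ∈ vchar L ∧ α ∈ cfOn A) : ZIsom L ⊤ E (Dade A L R) :=
  ⟨fun φ hφ ψ hψ => Dade_isometry hD ⟨vchar_CF (hE φ hφ).1, (hE φ hφ).2⟩ (vchar_CF (hE ψ hψ).1),
    fun φ hφ => Dade_vchar hD (hE φ hφ).1 (hE φ hφ).2⟩

theorem cfOn_of_insert_one (h : α ∈ cfOn (insert 1 A)) (h1 : α 1 = 0) : α ∈ cfOn A :=
  fun x hx => by
    by_cases e : x = 1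
    · rw [e, h1]
    · exact h x fun h' => h'.elim e hx

/-- the isometry property on `ℤ[S, L^#]` for a set `S` of virtual characters vanishing off `A ∪ {1}`. -/
theorem Dade_ZIsom0 (hD : DadeHypothesis A L R) {S : Finset (Γ → ℂ)}
    (hS : ∀ χ ∈ S, χ ∈ vchar L ∧ χ ∈ cfOn (insert 1 A)) : ZIsom L ⊤ (zsp0 S) (Dade A L R) :=
  Dade_ZIsom hD fun α hα => by
    obtain ⟨h1, h2⟩ := mem_zsp0.mp hα
    exact ⟨zsp_le_vchar (fun χ h => (hS χ h).1) h1,
      cfOn_of_insert_one (zsp_le_C (fun χ h => (hS χ h).2) h1) h2⟩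

/-- (2.11). -/
theorem restr_Dade_hyp (hD : DadeHypothesis A L R) (hs : A₁ ⊆ A)
    (hn : ∀ x ∈ L, ∀ a ∈ A₁, x * a * x⁻¹ ∈ A₁) : DadeHypothesis A₁ L R where
  one_not_mem := fun h => hD.one_not_mem (hs h)
  subset := hs.trans hD.subset
  conj_mem := hn
  fusion := fun a ha g hg => hD.fusion a (hs ha) g (hs hg)
  le_centralizer := fun a ha => hD.le_centralizer a (hs ha)
  conj_mem_H := fun a ha => hD.conj_mem_H a (hs ha)
  inf_eq_bot := fun a ha => hD.inf_eq_bot a (hs ha)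
  sup_eq := fun a ha => hD.sup_eq a (hs ha)
  coprime := fun a ha b hb => hD.coprime a (hs ha) b (hs hb)

theorem Dade_mem_cfOn_restr (hD : DadeHypothesis A L R) (hs : A₁ ⊆ A)
    (hn : ∀ x ∈ L, ∀ a ∈ A₁, x * a * x⁻¹ ∈ A₁) (hα : α ∈ CFon L A₁) :
    Dade A L R α ∈ cfOn (dadeSupp A₁ R) := fun x hx => by
  by_cases hx' : x ∈ dadeSupp A R
  · obtain ⟨a, ha, u, hu, y, rfl⟩ := mem_dadeSupp.mp hx'
    rw [DadeE hD hα.1 ha hu]
    exact hα.2 a fun h => hx ((conj_mem_dadeSupp y).mpr (mul_mem_dadeSupp h hu))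
  · exact Dade_mem_cfOn A L R α x hx'

theorem restr_DadeE (hD : DadeHypothesis A L R) (hs : A₁ ⊆ A)
    (hn : ∀ x ∈ L, ∀ a ∈ A₁, x * a * x⁻¹ ∈ A₁) (hα : α ∈ CFon L A₁) :
    Dade A₁ L R α = Dade A L R α :=
  ext_on (Dade_mem_cfOn A₁ L R α) (Dade_mem_cfOn_restr hD hs hn hα) fun x hx => by
    obtain ⟨a, ha, u, hu, y, rfl⟩ := mem_dadeSupp.mp hx
    rw [DadeE (restr_Dade_hyp hD hs hn) hα.1 ha hu, DadeE hD hα.1 (hs ha) hu]

theorem Dade_Ind (hD : DadeHypothesis A L R) (hs : A₁ ⊆ A) (h : NTI ⊤ L A₁) (hα : α ∈ CFon L A₁) :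
    Dade A L R α = cfInd ⊤ L α :=
  ext_on (dadeSupp_nti hD hs h ▸ Dade_mem_cfOn_restr hD hs h.norm hα)
    (cfInd_mem_cfOn_classSupp ⊤ L hα.2) fun x hx => by
      obtain ⟨a, ha, g, -, rfl⟩ := hx
      rw [CF_conj (Dade_mem_CF hD hα.1) trivial, CF_conj (cfInd_mem_CF ⊤ _ _) trivial,
        Dade_id hD hα.1 (hs ha), h.cfInd_apply hα ha]

theorem irr_sub_of_conjC_neg {G : Subgroup Γ} (hφ : φ ∈ vchar G) (h2 : cfnorm G φ = 2)
    (h1 : φ 1 = 0) (hc : conjC φ = -φ) : ∃ μ ∈ Irr G, φ = μ - conjC μ := by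
  obtain ⟨μ, hμ, ν, hν, hne, rfl⟩ := vchar_norm_two_sub hφ h2 h1
  refine ⟨μ, hμ, ?_⟩
  have h3 := congrArg (fun φ => cfdot G φ ν) hc
  simp only [conjC_sub, neg_sub, cfdot_sub_left, irr_dot_self hν, irr_dot_ne hμ hν hne] at h3
  obtain ⟨k, hk⟩ := char_dot_nat (irr_char (irr_conjC hν)) (irr_char hν)
  rw [irr_eq_of_dot_ne (irr_conjC hμ) hν fun h => ?_]
  have h4 : ((k + 1 : ℕ) : ℂ) = 0 := by push_cast; rw [← hk]; linear_combination h - h3
  exact Nat.succ_ne_zero _ (Nat.cast_eq_zero.mp h4)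

/-- (5.9)(b). -/
theorem Dade_irr_sub_conjC (hD : DadeHypothesis A L R) {χ : Γ → ℂ} (hχ : χ ∈ Irr L)
    (hA : χ ∈ cfOn (insert 1 A)) :
    ∃ μ ∈ Irr (⊤ : Subgroup Γ), Dade A L R (χ - conjC χ) = μ - conjC μ := by
  by_cases h : conjC χ = χ
  · exact ⟨cfOne ⊤, cfOne_mem_Irr ⊤, by
      rw [h, sub_self, map_zero, conjC_cfOne, sub_self]⟩
  have h1 : χ - conjC χ ∈ vchar L := sub_mem (irr_vchar hχ) (irr_vchar (irr_conjC hχ))
  have h2 : χ - conjC χ ∈ cfOn A := cfOn_of_insert_one (sub_mem hA (cfAut_mem_cfOn _ hA)) (by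
    rw [Pi.sub_apply, conjC_apply, vchar_conj_one (irr_vchar hχ), sub_self])
  refine irr_sub_of_conjC_neg (Dade_vchar hD h1 h2) ?_ (Dade_one hD _) ?_
  · rw [cfnorm_Dade hD ⟨vchar_CF h1, h2⟩,
      cfnorm_sub_orth (irr_dot_ne hχ (irr_conjC hχ) (Ne.symm h)), cfnorm_conjC, irr_norm hχ]
    norm_num
  · rw [← map_neg, ← Dade_conjC, conjC_sub, neg_sub, conjC_conjC]

end H27
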