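import Mathlib
import Cfsg.Agent.H27.PF2
import Cfsg.Agent.H24.Base5
import Cfsg.Agent.H4.Grid

/-!
# Peterfalvi §3, first part: properties of any map with the defining properties of `σ`, the
counting lemma of (3.8) and the existence theorem (3.5).  Author: helper4.
-/

set_option autoImplicit false
set_option linter.unusedSectionVars false
set_option linter.unusedVariables false

namespace H27
namespace PF3

open Cfsg H24
open scoped ComplexConjugate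

universe u v

variable {Γ : Type u} [Group Γ] [Finite Γ]
variable {G W W₁ W₂ : Subgroup Γ} {V : Set Γ} {φ ψ ω ω' i j i' j' : Γ → ℂ} {x : Γ}
  {σ : (Γ → ℂ) →ₗ[ℂ] (Γ → ℂ)}

theorem map_CF_eq_sum {Y : Type*} (σ : (Γ → ℂ) →ₗ[ℂ] (Y → ℂ)) (hφ : φ ∈ CF W) :
    σ φ = ∑ χ ∈ Irr W, cfdot W φ χ • σ χ := by
  conv_lhs => rw [CF_eq_sum hφ]
  simp only [map_sum, map_smul]

theorem iso_CF (h : IsCycIso G W V σ) (hφ : φ ∈ CF W) : σ φ ∈ CF G := by
  rw [map_CF_eq_sum σ hφ]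
  exact Submodule.sum_mem _ fun χ hχ =>
    Submodule.smul_mem _ _ (vchar_CF (h.isom.vchar _ (irr_vchar hχ)))

theorem iso_dot (h : IsCycIso G W V σ) (hφ : φ ∈ CF W) (hψ : ψ ∈ CF W) :
    cfdot G (σ φ) (σ ψ) = cfdot W φ ψ := by
  rw [map_CF_eq_sum σ hφ, map_CF_eq_sum σ hψ]
  conv_rhs => rw [CF_eq_sum hφ, CF_eq_sum hψ]
  simp only [cfdot_sum_left, cfdot_sum_right, cfdot_smul_left, cfdot_smul_right]
  exact Finset.sum_congr rfl fun χ hχ => congrArg _ (Finset.sum_congr rfl fun χ' hχ' => by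
    rw [h.isom.dot _ (irr_vchar hχ') _ (irr_vchar hχ)])

theorem iso_restrict (h : IsCycIso G W V σ) (hφ : φ ∈ CF W) (hx : x ∈ V) : σ φ x = φ x := by
  rw [map_CF_eq_sum σ hφ, CF_apply_eq_sum hφ x, Finset.sum_apply]
  exact Finset.sum_congr rfl fun χ hχ => by rw [Pi.smul_apply, h.res χ hχ x hx, smul_eq_mul]

theorem iso_Ind (h : IsCycIso G W V σ) (ht : NTI G W V) (hφ : φ ∈ CFon W V) :
    σ φ = cfInd G W φ := by
  have h1 : cfdot G (cfInd G W φ) (σ φ) = cfdot W φ φ := by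
    rw [cfdot_cfInd_left ht.le φ (iso_CF h hφ.1)]
    exact cfdot_congr_on hφ.2 fun x hx _ => iso_restrict h hφ.1 hx
  have h2 : cfdot G (σ φ) (cfInd G W φ) = cfdot W φ φ := by
    rw [← conj_cfdot, h1, conj_cfdot]
  rw [← sub_eq_zero, ← cfdot_self_eq_zero (H := G)
    (CF_le_cfOn G (sub_mem (iso_CF h hφ.1) (cfInd_mem_CF _ _ _)))]
  rw [cfdot_sub_left, cfdot_sub_right, cfdot_sub_right, h1, h2, iso_dot h hφ.1 hφ.1,
    ht.cfdot_cfInd hφ.2 hφ]
  ring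

open scoped Classical in
/-- the restriction of a function to `V`. -/
noncomputable def resV (V : Set Γ) (ψ : Γ → ℂ) : Γ → ℂ := fun x => if x ∈ V then ψ x else 0

theorem resV_mem (ht : NTI G W V) (hψ : ∀ g ∈ W, ∀ x, ψ (g * x * g⁻¹) = ψ x) :
    resV V ψ ∈ CFon W V := by
  refine ⟨⟨fun x hx => if_neg fun hV => hx (ht.sub hV), fun g hg x => ?_⟩,
    fun x hx => if_neg hx⟩
  by_cases hx : x ∈ V
  · simp only [resV, hx, ht.norm g hg x hx, if_true, hψ g hg]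
  · have : g * x * g⁻¹ ∉ V := fun h => hx (by
      have := ht.norm g⁻¹ (W.inv_mem hg) _ h
      simpa [mul_assoc] using this)
    simp only [resV, hx, this, if_false]

/-- a function orthogonal to `CF(W, V)` vanishes on `V`. -/
theorem vanish_of_orth (ht : NTI G W V) (hψ : ∀ g ∈ W, ∀ x, ψ (g * x * g⁻¹) = ψ x)
    (h : ∀ φ ∈ CFon W V, cfdot W φ ψ = 0) (hx : x ∈ V) : ψ x = 0 := by
  have hm := resV_mem ht hψ
  have h1 : cfdot W (resV V ψ) (resV V ψ) = 0 := by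
    rw [← h _ hm]
    exact cfdot_congr_on hm.2 fun y hy _ => if_pos hy
  have := congrFun ((cfdot_self_eq_zero (CF_le_cfOn W hm.1)).mp h1) x
  simpa [resV, hx] using this

theorem ortho_vanish (h : IsCycIso G W V σ) (ht : NTI G W V) (hψ : ψ ∈ CF G)
    (ho : ∀ ω ∈ Irr W, cfdot G ψ (σ ω) = 0) (hx : x ∈ V) : ψ x = 0 := by
  refine vanish_of_orth ht (fun g hg => CF_conj hψ (ht.le hg)) (fun φ hφ => ?_) hx
  rw [← cfdot_cfInd_left ht.le φ hψ, ← iso_Ind h ht hφ, map_CF_eq_sum σ hφ.1, cfdot_sum_left]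
  exact Finset.sum_eq_zero fun χ hχ => by rw [cfdot_smul_left, cfdot_symm_zero (ho χ hχ), mul_zero]

theorem dot_iso_eq_zero (h : IsCycIso G W V σ) (ht : NTI G W V) (hψ : ψ ∈ CF G)
    (hV : ∀ x ∈ V, ψ x = 0) (hφ : φ ∈ CFon W V) : cfdot G ψ (σ φ) = 0 := by
  rw [iso_Ind h ht hφ, cfdot_cfInd_right ht.le hψ]
  exact cfdot_eq_zero_of fun x _ => by
    by_cases hx : x ∈ V
    · exact Or.inl (hV x hx)
    · exact Or.inr (hφ.2 x hx)

theorem irrK_apply {K : Subgroup Γ} (ha : Abl W) (hi : i ∈ irrK W K) (hx : x ∈ K) : i x = 1 := by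
  rw [cfker_apply ((mem_irrK.mp hi).2 hx), (irr_lin_of_abl ha (mem_irrK.mp hi).1).one]

theorem sub_mul_sub_on (ha : Abl W) (hi : i ∈ irrK W W₂) (hj : j ∈ irrK W W₁)
    (hi' : i' ∈ irrK W W₂) (hj' : j' ∈ irrK W W₁) :
    (i - i') * (j - j') ∈ CFon W (cycV W W₁ W₂) := by
  have c1 := sub_mem (irr_CF (mem_irrK.mp hi).1) (irr_CF (mem_irrK.mp hi').1)
  have c2 := sub_mem (irr_CF (mem_irrK.mp hj).1) (irr_CF (mem_irrK.mp hj').1)
  refine ⟨mul_mem_CF c1 c2, fun x hx => ?_⟩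
  by_cases h0 : x ∈ W
  · by_cases h1 : x ∈ W₁
    · simp [irrK_apply ha hj h1, irrK_apply ha hj' h1]
    · have h2 : x ∈ W₂ := by
        by_contra h2; exact hx ⟨h0, h1, h2⟩
      simp [irrK_apply ha hi h2, irrK_apply ha hi' h2]
  · exact CF_zero (mul_mem_CF c1 c2) h0

theorem cfdot_exchange (h : IsCycIso G W (cycV W W₁ W₂) σ) (ht : NTI G W (cycV W W₁ W₂))
    (ha : Abl W) (hψ : ψ ∈ CF G) (hV : ∀ x ∈ cycV W W₁ W₂, ψ x = 0) (hi : i ∈ irrK W W₂)
    (hj : j ∈ irrK W W₁) (hi' : i' ∈ irrK W W₂) (hj' : j' ∈ irrK W W₁) :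
    cfdot G ψ (σ (i * j)) + cfdot G ψ (σ (i' * j')) =
      cfdot G ψ (σ (i * j')) + cfdot G ψ (σ (i' * j)) := by
  have := dot_iso_eq_zero h ht hψ hV (sub_mul_sub_on ha hi hj hi' hj')
  rw [show (i - i') * (j - j') = i * j + i' * j' - (i * j' + i' * j) by ring] at this
  simp only [map_sub, map_add, cfdot_sub_right, cfdot_add_right] at this
  exact sub_eq_zero.mp this

theorem alpha_eq (hi : i ∈ cfOn (W : Set Γ)) (hj : j ∈ cfOn (W : Set Γ)) :
    cfOne W - i - j + i * j = (cfOne W - i) * (cfOne W - j) := by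
  rw [sub_mul, mul_sub, mul_sub, cfOne_mul hj, mul_cfOne hi,
    cfOne_mul (CF_le_cfOn W (cfOne_mem_CF W))]
  ring

theorem alpha_on (hd : DP W₁ W₂ W) (ha : Abl W) (hi : i ∈ irrK W W₂) (hj : j ∈ irrK W W₁) :
    cfOne W - i - j + i * j ∈ CFon W (cycV W W₁ W₂) := by
  rw [alpha_eq (irr_cfOn (mem_irrK.mp hi).1) (irr_cfOn (mem_irrK.mp hj).1)]
  exact sub_mul_sub_on ha (cfOne_mem_irrK hd.right_le) (cfOne_mem_irrK hd.left_le) hi hj

theorem sum_dot_row {K : Subgroup Γ} (ha : Abl W) (hK : K ≤ W) (hφ : ∀ x ∈ K, φ x = 0)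
    (i : Γ → ℂ) : ∑ j ∈ irrK W K, cfdot W φ (i * j) = 0 := by
  classical
  rw [← cfdot_sum_right, ← Finset.mul_sum]
  refine cfdot_eq_zero_of fun x _ => ?_
  by_cases hx : x ∈ K
  · exact Or.inl (hφ x hx)
  · right
    have := sum_irrK_apply_of_der_le (H := W) (K := K) (by rw [der1_eq_bot.mpr ha]; exact bot_le)
      hK x
    rw [if_neg hx] at this
    rw [Pi.mul_apply, Finset.sum_apply, this, mul_zero]

/-- (3.4): the `α_ij` span `CF(W, V)`. -/
theorem eq_sum_alpha (hd : DP W₁ W₂ W) (ha : Abl W) (hφ : φ ∈ CFon W (cycV W W₁ W₂)) :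
    φ = ∑ i ∈ irrK W W₂, ∑ j ∈ irrK W W₁, cfdot W φ (i * j) • (cfOne W - i - j + i * j) := by
  have r1 : ∀ i, ∑ j ∈ irrK W W₁, cfdot W φ (i * j) = 0 :=
    sum_dot_row ha hd.left_le fun x hx => hφ.2 x fun h => h.2.1 hx
  have r2 : ∀ j, ∑ i ∈ irrK W W₂, cfdot W φ (i * j) = 0 := fun j => by
    simp only [mul_comm _ j]
    exact sum_dot_row ha hd.right_le (fun x hx => hφ.2 x fun h => h.2.2 hx) j
  simp only [smul_add, smul_sub, Finset.sum_add_distrib, Finset.sum_sub_distrib,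
    ← Finset.sum_smul, r1, zero_smul, Finset.sum_const_zero]
  rw [Finset.sum_comm]
  simp only [← Finset.sum_smul, r2, zero_smul, Finset.sum_const_zero, sub_zero, zero_add]
  rw [← dprod_sum_Irr hd (fun χ => cfdot W φ χ • χ)]
  exact CF_eq_sum hφ.1

/-- a linear map that is an isometry on the virtual characters and agrees with induction on the
`α_ij` has the defining properties of `σ`. -/
theorem isCycIso_of (hd : DP W₁ W₂ W) (ha : Abl W) (ht : NTI G W (cycV W W₁ W₂))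
    (hz : ZIsom W G (vchar W) σ) (h1 : σ (cfOne W) = cfOne G)
    (hα : ∀ i ∈ irrK W W₂, ∀ j ∈ irrK W W₁,
      σ (cfOne W - i - j + i * j) = cfInd G W (cfOne W - i - j + i * j)) :
    IsCycIso G W (cycV W W₁ W₂) σ := by
  have h0 : IsCycIso G W ∅ σ := ⟨hz, h1, fun _ _ _ hx => absurd hx (Set.notMem_empty _)⟩
  have hI : ∀ φ ∈ CFon W (cycV W W₁ W₂), σ φ = cfInd G W φ := fun φ hφ => by
    rw [eq_sum_alpha hd ha hφ]
    simp only [map_sum, map_smul]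
    exact Finset.sum_congr rfl fun i hi => Finset.sum_congr rfl fun j hj => by rw [hα i hi j hj]
  refine ⟨hz, h1, fun ω hω x hx => ?_⟩
  have hc := iso_CF h0 (irr_CF hω)
  have := vanish_of_orth (ψ := σ ω - ω) ht (fun g hg y => by
    rw [Pi.sub_apply, Pi.sub_apply, CF_conj hc (ht.le hg), CF_conj (irr_CF hω) hg])
    (fun φ hφ => by
      rw [cfdot_sub_right, ← cfdot_cfInd_left ht.le φ hc, ← hI φ hφ, iso_dot h0 hφ.1 (irr_CF hω),
        sub_self]) hx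
  exact sub_eq_zero.mp this

/-! ## the counting lemma of (3.8) -/

section count
open Finset
variable {ι κ : Type*} [DecidableEq ι] [DecidableEq κ] {I : Finset ι} {J : Finset κ}
  {a : ι → κ → ℂ}

theorem small_row (ex : ∀ i ∈ I, ∀ j ∈ J, ∀ k ∈ I, ∀ l ∈ J, a i j + a k l = a i l + a k j)
    [DecidablePred fun p : ι × κ => a p.1 p.2 ≠ 0]
    (hc : ((I ×ˢ J).filter fun p => a p.1 p.2 ≠ 0).card < 2 * J.card) {i₀ : ι} (hi₀ : i₀ ∈ I)
    {j₀ : κ} (hj₀ : j₀ ∈ J) (h0 : a i₀ j₀ ≠ 0) {i₁ : ι} (hi₁ : i₁ ∈ I) (hz : ∀ j ∈ J, a i₁ j = 0) :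
    ∀ i ∈ I, ∀ j ∈ J, a i j = if i = i₀ then a i₀ j₀ else 0 := by
  have hr : ∀ i ∈ I, ∀ j ∈ J, ∀ l ∈ J, a i j = a i l := fun i hi j hj l hl => by
    simpa [hz j hj, hz l hl] using ex i hi j hj i₁ hi₁ l hl
  intro i hi j hj
  split_ifs with e
  · subst e; exact hr i hi j hj j₀ hj₀
  · by_contra hn
    have : ({i, i₀} : Finset ι) ×ˢ J ⊆ (I ×ˢ J).filter fun p => a p.1 p.2 ≠ 0 := by
      rintro ⟨k, l⟩ hp
      simp only [mem_product, mem_insert, mem_singleton, mem_filter] at hp ⊢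
      rcases hp with ⟨rfl | rfl, hl⟩
      · exact ⟨⟨hi, hl⟩, by rwa [hr k hi l hl j hj]⟩
      · exact ⟨⟨hi₀, hl⟩, by rwa [hr k hi₀ l hl j₀ hj₀]⟩
    have := card_le_card this
    rw [card_product, card_pair e] at this
    omega

theorem card_filter_swap (I : Finset ι) (J : Finset κ) (a : ι → κ → ℂ)
    [DecidablePred fun p : ι × κ => a p.1 p.2 ≠ 0] [DecidablePred fun p : κ × ι => a p.2 p.1 ≠ 0] :
    ((J ×ˢ I).filter fun p => a p.2 p.1 ≠ 0).card =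
      ((I ×ˢ J).filter fun p => a p.1 p.2 ≠ 0).card := by
  refine card_bij (fun p _ => p.swap) ?_ ?_ ?_
  · rintro ⟨j, i⟩ hp; simp only [mem_filter, mem_product] at hp ⊢; exact ⟨⟨hp.1.2, hp.1.1⟩, hp.2⟩
  · intro p _ q _ h; exact Prod.swap_injective h
  · rintro ⟨i, j⟩ hp; simp only [mem_filter, mem_product] at hp
    exact ⟨(j, i), by simp [hp.1.1, hp.1.2, hp.2], rfl⟩

theorem exists_thin_row [DecidablePred fun p : ι × κ => a p.1 p.2 ≠ 0]
    (hc : ((I ×ˢ J).filter fun p => a p.1 p.2 ≠ 0).card < 2 * I.card)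
    (hn : ∀ i ∈ I, ∃ j ∈ J, a i j ≠ 0) :
    ∃ i ∈ I, ∃ j ∈ J, a i j ≠ 0 ∧ ∀ l ∈ J, l ≠ j → a i l = 0 := by
  classical
  by_contra hcon
  push Not at hcon
  have : ∀ i ∈ I, 2 ≤ (J.filter fun j => a i j ≠ 0).card := by
    intro i hi
    obtain ⟨j, hj, h1⟩ := hn i hi
    obtain ⟨l, hl, hlj, h2⟩ := hcon i hi j hj h1
    rw [← card_pair hlj]
    refine card_le_card fun y hy => ?_
    simp only [mem_insert, mem_singleton, mem_filter] at hy ⊢
    rcases hy with rfl | rfl <;> exact ⟨‹_›, ‹_›⟩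
  have h2 : ((I ×ˢ J).filter fun p => a p.1 p.2 ≠ 0).card =
      ∑ i ∈ I, (J.filter fun j => a i j ≠ 0).card := by
    simp only [card_filter]
    rw [sum_product]
    exact sum_congr rfl fun i _ => sum_congr rfl fun j _ => by congr
  have h3 := sum_le_sum this
  rw [sum_const, smul_eq_mul] at h3
  omega

theorem small_grid (ex : ∀ i ∈ I, ∀ j ∈ J, ∀ k ∈ I, ∀ l ∈ J, a i j + a k l = a i l + a k j)
    [DecidablePred fun p : ι × κ => a p.1 p.2 ≠ 0] (hI : 3 ≤ I.card) (hJ : 3 ≤ J.card)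
    (hIJ : 2 * min I.card J.card + 2 ≤ I.card + J.card)
    (hc : ((I ×ˢ J).filter fun p => a p.1 p.2 ≠ 0).card < 2 * min I.card J.card) {i₀ : ι}
    (hi₀ : i₀ ∈ I) {j₀ : κ} (hj₀ : j₀ ∈ J) (h0 : a i₀ j₀ ≠ 0) :
    (∀ i ∈ I, ∀ j ∈ J, a i j = if j = j₀ then a i₀ j₀ else 0) ∨
      (∀ i ∈ I, ∀ j ∈ J, a i j = if i = i₀ then a i₀ j₀ else 0) := by
  classical
  have hc1 : ((I ×ˢ J).filter fun p => a p.1 p.2 ≠ 0).card < 2 * I.card := by omega
  have hc2 : ((I ×ˢ J).filter fun p => a p.1 p.2 ≠ 0).card < 2 * J.card := by omega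
  have hs := card_filter_swap I J a
  by_cases hr : ∃ i₁ ∈ I, ∀ j ∈ J, a i₁ j = 0
  · obtain ⟨i₁, hi₁, hz⟩ := hr
    exact Or.inr (small_row ex hc2 hi₀ hj₀ h0 hi₁ hz)
  by_cases hcol : ∃ j₁ ∈ J, ∀ i ∈ I, a i j₁ = 0
  · obtain ⟨j₁, hj₁, hz⟩ := hcol
    exact Or.inl fun i hi j hj => small_row (a := fun j i => a i j) (I := J) (J := I)
      (fun j hj i hi l hl k hk => by rw [ex i hi j hj k hk l hl, add_comm])
      (by rw [hs]; exact hc1) hj₀ hi₀ h0 hj₁ hz j hj i hi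
  exfalso
  push Not at hr hcol
  obtain ⟨i₁, hi₁, js, hjs, r1, r2⟩ := exists_thin_row hc1 hr
  obtain ⟨j₁, hj₁, is, his, c1, c2⟩ := exists_thin_row (a := fun j i => a i j) (I := J) (J := I)
    (by rw [hs]; exact hc2) hcol
  by_cases h11 : a i₁ j₁ = 0
  · have hsub : (I.erase is ×ˢ {js}) ∪ ({is} ×ˢ J.erase js) ⊆
        (I ×ˢ J).filter fun p => a p.1 p.2 ≠ 0 := by
      rintro ⟨k, l⟩ hp
      simp only [mem_union, mem_product, mem_erase, mem_singleton, mem_filter] at hp ⊢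
      rcases hp with ⟨⟨hk, hkI⟩, rfl⟩ | ⟨rfl, hl, hlJ⟩
      · refine ⟨⟨hkI, hjs⟩, ?_⟩
        have := ex k hkI l hjs i₁ hi₁ j₁ hj₁
        rw [h11, c2 k hkI hk, add_zero, zero_add] at this
        rwa [this]
      · refine ⟨⟨his, hlJ⟩, ?_⟩
        have := ex k his l hlJ i₁ hi₁ j₁ hj₁
        rw [h11, r2 l hlJ hl, add_zero, add_zero] at this
        rwa [this]
    have := card_le_card hsub
    rw [card_union_of_disjoint (by
      rw [disjoint_left]; rintro ⟨k, l⟩ h1 h2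
      simp only [mem_product, mem_erase, mem_singleton] at h1 h2
      exact h1.1.1 h2.1), card_product, card_product, card_singleton, card_singleton,
      card_erase_of_mem his, card_erase_of_mem hjs] at this
    omega
  · have hsub : I.erase is ×ˢ J.erase js ⊆ (I ×ˢ J).filter fun p => a p.1 p.2 ≠ 0 := by
      rintro ⟨k, l⟩ hp
      simp only [mem_product, mem_erase, mem_filter] at hp ⊢
      refine ⟨⟨hp.1.2, hp.2.2⟩, fun h => h11 ?_⟩
      have := ex k hp.1.2 l hp.2.2 i₁ hi₁ j₁ hj₁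
      rw [h, c2 k hp.1.2 hp.1.1, r2 l hp.2.2 hp.2.1] at this
      simpa using this
    have := card_le_card hsub
    rw [card_product, card_erase_of_mem his, card_erase_of_mem hjs] at this
    obtain ⟨m, hm⟩ : ∃ m, I.card = m + 3 := ⟨I.card - 3, by omega⟩
    obtain ⟨n, hn⟩ : ∃ n, J.card = n + 3 := ⟨J.card - 3, by omega⟩
    rw [hm, hn] at this hc hIJ
    have e : (m + 3 - 1) * (n + 3 - 1) = m * n + 2 * m + 2 * n + 4 := by
      rw [show m + 3 - 1 = m + 2 by omega, show n + 3 - 1 = n + 2 by omega]; ring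
    rw [e] at this
    omega

end count

/-! ## the existence theorem (3.5) -/

/-- the integer coefficient of a virtual character. -/
noncomputable def coef (G : Subgroup Γ) (φ χ : Γ → ℂ) : ℤ := ⌊(cfdot G φ χ).re⌋

theorem coef_eq (hφ : φ ∈ vchar G) (hψ : ψ ∈ vchar G) : cfdot G φ ψ = coef G φ ψ := by
  obtain ⟨n, hn⟩ := vchar_dot_int hφ hψ
  simp [coef, hn]

theorem sum_coef (hφ : φ ∈ vchar G) (hψ : ψ ∈ vchar G) :
    ((∑ χ ∈ Irr G, coef G φ χ * coef G ψ χ : ℤ) : ℂ) = cfdot G φ ψ := by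
  rw [cfdot_eq_sum (vchar_CF hφ)]
  push_cast
  exact Finset.sum_congr rfl fun χ hχ => by
    rw [coef_eq hφ (irr_vchar hχ), coef_eq hψ (irr_vchar hχ)]; simp

theorem dot_eq_zero_of_tight {χ : Γ → ℂ} (hφ : φ ∈ CF G) (h1 : φ 1 = 0) (hχ : χ ∈ Irr G)
    (h : cfnorm G φ ≤ ‖cfdot G φ χ‖ ^ 2) : cfdot G φ χ = 0 := by
  have := cfnorm_eq_proj (H := G) (s := ({χ} : Finset (Γ → ℂ))) (e := fun χ => χ)
    (by simp [irr_dot_self hχ]) (by simp) φ
  simp only [Finset.sum_singleton] at this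
  have h2 : cfnorm G (φ - cfdot G φ χ • χ) = 0 :=
    le_antisymm (by linarith) (cfnorm_nonneg _ _)
  rw [cfnorm_eq_zero_CF (sub_mem hφ (Submodule.smul_mem _ _ (irr_CF hχ)))] at h2
  have := congrFun h2 1
  simp only [Pi.sub_apply, h1, Pi.smul_apply, smul_eq_mul, zero_sub, Pi.zero_apply, neg_eq_zero,
    mul_eq_zero, irr_one_ne_zero hχ, or_false] at this
  exact this

theorem coef_mul_nonneg {χ : Γ → ℂ} (hφ : φ ∈ vchar G) (hψ : ψ ∈ vchar G) (h1 : φ 1 = ψ 1)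
    (hn : φ = ψ ∨ cfdot G (φ - ψ) (φ - ψ) = 4) (hχ : χ ∈ Irr G) :
    0 ≤ coef G φ χ * coef G ψ χ := by
  rcases hn with rfl | hn
  · exact mul_self_nonneg _
  by_contra hneg
  push Not at hneg
  have e : cfdot G (φ - ψ) χ = ((coef G φ χ - coef G ψ χ : ℤ) : ℂ) := by
    rw [cfdot_sub_left, coef_eq hφ (irr_vchar hχ), coef_eq hψ (irr_vchar hχ)]; push_cast; ring
  have h4 : cfnorm G (φ - ψ) = 4 := cfnorm_eq_of_cfdot (by rw [hn]; norm_num)
  have hsq : (4 : ℤ) ≤ (coef G φ χ - coef G ψ χ) ^ 2 := by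
    rcases lt_trichotomy (coef G φ χ) 0 with h | h | h
    · have : 0 < coef G ψ χ := by nlinarith
      nlinarith
    · rw [h] at hneg; simp at hneg
    · have : coef G ψ χ < 0 := by nlinarith
      nlinarith
  have := dot_eq_zero_of_tight (sub_mem (vchar_CF hφ) (vchar_CF hψ)) (by simp [h1]) hχ (by
    rw [h4, e, Complex.norm_intCast, sq_abs]; exact_mod_cast hsq)
  rw [e] at this
  have : coef G φ χ - coef G ψ χ = 0 := by exact_mod_cast this
  rw [this] at hsq; norm_num at hsq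

theorem dot_one_sub [DecidableEq (Γ → ℂ)] (hi : i ∈ Irr W) (hi' : i' ∈ Irr W) (h1 : i ≠ cfOne W)
    (h1' : i' ≠ cfOne W) : cfdot W (cfOne W - i) (cfOne W - i') = if i = i' then 2 else 1 := by
  rw [cfdot_sub_left, cfdot_sub_right, cfdot_sub_right, cfdot_cfOne_cfOne,
    irr_dot_ne (cfOne_mem_Irr W) hi' h1'.symm, irr_dot_ne hi (cfOne_mem_Irr W) h1]
  split_ifs with e
  · subst e; rw [irr_dot_self hi]; norm_num
  · rw [irr_dot_ne hi hi' e]; norm_num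

theorem le_cfker_one_sub {K : Subgroup Γ} (hK : K ≤ W) (hi : i ∈ irrK W K) :
    K ≤ cfker W (cfOne W - i) := fun x hx =>
  ⟨hK hx, fun y => by
    rw [Pi.sub_apply, Pi.sub_apply, cfker_mul_left ((mem_irrK.mp hi).2 hx),
      cfker_mul_left (H := W) (φ := cfOne W) (by rw [cfker_cfOne]; exact hK hx)]⟩

theorem alpha_dot [DecidableEq (Γ → ℂ)] (hd : DP W₁ W₂ W) (hi : i ∈ irrK W W₂)
    (hj : j ∈ irrK W W₁) (hi' : i' ∈ irrK W W₂) (hj' : j' ∈ irrK W W₁) (hi1 : i ≠ cfOne W)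
    (hj1 : j ≠ cfOne W) (hi1' : i' ≠ cfOne W) (hj1' : j' ≠ cfOne W) :
    cfdot W (cfOne W - i - j + i * j) (cfOne W - i' - j' + i' * j') =
      (if i = i' then 2 else 1) * (if j = j' then 2 else 1) := by
  rw [alpha_eq (irr_cfOn (mem_irrK.mp hi).1) (irr_cfOn (mem_irrK.mp hj).1),
    alpha_eq (irr_cfOn (mem_irrK.mp hi').1) (irr_cfOn (mem_irrK.mp hj').1),
    dprod_cfdot hd (le_cfker_one_sub hd.right_le hi) (le_cfker_one_sub hd.right_le hi')
      (le_cfker_one_sub hd.left_le hj) (le_cfker_one_sub hd.left_le hj'),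
    dot_one_sub (mem_irrK.mp hi).1 (mem_irrK.mp hi').1 hi1 hi1',
    dot_one_sub (mem_irrK.mp hj).1 (mem_irrK.mp hj').1 hj1 hj1']

theorem alpha_dot_one (hd : DP W₁ W₂ W) (hi : i ∈ irrK W W₂) (hj : j ∈ irrK W W₁)
    (hi1 : i ≠ cfOne W) (hj1 : j ≠ cfOne W) :
    cfdot W (cfOne W - i - j + i * j) (cfOne W) = 1 := by
  have h1 := cfOne_mem_Irr W
  have hij : i * j ≠ cfOne W := fun h => hi1 ((dprod_inj hd hi hj (cfOne_mem_irrK hd.right_le)
    (cfOne_mem_irrK hd.left_le)).mp (by rw [h, cfOne_mul (irr_cfOn h1)])).1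
  rw [cfdot_add_left, cfdot_sub_left, cfdot_sub_left, cfdot_cfOne_cfOne,
    irr_dot_ne (mem_irrK.mp hi).1 h1 hi1, irr_dot_ne (mem_irrK.mp hj).1 h1 hj1,
    irr_dot_ne (dprod_irr hd hi hj) h1 hij]
  ring

theorem alpha_vchar (hd : DP W₁ W₂ W) (hi : i ∈ irrK W W₂) (hj : j ∈ irrK W W₁) :
    cfOne W - i - j + i * j ∈ vchar W :=
  add_mem (sub_mem (sub_mem (cfOne_vchar W) (irr_vchar (mem_irrK.mp hi).1))
    (irr_vchar (mem_irrK.mp hj).1)) (irr_vchar (dprod_irr hd hi hj))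

/-- (3.5). -/
theorem exists_family [DecidableEq (Γ → ℂ)] (hd : DP W₁ W₂ W) (ha : Abl W)
    (ht : NTI G W (cycV W W₁ W₂))
    (hI : (irrK W W₂).card = 3 ∨ 5 ≤ (irrK W W₂).card)
    (hJ : (irrK W W₁).card = 3 ∨ 5 ≤ (irrK W W₁).card)
    (h5 : 5 ≤ (irrK W W₂).card ∨ 5 ≤ (irrK W W₁).card) :
    ∃ f : (Γ → ℂ) → (Γ → ℂ) → (Γ → ℂ), f (cfOne W) (cfOne W) = cfOne G ∧
      (∀ i ∈ irrK W W₂, ∀ j ∈ irrK W W₁, f i j ∈ vchar G) ∧
      (∀ i ∈ irrK W W₂, ∀ j ∈ irrK W W₁, ∀ k ∈ irrK W W₂, ∀ l ∈ irrK W W₁,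
        cfdot G (f i j) (f k l) = if i = k ∧ j = l then 1 else 0) ∧
      ∀ i ∈ irrK W W₂, ∀ j ∈ irrK W W₁, i ≠ cfOne W → j ≠ cfOne W →
        cfInd G W (cfOne W - i - j + i * j) = cfOne G - f i (cfOne W) - f (cfOne W) j + f i j := by
  set I := (irrK W W₂).erase (cfOne W) with hIdef
  set J := (irrK W W₁).erase (cfOne W) with hJdef
  have cI : I.card = (irrK W W₂).card - 1 := Finset.card_erase_of_mem (cfOne_mem_irrK hd.right_le)
  have cJ : J.card = (irrK W W₁).card - 1 := Finset.card_erase_of_mem (cfOne_mem_irrK hd.left_le)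
  have mI : ∀ {i}, i ∈ I ↔ i ≠ cfOne W ∧ i ∈ irrK W W₂ := Finset.mem_erase
  have mJ : ∀ {j}, j ∈ J ↔ j ≠ cfOne W ∧ j ∈ irrK W W₁ := Finset.mem_erase
  let β : (Γ → ℂ) → (Γ → ℂ) → (Γ → ℂ) := fun i j => cfInd G W (cfOne W - i - j + i * j) - cfOne G
  have βv : ∀ i ∈ I, ∀ j ∈ J, β i j ∈ vchar G := fun i hi j hj =>
    sub_mem (vchar_ind (alpha_vchar hd (mI.mp hi).2 (mJ.mp hj).2) ht.le) (cfOne_vchar G)
  have d1 : ∀ i ∈ I, ∀ j ∈ J, cfdot G (cfInd G W (cfOne W - i - j + i * j)) (cfOne G) = 1 :=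
    fun i hi j hj => by
      rw [cfdot_cfInd_left ht.le _ (cfOne_mem_CF G), ← cfdot_cfRes_right, cfRes_cfOne ht.le,
        alpha_dot_one hd (mI.mp hi).2 (mJ.mp hj).2 (mI.mp hi).1 (mJ.mp hj).1]
  have β1 : ∀ i ∈ I, ∀ j ∈ J, cfdot G (β i j) (cfOne G) = 0 := fun i hi j hj => by
    simp only [β, cfdot_sub_left, d1 i hi j hj, cfdot_cfOne_cfOne, sub_self]
  have βg : ∀ i ∈ I, ∀ j ∈ J, ∀ k ∈ I, ∀ l ∈ J, cfdot G (β i j) (β k l) =
      (if i = k then 2 else 1) * (if j = l then 2 else 1) - 1 := fun i hi j hj k hk l hl => by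
    have := β1 i hi j hj
    conv_lhs => rw [show β k l = cfInd G W (cfOne W - k - l + k * l) - cfOne G from rfl,
      cfdot_sub_right, this, sub_zero, show β i j = cfInd G W (cfOne W - i - j + i * j) - cfOne G
        from rfl, cfdot_sub_left]
    rw [ht.cfdot_cfInd (alpha_on hd ha (mI.mp hi).2 (mJ.mp hj).2).2
      (alpha_on hd ha (mI.mp hk).2 (mJ.mp hl).2), alpha_dot hd (mI.mp hi).2 (mJ.mp hj).2
      (mI.mp hk).2 (mJ.mp hl).2 (mI.mp hi).1 (mJ.mp hj).1 (mI.mp hk).1 (mJ.mp hl).1,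
      ← conj_cfdot, d1 k hk l hl, map_one]
  have βone : ∀ i ∈ I, ∀ j ∈ J, β i j 1 = -1 := fun i hi j hj => by
    simp only [β, Pi.sub_apply, cfInd_one ht.le, cfOne_apply_one]
    rw [(alpha_on hd ha (mI.mp hi).2 (mJ.mp hj).2).2 1 fun h => h.2.1 W₁.one_mem]
    simp
  have hyp : H4.Grid.Hyp (Irr G) I J (fun i j => coef G (β i j)) := by
    refine ⟨fun i hi j hj k hk l hl => ?_, fun j hj i hi k hk χ hχ => ?_,
      fun i hi j hj l hl χ hχ => ?_⟩
    · have := (sum_coef (βv i hi j hj) (βv k hk l hl)).trans (βg i hi j hj k hk l hl)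
      apply Int.cast_injective (α := ℂ)
      rw [this]; split_ifs <;> norm_num
    · refine coef_mul_nonneg (βv i hi j hj) (βv k hk j hj) (by rw [βone i hi j hj, βone k hk j hj])
        ?_ hχ
      by_cases e : i = k
      · left; rw [e]
      · right
        simp only [cfdot_sub_left, cfdot_sub_right, βg _ hi _ hj _ hi _ hj, βg _ hi _ hj _ hk _ hj,
          βg _ hk _ hj _ hi _ hj, βg _ hk _ hj _ hk _ hj, e, Ne.symm e, if_true, if_false]
        norm_num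
    · refine coef_mul_nonneg (βv i hi j hj) (βv i hi l hl) (by rw [βone i hi j hj, βone i hi l hl])
        ?_ hχ
      by_cases e : j = l
      · left; rw [e]
      · right
        simp only [cfdot_sub_left, cfdot_sub_right, βg _ hi _ hj _ hi _ hj, βg _ hi _ hj _ hi _ hl,
          βg _ hi _ hl _ hi _ hj, βg _ hi _ hl _ hi _ hl, e, Ne.symm e, if_true, if_false]
        norm_num
  obtain ⟨c, r, ε, η, hc, hr, bc, br, hcr⟩ := hyp.grid (by omega) (by omega) (by omega)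
  obtain ⟨i₀, hi₀⟩ : I.Nonempty := Finset.card_pos.mp (by omega)
  obtain ⟨j₀, hj₀⟩ : J.Nonempty := Finset.card_pos.mp (by omega)
  let X : (Γ → ℂ) → (Γ → ℂ) := fun j => (ε j : ℂ) • c j
  let Y : (Γ → ℂ) → (Γ → ℂ) := fun i => (η i : ℂ) • r i
  have Xd : ∀ j ∈ J, IsDirr G (X j) := fun j hj => (irr_dirr (hc j hj).1).sign_smul (hc j hj).2
  have Yd : ∀ i ∈ I, IsDirr G (Y i) := fun i hi => (irr_dirr (hr i hi).1).sign_smul (hr i hi).2
  have βX : ∀ i ∈ I, ∀ j ∈ J, ∀ l ∈ J, cfdot G (β i j) (X l) = if j = l then 1 else 0 :=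
    fun i hi j hj l hl => by
      simp only [X, cfdot_smul_right]
      rw [coef_eq (βv i hi j hj) (irr_vchar (hc l hl).1), bc i hi j hj l hl]
      rcases (hc l hl).2 with e | e <;> split_ifs <;> simp [e]
  have βY : ∀ i ∈ I, ∀ j ∈ J, ∀ k ∈ I, cfdot G (β i j) (Y k) = if i = k then 1 else 0 :=
    fun i hi j hj k hk => by
      simp only [Y, cfdot_smul_right]
      rw [coef_eq (βv i hi j hj) (irr_vchar (hr k hk).1), br i hi j hj k hk]
      rcases (hr k hk).2 with e | e <;> split_ifs <;> simp [e]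
  have Xβ : ∀ i ∈ I, ∀ j ∈ J, ∀ l ∈ J, cfdot G (X l) (β i j) = if j = l then 1 else 0 :=
    fun i hi j hj l hl => by rw [vchar_dot_comm (Xd l hl).vchar (βv i hi j hj), βX i hi j hj l hl]
  have Yβ : ∀ i ∈ I, ∀ j ∈ J, ∀ k ∈ I, cfdot G (Y k) (β i j) = if i = k then 1 else 0 :=
    fun i hi j hj k hk => by rw [vchar_dot_comm (Yd k hk).vchar (βv i hi j hj), βY i hi j hj k hk]
  have sep : ∀ {a b γ : Γ → ℂ}, IsDirr G a → IsDirr G b → cfdot G γ a = 1 → cfdot G γ b = 0 →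
      cfdot G a b = 0 := fun {a b γ} ha hb h1 h0 =>
    ha.dot_eq_zero hb (by rintro rfl; rw [h1] at h0; exact one_ne_zero h0)
      (by rintro rfl; rw [cfdot_neg_right, h0] at h1; simp at h1)
  have one := irr_dirr (cfOne_mem_Irr G)
  have X1 : ∀ j ∈ J, cfdot G (X j) (cfOne G) = 0 := fun j hj =>
    sep (Xd j hj) one (by simpa using βX i₀ hi₀ j hj j hj) (β1 i₀ hi₀ j hj)
  have Y1 : ∀ i ∈ I, cfdot G (Y i) (cfOne G) = 0 := fun i hi =>
    sep (Yd i hi) one (by simpa using βY i hi j₀ hj₀ i hi) (β1 i hi j₀ hj₀)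
  have XX : ∀ j ∈ J, ∀ l ∈ J, cfdot G (X j) (X l) = if j = l then 1 else 0 := fun j hj l hl => by
    split_ifs with e
    · subst e; exact (Xd j hj).dot_self
    · exact sep (Xd j hj) (Xd l hl) (by simpa using βX i₀ hi₀ j hj j hj)
        (by simpa [e] using βX i₀ hi₀ j hj l hl)
  have YY : ∀ i ∈ I, ∀ k ∈ I, cfdot G (Y i) (Y k) = if i = k then 1 else 0 := fun i hi k hk => by
    split_ifs with e
    · subst e; exact (Yd i hi).dot_self
    · exact sep (Yd i hi) (Yd k hk) (by simpa using βY i hi j₀ hj₀ i hi)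
        (by simpa [e] using βY i hi j₀ hj₀ k hk)
  have XY : ∀ j ∈ J, ∀ i ∈ I, cfdot G (X j) (Y i) = 0 := fun j hj i hi => by
    simp only [X, Y, cfdot_smul_left, cfdot_smul_right,
      irr_dot_ne (hc j hj).1 (hr i hi).1 (hcr i hi j hj), mul_zero]
  have YX : ∀ i ∈ I, ∀ j ∈ J, cfdot G (Y i) (X j) = 0 := fun i hi j hj =>
    cfdot_symm_zero (XY j hj i hi)
  have oX : ∀ j ∈ J, cfdot G (cfOne G) (X j) = 0 := fun j hj => cfdot_symm_zero (X1 j hj)
  have oY : ∀ i ∈ I, cfdot G (cfOne G) (Y i) = 0 := fun i hi => cfdot_symm_zero (Y1 i hi)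
  have oβ : ∀ i ∈ I, ∀ j ∈ J, cfdot G (cfOne G) (β i j) = 0 := fun i hi j hj =>
    cfdot_symm_zero (β1 i hi j hj)
  have βdef : ∀ i j, β i j = cfInd G W (cfOne W - i - j + i * j) - cfOne G := fun _ _ => rfl
  clear_value β X Y
  clear hyp bc br hcr hc hr sep d1 βone
  refine ⟨fun i j => if i = cfOne W then (if j = cfOne W then cfOne G else -X j) else
    if j = cfOne W then -Y i else β i j - X j - Y i, by simp, fun i hi j hj => ?_,
    fun i hi j hj k hk l hl => ?_, fun i hi j hj hi1 hj1 => ?_⟩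
  · dsimp only
    split_ifs with e1 e2 e2
    · exact cfOne_vchar G
    · exact neg_mem (Xd j (mJ.mpr ⟨e2, hj⟩)).vchar
    · exact neg_mem (Yd i (mI.mpr ⟨e1, hi⟩)).vchar
    · exact sub_mem (sub_mem (βv i (mI.mpr ⟨e1, hi⟩) j (mJ.mpr ⟨e2, hj⟩))
        (Xd j (mJ.mpr ⟨e2, hj⟩)).vchar) (Yd i (mI.mpr ⟨e1, hi⟩)).vchar
  · have ci : i = cfOne W ∨ (i ≠ cfOne W ∧ cfOne W ≠ i ∧ i ∈ I) := by
      by_cases e : i = cfOne W; exacts [Or.inl e, Or.inr ⟨e, Ne.symm e, mI.mpr ⟨e, hi⟩⟩]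
    have ck : k = cfOne W ∨ (k ≠ cfOne W ∧ cfOne W ≠ k ∧ k ∈ I) := by
      by_cases e : k = cfOne W; exacts [Or.inl e, Or.inr ⟨e, Ne.symm e, mI.mpr ⟨e, hk⟩⟩]
    have cj : j = cfOne W ∨ (j ≠ cfOne W ∧ cfOne W ≠ j ∧ j ∈ J) := by
      by_cases e : j = cfOne W; exacts [Or.inl e, Or.inr ⟨e, Ne.symm e, mJ.mpr ⟨e, hj⟩⟩]
    have cl : l = cfOne W ∨ (l ≠ cfOne W ∧ cfOne W ≠ l ∧ l ∈ J) := by
      by_cases e : l = cfOne W; exacts [Or.inl e, Or.inr ⟨e, Ne.symm e, mJ.mpr ⟨e, hl⟩⟩]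
    clear hi hj hk hl βdef βv Xd Yd hi₀ hj₀ one cI cJ mI mJ hIdef hJdef
    clear_value I J
    dsimp only
    rcases ci with rfl | ⟨ei, ei', mi⟩ <;> rcases ck with rfl | ⟨ek, ek', mk⟩ <;>
      rcases cj with rfl | ⟨ej, ej', mj⟩ <;> rcases cl with rfl | ⟨el, el', ml⟩ <;>
      simp only [*, if_true, if_false, cfdot_sub_left, cfdot_sub_right, cfdot_neg_left,
        cfdot_neg_right, cfdot_cfOne_cfOne, true_and, and_true, false_and, and_false,
        neg_neg, neg_zero, sub_zero, sub_self, zero_sub]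
    · simp only [eq_comm (a := l), sub_self]
    · simp only [eq_comm (a := k), sub_self]
    · by_cases e1 : i = k <;> by_cases e2 : j = l <;>
        simp only [e1, e2, if_true, if_false, eq_comm (a := l), eq_comm (a := k),
          true_and, and_true, false_and, and_false, and_self] <;> norm_num
  · simp only [hi1, hj1, if_true, if_false, βdef]; abel

theorem exists_isCycIso (hd : DP W₁ W₂ W) (ha : Abl W) (ht : NTI G W (cycV W W₁ W₂))
    (hI : (irrK W W₂).card = 3 ∨ 5 ≤ (irrK W W₂).card)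
    (hJ : (irrK W W₁).card = 3 ∨ 5 ≤ (irrK W W₁).card)
    (h5 : 5 ≤ (irrK W W₂).card ∨ 5 ≤ (irrK W W₁).card) :
    ∃ σ, IsCycIso G W (cycV W W₁ W₂) σ := by
  classical
  obtain ⟨f, f1, fv, fd, fα⟩ := exists_family hd ha ht hI hJ h5
  choose! p hp q hq hpq using fun ω (hω : ω ∈ Irr W) => dprod_surj hd hω
  let σ := orthMap W (Irr W) (fun ω => f (p ω) (q ω))
  have hσ : ∀ i ∈ irrK W W₂, ∀ j ∈ irrK W W₁, σ (i * j) = f i j := fun i hi j hj => by
    have hω := dprod_irr hd hi hj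
    rw [orthMap_apply (irr_orthon W).2 _ hω (by rw [irr_dot_self hω]; exact one_ne_zero)]
    obtain ⟨e1, e2⟩ := (dprod_inj hd hi hj (hp _ hω) (hq _ hω)).mp (hpq _ hω)
    rw [← e1, ← e2]
  have oI := cfOne_mem_irrK hd.right_le
  have oJ := cfOne_mem_irrK hd.left_le
  have hσI : ∀ i ∈ irrK W W₂, σ i = f i (cfOne W) := fun i hi => by
    rw [← hσ i hi _ oJ, mul_cfOne (irr_cfOn (mem_irrK.mp hi).1)]
  have hσJ : ∀ j ∈ irrK W W₁, σ j = f (cfOne W) j := fun j hj => by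
    rw [← hσ _ oI j hj, cfOne_mul (irr_cfOn (mem_irrK.mp hj).1)]
  have h1 : σ (cfOne W) = cfOne G := by rw [hσI _ oI, f1]
  refine ⟨σ, isCycIso_of hd ha ht (ZIsom.of_gen (fun ω hω ω' hω' => ?_) fun ω hω => ?_) h1
    fun i hi j hj => ?_⟩
  · obtain ⟨i, hi, j, hj, rfl⟩ := dprod_surj hd hω
    obtain ⟨k, hk, l, hl, rfl⟩ := dprod_surj hd hω'
    rw [hσ i hi j hj, hσ k hk l hl, fd i hi j hj k hk l hl, irr_dot hω hω']
    simp only [dprod_inj hd hi hj hk hl]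
  · obtain ⟨i, hi, j, hj, rfl⟩ := dprod_surj hd hω
    rw [hσ i hi j hj]; exact fv i hi j hj
  · by_cases e1 : i = cfOne W
    · rw [e1, cfOne_mul (irr_cfOn (mem_irrK.mp hj).1)]; simp
    by_cases e2 : j = cfOne W
    · rw [e2, mul_cfOne (irr_cfOn (mem_irrK.mp hi).1)]; simp
    rw [fα i hi j hj e1 e2, map_add, map_sub, map_sub, h1, hσ i hi j hj, hσI i hi, hσJ j hj]

end PF3
end H27
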