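import Mathlib
import Cfsg.Agent.H27.PF3a

/-!
# Peterfalvi §3 (cyclic TI isometry).  Author: helper4 (interface: helper27).
Index sets: `i ∈ irrK W W₂`, `j ∈ irrK W W₁`; `ω_ij = i * j`; the index `0` is `cfOne W`.
-/

set_option autoImplicit false
set_option linter.unusedSectionVars false
set_option linter.unusedVariables false

namespace H27

open Cfsg H24
open scoped ComplexConjugate

universe u v

variable {Γ : Type u} [Group Γ] [Finite Γ]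
variable {G W W₁ W₂ : Subgroup Γ} {φ ψ ω ω' i j i' j' : Γ → ℂ} {x : Γ}

theorem mem_cycV : x ∈ cycV W W₁ W₂ ↔ x ∈ W ∧ x ∉ W₁ ∧ x ∉ W₂ := Iff.rfl
theorem cycV_symm (W W₁ W₂ : Subgroup Γ) : cycV W W₂ W₁ = cycV W W₁ W₂ := by
  ext x; simp only [mem_cycV]; tauto
theorem cycIso_symm (G W W₁ W₂ : Subgroup Γ) : cycIso G W W₂ W₁ = cycIso G W W₁ W₂ := by
  unfold cycIso; rw [cycV_symm]
theorem cycNC_symm (G W W₁ W₂ : Subgroup Γ) : cycNC G W W₂ W₁ = cycNC G W W₁ W₂ := by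
  funext ψ; unfold cycNC; rw [cycIso_symm]

theorem PF3.cfAut_eq_pow (hω : ω ∈ cfOn (W : Set Γ)) {a k : ℕ} (hωa : ∀ x ∈ W, ω x ^ a = 1)
    (hk0 : k ≠ 0) {u : ℂ →+* ℂ} (hu : ∀ z : ℂ, z ^ a = 1 → u z = z ^ k) : cfAut u ω = ω ^ k := by
  funext x
  by_cases hx : x ∈ W
  · exact hu _ (hωa x hx)
  · rw [cfAut_apply, Pi.pow_apply, hω x hx, map_zero, zero_pow hk0]

theorem PF3.exists_pow_of_aut (u : ℂ →+* ℂ) {a : ℕ} (ha : 0 < a) :
    ∃ k : ℕ, k ≠ 0 ∧ k.Coprime a ∧ ∀ z : ℂ, z ^ a = 1 → u z = z ^ k := by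
  haveI : NeZero a := ⟨ha.ne'⟩
  have hζ := Complex.isPrimitiveRoot_exp a ha.ne'
  have hu := hζ.map_of_injective u.injective
  obtain ⟨k, -, hk⟩ := hζ.eq_pow_of_pow_eq_one hu.pow_eq_one
  have hc : k.Coprime a := (hζ.pow_iff_coprime ha k).mp (hk ▸ hu)
  refine ⟨k + a, by omega, by simpa using hc, fun z hz => ?_⟩
  obtain ⟨m, -, rfl⟩ := hζ.eq_pow_of_pow_eq_one hz
  rw [pow_add, hz, mul_one, map_pow, ← hk, ← pow_mul, ← pow_mul, mul_comm k m]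

namespace CyclicTI
variable (h : CyclicTI G W W₁ W₂)
include h

theorem symm : CyclicTI G W W₂ W₁ :=
  ⟨h.dp.symm, h.cyc, h.odd, h.ne2, h.ne1, h.le, by rw [cycV_symm]; exact h.ti⟩
theorem nti : NTI G W (cycV W W₁ W₂) :=
  ⟨h.le, fun _ hx => hx.1, fun g hg a ha => by
    rwa [conj_eq_of_mem_C ((Cyc.abl h.cyc).le_C hg) ha.1], h.ti⟩
theorem of_le {H : Subgroup Γ} (hW : W ≤ H) (hH : H ≤ G) : CyclicTI H W W₁ W₂ :=
  ⟨h.dp, h.cyc, h.odd, h.ne1, h.ne2, hW, fun x hx g hg => h.ti x hx g (hH hg)⟩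
theorem abl : Abl W := Cyc.abl h.cyc
theorem le1 : W₁ ≤ W := h.dp.left_le
theorem le2 : W₂ ≤ W := h.dp.right_le
theorem cop : (Nat.card W₁).Coprime (Nat.card W₂) := by
  obtain ⟨g, hg, hz⟩ := Cyc.exists_gen h.cyc
  obtain ⟨a, ha, b, hb, rfl⟩ := h.dp.isProd.mul g hg
  have hc : Commute a b := (comm_of_cent h.dp.cent hb ha).symm
  have h1 : orderOf (a * b) ∣ (Nat.card W₁).lcm (Nat.card W₂) :=
    hc.orderOf_mul_dvd_lcm.trans (Nat.lcm_dvd ((orderOf_dvd_card' ha).trans (Nat.dvd_lcm_left _ _))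
      ((orderOf_dvd_card' hb).trans (Nat.dvd_lcm_right _ _)))
  rw [← card_zpowers', hz, h.dp.card, ← Nat.gcd_mul_lcm] at h1
  have hp : 0 < (Nat.card W₁).lcm (Nat.card W₂) := Nat.lcm_pos (card_pos _) (card_pos _)
  exact Nat.eq_one_of_dvd_one (Nat.dvd_of_mul_dvd_mul_right hp (by rwa [one_mul]))
theorem odd1 : Odd (Nat.card W₁) := odd_of_le h.odd h.le1
theorem odd2 : Odd (Nat.card W₂) := odd_of_le h.odd h.le2
theorem two_lt1 : 2 < Nat.card W₁ := by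
  have := one_lt_card h.ne1; obtain ⟨k, hk⟩ := h.odd1; omega
theorem two_lt2 : 2 < Nat.card W₂ := h.symm.two_lt1
theorem card_W : Nat.card W = Nat.card W₁ * Nat.card W₂ := h.dp.card
theorem card_V : (cycV W W₁ W₂).ncard = (Nat.card W₁ - 1) * (Nat.card W₂ - 1) := by
  have e : cycV W W₁ W₂ = (W : Set Γ) \ ((W₁ : Set Γ) ∪ W₂) := by
    ext x; simp [mem_cycV, not_or]
  have hi : (W₁ : Set Γ) ∩ W₂ = {1} := by
    rw [← Subgroup.coe_inf, h.dp.inf, Subgroup.coe_bot]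
  have hu := Set.ncard_union_add_ncard_inter (W₁ : Set Γ) W₂
  rw [hi, Set.ncard_singleton] at hu
  rw [e, Set.ncard_sdiff (Set.union_subset h.le1 h.le2)]
  have c : ∀ H : Subgroup Γ, (H : Set Γ).ncard = Nat.card H := fun H => rfl
  rw [c, c] at hu
  rw [c, h.card_W]
  obtain ⟨m, hm⟩ : ∃ m, Nat.card W₁ = m + 1 := ⟨_, (Nat.succ_pred_eq_of_pos (card_pos _)).symm⟩
  obtain ⟨n, hn⟩ : ∃ n, Nat.card W₂ = n + 1 := ⟨_, (Nat.succ_pred_eq_of_pos (card_pos _)).symm⟩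
  rw [hm, hn] at hu ⊢
  simp only [Nat.add_sub_cancel]
  have : (m + 1) * (n + 1) = m * n + (m + n + 1) := by ring
  omega
theorem V_nonempty : (cycV W W₁ W₂).Nonempty := by
  rw [← Set.ncard_pos, h.card_V]
  have := h.two_lt1; have := h.two_lt2
  exact Nat.mul_pos (by omega) (by omega)
theorem one_not_mem_V : (1 : Γ) ∉ cycV W W₁ W₂ := fun hx => hx.2.1 W₁.one_mem
theorem mul_mem_V {a b : Γ} (ha : a ∈ W₁) (ha1 : a ≠ 1) (hb : b ∈ W₂) (hb1 : b ≠ 1) :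
    a * b ∈ cycV W W₁ W₂ := by
  refine ⟨W.mul_mem (h.le1 ha) (h.le2 hb), fun h1 => hb1 ?_, fun h2 => ha1 ?_⟩
  · have : b ∈ W₁ ⊓ W₂ := ⟨(W₁.mul_mem_cancel_left ha).mp h1, hb⟩
    rwa [h.dp.inf] at this
  · have : a ∈ W₁ ⊓ W₂ := ⟨ha, (W₂.mul_mem_cancel_right hb).mp h2⟩
    rwa [h.dp.inf] at this
theorem exists_of_mem_V (hx : x ∈ cycV W W₁ W₂) :
    ∃ a ∈ W₁, a ≠ 1 ∧ ∃ b ∈ W₂, b ≠ 1 ∧ x = a * b := by
  obtain ⟨a, ha, b, hb, rfl⟩ := h.dp.isProd.mul x hx.1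
  exact ⟨a, ha, by rintro rfl; exact hx.2.2 (by simpa using hb), b, hb,
    by rintro rfl; exact hx.2.1 (by simpa using ha), rfl⟩
theorem card_I : (irrK W W₂).card = Nat.card W₁ := by
  rw [card_irrK_of_der_le (by rw [der1_eq_bot.mpr h.abl]; exact bot_le) h.le2,
    h.dp.sd.relIndex_right]
theorem card_J : (irrK W W₁).card = Nat.card W₂ := h.symm.card_I
theorem one_I : cfOne W ∈ irrK W W₂ := cfOne_mem_irrK h.le2
theorem one_J : cfOne W ∈ irrK W W₁ := cfOne_mem_irrK h.le1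
theorem exists_I_ne : ∃ i ∈ irrK W W₂, i ≠ cfOne W :=
  Finset.exists_mem_ne (by rw [h.card_I]; have := h.two_lt1; omega) _
theorem exists_J_ne : ∃ j ∈ irrK W W₁, j ≠ cfOne W := h.symm.exists_I_ne
theorem lin (hω : ω ∈ Irr W) : IsLin W ω := irr_lin_of_abl h.abl hω
theorem mul_irr (hi : i ∈ irrK W W₂) (hj : j ∈ irrK W W₁) : i * j ∈ Irr W := dprod_irr h.dp hi hj
theorem exists_ij (hω : ω ∈ Irr W) : ∃ i ∈ irrK W W₂, ∃ j ∈ irrK W W₁, ω = i * j :=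
  dprod_surj h.dp hω
theorem ij_inj (hi : i ∈ irrK W W₂) (hj : j ∈ irrK W W₁) (hi' : i' ∈ irrK W W₂)
    (hj' : j' ∈ irrK W W₁) : i * j = i' * j' ↔ i = i' ∧ j = j' := dprod_inj h.dp hi hj hi' hj'
theorem sum_Irr {N : Type*} [AddCommMonoid N] (F : (Γ → ℂ) → N) :
    ∑ ω ∈ Irr W, F ω = ∑ i ∈ irrK W W₂, ∑ j ∈ irrK W W₁, F (i * j) := dprod_sum_Irr h.dp F
theorem pow_I (hi : i ∈ irrK W W₂) (hx : x ∈ W) : i x ^ Nat.card W₁ = 1 := by
  have hl := h.lin (irrK_sub _ _ hi)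
  obtain ⟨a, ha, b, hb, rfl⟩ := h.dp.isProd.mul x hx
  rw [hl.apply_mul (h.le1 ha) (h.le2 hb), PF3.irrK_apply h.abl hi hb, mul_one,
    ← hl.apply_pow (h.le1 ha), orderOf_dvd_iff_pow_eq_one.mp (orderOf_dvd_card' ha), hl.one]
theorem pow_J (hj : j ∈ irrK W W₁) (hx : x ∈ W) : j x ^ Nat.card W₂ = 1 := h.symm.pow_I hj hx
theorem conjC_ne (hω : ω ∈ Irr W) (h1 : ω ≠ cfOne W) : conjC ω ≠ ω := odd_conjC_ne h.odd hω h1
/-- if `|W₂|` is prime the nontrivial `j` are Galois conjugate, by automorphisms fixing the `i`. -/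
theorem exists_aut_J (hp : (Nat.card W₂).Prime) (hj : j ∈ irrK W W₁) (hj1 : j ≠ cfOne W)
    (hj' : j' ∈ irrK W W₁) (hj1' : j' ≠ cfOne W) :
    ∃ u : ℂ →+* ℂ, cfAut u j = j' ∧ ∀ i ∈ irrK W W₂, cfAut u i = i := by
  classical
  obtain ⟨b, hb, hb1⟩ := exists_ne_one h.ne2
  have hz := zpowers_eq_of_prime hp hb hb1
  have ext : ∀ {a c : Γ → ℂ}, a ∈ irrK W W₁ → c ∈ irrK W W₁ → a b = c b → a = c := by
    intro a c ha hc e
    have la := h.lin (irrK_sub _ _ ha)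
    have lc := h.lin (irrK_sub _ _ hc)
    refine CF_ext (irr_CF la.irr) (irr_CF lc.irr) fun x hx => ?_
    obtain ⟨y, hy, z, hz', rfl⟩ := h.dp.isProd.mul x hx
    rw [← hz, mem_zpowers_iff_mem_range_orderOf, Finset.mem_image] at hz'
    obtain ⟨n, -, rfl⟩ := hz'
    rw [la.apply_mul (h.le1 hy) (W.pow_mem (h.le2 hb) n),
      lc.apply_mul (h.le1 hy) (W.pow_mem (h.le2 hb) n), la.apply_pow (h.le2 hb),
      lc.apply_pow (h.le2 hb), e, PF3.irrK_apply h.abl ha hy, PF3.irrK_apply h.abl hc hy]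
  have prim : ∀ {a : Γ → ℂ}, a ∈ irrK W W₁ → a ≠ cfOne W → IsPrimitiveRoot (a b) (Nat.card W₂) := by
    intro a ha ha1
    haveI := Fact.mk hp
    have h1 : a b ≠ 1 := fun e => ha1 (ext ha h.one_J (by rw [e, cfOne_of_mem (h.le2 hb)]))
    have := orderOf_eq_prime (h.pow_J ha (h.le2 hb)) h1
    rw [← this]; exact IsPrimitiveRoot.orderOf _
  haveI : NeZero (Nat.card W₂) := ⟨hp.ne_zero⟩
  obtain ⟨k, -, hk⟩ := (prim hj hj1).eq_pow_of_pow_eq_one (prim hj' hj1').pow_eq_one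
  have hkc : k.Coprime (Nat.card W₂) :=
    ((prim hj hj1).pow_iff_coprime hp.pos k).mp (hk ▸ prim hj' hj1')
  obtain ⟨u, hu1, hu2⟩ := exists_aut_pow hp.pos (card_pos W₁) h.cop.symm hkc
  refine ⟨u, ext (aut_mem_irrK hj u) hj' ?_, fun i hi => ?_⟩
  · rw [cfAut_apply, hu1 _ (h.pow_J hj (h.le2 hb)), hk]
  · have hc := irr_CF (irrK_sub _ _ hi)
    exact CF_ext (cfAut_mem_CF u hc) hc fun x hx => hu2 _ (h.pow_I hi hx)
/-- (3.4): `(1 − i)(1 − j)` vanishes off `V`. -/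
theorem alpha_on (hi : i ∈ irrK W W₂) (hj : j ∈ irrK W W₁) :
    cfOne W - i - j + i * j ∈ CFon W (cycV W W₁ W₂) := PF3.alpha_on h.dp h.abl hi hj

/-- Theorem (3.2). -/
theorem isCycIso : IsCycIso G W (cycV W W₁ W₂) (cycIso G W W₁ W₂) := by
  have hex : ∃ σ, IsCycIso G W (cycV W W₁ W₂) σ := by
    have := h.two_lt1; have := h.two_lt2
    obtain ⟨a, ha⟩ := h.odd1
    obtain ⟨b, hb⟩ := h.odd2
    have hc := h.cop
    have hne : Nat.card W₁ ≠ Nat.card W₂ := fun e => by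
      rw [e, Nat.coprime_self] at hc; omega
    refine PF3.exists_isCycIso h.dp h.abl h.nti ?_ ?_ ?_ <;>
      simp only [h.card_I, h.card_J] <;> omega
  unfold cycIso; rw [dif_pos hex]; exact Classical.choose_spec hex
theorem zisom : ZIsom W G (vchar W) (cycIso G W W₁ W₂) := h.isCycIso.isom
theorem iso_CF (hφ : φ ∈ CF W) : cycIso G W W₁ W₂ φ ∈ CF G := PF3.iso_CF h.isCycIso hφ
theorem iso_vchar (hφ : φ ∈ vchar W) : cycIso G W W₁ W₂ φ ∈ vchar G := h.zisom.vchar _ hφ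
theorem iso_dirr (hω : ω ∈ Irr W) : IsDirr G (cycIso G W W₁ W₂ ω) :=
  vchar_norm_one (h.iso_vchar (irr_vchar hω)) (by rw [h.zisom.norm (irr_vchar hω), irr_norm hω])
theorem iso_dot (hφ : φ ∈ CF W) (hψ : ψ ∈ CF W) :
    cfdot G (cycIso G W W₁ W₂ φ) (cycIso G W W₁ W₂ ψ) = cfdot W φ ψ :=
  PF3.iso_dot h.isCycIso hφ hψ
theorem iso_norm (hφ : φ ∈ CF W) : cfnorm G (cycIso G W W₁ W₂ φ) = cfnorm W φ :=
  cfnorm_congr_dot (h.iso_dot hφ hφ)
theorem iso_dot_irr [DecidableEq (Γ → ℂ)] (hω : ω ∈ Irr W) (hω' : ω' ∈ Irr W) :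
    cfdot G (cycIso G W W₁ W₂ ω) (cycIso G W W₁ W₂ ω') = if ω = ω' then 1 else 0 := by
  rw [h.iso_dot (irr_CF hω) (irr_CF hω'), irr_dot hω hω']; congr
theorem iso_dot_ij [DecidableEq (Γ → ℂ)] (hi : i ∈ irrK W W₂) (hj : j ∈ irrK W W₁)
    (hi' : i' ∈ irrK W W₂) (hj' : j' ∈ irrK W W₁) :
    cfdot G (cycIso G W W₁ W₂ (i * j)) (cycIso G W W₁ W₂ (i' * j')) =
      if i = i' ∧ j = j' then 1 else 0 := by
  rw [h.iso_dot_irr (h.mul_irr hi hj) (h.mul_irr hi' hj')]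
  simp only [h.ij_inj hi hj hi' hj']
theorem iso_inj (hφ : φ ∈ CF W) (hψ : ψ ∈ CF W) (he : cycIso G W W₁ W₂ φ = cycIso G W W₁ W₂ ψ) :
    φ = ψ := by
  rw [← sub_eq_zero, ← cfnorm_eq_zero_CF (sub_mem hφ hψ), ← h.iso_norm (sub_mem hφ hψ), map_sub, he,
    sub_self, cfnorm_zero]
theorem iso_ne_neg (hω : ω ∈ Irr W) (hω' : ω' ∈ Irr W) :
    cycIso G W W₁ W₂ ω ≠ -cycIso G W W₁ W₂ ω' := fun e => by
  classical
  have := h.iso_dot_irr hω hω'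
  rw [e, cfdot_neg_left, (h.iso_dirr hω').dot_self] at this
  split_ifs at this <;> norm_num at this
theorem iso_one : cycIso G W W₁ W₂ (cfOne W) = cfOne G := h.isCycIso.one
theorem iso_Ind (hφ : φ ∈ CFon W (cycV W W₁ W₂)) : cycIso G W W₁ W₂ φ = cfInd G W φ :=
  PF3.iso_Ind h.isCycIso h.nti hφ
theorem iso_restrict (hφ : φ ∈ CF W) (hx : x ∈ cycV W W₁ W₂) : cycIso G W W₁ W₂ φ x = φ x :=
  PF3.iso_restrict h.isCycIso hφ hx
theorem ortho_vanish (hψ : ψ ∈ CF G) (ho : ∀ ω ∈ Irr W, cfdot G ψ (cycIso G W W₁ W₂ ω) = 0)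
    (hx : x ∈ cycV W W₁ W₂) : ψ x = 0 := PF3.ortho_vanish h.isCycIso h.nti hψ ho hx
/-- column and row sums: `⟨∑_i η_ij, η_i'j'⟩`. -/
theorem dot_col [DecidableEq (Γ → ℂ)] (hj : j ∈ irrK W W₁) (hi' : i' ∈ irrK W W₂)
    (hj' : j' ∈ irrK W W₁) :
    cfdot G (∑ i ∈ irrK W W₂, cycIso G W W₁ W₂ (i * j)) (cycIso G W W₁ W₂ (i' * j')) =
      if j = j' then 1 else 0 := by
  rw [cfdot_sum_left, Finset.sum_eq_single i' (fun i hi hne => by
    rw [h.iso_dot_ij hi hj hi' hj', if_neg fun e => hne e.1]) (fun hn => absurd hi' hn),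
    h.iso_dot_ij hi' hj hi' hj']
  simp
theorem dot_row [DecidableEq (Γ → ℂ)] (hi : i ∈ irrK W W₂) (hi' : i' ∈ irrK W W₂)
    (hj' : j' ∈ irrK W W₁) :
    cfdot G (∑ j ∈ irrK W W₁, cycIso G W W₁ W₂ (i * j)) (cycIso G W W₁ W₂ (i' * j')) =
      if i = i' then 1 else 0 := by
  rw [cfdot_sum_left, Finset.sum_eq_single j' (fun j hj hne => by
    rw [h.iso_dot_ij hi hj hi' hj', if_neg fun e => hne e.2]) (fun hn => absurd hj' hn),
    h.iso_dot_ij hi hj' hi' hj']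
  simp

/-- (3.7). -/
theorem cfdot_exchange (hψ : ψ ∈ CF G) (hV : ∀ x ∈ cycV W W₁ W₂, ψ x = 0) (hi : i ∈ irrK W W₂)
    (hj : j ∈ irrK W W₁) (hi' : i' ∈ irrK W W₂) (hj' : j' ∈ irrK W W₁) :
    cfdot G ψ (cycIso G W W₁ W₂ (i * j)) + cfdot G ψ (cycIso G W W₁ W₂ (i' * j')) =
      cfdot G ψ (cycIso G W W₁ W₂ (i * j')) + cfdot G ψ (cycIso G W W₁ W₂ (i' * j)) :=
  PF3.cfdot_exchange h.isCycIso h.nti h.abl hψ hV hi hj hi' hj'
theorem NC_eq_zero : cycNC G W W₁ W₂ ψ = 0 ↔ ∀ ω ∈ Irr W, cfdot G ψ (cycIso G W W₁ W₂ ω) = 0 := by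
  unfold cycNC
  rw [Finset.card_eq_zero, Finset.filter_eq_empty_iff]
  simp only [ne_eq, not_not]
theorem NC_neg (ψ : Γ → ℂ) : cycNC G W W₁ W₂ (-ψ) = cycNC G W W₁ W₂ ψ := by
  unfold cycNC; simp
theorem NC_smul_le (c : ℂ) (ψ : Γ → ℂ) : cycNC G W W₁ W₂ (c • ψ) ≤ cycNC G W W₁ W₂ ψ := by
  unfold cycNC
  refine Finset.card_le_card fun ω hω => ?_
  simp only [Finset.mem_filter, cfdot_smul_left] at hω ⊢
  exact ⟨hω.1, right_ne_zero_of_mul hω.2⟩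
theorem NC_add_le (φ ψ : Γ → ℂ) :
    cycNC G W W₁ W₂ (φ + ψ) ≤ cycNC G W W₁ W₂ φ + cycNC G W W₁ W₂ ψ := by
  classical
  unfold cycNC
  refine le_trans (Finset.card_le_card fun ω hω => ?_) (Finset.card_union_le _ _)
  simp only [Finset.mem_filter, cfdot_add_left, Finset.mem_union] at hω ⊢
  by_contra hn
  push Not at hn
  exact hω.2 (by rw [hn.1 hω.1, hn.2 hω.1, add_zero])
theorem NC_sub_le (φ ψ : Γ → ℂ) :
    cycNC G W W₁ W₂ (φ - ψ) ≤ cycNC G W W₁ W₂ φ + cycNC G W W₁ W₂ ψ := by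
  rw [sub_eq_add_neg, ← h.NC_neg ψ]; exact h.NC_add_le _ _
theorem NC_iso (hω : ω ∈ Irr W) : cycNC G W W₁ W₂ (cycIso G W W₁ W₂ ω) = 1 := by
  classical
  unfold cycNC
  rw [Finset.card_eq_one]
  refine ⟨ω, Finset.ext fun χ => ?_⟩
  simp only [Finset.mem_filter, Finset.mem_singleton]
  constructor
  · rintro ⟨h1, h2⟩
    by_contra e
    exact h2 (by rw [h.iso_dot_irr hω h1, if_neg (Ne.symm e)])
  · rintro rfl; exact ⟨hω, by rw [h.iso_dot_irr hω hω]; simp⟩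
theorem NC_dirr (hφ : IsDirr G φ) : cycNC G W W₁ W₂ φ ≤ 1 := by
  classical
  unfold cycNC
  rw [Finset.card_le_one]
  intro a ha b hb
  simp only [Finset.mem_filter] at ha hb
  have key : ∀ c ∈ Irr W, cfdot G φ (cycIso G W W₁ W₂ c) ≠ 0 →
      φ = cycIso G W W₁ W₂ c ∨ φ = -cycIso G W W₁ W₂ c := fun c hc h0 => by
    rcases hφ.cases (h.iso_dirr hc) with e | e | e
    exacts [Or.inl e, Or.inr e, absurd e h0]
  by_contra e
  rcases key a ha.1 ha.2 with e1 | e1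
  · exact hb.2 (by rw [e1, h.iso_dot_irr ha.1 hb.1, if_neg e])
  · exact hb.2 (by rw [e1, cfdot_neg_left, h.iso_dot_irr ha.1 hb.1, if_neg e, neg_zero])
theorem NC_le_norm (hφ : φ ∈ vchar G) : (cycNC G W W₁ W₂ φ : ℝ) ≤ cfnorm G φ := by
  classical
  refine le_trans ?_ (sum_sq_cfdot_le (H := G) (s := Irr W) (e := fun ω => cycIso G W W₁ W₂ ω)
    (fun ω hω => (h.iso_dirr hω).dot_self)
    (fun ω hω ω' hω' e => by rw [h.iso_dot_irr hω hω', if_neg e]) φ)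
  unfold cycNC
  rw [Finset.card_filter]
  push_cast
  refine Finset.sum_le_sum fun ω hω => ?_
  split_ifs with h0
  · obtain ⟨n, hn⟩ := vchar_dot_int hφ (h.iso_dirr hω).vchar
    rw [hn] at h0 ⊢
    rw [Complex.norm_intCast, sq_abs]
    have : n ≠ 0 := by rintro rfl; simp at h0
    exact_mod_cast (one_le_sq_iff_one_le_abs n).mpr (Int.one_le_abs this)
  · positivity
theorem NC_eq_card [DecidableEq (Γ → ℂ)] (ψ : Γ → ℂ)
    [DecidablePred fun p : (Γ → ℂ) × (Γ → ℂ) => cfdot G ψ (cycIso G W W₁ W₂ (p.1 * p.2)) ≠ 0] :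
    cycNC G W W₁ W₂ ψ = ((irrK W W₂ ×ˢ irrK W W₁).filter
      fun p => cfdot G ψ (cycIso G W W₁ W₂ (p.1 * p.2)) ≠ 0).card := by
  unfold cycNC
  rw [Finset.card_filter, Finset.card_filter, h.sum_Irr, Finset.sum_product]
  exact Finset.sum_congr rfl fun i _ => Finset.sum_congr rfl fun j _ => by congr
theorem card_le_NC {T : Finset ((Γ → ℂ) × (Γ → ℂ))} (hT : ∀ p ∈ T, p.1 ∈ irrK W W₂ ∧
    p.2 ∈ irrK W W₁ ∧ cfdot G ψ (cycIso G W W₁ W₂ (p.1 * p.2)) ≠ 0) :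
    T.card ≤ cycNC G W W₁ W₂ ψ := by
  classical
  rw [h.NC_eq_card]
  exact Finset.card_le_card fun p hp => Finset.mem_filter.mpr
    ⟨Finset.mem_product.mpr ⟨(hT p hp).1, (hT p hp).2.1⟩, (hT p hp).2.2⟩
/-- (3.8). -/
theorem small_NC [DecidableEq (Γ → ℂ)] (hψ : ψ ∈ CF G) (hV : ∀ x ∈ cycV W W₁ W₂, ψ x = 0)
    (hNC : cycNC G W W₁ W₂ ψ < 2 * min (Nat.card W₁) (Nat.card W₂)) {i₀ j₀ : Γ → ℂ}
    (hi₀ : i₀ ∈ irrK W W₂) (hj₀ : j₀ ∈ irrK W W₁) (h0 : cfdot G ψ (cycIso G W W₁ W₂ (i₀ * j₀)) ≠ 0) :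
    (∀ i ∈ irrK W W₂, ∀ j ∈ irrK W W₁, cfdot G ψ (cycIso G W W₁ W₂ (i * j)) =
        if j = j₀ then cfdot G ψ (cycIso G W W₁ W₂ (i₀ * j₀)) else 0) ∨
      (∀ i ∈ irrK W W₂, ∀ j ∈ irrK W W₁, cfdot G ψ (cycIso G W W₁ W₂ (i * j)) =
        if i = i₀ then cfdot G ψ (cycIso G W W₁ W₂ (i₀ * j₀)) else 0) := by
  classical
  have := h.two_lt1; have := h.two_lt2
  refine PF3.small_grid (a := fun i j => cfdot G ψ (cycIso G W W₁ W₂ (i * j)))
    (fun i hi j hj k hk l hl => h.cfdot_exchange hψ hV hi hj hk hl) (by rw [h.card_I]; omega)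
    (by rw [h.card_J]; omega) ?_ ?_ hi₀ hj₀ h0
  · obtain ⟨a, ha⟩ := h.odd1
    obtain ⟨b, hb⟩ := h.odd2
    have hc := h.cop
    have hne : Nat.card W₁ ≠ Nat.card W₂ := fun e => by
      rw [e, Nat.coprime_self] at hc; omega
    rw [h.card_I, h.card_J]; omega
  · rw [h.card_I, h.card_J, ← h.NC_eq_card]; exact hNC
theorem NC_min (hψ : ψ ∈ CF G) (hV : ∀ x ∈ cycV W W₁ W₂, ψ x = 0)
    (hNC : cycNC G W W₁ W₂ ψ < min (Nat.card W₁) (Nat.card W₂)) : cycNC G W W₁ W₂ ψ = 0 := by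
  classical
  rw [h.NC_eq_zero]
  intro ω hω
  by_contra h0
  obtain ⟨i₀, hi₀, j₀, hj₀, rfl⟩ := h.exists_ij hω
  rcases h.small_NC hψ hV (by omega) hi₀ hj₀ h0 with hc | hc
  · have := h.card_le_NC (ψ := ψ) (T := irrK W W₂ ×ˢ {j₀}) fun p hp => by
      obtain ⟨h1, h2⟩ := Finset.mem_product.mp hp
      rw [Finset.mem_singleton] at h2
      exact ⟨h1, h2 ▸ hj₀, by rw [hc _ h1 _ (h2 ▸ hj₀), if_pos h2]; exact h0⟩
    rw [Finset.card_product, Finset.card_singleton, h.card_I] at this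
    omega
  · have := h.card_le_NC (ψ := ψ) (T := {i₀} ×ˢ irrK W W₁) fun p hp => by
      obtain ⟨h1, h2⟩ := Finset.mem_product.mp hp
      rw [Finset.mem_singleton] at h1
      exact ⟨h1 ▸ hi₀, h2, by rw [hc _ (h1 ▸ hi₀) _ h2, if_pos h1]; exact h0⟩
    rw [Finset.card_product, Finset.card_singleton, h.card_J] at this
    omega
/-- MathComp `eq_signed_sub_cTIiso`. -/
theorem eq_signed_sub (hφ : φ ∈ vchar G) (hn : cfnorm G φ = 2) {ε : ℤ} (hε : ε = 1 ∨ ε = -1)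
    (hi : i ∈ irrK W W₂) (hj : j ∈ irrK W W₁) (hj' : j' ∈ irrK W W₁) (hne : j ≠ j')
    (hV : ∀ x ∈ cycV W W₁ W₂, φ x = ε * ((i * j) x - (i * j') x)) :
    φ = (ε : ℂ) • (cycIso G W W₁ W₂ (i * j) - cycIso G W W₁ W₂ (i * j')) := by
  classical
  have := h.two_lt1; have := h.two_lt2
  set σ := cycIso G W W₁ W₂ with hσ
  have hε2 : (ε : ℂ) * ε = 1 := by rcases hε with rfl | rfl <;> simp
  have hε0 : (ε : ℂ) ≠ 0 := left_ne_zero_of_mul_eq_one hε2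
  have ω1 := h.mul_irr hi hj
  have ω2 := h.mul_irr hi hj'
  set ρ := (ε : ℂ) • (σ (i * j) - σ (i * j')) with hρ
  have ρc : ρ ∈ CF G := Submodule.smul_mem _ _ (sub_mem (h.iso_dirr ω1).CF (h.iso_dirr ω2).CF)
  have ρd : ∀ k ∈ irrK W W₂, ∀ l ∈ irrK W W₁, cfdot G ρ (σ (k * l)) =
      ε * ((if i = k ∧ j = l then 1 else 0) - if i = k ∧ j' = l then 1 else 0) :=
    fun k hk l hl => by
      rw [hρ, cfdot_smul_left, cfdot_sub_left, h.iso_dot_ij hi hj hk hl, h.iso_dot_ij hi hj' hk hl]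
  have φNC : cycNC G W W₁ W₂ φ ≤ 2 := by
    have := h.NC_le_norm hφ; rw [hn] at this; exact_mod_cast this
  have ψc : φ - ρ ∈ CF G := sub_mem (vchar_CF hφ) ρc
  have ψV : ∀ x ∈ cycV W W₁ W₂, (φ - ρ) x = 0 := fun x hx => by
    rw [Pi.sub_apply, hV x hx, hρ, Pi.smul_apply, Pi.sub_apply, h.iso_restrict (irr_CF ω1) hx,
      h.iso_restrict (irr_CF ω2) hx, smul_eq_mul, sub_self]
  have ψNC : cycNC G W W₁ W₂ (φ - ρ) ≤ 4 := by
    have a1 := h.NC_sub_le φ ρ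
    have a2 := h.NC_smul_le (ε : ℂ) (σ (i * j) - σ (i * j'))
    have a3 := h.NC_sub_le (σ (i * j)) (σ (i * j'))
    rw [h.NC_iso ω1, h.NC_iso ω2] at a3
    rw [← hρ] at a2
    omega
  have three : ∀ p q r : (Γ → ℂ) × (Γ → ℂ), p ≠ q → p ≠ r → q ≠ r →
      (∀ t ∈ ({p, q, r} : Finset _), t.1 ∈ irrK W W₂ ∧ t.2 ∈ irrK W W₁ ∧
        cfdot G φ (σ (t.1 * t.2)) ≠ 0) → False := fun p q r h1 h2 h3 hh => by
    have := h.card_le_NC hh
    rw [Finset.card_eq_three.mpr ⟨p, q, r, h1, h2, h3, rfl⟩] at this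
    omega
  have key : ∀ k ∈ irrK W W₂, ∀ l ∈ irrK W W₁, cfdot G (φ - ρ) (σ (k * l)) = 0 := by
    intro i₀ hi₀ j₀ hj₀
    by_contra h0
    obtain ⟨k1, hk1, n1⟩ := H4.Grid.exists_not_mem_list (irrK W W₂) [i]
      (by rw [h.card_I]; simp; omega)
    obtain ⟨k2, hk2, n2⟩ := H4.Grid.exists_not_mem_list (irrK W W₂) [i, k1]
      (by rw [h.card_I]; simp; omega)
    obtain ⟨l, hl, n3⟩ := H4.Grid.exists_not_mem_list (irrK W W₁) [j, j']
      (by rw [h.card_J]; simp; omega)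
    simp only [List.mem_cons, List.not_mem_nil, or_false, not_or] at n1 n2 n3
    set a := cfdot G (φ - ρ) (σ (i₀ * j₀)) with ha
    have φd : ∀ k ∈ irrK W W₂, ∀ l ∈ irrK W W₁, cfdot G φ (σ (k * l)) =
        cfdot G (φ - ρ) (σ (k * l)) + cfdot G ρ (σ (k * l)) := fun k _ l _ => by
      rw [cfdot_sub_left]; ring
    have hsm := h.small_NC ψc ψV (by omega) hi₀ hj₀ h0
    rw [← hσ, ← ha] at hsm
    clear_value a
    rcases hsm with hc | hc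
    · obtain ⟨m, hm, hm0, hmρ⟩ : ∃ m ∈ irrK W W₁, m ≠ j₀ ∧ cfdot G ρ (σ (i * m)) ≠ 0 := by
        by_cases e : j = j₀
        · exact ⟨j', hj', e ▸ hne.symm, by rw [ρd i hi j' hj']; simp [hne, hε0]⟩
        · exact ⟨j, hj, e, by rw [ρd i hi j hj]; simp [hne.symm, hε0]⟩
      refine three (k1, j₀) (k2, j₀) (i, m) (by simp [Ne.symm n2.2]) (by simp [n1])
        (by simp [n2.1]) ?_
      simp only [Finset.mem_insert, Finset.mem_singleton]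
      rintro t (rfl | rfl | rfl)
      · refine ⟨hk1, hj₀, ?_⟩
        rw [φd _ hk1 _ hj₀, hc _ hk1 _ hj₀, ρd _ hk1 _ hj₀]; simpa [Ne.symm n1] using h0
      · refine ⟨hk2, hj₀, ?_⟩
        rw [φd _ hk2 _ hj₀, hc _ hk2 _ hj₀, ρd _ hk2 _ hj₀]; simpa [Ne.symm n2.1] using h0
      · refine ⟨hi, hm, ?_⟩
        rw [φd _ hi _ hm, hc _ hi _ hm]; simpa [hm0] using hmρ
    · by_cases e : i = i₀
      · subst e
        have d1 : cfdot G φ (σ (i * j)) = a + ε := by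
          rw [φd _ hi _ hj, hc _ hi _ hj, ρd _ hi _ hj]; simp [hne.symm]
        have d2 : cfdot G φ (σ (i * j')) = a - ε := by
          rw [φd _ hi _ hj', hc _ hi _ hj', ρd _ hi _ hj']; simp [hne, sub_eq_add_neg]
        have d3 : cfdot G φ (σ (i * l)) = a := by
          rw [φd _ hi _ hl, hc _ hi _ hl, ρd _ hi _ hl]; simp [Ne.symm n3.1, Ne.symm n3.2]
        have b1 := norm_dot_irr_sq_le φ (h.iso_dirr ω1).norm
        have b2 := norm_dot_irr_sq_le φ (h.iso_dirr ω2).norm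
        rw [hn] at b1 b2
        have nε : ‖(ε : ℂ)‖ = 1 := by rcases hε with rfl | rfl <;> simp
        refine three (i, j) (i, j') (i, l) (by simp [hne]) (by simp [Ne.symm n3.1])
          (by simp [Ne.symm n3.2]) ?_
        simp only [Finset.mem_insert, Finset.mem_singleton]
        rintro t (rfl | rfl | rfl)
        · refine ⟨hi, hj, fun e => ?_⟩
          rw [d2, show a - ε = -2 * ε by rw [d1] at e; linear_combination e, norm_mul, nε] at b2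
          norm_num at b2
        · refine ⟨hi, hj', fun e => ?_⟩
          rw [d1, show a + ε = 2 * ε by rw [d2] at e; linear_combination e, norm_mul, nε] at b1
          norm_num at b1
        · exact ⟨hi, hl, by rw [d3]; exact h0⟩
      · refine three (i₀, j) (i₀, j') (i₀, l) (by simp [hne]) (by simp [Ne.symm n3.1])
          (by simp [Ne.symm n3.2]) ?_
        simp only [Finset.mem_insert, Finset.mem_singleton]
        rintro t (rfl | rfl | rfl)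
        · refine ⟨hi₀, hj, ?_⟩
          rw [φd _ hi₀ _ hj, hc _ hi₀ _ hj, ρd _ hi₀ _ hj]; simpa [e] using h0
        · refine ⟨hi₀, hj', ?_⟩
          rw [φd _ hi₀ _ hj', hc _ hi₀ _ hj', ρd _ hi₀ _ hj']; simpa [e] using h0
        · refine ⟨hi₀, hl, ?_⟩
          rw [φd _ hi₀ _ hl, hc _ hi₀ _ hl, ρd _ hi₀ _ hl]; simpa [e] using h0
  have o1 : cfdot G (φ - ρ) ρ = 0 := by
    conv_lhs => rw [hρ, cfdot_smul_right, cfdot_sub_right, ← hρ, key i hi j hj, key i hi j' hj']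
    simp
  have n2 : cfnorm G ρ = 2 := by
    refine cfnorm_eq_of_cfdot ?_
    conv_lhs => rw [hρ, cfdot_smul_right, cfdot_sub_right, ← hρ, ρd i hi j hj, ρd i hi j' hj']
    simp only [hne, hne.symm, map_intCast, and_self, and_false, if_true, if_false]
    push_cast; linear_combination 2 * hε2
  have := cfnorm_add_orth o1
  rw [sub_add_cancel, hn, n2] at this
  rw [← sub_eq_zero, ← cfnorm_eq_zero_CF ψc]; linarith
/-- (3.9)(a). -/
theorem eq_in_iso (hω : ω ∈ Irr W) (hφ : IsDirr G φ) (hV : ∀ x ∈ cycV W W₁ W₂, φ x = ω x) :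
    φ = cycIso G W W₁ W₂ ω := by
  have := h.two_lt1; have := h.two_lt2
  have hd := h.iso_dirr hω
  have h0 := h.NC_min (sub_mem hφ.CF hd.CF) (fun x hx => by
    rw [Pi.sub_apply, hV x hx, h.iso_restrict (irr_CF hω) hx, sub_self]) (by
      have a1 := h.NC_sub_le φ (cycIso G W W₁ W₂ ω)
      have a2 := h.NC_dirr hφ
      rw [h.NC_iso hω] at a1
      omega)
  have := h.NC_eq_zero.mp h0 ω hω
  rw [cfdot_sub_left, hd.dot_self, sub_eq_zero] at this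
  exact hφ.eq_of_dot_one hd this
theorem iso_aut (u : ℂ →+* ℂ) (hφ : φ ∈ CF W) :
    cfAut u (cycIso G W W₁ W₂ φ) = cycIso G W W₁ W₂ (cfAut u φ) := by
  rw [PF3.map_CF_eq_sum (cycIso G W W₁ W₂) hφ]
  conv_rhs => rw [CF_eq_sum hφ]
  simp only [map_sum, cfAut_smul, map_smul]
  refine Finset.sum_congr rfl fun ω hω => ?_
  rw [h.eq_in_iso (irr_aut hω u) ((h.iso_dirr hω).aut u) fun x hx => by
    rw [cfAut_apply, cfAut_apply, h.iso_restrict (irr_CF hω) hx]]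
/-- (3.9)(b). -/
theorem iso_aut_exists (hω : ω ∈ Irr W) {a k : ℕ} (ha : 0 < a) (hωa : ∀ x ∈ W, ω x ^ a = 1)
    (hk0 : k ≠ 0) (hk : k.Coprime a) :
    (∃ u : ℂ →+* ℂ, cycIso G W W₁ W₂ (ω ^ k) = cfAut u (cycIso G W W₁ W₂ ω)) ∧
      ∀ x : Γ, (orderOf x).Coprime a → cycIso G W W₁ W₂ (ω ^ k) x = cycIso G W W₁ W₂ ω x := by
  obtain ⟨u, hu1, -, hu2⟩ := make_pi_cfAut G ha hk
  have e := h.iso_aut u (irr_CF hω)
  rw [PF3.cfAut_eq_pow (irr_cfOn hω) hωa hk0 hu1] at e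
  exact ⟨⟨u, e.symm⟩, fun x hx => by rw [← e, cfAut_apply, hu2 _ (h.iso_dirr hω).vchar x hx]⟩
/-- (3.9)(c). -/
theorem iso_int_coprime (hω : ω ∈ Irr W) {a : ℕ} (ha : 0 < a) (hωa : ∀ x ∈ W, ω x ^ a = 1)
    (hx : (orderOf x).Coprime a) : ∃ n : ℤ, cycIso G W W₁ W₂ ω x = n := by
  refine int_of_fixed (vchar_isIntegral (h.iso_dirr hω).vchar x) fun u => ?_
  obtain ⟨k, hk0, hk, hu⟩ := PF3.exists_pow_of_aut u ha
  have e := h.iso_aut u (irr_CF hω)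
  rw [PF3.cfAut_eq_pow (irr_cfOn hω) hωa hk0 hu] at e
  rw [← cfAut_apply, e, (h.iso_aut_exists hω ha hωa hk0 hk).2 x hx]

end CyclicTI

end H27
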