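import Mathlib
import Cfsg.Agent.H27.PF3

/-!
# Peterfalvi §4.  Author: helper4 (interface: helper27).
`μ_ij = prMu L W W₁ W₂ (i * j)`, `δ_j = prSign L W W₁ W₂ j`, `μ_j = prRed L W W₁ W₂ j`,
`χ_j = prRes L K W W₁ W₂ j`, `η_ij = eta W W₁ W₂ (i * j)`.
-/

set_option autoImplicit false
set_option linter.unusedSectionVars false
set_option linter.unusedVariables false

namespace H27

open Cfsg H24 
open scoped ComplexConjugate

universe u v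

variable {Γ : Type u} [Group Γ] [Finite Γ]
variable {L K H W W₁ W₂ : Subgroup Γ} {φ ψ χ θ ω ω' i j k i' j' : Γ → ℂ} {x : Γ}

namespace PF4

theorem mem_seqIndT : φ ∈ seqIndT K L ↔ ∃ θ ∈ Irr K, cfInd L K θ = φ := by
  classical
  unfold seqIndT; convert Finset.mem_image

theorem mem_seqIndD {M : Subgroup Γ} : φ ∈ seqIndD K L H M ↔ ∃ θ ∈ irrKD K H M, cfInd L K θ = φ := by
  classical
  unfold seqIndD; convert Finset.mem_image

theorem pair_aux {X : Subgroup Γ} {a b c d : Γ → ℂ} {u v : ℝ} (ha : IsDirr X a)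
    (hb : IsDirr X b) (hc : IsDirr X c) (hd : IsDirr X d) (hab : cfdot X a b = 0)
    (hcd : cfdot X c d = 0) (hu : u ≠ 0) (hv : v ≠ 0)
    (h : cfdot X (a - b) ((u : ℂ) • c - (v : ℂ) • d) = 0) (h1 : a 1 = b 1)
    (h2 : (u : ℂ) * c 1 = v * d 1) : cfdot X a c = 0 := by
  have hu' : (u : ℂ) ≠ 0 := by exact_mod_cast hu
  have hv' : (v : ℂ) ≠ 0 := by exact_mod_cast hv
  have hd1 := hd.one_ne_zero
  simp only [cfdot_sub_left, cfdot_sub_right, cfdot_smul_right, Complex.conj_ofReal] at h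
  rcases ha.cases hc with rfl | rfl | e
  · rw [ha.dot_self, hcd, cfdot_symm_zero hab] at h
    rcases hb.dot_cases hd with ⟨rfl, e⟩ | ⟨rfl, e⟩ | e <;> rw [e] at h
    · rw [h1] at h2
      exact absurd (by linear_combination (mul_right_cancel₀ hd1 h2 + h) / 2) hu'
    · rw [h1, Pi.neg_apply] at h2
      have : (u + v : ℂ) * d 1 = 0 := by linear_combination -h2
      exact absurd (by linear_combination ((mul_eq_zero.mp this).resolve_right hd1 + h) / 2) hu'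
    · exact absurd (by linear_combination h) hu'
  · rw [cfdot_neg_left, neg_eq_zero] at hab
    rw [cfdot_neg_left, cfdot_neg_left, hc.dot_self, hcd, cfdot_symm_zero hab] at h
    rw [Pi.neg_apply] at h1
    rcases hb.dot_cases hd with ⟨rfl, e⟩ | ⟨rfl, e⟩ | e <;> rw [e] at h
    · have : (u + v : ℂ) * b 1 = 0 := by linear_combination -h2 - u * h1
      exact absurd (by linear_combination ((mul_eq_zero.mp this).resolve_right hd1 - h) / 2) hu'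
    · rw [Pi.neg_apply] at h1
      have : (u - v : ℂ) * d 1 = 0 := by linear_combination h2 + u * h1
      exact absurd (by linear_combination ((mul_eq_zero.mp this).resolve_right hd1 - h) / 2) hu'
    · exact absurd (by linear_combination -h) hu'
  · exact e

theorem dirr_irr_iff (h : IsDirr L φ) : φ ∈ Irr L ↔ 0 < (φ 1).re :=
  ⟨irr_one_re_pos, fun h0 => h.irr_of_pos h0.le⟩

theorem iso_eq_smul (L W W₁ W₂ : Subgroup Γ) (ω : Γ → ℂ) :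
    cycIso L W W₁ W₂ ω = (prSign L W W₁ W₂ ω : ℂ) • prMu L W W₁ W₂ ω := by
  unfold prMu prSign; split_ifs <;> simp

/-- every element of a coset `K g`, `g` of coprime order, is conjugate into `C_K(g) g`. -/
theorem exists_conj_cent {g k : Γ} (hg : g ∈ N[K]) (hc : (Nat.card K).Coprime (orderOf g))
    (hk : k ∈ K) : ∃ y ∈ K, ∃ c ∈ K ⊓ C{g}, y * (k * g) * y⁻¹ = c * g := by
  classical
  by_contra hn
  push Not at hn
  have := coprime_coset_avg hg hc (fun x => if ∃ y ∈ K, y * (k * g) * y⁻¹ = x then 1 else 0)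
    (fun z hz x => by
      congr 1
      refine propext ⟨fun ⟨y, hy, e⟩ => ⟨z⁻¹ * y, K.mul_mem (K.inv_mem hz) hy, ?_⟩,
        fun ⟨y, hy, e⟩ => ⟨z * y, K.mul_mem hz hy, by rw [← e]; group⟩⟩
      rw [show z⁻¹ * y * (k * g) * (z⁻¹ * y)⁻¹ = z⁻¹ * (y * (k * g) * y⁻¹) * z by group, e]; group)
  rw [Finset.sum_eq_zero (s := fs ((K ⊓ C{g} : Subgroup Γ) : Set Γ)) (fun c hc =>
    if_neg fun ⟨y, hy, e⟩ => hn y hy c (mem_fs.mp hc) e), mul_zero, Finset.sum_boole,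
    mul_eq_zero, inv_eq_zero, Nat.cast_eq_zero, Nat.cast_eq_zero, Finset.card_eq_zero,
    Finset.filter_eq_empty_iff] at this
  rcases this with e | e
  · exact card_ne_zero K e
  · exact e (mem_fs.mpr hk) ⟨1, K.one_mem, by group⟩

/-- the number of classes of `K` fixed by an element of coprime order. -/
theorem ncard_fix_classes_le {g : Γ} (hg : g ∈ N[K]) (hc : (Nat.card K).Coprime (orderOf g))
    (hC : K ⊓ C{g ^ Nat.card K} ≤ W₂) :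
    {c : Set Γ | ∃ x ∈ K, c = classSupp {x} K ∧ g * x * g⁻¹ ∈ c}.ncard ≤ Nat.card W₂ := by
  refine le_trans (Set.ncard_le_ncard (t := (fun w => classSupp {w} K) '' (W₂ : Set Γ)) ?_)
    (Set.ncard_image_le (Set.toFinite _))
  rintro _ ⟨x, hx, rfl, x', hx', k, hk, e⟩
  rw [Set.mem_singleton_iff.mp hx'] at e
  obtain ⟨y, hy, c, hc', e2⟩ := exists_conj_cent hg hc (K.inv_mem hk)
  have c1 : Commute (k⁻¹ * g) x := by
    change k⁻¹ * g * x = x * (k⁻¹ * g)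
    rw [show k⁻¹ * g * x = k⁻¹ * (g * x * g⁻¹) * g by group, e]; group
  have c2 : Commute (c * g) (y * x * y⁻¹) := by
    rw [← e2]
    change y * (k⁻¹ * g) * y⁻¹ * (y * x * y⁻¹) = y * x * y⁻¹ * (y * (k⁻¹ * g) * y⁻¹)
    rw [show y * (k⁻¹ * g) * y⁻¹ * (y * x * y⁻¹) = y * (k⁻¹ * g * x) * y⁻¹ by group, c1.eq]; group
  have c3 := c2.pow_left (Nat.card K)
  rw [Commute.mul_pow (mem_C1.mp hc'.2), orderOf_dvd_iff_pow_eq_one.mp (orderOf_dvd_card' hc'.1),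
    one_mul] at c3
  refine ⟨y * x * y⁻¹, hC ⟨K.mul_mem (K.mul_mem hy hx) (K.inv_mem hy), mem_C1.mpr c3.symm.eq⟩, ?_⟩
  ext z
  constructor
  · rintro ⟨x', hx', t, ht, rfl⟩
    exact ⟨x, rfl, t * y, K.mul_mem ht hy, by rw [Set.mem_singleton_iff.mp hx']; group⟩
  · rintro ⟨x', hx', t, ht, rfl⟩
    exact ⟨_, rfl, t * y⁻¹, K.mul_mem ht (K.inv_mem hy), by
      rw [Set.mem_singleton_iff.mp hx']; group⟩

theorem isCycIso_of_Ind {G : Subgroup Γ} {V : Set Γ} {σ : (Γ → ℂ) →ₗ[ℂ] (Γ → ℂ)} (ht : NTI G W V)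
    (hz : ZIsom W G (vchar W) σ) (h1 : σ (cfOne W) = cfOne G)
    (hI : ∀ φ ∈ CFon W V, σ φ = cfInd G W φ) : IsCycIso G W V σ := by
  have h0 : IsCycIso G W ∅ σ := ⟨hz, h1, fun _ _ _ hx => absurd hx (Set.notMem_empty _)⟩
  refine ⟨hz, h1, fun ω hω x hx => ?_⟩
  have hc := PF3.iso_CF h0 (irr_CF hω)
  have := PF3.vanish_of_orth (ψ := σ ω - ω) ht (fun g hg y => by
    rw [Pi.sub_apply, Pi.sub_apply, CF_conj hc (ht.le hg), CF_conj (irr_CF hω) hg])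
    (fun φ hφ => by
      rw [cfdot_sub_right, ← cfdot_cfInd_left ht.le φ hc, ← hI φ hφ,
        PF3.iso_dot h0 hφ.1 (irr_CF hω), sub_self]) hx
  exact sub_eq_zero.mp this

end PF4

/-- (4.1). -/
theorem vchar_pairs_orthonormal {X : Subgroup Γ} {a b c d : Γ → ℂ} {u v : ℝ} (ha : IsDirr X a)
    (hb : IsDirr X b) (hc : IsDirr X c) (hd : IsDirr X d) (hab : cfdot X a b = 0)
    (hcd : cfdot X c d = 0) (hu : u ≠ 0) (hv : v ≠ 0)
    (h : cfdot X (a - b) ((u : ℂ) • c - (v : ℂ) • d) = 0) (h1 : a 1 = b 1)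
    (h2 : (u : ℂ) * c 1 = v * d 1) :
    cfdot X a c = 0 ∧ cfdot X a d = 0 ∧ cfdot X b c = 0 ∧ cfdot X b d = 0 := by
  refine ⟨PF4.pair_aux ha hb hc hd hab hcd hu hv h h1 h2,
    PF4.pair_aux ha hb hd hc hab (cfdot_symm_zero hcd) hv hu ?_ h1 h2.symm,
    PF4.pair_aux hb ha hc hd (cfdot_symm_zero hab) hcd hu hv ?_ h1.symm h2,
    PF4.pair_aux hb ha hd hc (cfdot_symm_zero hab) (cfdot_symm_zero hcd) hv hu ?_ h1.symm h2.symm⟩
  · rw [← neg_sub ((u : ℂ) • c), cfdot_neg_right, h, neg_zero]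
  · rw [← neg_sub a, cfdot_neg_left, h, neg_zero]
  · rw [← neg_sub a, ← neg_sub ((u : ℂ) • c), cfdot_neg_left, cfdot_neg_right, h, neg_neg]

theorem prSign_cases (L W W₁ W₂ : Subgroup Γ) (ω : Γ → ℂ) :
    prSign L W W₁ W₂ ω = 1 ∨ prSign L W W₁ W₂ ω = -1 := by
  unfold prSign; split_ifs <;> simp
theorem prSign_mul_self (L W W₁ W₂ : Subgroup Γ) (ω : Γ → ℂ) :
    (prSign L W W₁ W₂ ω : ℂ) * prSign L W W₁ W₂ ω = 1 := by
  rcases prSign_cases L W W₁ W₂ ω with e | e <;> simp [e]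

namespace PrimeTI
variable (h : PrimeTI L K W W₁ W₂)
include h

theorem nml : K ⊴ L := h.sd.nml
theorem le1 : W₁ ≤ L := h.sd.right_le
theorem leW : W ≤ L := h.dp.sup ▸ sup_le h.le1 (h.le2.trans h.sd.left_le)
theorem cop : (Nat.card K).Coprime (Nat.card W₁) := by
  have := h.hall.2; rw [h.sd.relIndex_right] at this; exact this.symm
theorem index : K.relIndex L = Nat.card W₁ := h.sd.relIndex_left
theorem cent_eq : K ⊓ C[W₁] = W₂ := by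
  obtain ⟨x, hx, hx1⟩ := exists_ne_one h.ne1
  exact le_antisymm (h.cent x hx hx1 ▸ inf_le_inf_left K (C_le_C1 hx)) (le_inf h.le2 h.dp.cent)
theorem inf_W : K ⊓ W = W₂ := by
  rw [inf_comm, ← h.dp.isProd.modr h.le2, inf_comm, h.sd.inf, bot_sup_eq]
theorem sdW : IsProd K W L := h.sd.isProd.mono_right h.dp.left_le h.leW
theorem cop12 : (Nat.card W₁).Coprime (Nat.card W₂) :=
  (h.cop.coprime_dvd_left (card_dvd h.le2)).symm
theorem cycW : Cyc W := by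
  obtain ⟨a, ha⟩ := cyc_iff.1 h.cyc1
  obtain ⟨b, hb⟩ := cyc_iff.1 h.cyc2
  have ma : a ∈ W₁ := ha ▸ Subgroup.mem_zpowers a
  have mb : b ∈ W₂ := hb ▸ Subgroup.mem_zpowers b
  have hab : a * b = b * a := (comm_of_cent h.dp.cent mb ma).symm
  have hco : (orderOf a).Coprime (orderOf b) := by
    rw [← card_zpowers', ← card_zpowers', ha, hb]; exact h.cop12
  refine cyc_iff.2 ⟨a * b, le_antisymm ?_ ?_⟩
  · exact Subgroup.zpowers_le.2 (W.mul_mem (h.dp.left_le ma) (h.dp.right_le mb))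
  · rw [← h.dp.sup, ← ha, ← hb]
    exact sup_le (Subgroup.zpowers_le.2 (mem_zpowers_mul_left hab hco))
      (Subgroup.zpowers_le.2 (mem_zpowers_mul_right hab hco))
/-- every element of `L − K` is conjugate to an element of `W − W₂`. -/
theorem exists_conj_mem (hx : x ∈ L) (hxK : x ∉ K) :
    ∃ g ∈ L, g * x * g⁻¹ ∈ W ∧ g * x * g⁻¹ ∉ W₂ := by
  obtain ⟨k, hk, w, hw, rfl⟩ := h.sd.isProd.mul x hx
  have hw1 : w ≠ 1 := by rintro rfl; exact hxK (by simpa using hk)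
  obtain ⟨y, hy, c, hc, e⟩ := PF4.exists_conj_cent (h.sd.norm hw)
    (h.cop.coprime_dvd_right (orderOf_dvd_card' hw)) hk
  rw [h.cent w hw hw1] at hc
  refine ⟨y, h.nml.le hy, e ▸ W.mul_mem (h.dp.right_le hc) (h.dp.left_le hw), fun h2 => hxK ?_⟩
  exact (H24.conj_mem_iff (norm_self K hy)).mp (h.le2 h2)
/-- (4.3)(a). -/
theorem nti : NTI L W ((W : Set Γ) \ W₂) := by
  have ha := Cyc.abl h.cycW
  refine ⟨h.leW, fun _ hx => hx.1, fun g hg a ha' => by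
    rwa [conj_eq_of_mem_C (ha.le_C hg) ha'.1], fun a ha' g hg hga => ?_⟩
  obtain ⟨k, hk, w, hw, rfl⟩ := h.sdW.mul g hg
  refine W.mul_mem ?_ hw
  have e1 : k * w * a * (k * w)⁻¹ = k * a * k⁻¹ := by
    rw [show k * w * a * (k * w)⁻¹ = k * (w * a * w⁻¹) * k⁻¹ by group,
      conj_eq_of_mem_C (ha.le_C hw) ha'.1]
  rw [e1] at hga
  have hz : k * a * k⁻¹ * a⁻¹ ∈ W₂ := by
    rw [← h.inf_W]
    refine ⟨?_, W.mul_mem hga.1 (W.inv_mem ha'.1)⟩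
    rw [show k * a * k⁻¹ * a⁻¹ = k * (a * k⁻¹ * a⁻¹) by group]
    exact K.mul_mem hk (h.nml.conj_mem (h.leW ha'.1) (K.inv_mem hk))
  obtain ⟨x, hx, y, hy, rfl⟩ := h.dp.isProd.mul a ha'.1
  have hx1 : x ≠ 1 := by rintro rfl; exact ha'.2 (by simpa using hy)
  have p2 : ∀ z ∈ W₂, z ^ Nat.card W₂ = 1 := fun z hz =>
    orderOf_dvd_iff_pow_eq_one.mp (orderOf_dvd_card' hz)
  have c1 : Commute x y := ha.comm (h.dp.left_le hx) (h.dp.right_le hy)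
  have c2 : Commute (k * (x * y) * k⁻¹ * (x * y)⁻¹) (x * y) := ha.comm (h.dp.right_le hz) ha'.1
  have e2 : (x * y) ^ Nat.card W₂ = x ^ Nat.card W₂ := by rw [c1.mul_pow, p2 y hy, mul_one]
  have e3 := c2.mul_pow (Nat.card W₂)
  rw [p2 _ hz, one_mul, inv_mul_cancel_right, conj_pow, e2] at e3
  have hx2 : x ^ Nat.card W₂ ≠ 1 := fun e => hx1 (orderOf_eq_one_iff.mp
    (Nat.eq_one_of_dvd_coprimes h.cop12 (orderOf_dvd_card' hx) (orderOf_dvd_of_pow_eq_one e)))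
  exact h.dp.right_le (h.cent _ (W₁.pow_mem hx _) hx2 ▸ ⟨hk, mem_C1_iff_conj.mpr e3⟩)
theorem cyclicTI : CyclicTI L W W₁ W₂ :=
  ⟨h.dp, h.cycW, h.odd, h.ne1, h.ne2, h.leW, fun x hx g hg hgx =>
    h.nti.ti x ⟨hx.1, hx.2.2⟩ g hg ⟨hgx.1, hgx.2.2⟩⟩
/-- MathComp `primeTIhyp_quotient`. -/
theorem quo {M : Subgroup Γ} (hM : M ⊴ L) (hMK : M ≤ K) (h2 : ¬ W₂ ≤ M) :
    PrimeTI (quo L M) (quo K M) (quo W M) (quo W₁ M) (quo W₂ M) := by
  have n1 : W₁ ≤ N[M] := h.le1.trans hM.norm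
  have nK : K ≤ N[M] := h.sd.left_le.trans hM.norm
  have n2 : W₂ ≤ N[M] := h.le2.trans nK
  have sd := h.sd.quo_of_le hMK hM.norm
  refine ⟨sd, fun e => h.ne1 ?_, ⟨sd.right_le, ?_⟩, Cyc.quo h.cyc1 M,
    fun e => h2 ((quo_eq_bot n2).mp e), quo_mono M h.le2, Cyc.quo h.cyc2 M, fun z hz hz1 => ?_,
    ⟨quo_cent M h.dp.cent, inf_eq_bot_of_cop (coprime_quo h.cop12 M), by
      rw [← quo_sup n1 n2, h.dp.sup]⟩, h.odd.of_dvd_nat (card_quo_dvd W M)⟩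
  · exact eq_bot_of_le h.sd.inf (le_inf (((quo_eq_bot n1).mp e).trans hMK) le_rfl)
  · rw [sd.relIndex_right]; exact (coprime_quo h.cop M).symm
  · obtain ⟨x, hx, hxN, rfl⟩ := mem_quo.mp hz
    have hx1 : x ≠ 1 := by rintro rfl; exact hz1 ((cs_eq_one hxN).mpr M.one_mem)
    rw [← coprime_quo_cent1 (h.nml.norm (h.le1 hx)) hxN nK
      ((h.cop.coprime_dvd_left (card_dvd hMK)).coprime_dvd_right (orderOf_dvd_card' hx)),
      h.cent x hx hx1]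

theorem sub_on (hi : i ∈ irrK W W₂) (hi' : i' ∈ irrK W W₂) (hj : j ∈ irrK W W₁) :
    i * j - i' * j ∈ CFon W ((W : Set Γ) \ W₂) := by
  have c := h.cyclicTI
  have hc := sub_mem (irr_CF (c.mul_irr hi hj)) (irr_CF (c.mul_irr hi' hj))
  refine ⟨hc, fun x hx => ?_⟩
  by_cases h0 : x ∈ W
  · have h2 : x ∈ W₂ := by by_contra h2; exact hx ⟨h0, h2⟩
    simp [PF3.irrK_apply c.abl hi h2, PF3.irrK_apply c.abl hi' h2]
  · exact CF_zero hc h0
theorem cfInd_sub_iso (hi : i ∈ irrK W W₂) (hi' : i' ∈ irrK W W₂) (hj : j ∈ irrK W W₁) :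
    cfInd L W (i * j - i' * j) = cycIso L W W₁ W₂ (i * j) - cycIso L W W₁ W₂ (i' * j) := by
  by_cases e : i = i'
  · subst e; simp
  have c := h.cyclicTI
  have hon := h.sub_on hi hi' hj
  have m1 := c.mul_irr hi hj
  have m2 := c.mul_irr hi' hj
  have := c.symm.eq_signed_sub (ε := 1) (vchar_ind (sub_mem (irr_vchar m1) (irr_vchar m2)) h.leW)
    (by
      rw [cfnorm_congr_dot (h.nti.cfdot_cfInd hon.2 hon), cfnorm_sub_orth, irr_norm m1, irr_norm m2]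
      · norm_num
      · exact irr_dot_ne m1 m2 fun e' => e ((c.ij_inj hi hj hi' hj).mp e').1)
    (Or.inl rfl) hj hi hi' e (fun x hx => by
      rw [h.nti.cfInd_apply hon ⟨hx.1, hx.2.1⟩]; simp [mul_comm])
  rw [this, cycIso_symm, mul_comm j, mul_comm j]; simp
theorem isCycIso2 : IsCycIso L W ((W : Set Γ) \ W₂) (cycIso L W W₁ W₂) := by
  have c := h.cyclicTI
  refine PF4.isCycIso_of_Ind h.nti c.zisom c.iso_one fun φ hφ => ?_
  have r : ∀ j, ∑ i ∈ irrK W W₂, cfdot W φ (i * j) = 0 := fun j => by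
    simp only [mul_comm _ j]
    exact PF3.sum_dot_row c.abl c.le2 (fun x hx => hφ.2 x fun h => h.2 hx) j
  have e : φ = ∑ i ∈ irrK W W₂, ∑ j ∈ irrK W W₁, cfdot W φ (i * j) • (i * j - cfOne W * j) := by
    simp only [smul_sub, Finset.sum_sub_distrib]
    rw [Finset.sum_comm (f := fun i j => cfdot W φ (i * j) • (cfOne W * j))]
    simp only [← Finset.sum_smul, r, zero_smul, Finset.sum_const_zero, sub_zero]
    rw [← c.sum_Irr (fun χ => cfdot W φ χ • χ)]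
    exact CF_eq_sum hφ.1
  rw [e]
  simp only [map_sum, map_smul]
  exact Finset.sum_congr rfl fun i hi => Finset.sum_congr rfl fun j hj => by
    rw [h.cfInd_sub_iso hi c.one_I hj, map_sub]

/-- (4.3)(b), (c). -/
theorem mu_irr (hω : ω ∈ Irr W) : prMu L W W₁ W₂ ω ∈ Irr L := by
  unfold prMu prSign
  split_ifs with e
  · simpa using e
  · simpa using (h.cyclicTI.iso_dirr hω).resolve_left e
theorem sign_mul (hi : i ∈ irrK W W₂) (hj : j ∈ irrK W W₁) :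
    prSign L W W₁ W₂ (i * j) = prSign L W W₁ W₂ j := by
  have c := h.cyclicTI
  have e := congrFun (h.cfInd_sub_iso hi c.one_I hj) 1
  rw [cfOne_mul (irr_cfOn (irrK_sub _ _ hj)), cfInd_one h.leW, Pi.sub_apply, Pi.sub_apply,
    Pi.mul_apply, (c.lin (irrK_sub _ _ hi)).one, one_mul, sub_self, mul_zero, eq_comm,
    sub_eq_zero] at e
  unfold prSign
  simp only [PF4.dirr_irr_iff (c.iso_dirr (c.mul_irr hi hj)),
    PF4.dirr_irr_iff (c.iso_dirr (irrK_sub _ _ hj)), e]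
theorem iso_eq (hi : i ∈ irrK W W₂) (hj : j ∈ irrK W W₁) :
    cycIso L W W₁ W₂ (i * j) = (prSign L W W₁ W₂ j : ℂ) • prMu L W W₁ W₂ (i * j) := by
  rw [PF4.iso_eq_smul, h.sign_mul hi hj]
theorem mu_inj (hω : ω ∈ Irr W) (hω' : ω' ∈ Irr W) :
    prMu L W W₁ W₂ ω = prMu L W W₁ W₂ ω' ↔ ω = ω' := by
  refine ⟨fun e => ?_, fun e => by rw [e]⟩
  have c := h.cyclicTI
  unfold prMu at e
  rcases prSign_cases L W W₁ W₂ ω with e1 | e1 <;> rcases prSign_cases L W W₁ W₂ ω' with e2 | e2 <;>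
    simp only [e1, e2, Int.cast_one, one_smul, Int.cast_neg, neg_smul, neg_inj] at e
  · exact c.iso_inj (irr_CF hω) (irr_CF hω') e
  · exact absurd e (c.iso_ne_neg hω hω')
  · exact absurd e.symm (c.iso_ne_neg hω' hω)
  · exact c.iso_inj (irr_CF hω) (irr_CF hω') e
theorem mu_dot [DecidableEq (Γ → ℂ)] (hi : i ∈ irrK W W₂) (hj : j ∈ irrK W W₁)
    (hi' : i' ∈ irrK W W₂) (hj' : j' ∈ irrK W W₁) :
    cfdot L (prMu L W W₁ W₂ (i * j)) (prMu L W W₁ W₂ (i' * j')) =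
      if i = i' ∧ j = j' then 1 else 0 := by
  have c := h.cyclicTI
  rw [irr_dot (h.mu_irr (c.mul_irr hi hj)) (h.mu_irr (c.mul_irr hi' hj'))]
  simp only [h.mu_inj (c.mul_irr hi hj) (c.mul_irr hi' hj'), c.ij_inj hi hj hi' hj']
theorem cfInd_sub (hi : i ∈ irrK W W₂) (hi' : i' ∈ irrK W W₂) (hj : j ∈ irrK W W₁) :
    cfInd L W (i * j - i' * j) =
      (prSign L W W₁ W₂ j : ℂ) • (prMu L W W₁ W₂ (i * j) - prMu L W W₁ W₂ (i' * j)) := by
  rw [h.cfInd_sub_iso hi hi' hj, h.iso_eq hi hj, h.iso_eq hi' hj, smul_sub]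
theorem mu_id (hi : i ∈ irrK W W₂) (hj : j ∈ irrK W W₁) (hx : x ∈ W) (hx2 : x ∉ W₂) :
    prMu L W W₁ W₂ (i * j) x = prSign L W W₁ W₂ j * (i * j) x := by
  rw [prMu, Pi.smul_apply, h.sign_mul hi hj, h.isCycIso2.res _ (h.cyclicTI.mul_irr hi hj) x ⟨hx, hx2⟩,
    smul_eq_mul]
theorem not_mu_vanish (hχ : χ ∈ Irr L) (hn : ∀ ω ∈ Irr W, χ ≠ prMu L W W₁ W₂ ω) (hx : x ∈ W)
    (hx2 : x ∉ W₂) : χ x = 0 :=
  PF3.ortho_vanish h.isCycIso2 h.nti (irr_CF hχ) (fun ω hω => by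
    rw [PF4.iso_eq_smul, cfdot_smul_right, irr_dot_ne hχ (h.mu_irr hω) (hn ω hω), mul_zero])
    ⟨hx, hx2⟩
/-- (4.3)(d). -/
theorem mu_one_mod (hi : i ∈ irrK W W₂) (hj : j ∈ irrK W W₁) :
    (Nat.card W₁ : ℤ) ∣ (deg (prMu L W W₁ W₂ (i * j)) : ℤ) - prSign L W W₁ W₂ j := by
  have c := h.cyclicTI
  have hω := c.mul_irr hi hj
  obtain ⟨n, hn⟩ := vchar_dot_int (sub_mem (vchar_res (irr_vchar (h.mu_irr hω)) h.le1)
    (intCast_smul_mem (prSign L W W₁ W₂ j) (vchar_res (irr_vchar hω) c.le1))) (cfOne_vchar W₁)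
  rw [cfdot_def, Finset.sum_eq_single 1 (fun x hx hx1 => by
    have hx' : x ∈ W₁ := mem_fs.mp hx
    have hx2 : x ∉ W₂ := fun h2 => hx1 (by
      have : x ∈ W₁ ⊓ W₂ := ⟨hx', h2⟩
      rwa [h.dp.inf] at this)
    rw [Pi.sub_apply, Pi.smul_apply, cfRes_of_mem _ hx', cfRes_of_mem _ hx',
      h.mu_id hi hj (c.le1 hx') hx2, smul_eq_mul, sub_self, zero_mul])
    (fun hn => absurd (mem_fs.mpr W₁.one_mem) hn)] at hn
  simp only [Pi.sub_apply, Pi.smul_apply, cfRes_apply_one, cfOne_apply_one, map_one, mul_one,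
    (c.lin hω).one, smul_eq_mul, irr_one_eq (h.mu_irr hω)] at hn
  refine ⟨n, Int.cast_injective (α := ℂ) ?_⟩
  push_cast
  rw [← hn, mul_inv_cancel_left₀ (cardC_ne_zero W₁)]
theorem sign_aut (u : ℂ →+* ℂ) (hω : ω ∈ Irr W) :
    prSign L W W₁ W₂ (cfAut u ω) = prSign L W W₁ W₂ ω := by
  have c := h.cyclicTI
  unfold prSign
  simp only [← c.iso_aut u (irr_CF hω), PF4.dirr_irr_iff ((c.iso_dirr hω).aut u),
    PF4.dirr_irr_iff (c.iso_dirr hω), cfAut_apply, vchar_aut_one (c.iso_dirr hω).vchar u]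
theorem mu_aut (u : ℂ →+* ℂ) (hω : ω ∈ Irr W) :
    prMu L W W₁ W₂ (cfAut u ω) = cfAut u (prMu L W W₁ W₂ ω) := by
  unfold prMu
  rw [h.sign_aut u hω, ← h.cyclicTI.iso_aut u (irr_CF hω), cfAut_smul, map_intCast]
/-- (4.4). -/
theorem mu_one : prMu L W W₁ W₂ (cfOne W) = cfOne L := by
  unfold prMu prSign
  rw [h.cyclicTI.iso_one, if_pos (cfOne_mem_Irr L)]; simp
theorem sign_one : prSign L W W₁ W₂ (cfOne W) = 1 := by
  unfold prSign
  rw [h.cyclicTI.iso_one, if_pos (cfOne_mem_Irr L)]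
theorem sign_I (hi : i ∈ irrK W W₂) : prSign L W W₁ W₂ i = 1 := by
  rw [← h.sign_one, ← h.sign_mul hi h.cyclicTI.one_J, mul_cfOne (irr_cfOn (irrK_sub _ _ hi))]
theorem mu_of_irrK (hχ : χ ∈ irrK L K) :
    cfRes W χ ∈ irrK W W₂ ∧ prMu L W W₁ W₂ (cfRes W χ) = χ := by
  have h1 : cfRes W χ ∈ irrK W W₂ := h.inf_W ▸ irrK_res h.sdW hχ
  refine ⟨h1, ?_⟩
  rw [prMu, h.sign_I h1, ← h.cyclicTI.eq_in_iso (irrK_sub _ _ h1) (irr_dirr (irrK_sub _ _ hχ))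
    fun x hx => (cfRes_of_mem _ hx.1).symm]
  simp
theorem mu0P : χ ∈ irrK L K ↔ ∃ i ∈ irrK W W₂, χ = prMu L W W₁ W₂ i := by
  constructor
  · intro hχ
    exact ⟨_, (h.mu_of_irrK hχ).1, (h.mu_of_irrK hχ).2.symm⟩
  · rintro ⟨i, hi, rfl⟩
    obtain ⟨χ, hχ, rfl⟩ := exists_irrK_ext h.sdW h.nml (h.inf_W.symm ▸ hi)
    rw [(h.mu_of_irrK hχ).2]; exact hχ
theorem mu0_lin (hi : i ∈ irrK W W₂) : IsLin L (prMu L W W₁ W₂ i) := by
  obtain ⟨χ, hχ, rfl⟩ := exists_irrK_ext h.sdW h.nml (h.inf_W.symm ▸ hi)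
  rw [(h.mu_of_irrK hχ).2]
  exact ⟨irrK_sub _ _ hχ, by simpa using (h.cyclicTI.lin (irrK_sub _ _ hi)).one⟩
theorem res_mu0 (hi : i ∈ irrK W W₂) : cfRes W (prMu L W W₁ W₂ i) = i := by
  obtain ⟨χ, hχ, rfl⟩ := exists_irrK_ext h.sdW h.nml (h.inf_W.symm ▸ hi)
  rw [(h.mu_of_irrK hχ).2]
theorem mu_mul (hi : i ∈ irrK W W₂) (hj : j ∈ irrK W W₁) :
    prMu L W W₁ W₂ (i * j) = prMu L W W₁ W₂ i * prMu L W W₁ W₂ j := by
  have c := h.cyclicTI
  have hd := (irr_dirr (irr_mul_lin (h.mu_irr (irrK_sub _ _ hj)) (h.mu0_lin hi))).sign_smul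
    (prSign_cases L W W₁ W₂ j)
  have e := c.eq_in_iso (c.mul_irr hi hj) hd fun x hx => by
    have e1 := h.mu_id c.one_I hj hx.1 hx.2.2
    rw [cfOne_mul (irr_cfOn (irrK_sub _ _ hj))] at e1
    have e2 := congrFun (h.res_mu0 hi) x
    rw [cfRes_of_mem _ hx.1] at e2
    rw [Pi.smul_apply, Pi.mul_apply, e1, e2, smul_eq_mul, Pi.mul_apply]
    linear_combination (j x * i x) * prSign_mul_self L W W₁ W₂ j
  rw [prMu, ← e, h.sign_mul hi hj, smul_smul, prSign_mul_self, one_smul, mul_comm]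
theorem sum_irrK {N : Type*} [AddCommMonoid N] (F : (Γ → ℂ) → N) :
    ∑ χ ∈ irrK L K, F χ = ∑ i ∈ irrK W W₂, F (prMu L W W₁ W₂ i) :=
  (Finset.sum_bij (fun i _ => prMu L W W₁ W₂ i) (fun i hi => h.mu0P.mpr ⟨i, hi, rfl⟩)
    (fun i hi i' hi' e => (h.mu_inj (irrK_sub _ _ hi) (irrK_sub _ _ hi')).mp e)
    (fun χ hχ => by obtain ⟨i, hi, e⟩ := h.mu0P.mp hχ; exact ⟨i, hi, e.symm⟩)
    fun _ _ => rfl).symm
theorem ind_res' (hj : j ∈ irrK W W₁) :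
    cfInd L K (prRes L K W W₁ W₂ j) = prRed L W W₁ W₂ j := by
  rw [prRes, cfInd_cfRes, cfInd_res_eq_sum h.nml (irr_CF (h.mu_irr (irrK_sub _ _ hj))), h.sum_irrK]
  exact Finset.sum_congr rfl fun i hi => by rw [(h.mu0_lin hi).one, one_smul, h.mu_mul hi hj]
theorem mu_red_dot' [DecidableEq (Γ → ℂ)] (hi : i ∈ irrK W W₂) (hj : j ∈ irrK W W₁)
    (hk : k ∈ irrK W W₁) :
    cfdot L (prMu L W W₁ W₂ (i * j)) (prRed L W W₁ W₂ k) = if j = k then 1 else 0 := by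
  rw [prRed, cfdot_sum_right, Finset.sum_eq_single i (fun i' hi' hne => by
    rw [h.mu_dot hi hj hi' hk, if_neg fun e => hne e.1.symm]) (fun hn => absurd hi hn),
    h.mu_dot hi hj hi hk]
  simp
theorem red_inj' (hj : j ∈ irrK W W₁) (hk : k ∈ irrK W W₁) :
    prRed L W W₁ W₂ j = prRed L W W₁ W₂ k ↔ j = k := by
  classical
  refine ⟨fun e => ?_, fun e => by rw [e]⟩
  have h1 := h.mu_red_dot' h.cyclicTI.one_I hj hj
  rw [e, h.mu_red_dot' h.cyclicTI.one_I hj hk] at h1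
  by_contra hn; simp [hn] at h1
/-- (4.5)(a). -/
theorem res_irr (hj : j ∈ irrK W W₁) : prRes L K W W₁ W₂ j ∈ Irr K := by
  have hμ := h.mu_irr (irrK_sub _ _ hj)
  refine irr_of_dot_one ((irr_char hμ).res h.nml.le) ?_
  classical
  rw [prRes, cfdot_cfRes_right, ← cfdot_cfInd_left h.nml.le _ (irr_CF hμ), ← prRes, h.ind_res' hj,
    ← conj_cfdot]
  have := h.mu_red_dot' h.cyclicTI.one_I hj hj
  rw [cfOne_mul (irr_cfOn (irrK_sub _ _ hj))] at this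
  rw [this]; simp
theorem res_mu (hi : i ∈ irrK W W₂) (hj : j ∈ irrK W W₁) :
    cfRes K (prMu L W W₁ W₂ (i * j)) = prRes L K W W₁ W₂ j := by
  rw [h.mu_mul hi hj]
  refine cfRes_congr fun x hx => ?_
  rw [Pi.mul_apply, cfker_apply ((mem_irrK.mp (h.mu0P.mpr ⟨i, hi, rfl⟩)).2 hx), (h.mu0_lin hi).one,
    one_mul]
theorem ind_res (hj : j ∈ irrK W W₁) : cfInd L K (prRes L K W W₁ W₂ j) = prRed L W W₁ W₂ j := h.ind_res' hj
theorem res_red (hj : j ∈ irrK W W₁) :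
    cfRes K (prRed L W W₁ W₂ j) = (Nat.card W₁ : ℂ) • prRes L K W W₁ W₂ j := by
  rw [← h.ind_res hj, prRes, cfInd_cfRes, cfInd_cfRes_nml h.nml (irr_CF (h.mu_irr (irrK_sub _ _ hj))),
    h.index, map_smul, cfRes_idem]
theorem red_eq_smul (hj : j ∈ irrK W W₁) :
    prRed L W W₁ W₂ j = (Nat.card W₁ : ℂ) • prRes L K W W₁ W₂ j := by
  rw [← h.ind_res hj, prRes, cfInd_cfRes, cfInd_cfRes_nml h.nml (irr_CF (h.mu_irr (irrK_sub _ _ hj))),
    h.index]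
theorem res_inertia (hj : j ∈ irrK W W₁) : inertia L (prRes L K W W₁ W₂ j) = L :=
  le_antisymm (inertia_le _ _) (le_inertia_res h.nml (irr_CF (h.mu_irr (irrK_sub _ _ hj))))
theorem res_inj (hj : j ∈ irrK W W₁) (hk : k ∈ irrK W W₁) :
    prRes L K W W₁ W₂ j = prRes L K W W₁ W₂ k ↔ j = k :=
  ⟨fun e => (h.red_inj' hj hk).mp (by rw [← h.ind_res hj, ← h.ind_res hk, e]), fun e => by rw [e]⟩
theorem red_inj (hj : j ∈ irrK W W₁) (hk : k ∈ irrK W W₁) :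
    prRed L W W₁ W₂ j = prRed L W W₁ W₂ k ↔ j = k := h.red_inj' hj hk
theorem res_one : prRes L K W W₁ W₂ (cfOne W) = cfOne K := by
  rw [prRes, h.mu_one, cfRes_cfOne h.nml.le]
theorem red_one : prRed L W W₁ W₂ (cfOne W) = cfInd L K (cfOne K) := by
  rw [← h.ind_res h.cyclicTI.one_J, h.res_one]
theorem red_char (hj : j ∈ irrK W W₁) : IsChar L (prRed L W W₁ W₂ j) :=
  isChar_sum _ fun i hi => irr_char (h.mu_irr (h.cyclicTI.mul_irr hi hj))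
theorem red_on (hj : j ∈ irrK W W₁) : prRed L W W₁ W₂ j ∈ cfOn (K : Set Γ) := by
  rw [← h.ind_res hj]; exact cfInd_mem_cfOn_nml h.nml.norm _
theorem red_mem_seqIndT (hj : j ∈ irrK W W₁) : prRed L W W₁ W₂ j ∈ seqIndT K L :=
  PF4.mem_seqIndT.mpr ⟨_, h.res_irr hj, h.ind_res hj⟩
theorem mu_apply_one (hi : i ∈ irrK W W₂) (hj : j ∈ irrK W W₁) :
    prMu L W W₁ W₂ (i * j) 1 = prMu L W W₁ W₂ j 1 := by
  rw [h.mu_mul hi hj, Pi.mul_apply, (h.mu0_lin hi).one, one_mul]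
theorem res_apply_one (j : Γ → ℂ) : prRes L K W W₁ W₂ j 1 = prMu L W W₁ W₂ j 1 :=
  cfRes_apply_one _ _
theorem red_apply_one (hi : i ∈ irrK W W₂) (hj : j ∈ irrK W W₁) :
    prRed L W W₁ W₂ j 1 = Nat.card W₁ * prMu L W W₁ W₂ (i * j) 1 := by
  rw [h.red_eq_smul hj, Pi.smul_apply, h.res_apply_one, h.mu_apply_one hi hj, smul_eq_mul]
theorem red_ne_zero (hj : j ∈ irrK W W₁) : prRed L W W₁ W₂ j ≠ 0 := by
  rw [← h.ind_res hj]; exact cfInd_ne_zero h.nml.le (h.res_irr hj)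
theorem res_aut (u : ℂ →+* ℂ) (hj : j ∈ irrK W W₁) :
    prRes L K W W₁ W₂ (cfAut u j) = cfAut u (prRes L K W W₁ W₂ j) := by
  rw [prRes, prRes, h.mu_aut u (irrK_sub _ _ hj), cfAut_cfRes]
theorem red_aut (u : ℂ →+* ℂ) (hj : j ∈ irrK W W₁) :
    prRed L W W₁ W₂ (cfAut u j) = cfAut u (prRed L W W₁ W₂ j) := by
  rw [← h.ind_res (aut_mem_irrK hj u), ← h.ind_res hj, h.res_aut u hj, cfAut_cfInd]
theorem red_not_real (hj : j ∈ irrK W W₁) (h1 : j ≠ cfOne W) :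
    conjC (prRed L W W₁ W₂ j) ≠ prRed L W W₁ W₂ j := fun e =>
  h.cyclicTI.conjC_ne (irrK_sub _ _ hj) h1
    ((h.red_inj (aut_mem_irrK hj _) hj).mp ((h.red_aut _ hj).trans e))
theorem red_dot [DecidableEq (Γ → ℂ)] (hj : j ∈ irrK W W₁) (hk : k ∈ irrK W W₁) :
    cfdot L (prRed L W W₁ W₂ j) (prRed L W W₁ W₂ k) = if j = k then (Nat.card W₁ : ℂ) else 0 := by
  conv_lhs => rw [prRed, cfdot_sum_left]
  rw [Finset.sum_congr rfl fun i hi => h.mu_red_dot' hi hj hk, Finset.sum_const, h.cyclicTI.card_I]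
  split_ifs <;> simp
theorem red_norm (hj : j ∈ irrK W W₁) : cfnorm L (prRed L W W₁ W₂ j) = Nat.card W₁ := by
  classical
  exact cfnorm_eq_of_cfdot (by rw [h.red_dot hj hj]; simp)
theorem mu_red_dot [DecidableEq (Γ → ℂ)] (hi : i ∈ irrK W W₂) (hj : j ∈ irrK W W₁)
    (hk : k ∈ irrK W W₁) :
    cfdot L (prMu L W W₁ W₂ (i * j)) (prRed L W W₁ W₂ k) = if j = k then 1 else 0 := h.mu_red_dot' hi hj hk
theorem red_not_irr (hj : j ∈ irrK W W₁) : prRed L W W₁ W₂ j ∉ Irr L := fun e => by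
  have := irr_norm e
  rw [h.red_norm hj] at this
  have h1 : Nat.card W₁ = 1 := by exact_mod_cast this
  have := h.cyclicTI.two_lt1
  omega
/-- (4.7), for `W₂`. -/
theorem not_le_cfker_res (hj : j ∈ irrK W W₁) (h1 : j ≠ cfOne W) :
    ¬ W₂ ≤ cfker K (prRes L K W W₁ W₂ j) := fun hk => by
  have c := h.cyclicTI
  have hμ := h.mu_irr (irrK_sub _ _ hj)
  have hl := c.lin (irrK_sub _ _ hj)
  rw [prRes, (irr_char hμ).cfker_res h.nml.le] at hk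
  obtain ⟨w, hw, hw1⟩ := exists_ne_one h.ne1
  have hw2 : w ∉ W₂ := fun h2 => hw1 (by
    have : w ∈ W₁ ⊓ W₂ := ⟨hw, h2⟩
    rwa [h.dp.inf] at this)
  refine h1 (dprod_irrK_inter h.dp (mem_irrK.mpr ⟨hl.irr, fun y hy => ?_⟩) hj)
  have e1 := h.mu_id c.one_I hj (c.le1 hw) hw2
  have e2 := h.mu_id c.one_I hj (W.mul_mem (c.le2 hy) (c.le1 hw))
    (fun h2 => hw2 ((W₂.mul_mem_cancel_left hy).mp h2))
  rw [cfOne_mul (irr_cfOn hl.irr)] at e1 e2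
  rw [cfker_mul_left (hk hy).2, e1, hl.apply_mul (c.le2 hy) (c.le1 hw),
    PF3.irrK_apply c.abl hj hw] at e2
  refine hl.mem_cfker.mpr ⟨c.le2 hy, ?_⟩
  linear_combination (-(prSign L W W₁ W₂ j : ℂ)) * e2 + (1 - j y) * prSign_mul_self L W W₁ W₂ j
theorem ncard_res : (prRes L K W W₁ W₂ '' (irrK W W₁ : Set (Γ → ℂ))).ncard = Nat.card W₂ := by
  rw [Set.InjOn.ncard_image fun j hj k hk e => (h.res_inj hj hk).mp e, Set.ncard_coe_finset,
    h.cyclicTI.card_J]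
/-- the `χ_j` are the irreducible characters of `K` fixed by a nonidentity element of `W₁`. -/
theorem fix_eq (hx : x ∈ W₁) (hx1 : x ≠ 1) :
    {θ | θ ∈ Irr K ∧ cfConj x θ = θ} = prRes L K W W₁ W₂ '' (irrK W W₁ : Set (Γ → ℂ)) := by
  refine (Set.eq_of_subset_of_ncard_le ?_ ?_
    ((Irr K).finite_toSet.subset fun θ hθ => hθ.1)).symm
  · rintro _ ⟨j, hj, rfl⟩
    exact ⟨h.res_irr hj, ((h.res_inertia hj).ge (h.le1 hx)).2⟩
  · have hc := h.cop.coprime_dvd_right (orderOf_dvd_card' hx)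
    rw [h.ncard_res, card_fix_irr_classes (h.sd.norm hx)]
    exact PF4.ncard_fix_classes_le (h.sd.norm hx) hc (h.cent _ (W₁.pow_mem hx _) fun e =>
      hx1 (orderOf_eq_one_iff.mp
        (Nat.eq_one_of_dvd_coprimes hc (orderOf_dvd_of_pow_eq_one e) dvd_rfl))).le
/-- (4.5)(b). -/
theorem res_irr_cases (hθ : θ ∈ Irr K) :
    (∃ j ∈ irrK W W₁, θ = prRes L K W W₁ W₂ j) ∨
      (cfInd L K θ ∈ Irr L ∧ ∀ ω ∈ Irr W, cfInd L K θ ≠ prMu L W W₁ W₂ ω) := by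
  have c := h.cyclicTI
  by_cases hI : inertia L θ ≤ K
  · refine Or.inr ⟨inertia_ind_irr h.nml hθ hI, fun ω hω e => ?_⟩
    obtain ⟨i, hi, j, hj, rfl⟩ := c.exists_ij hω
    obtain ⟨w, hw, hw1⟩ := exists_ne_one h.ne1
    have hwK : w ∉ K := fun h2 => hw1 (by
      have : w ∈ K ⊓ W₁ := ⟨h2, hw⟩
      rwa [h.sd.inf] at this)
    have e1 := h.mu_id hi hj (c.le1 hw) (fun h2 => hwK (h.le2 h2))
    rw [← e, cfInd_mem_cfOn_nml h.nml.norm θ w hwK] at e1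
    refine mul_ne_zero (left_ne_zero_of_mul_eq_one (prSign_mul_self L W W₁ W₂ j))
      ((c.lin hω).apply_ne_zero (c.le1 hw)) e1.symm
  · left
    obtain ⟨g, hg, hgK⟩ := SetLike.not_le_iff_exists.mp hI
    obtain ⟨k, hk, w, hw, rfl⟩ := h.sd.isProd.mul g (inertia_le _ _ hg)
    have hw1 : w ≠ 1 := by rintro rfl; exact hgK (by simpa using hk)
    have hwI : w ∈ inertia L θ :=
      (Subgroup.mul_mem_cancel_left _ (le_inertia h.nml.le (irr_CF hθ) hk)).mp hg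
    have := (h.fix_eq hw hw1).subset ⟨hθ, hwI.2⟩
    obtain ⟨j, hj, e⟩ := this
    exact ⟨j, hj, e.symm⟩
theorem mu_cases (hχ : χ ∈ Irr L) :
    (∃ i ∈ irrK W W₂, ∃ j ∈ irrK W W₁, χ = prMu L W W₁ W₂ (i * j)) ∨
      ∃ θ ∈ Irr K, χ = cfInd L K θ := by
  obtain ⟨θ, hθ, h0⟩ := exists_irr_under h.nml.le hχ
  rw [← cfdot_cfInd_right h.nml.le (irr_CF hχ)] at h0
  rcases h.res_irr_cases hθ with ⟨j, hj, rfl⟩ | ⟨h1, -⟩
  · rw [h.ind_res hj, prRed, cfdot_sum_right] at h0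
    obtain ⟨i, hi, h2⟩ := Finset.exists_ne_zero_of_sum_ne_zero h0
    exact Or.inl ⟨i, hi, j, hj, irr_eq_of_dot_ne hχ (h.mu_irr (h.cyclicTI.mul_irr hi hj)) h2⟩
  · exact Or.inr ⟨θ, hθ, irr_eq_of_dot_ne hχ h1 h0⟩
theorem seqIndT_cases (hφ : φ ∈ seqIndT K L) :
    (∃ j ∈ irrK W W₁, φ = prRed L W W₁ W₂ j) ∨
      (φ ∈ Irr L ∧ ∀ ω ∈ Irr W, cfdot L (prMu L W W₁ W₂ ω) φ = 0) := by
  obtain ⟨θ, hθ, rfl⟩ := PF4.mem_seqIndT.mp hφ
  rcases h.res_irr_cases hθ with ⟨j, hj, rfl⟩ | ⟨h1, h2⟩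
  · exact Or.inl ⟨j, hj, h.ind_res hj⟩
  · exact Or.inr ⟨h1, fun ω hω => irr_dot_ne (h.mu_irr hω) h1 (h2 ω hω).symm⟩
/-- the number of `L`-invariant irreducible characters of `K` is `|W₂|`. -/
theorem card_invariant : {θ | θ ∈ Irr K ∧ cfInd L K θ ∉ Irr L}.ncard = Nat.card W₂ := by
  rw [← h.ncard_res]
  congr 1
  ext θ
  constructor
  · rintro ⟨h1, h2⟩
    rcases h.res_irr_cases h1 with ⟨j, hj, rfl⟩ | ⟨h3, -⟩
    · exact ⟨j, hj, rfl⟩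
    · exact absurd h3 h2
  · rintro ⟨j, hj, rfl⟩
    exact ⟨h.res_irr hj, by rw [h.ind_res hj]; exact h.red_not_irr hj⟩
theorem sub2_eq (hi : i ∈ irrK W W₂) (hj : j ∈ irrK W W₁) :
    (prSign L W W₁ W₂ j : ℂ) • prMu L W W₁ W₂ (i * j) - (prSign L W W₁ W₂ j : ℂ) • prMu L W W₁ W₂ j -
      prMu L W W₁ W₂ i + cfOne L = cfInd L W (cfOne W - i - j + i * j) := by
  have c := h.cyclicTI
  rw [← c.iso_Ind (c.alpha_on hi hj), map_add, map_sub, map_sub, c.iso_one, h.iso_eq hi hj,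
    PF4.iso_eq_smul L W W₁ W₂ i, PF4.iso_eq_smul L W W₁ W₂ j, h.sign_I hi, Int.cast_one, one_smul]
  abel

end PrimeTI

namespace PrimeDade
variable {A A₀ : Set Γ} {R : Γ → Subgroup Γ} (h : PrimeDade L K H W W₁ W₂ A A₀ R)
include h

theorem sub0 : A ⊆ A₀ := h.defA0 ▸ Set.subset_union_left
theorem V_sub0 : cycV W W₁ W₂ ⊆ A₀ := h.defA0 ▸ (subset_classSupp _ L).trans Set.subset_union_right
theorem H_sub : shp H ⊆ A := fun x hx => h.cent_sub x hx.1 hx.2 x (h.leK hx.1) hx.2 rfl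
theorem V_disj (hx : x ∈ cycV W W₁ W₂) : x ∉ K := fun hK => hx.2.2 (h.pr.inf_W ▸ ⟨hK, hx.1⟩)
theorem R_V (hx : x ∈ cycV W W₁ W₂) : R x = ⊥ :=
  Dade_R_eq_bot h.dade (h.V_sub0 hx) fun g hg => h.pr.leW (h.cyc.nti.cent_le hx ⟨trivial, hg⟩)
theorem dadeA : DadeHypothesis A L R := restr_Dade_hyp h.dade h.sub0 h.normA
/-- the Dade image of a class function supported on `A` vanishes on `V`. -/
theorem Dade_V (hφ : φ ∈ CFon L A) (hx : x ∈ cycV W W₁ W₂) : Dade A₀ L R φ x = 0 := by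
  rw [Dade_id h.dade hφ.1 (h.V_sub0 hx), hφ.2 x fun hA => h.V_disj hx (h.subK x hA).1]
/-- (4.7). -/
theorem irr_on (hθ : θ ∈ Irr K) (hk : ¬ H ≤ cfker K θ) : θ ∈ cfOn (insert 1 A) := fun x hx => by
  by_cases hxK : x ∈ K
  · simp only [Set.mem_insert_iff, not_or] at hx
    refine irr_reg_off_ker_0 (h.nmlH.of_le h.leK h.pr.nml.le) hθ hk hxK ?_
    by_contra hn
    obtain ⟨y, hy, hy1⟩ := exists_ne_one hn
    exact hx.2 (h.cent_sub y hy.1 hy1 x hxK hx.1 (mem_C1.mp hy.2).symm)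
  · exact irr_cfOn hθ x hxK
theorem ind_irr_on (hθ : θ ∈ Irr K) (hk : ¬ H ≤ cfker K θ) :
    cfInd L K θ ∈ cfOn (insert 1 A) :=
  cfInd_mem_cfOn_of_conj L K (h.irr_on hθ hk) fun g hg a ha => by
    rcases ha with rfl | ha
    · simp
    · exact Or.inr (h.normA g hg a ha)
theorem seqIndD_on {M : Subgroup Γ} (hφ : φ ∈ seqIndD K L H M) : φ ∈ cfOn (insert 1 A) := by
  obtain ⟨θ, hθ, rfl⟩ := PF4.mem_seqIndD.mp hφ
  exact h.ind_irr_on (mem_irrKD.mp hθ).1 (mem_irrKD.mp hθ).2.2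
theorem zsp0_on {S : Finset (Γ → ℂ)} (hS : S ⊆ seqIndD K L H ⊥) (hφ : φ ∈ zsp0 S) :
    φ ∈ CFon L A := by
  obtain ⟨h1, h2⟩ := mem_zsp0.mp hφ
  refine ⟨zsp_le_C (fun ψ hψ => ?_) h1,
    cfOn_of_insert_one (zsp_le_C (fun ψ hψ => h.seqIndD_on (hS hψ)) h1) h2⟩
  obtain ⟨θ, -, rfl⟩ := PF4.mem_seqIndD.mp (hS hψ)
  exact cfInd_mem_CF _ _ _
theorem not_le_cfker_res (hj : j ∈ irrK W W₁) (h1 : j ≠ cfOne W) :
    ¬ H ≤ cfker K (prRes L K W W₁ W₂ j) := fun e => h.pr.not_le_cfker_res hj h1 (h.le2.trans e)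
theorem red_mem (hj : j ∈ irrK W W₁) (h1 : j ≠ cfOne W) :
    prRed L W W₁ W₂ j ∈ seqIndD K L H ⊥ :=
  PF4.mem_seqIndD.mpr ⟨_, mem_irrKD.mpr ⟨h.pr.res_irr hj, bot_le, h.not_le_cfker_res hj h1⟩,
    h.pr.ind_res hj⟩
theorem res_on (hj : j ∈ irrK W W₁) (h1 : j ≠ cfOne W) :
    prRes L K W W₁ W₂ j ∈ cfOn (insert 1 A) := h.irr_on (h.pr.res_irr hj) (h.not_le_cfker_res hj h1)
theorem red_on (hj : j ∈ irrK W W₁) (h1 : j ≠ cfOne W) :
    prRed L W W₁ W₂ j ∈ cfOn (insert 1 A) := h.seqIndD_on (h.red_mem hj h1)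
/-- (4.8). -/
theorem sign_eq (hi : i ∈ irrK W W₂) (hj : j ∈ irrK W W₁) (hk : k ∈ irrK W W₁)
    (hd : prMu L W W₁ W₂ (i * j) 1 = prMu L W W₁ W₂ (i * k) 1) :
    prSign L W W₁ W₂ j = prSign L W W₁ W₂ k := by
  have d1 := h.pr.mu_one_mod hi hj
  have d2 := h.pr.mu_one_mod hi hk
  rw [deg_congr hd] at d1
  have d3 := dvd_sub d2 d1
  have := h.cyc.two_lt1
  rcases prSign_cases L W W₁ W₂ j with e1 | e1 <;> rcases prSign_cases L W W₁ W₂ k with e2 | e2 <;>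
    rw [e1, e2] at d3 ⊢
  · have := Int.le_of_dvd (by omega) d3; omega
  · have := Int.le_of_dvd (by omega) (dvd_neg.mpr d3); omega
theorem sub_mu_on (hi : i ∈ irrK W W₂) (hj : j ∈ irrK W W₁) (hk : k ∈ irrK W W₁)
    (hj1 : j ≠ cfOne W) (hk1 : k ≠ cfOne W)
    (hd : prMu L W W₁ W₂ (i * j) 1 = prMu L W W₁ W₂ (i * k) 1) :
    prMu L W W₁ W₂ (i * j) - prMu L W W₁ W₂ (i * k) ∈ CFon L A₀ := by
  have c := h.pr.cyclicTI
  have hc := sub_mem (irr_CF (h.pr.mu_irr (c.mul_irr hi hj))) (irr_CF (h.pr.mu_irr (c.mul_irr hi hk)))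
  refine ⟨hc, fun x hx => ?_⟩
  by_cases hxL : x ∈ L
  swap
  · exact CF_zero hc hxL
  by_cases hxK : x ∈ K
  · by_cases hx1 : x = 1
    · rw [hx1, Pi.sub_apply, hd, sub_self]
    · have hxA : x ∉ insert 1 A := by
        rintro (e | e); exacts [hx1 e, hx (h.sub0 e)]
      rw [Pi.sub_apply, ← cfRes_of_mem (prMu L W W₁ W₂ (i * j)) hxK,
        ←
        cfRes_of_mem (prMu L W W₁ W₂ (i * k)) hxK,
        h.pr.res_mu hi hj, h.pr.res_mu hi hk, h.res_on hj hj1 x hxA, h.res_on hk hk1 x hxA, sub_self]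
  · obtain ⟨g, hg, hy, hy2⟩ := h.pr.exists_conj_mem hxL hxK
    rw [← CF_conj hc hg x]
    by_cases hy1 : g * x * g⁻¹ ∈ W₁
    · rw [Pi.sub_apply, h.pr.mu_id hi hj hy hy2, h.pr.mu_id hi hk hy hy2, h.sign_eq hi hj hk hd,
        Pi.mul_apply, Pi.mul_apply, PF3.irrK_apply c.abl hj hy1, PF3.irrK_apply c.abl hk hy1,
        sub_self]
    · exact absurd (h.defA0 ▸ Or.inr ⟨_, ⟨hy, hy1, hy2⟩, g⁻¹, L.inv_mem hg, by group⟩) hx
theorem sub_mu (hi : i ∈ irrK W W₂) (hj : j ∈ irrK W W₁) (hk : k ∈ irrK W W₁)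
    (hj1 : j ≠ cfOne W) (hk1 : k ≠ cfOne W)
    (hd : prMu L W W₁ W₂ (i * j) 1 = prMu L W W₁ W₂ (i * k) 1) :
    Dade A₀ L R (prMu L W W₁ W₂ (i * j) - prMu L W W₁ W₂ (i * k)) =
      (prSign L W W₁ W₂ j : ℂ) • (eta W W₁ W₂ (i * j) - eta W W₁ W₂ (i * k)) := by
  by_cases e : j = k
  · subst e; simp
  have c := h.pr.cyclicTI
  have hon := h.sub_mu_on hi hj hk hj1 hk1 hd
  have m1 := h.pr.mu_irr (c.mul_irr hi hj)
  have m2 := h.pr.mu_irr (c.mul_irr hi hk)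
  refine h.cyc.eq_signed_sub (Dade_vchar h.dade (sub_mem (irr_vchar m1) (irr_vchar m2)) hon.2) ?_
    (prSign_cases L W W₁ W₂ j) hi hj hk e fun x hx => ?_
  · rw [cfnorm_Dade h.dade hon, cfnorm_sub_orth, irr_norm m1, irr_norm m2]
    · norm_num
    · classical
      rw [h.pr.mu_dot hi hj hi hk, if_neg fun e' => e e'.2]
  · rw [Dade_id h.dade hon.1 (h.V_sub0 hx), Pi.sub_apply, h.pr.mu_id hi hj hx.1 hx.2.2,
      h.pr.mu_id hi hk hx.1 hx.2.2, ← h.sign_eq hi hj hk hd, mul_sub]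
/-- (4.9)(b), for a pair. -/
theorem sub_red (hj : j ∈ irrK W W₁) (hk : k ∈ irrK W W₁) (hj1 : j ≠ cfOne W) (hk1 : k ≠ cfOne W)
    (hd : prRed L W W₁ W₂ j 1 = prRed L W W₁ W₂ k 1) :
    Dade A₀ L R (prRed L W W₁ W₂ j - prRed L W W₁ W₂ k) = (prSign L W W₁ W₂ j : ℂ) •
      (∑ i ∈ irrK W W₂, eta W W₁ W₂ (i * j) - ∑ i ∈ irrK W W₂, eta W W₁ W₂ (i * k)) := by
  rw [prRed, prRed, ← Finset.sum_sub_distrib, ← Finset.sum_sub_distrib, map_sum, Finset.smul_sum]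
  refine Finset.sum_congr rfl fun i hi => h.sub_mu hi hj hk hj1 hk1 ?_
  rw [h.pr.red_apply_one hi hj, h.pr.red_apply_one hi hk] at hd
  exact mul_left_cancel₀ (cardC_ne_zero W₁) hd
/-- (4.9). -/
theorem uniform_coherent (hk : k ∈ irrK W W₁) (hk1 : k ≠ cfOne W) :
    ∃ τ₁ : (Γ → ℂ) →ₗ[ℂ] (Γ → ℂ), CohWith L ⊤ (prUnif L W W₁ W₂ k) (Dade A₀ L R) τ₁ ∧
      ∀ j ∈ irrK W W₁, τ₁ (prRed L W W₁ W₂ j) =
        (prSign L W W₁ W₂ k : ℂ) • ∑ i ∈ irrK W W₂, eta W W₁ W₂ (i * j) := by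
  classical
  have c := h.pr.cyclicTI
  let τ : (Γ → ℂ) →ₗ[ℂ] (Γ → ℂ) :=
    { toFun := fun φ => ∑ ω ∈ Irr W, cfdot L φ (prMu L W W₁ W₂ ω) • eta W W₁ W₂ ω
      map_add' := fun φ ψ => by simp [add_smul, Finset.sum_add_distrib]
      map_smul' := fun a φ => by simp [Finset.smul_sum, smul_smul] }
  have hτ : ∀ ω ∈ Irr W, τ (prMu L W W₁ W₂ ω) = eta W W₁ W₂ ω := fun ω hω => by
    change ∑ ω' ∈ Irr W, _ = _
    rw [Finset.sum_eq_single ω (fun ω' hω' hne => by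
      rw [irr_dot_ne (h.pr.mu_irr hω) (h.pr.mu_irr hω')
        (fun e => hne ((h.pr.mu_inj hω hω').mp e).symm), zero_smul]) (fun hn => absurd hω hn),
      irr_dot_self (h.pr.mu_irr hω), one_smul]
  set δ : ℂ := (prSign L W W₁ W₂ k : ℂ) with hδ
  have h1 : ∀ j ∈ irrK W W₁, (δ • τ) (prRed L W W₁ W₂ j) =
      δ • ∑ i ∈ irrK W W₂, eta W W₁ W₂ (i * j) := fun j hj => by
    rw [LinearMap.smul_apply, prRed, map_sum]
    exact congrArg _ (Finset.sum_congr rfl fun i hi => hτ _ (c.mul_irr hi hj))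
  refine ⟨δ • τ, ⟨ZIsom.of_gen (fun φ hφ ψ hψ => ?_) fun φ hφ => ?_, fun φ hφ => ?_⟩, h1⟩
  · obtain ⟨j, hj, -, -, rfl⟩ := mem_prUnif.mp hφ
    obtain ⟨l, hl, -, -, rfl⟩ := mem_prUnif.mp hψ
    rw [h1 j hj, h1 l hl, h.pr.red_dot hj hl, cfdot_smul_left, cfdot_smul_right, cfdot_sum_right,
      Finset.sum_congr rfl fun i hi => h.cyc.dot_col hj hi hl, Finset.sum_const, c.card_I, hδ,
      map_intCast, ← mul_assoc, prSign_mul_self]
    split_ifs <;> simp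
  · obtain ⟨j, hj, -, -, rfl⟩ := mem_prUnif.mp hφ
    rw [h1 j hj]
    exact intCast_smul_mem _ (Submodule.sum_mem _ fun i hi =>
      (h.cyc.iso_dirr (c.mul_irr hi hj)).vchar)
  · obtain ⟨hφ1, hφ2⟩ := mem_zsp0.mp hφ
    have hk0 : prRed L W W₁ W₂ k 1 ≠ 0 := fun e =>
      h.pr.red_ne_zero hk ((h.pr.red_char hk).eq_zero_of_one e)
    have := map_eq_of_zsp (f := δ • τ - Dade A₀ L R)
      (g := (LinearMap.proj (R := ℂ) (φ := fun _ : Γ => ℂ) (1 : Γ)).smulRight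
        ((prRed L W W₁ W₂ k 1)⁻¹ • (δ • τ - Dade A₀ L R) (prRed L W W₁ W₂ k)))
      (fun ψ hψ => by
        obtain ⟨j, hj, hj1, hd, rfl⟩ := mem_prUnif.mp hψ
        have e := h.sub_red hk hj hk1 hj1 hd.symm
        rw [smul_sub, ← hδ, ← h1 j hj, ← h1 k hk, map_sub] at e
        rw [LinearMap.smulRight_apply, LinearMap.proj_apply, hd, smul_smul, mul_inv_cancel₀ hk0,
          one_smul, LinearMap.sub_apply, LinearMap.sub_apply]
        linear_combination e) hφ1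
    rw [LinearMap.smulRight_apply, LinearMap.proj_apply, hφ2, zero_smul, LinearMap.sub_apply,
      sub_eq_zero] at this
    exact this
/-- (4.10). -/
theorem sub2_on (hi : i ∈ irrK W W₂) (hj : j ∈ irrK W W₁) :
    (prSign L W W₁ W₂ j : ℂ) • prMu L W W₁ W₂ (i * j) - (prSign L W W₁ W₂ j : ℂ) • prMu L W W₁ W₂ j -
      prMu L W W₁ W₂ i + cfOne L ∈ CFon L (classSupp (cycV W W₁ W₂) L) := by
  rw [h.pr.sub2_eq hi hj]
  exact ⟨cfInd_mem_CF _ _ _, cfInd_mem_cfOn_classSupp L W (h.cyc.alpha_on hi hj).2⟩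
theorem sub2 (hi : i ∈ irrK W W₂) (hj : j ∈ irrK W W₁) :
    Dade A₀ L R ((prSign L W W₁ W₂ j : ℂ) • prMu L W W₁ W₂ (i * j) -
        (prSign L W W₁ W₂ j : ℂ) • prMu L W W₁ W₂ j - prMu L W W₁ W₂ i + cfOne L) =
      eta W W₁ W₂ (i * j) - eta W W₁ W₂ j - eta W W₁ W₂ i + cfOne ⊤ := by
  have ht : NTI ⊤ L (classSupp (cycV W W₁ W₂) L) := by
    refine ⟨le_top, ?_, ?_, ?_⟩
    · rintro _ ⟨a, ha, g, hg, rfl⟩
      exact L.mul_mem (L.mul_mem hg (h.pr.leW ha.1)) (L.inv_mem hg)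
    · rintro g hg _ ⟨a, ha, y, hy, rfl⟩
      exact ⟨a, ha, g * y, L.mul_mem hg hy, by group⟩
    · rintro _ ⟨a, ha, y, hy, rfl⟩ g - ⟨b, hb, z, hz, e⟩
      have : z⁻¹ * g * y ∈ W := h.cyc.ti a ha _ trivial (by
        rw [show z⁻¹ * g * y * a * (z⁻¹ * g * y)⁻¹ = z⁻¹ * (g * (y * a * y⁻¹) * g⁻¹) * z by group,
          e]
        simpa [mul_assoc] using hb)
      have h2 := L.mul_mem (L.mul_mem hz (h.pr.leW this)) (L.inv_mem hy)
      simpa [mul_assoc] using h2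
  rw [Dade_Ind h.dade (h.defA0 ▸ Set.subset_union_right) ht (h.sub2_on hi hj), h.pr.sub2_eq hi hj,
    cfInd_cfInd h.pr.leW le_top, ← h.cyc.iso_Ind (h.cyc.alpha_on hi hj), map_add, map_sub, map_sub,
    h.cyc.iso_one]
  abel

end PrimeDade

end H27
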