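import Mathlib
import Cfsg.Agent.H27.PF2
import Cfsg.Agent.H2.SeqInd1

/-!
# Peterfalvi §5, part (a): sets of induced characters.
-/

set_option autoImplicit false
set_option linter.unusedSectionVars false
set_option linter.unusedVariables false

namespace H27

open Cfsg H24
open scoped ComplexConjugate

universe u v

variable {Γ : Type u} [Group Γ] [Finite Γ] {Γ' : Type v} [Group Γ'] [Finite Γ']

section seqInd
variable {K L H M H' M' : Subgroup Γ} {φ ψ θ α : Γ → ℂ} {S : Finset (Γ → ℂ)}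

theorem mem_seqIndT : φ ∈ seqIndT K L ↔ ∃ θ ∈ Irr K, φ = cfInd L K θ := by
  rw [H2.mem_seqIndT']; simp only [eq_comm]
theorem mem_seqIndD : φ ∈ seqIndD K L H M ↔
    ∃ θ ∈ Irr K, M ≤ cfker K θ ∧ ¬ H ≤ cfker K θ ∧ φ = cfInd L K θ := by
  classical
  unfold seqIndD
  simp only [Finset.mem_image, mem_irrKD]
  constructor
  · rintro ⟨θ, ⟨h1, h2, h3⟩, rfl⟩; exact ⟨θ, h1, h2, h3, rfl⟩
  · rintro ⟨θ, h1, h2, h3, rfl⟩; exact ⟨θ, ⟨h1, h2, h3⟩, rfl⟩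
theorem cfInd_mem_seqIndT (L : Subgroup Γ) (hθ : θ ∈ Irr K) : cfInd L K θ ∈ seqIndT K L :=
  mem_seqIndT.mpr ⟨θ, hθ, rfl⟩
theorem cfInd_mem_seqIndD (L : Subgroup Γ) (hθ : θ ∈ irrKD K H M) :
    cfInd L K θ ∈ seqIndD K L H M :=
  have h := mem_irrKD.mp hθ
  mem_seqIndD.mpr ⟨θ, h.1, h.2.1, h.2.2, rfl⟩
/-- MathComp `mem_seqInd`. -/
theorem cfInd_mem_seqIndD_iff (hK : K ⊴ L) (hH : L ≤ N[H]) (hM : L ≤ N[M]) (hθ : θ ∈ Irr K) :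
    cfInd L K θ ∈ seqIndD K L H M ↔ M ≤ cfker K θ ∧ ¬ H ≤ cfker K θ := by
  refine ⟨fun h => ?_, fun h => mem_seqIndD.mpr ⟨θ, hθ, h.1, h.2, rfl⟩⟩
  obtain ⟨ξ, h1, h2, h3, h4⟩ := mem_seqIndD.mp h
  have hc := (cfInd_eq_iff_cfclass hK h1 hθ).mp h4
  rw [cfclass_le_cfker hK.norm hM hc, cfclass_le_cfker hK.norm hH hc]
  exact ⟨h2, h3⟩
theorem mem_seqIndD_iff_ker (hKL : K ≤ L) (hH : H ⊴ L) (hM : M ⊴ L) :
    φ ∈ seqIndD K L H M ↔ φ ∈ seqIndT K L ∧ M ≤ cfker L φ ∧ ¬ H ≤ cfker L φ := by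
  rw [mem_seqIndD, mem_seqIndT]
  constructor
  · rintro ⟨θ, h1, h2, h3, rfl⟩
    exact ⟨⟨θ, h1, rfl⟩, (le_cfker_ind_iff hM hKL h1).mpr h2,
      fun h => h3 ((le_cfker_ind_iff hH hKL h1).mp h)⟩
  · rintro ⟨⟨θ, h1, rfl⟩, h2, h3⟩
    exact ⟨θ, h1, (le_cfker_ind_iff hM hKL h1).mp h2,
      fun h => h3 ((le_cfker_ind_iff hH hKL h1).mpr h), rfl⟩
theorem seqIndD_subT (K L H M : Subgroup Γ) : seqIndD K L H M ⊆ seqIndT K L := fun φ h => by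
  obtain ⟨θ, h1, -, -, rfl⟩ := mem_seqIndD.mp h
  exact cfInd_mem_seqIndT L h1
theorem seqIndD_mono (K L : Subgroup Γ) (hH : H ≤ H') (hM : M' ≤ M) :
    seqIndD K L H M ⊆ seqIndD K L H' M' := fun φ h => by
  obtain ⟨θ, h1, h2, h3, rfl⟩ := mem_seqIndD.mp h
  exact mem_seqIndD.mpr ⟨θ, h1, hM.trans h2, fun h => h3 (hH.trans h), rfl⟩
theorem seqInd_char (hKL : K ≤ L) (hφ : φ ∈ seqIndT K L) : IsChar L φ := H2.seqIndT_char hKL hφ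
theorem seqInd_vchar (hKL : K ≤ L) (hφ : φ ∈ seqIndT K L) : φ ∈ vchar L :=
  (seqInd_char hKL hφ).vchar
theorem seqInd_CF (hφ : φ ∈ seqIndT K L) : φ ∈ CF L := H2.seqIndT_CF hφ
theorem seqInd_on (hK : K ⊴ L) (hφ : φ ∈ seqIndT K L) : φ ∈ cfOn (K : Set Γ) :=
  H2.seqIndT_cfOn hK hφ
theorem seqInd_ne_zero (hKL : K ≤ L) (hφ : φ ∈ seqIndT K L) : φ ≠ 0 := H2.seqIndT_ne_zero hKL hφ
theorem seqInd_norm_pos (hKL : K ≤ L) (hφ : φ ∈ seqIndT K L) : 0 < cfnorm L φ :=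
  H2.seqIndT_norm_pos hKL hφ
theorem seqInd_deg_pos (hKL : K ≤ L) (hφ : φ ∈ seqIndT K L) : 0 < deg φ :=
  (seqInd_char hKL hφ).deg_pos (seqInd_ne_zero hKL hφ)
theorem dvd_index_seqInd1 (hKL : K ≤ L) (hφ : φ ∈ seqIndT K L) : K.relIndex L ∣ deg φ := by
  obtain ⟨θ, h1, rfl⟩ := mem_seqIndT.mp hφ
  rw [(irr_char h1).deg_ind hKL]
  exact Dvd.intro _ rfl
theorem seqInd_orth (hK : K ⊴ L) : PwOrth L (seqIndT K L) := H2.seqIndT_orth hK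
theorem seqIndD_orth (hK : K ⊴ L) (H M : Subgroup Γ) : PwOrth L (seqIndD K L H M) :=
  (seqInd_orth hK).mono (seqIndD_subT K L H M)
theorem cfAut_seqIndT (u : ℂ →+* ℂ) (hφ : φ ∈ seqIndT K L) : cfAut u φ ∈ seqIndT K L := by
  obtain ⟨θ, h1, rfl⟩ := mem_seqIndT.mp hφ
  rw [cfAut_cfInd]
  exact cfInd_mem_seqIndT L (irr_aut h1 u)
theorem cfAut_seqIndD (u : ℂ →+* ℂ) (hφ : φ ∈ seqIndD K L H M) : cfAut u φ ∈ seqIndD K L H M := by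
  obtain ⟨θ, h1, h2, h3, rfl⟩ := mem_seqIndD.mp hφ
  rw [cfAut_cfInd]
  exact cfInd_mem_seqIndD L (aut_mem_irrKD (mem_irrKD.mpr ⟨h1, h2, h3⟩) u)
theorem seqInd_aut_one (hKL : K ≤ L) (u : ℂ →+* ℂ) (hφ : φ ∈ seqIndT K L) : cfAut u φ 1 = φ 1 :=
  vchar_aut_one (seqInd_vchar hKL hφ) u
theorem ConjSub.refl (h : ∀ φ ∈ S, conjC φ ∈ S) : ConjSub S S := ⟨Finset.Subset.refl _, h⟩
theorem ConjSub.trans {S₁ S₂ S₃ : Finset (Γ → ℂ)} (h : ConjSub S₁ S₂) (h' : S₂ ⊆ S₃) :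
    ConjSub S₁ S₃ := ⟨h.sub.trans h', h.conj_mem⟩
theorem ConjSub.irrPart {S₁ : Finset (Γ → ℂ)} (h : ConjSub S₁ S) : ConjSub (irrPart L S₁) S :=
  ⟨fun _ hφ => h.sub (mem_irrPart.mp hφ).1, fun φ hφ =>
    mem_irrPart.mpr ⟨h.conj_mem φ (mem_irrPart.mp hφ).1, irr_conjC (mem_irrPart.mp hφ).2⟩⟩
theorem seqIndD_conjSub (K L : Subgroup Γ) (hH : H ≤ H') (hM : M' ≤ M) :
    ConjSub (seqIndD K L H M) (seqIndD K L H' M') :=
  ⟨seqIndD_mono K L hH hM, fun _ hφ => cfAut_seqIndD _ hφ⟩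
theorem seqIndD_subC1 (hH : H ≤ K) (hφ : φ ∈ seqIndD K L H M) : φ ∈ seqIndD K L K ⊥ :=
  seqIndD_mono K L hH bot_le hφ
theorem seqInd_conjC_ortho (hK : K ⊴ L) (hodd : Odd (Nat.card L)) (hH : H ≤ K)
    (hφ : φ ∈ seqIndD K L H M) : cfdot L φ (conjC φ) = 0 :=
  H2.seqIndC1_dot_conjC hK hodd (seqIndD_subC1 hH hφ)
theorem seqInd_conjC_ne (hK : K ⊴ L) (hodd : Odd (Nat.card L)) (hH : H ≤ K)
    (hφ : φ ∈ seqIndD K L H M) : conjC φ ≠ φ :=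
  H2.seqIndC1_conjC_ne hK hodd (seqIndD_subC1 hH hφ)
theorem seqInd_ortho_one (hKL : K ≤ L) (hH : H ≤ K) (hφ : φ ∈ seqIndD K L H M) :
    cfdot L φ (cfOne L) = 0 := H2.seqIndC1_dot_cfOne hKL (seqIndD_subC1 hH hφ)
theorem seqInd_ortho_Ind1 (hK : K ⊴ L) (hH : H ≤ K) (hφ : φ ∈ seqIndD K L H M) :
    cfdot L φ (cfInd L K (cfOne K)) = 0 := H2.seqIndC1_dot_ind1 hK (seqIndD_subC1 hH hφ)
theorem Ind1_not_mem_seqIndD (hK : K ⊴ L) (hH : H ≤ K) (M : Subgroup Γ) :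
    cfInd L K (cfOne K) ∉ seqIndD K L H M := fun h =>
  H2.ind1_not_mem_seqIndC1 hK.le (seqIndD_subC1 hH h)
theorem mem_seqIndC1 : φ ∈ seqIndD K L K ⊥ ↔ ∃ θ ∈ Irr K, θ ≠ cfOne K ∧ φ = cfInd L K θ := by
  rw [H2.mem_seqIndC1]; simp only [eq_comm]
theorem seqIndT_eq_insert [DecidableEq (Γ → ℂ)] (K L : Subgroup Γ) :
    seqIndT K L = insert (cfInd L K (cfOne K)) (seqIndD K L K ⊥) := by
  ext ξ
  rw [Finset.mem_insert]
  exact ⟨H2.seqIndT_cases, fun h => h.elim (fun e => e ▸ H2.ind1_mem_seqIndT K L) H2.seqIndC1_sub⟩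
theorem zsp_seqInd_vchar (hKL : K ≤ L) (hS : S ⊆ seqIndT K L) (hα : α ∈ zsp S) : α ∈ vchar L :=
  zsp_le_vchar (fun _ h => seqInd_vchar hKL (hS h)) hα
theorem zsp_seqInd_on (hK : K ⊴ L) (hS : S ⊆ seqIndT K L) (hα : α ∈ zsp S) :
    α ∈ CFon L (K : Set Γ) :=
  zsp_le_C (fun _ h => mem_CFon.mpr ⟨seqInd_CF (hS h), seqInd_on hK (hS h)⟩) hα
theorem zsp0_seqInd_on (hK : K ⊴ L) (hS : S ⊆ seqIndT K L) (hα : α ∈ zsp0 S) :
    α ∈ CFon L (shp K) := H2.zsp0_seqIndT_CFon1 hK hS hα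
theorem sub_conjC_mem_zsp0 (hφ : φ ∈ S) (hc : conjC φ ∈ S) (hv : φ ∈ vchar L) :
    φ - conjC φ ∈ zsp0 S :=
  sub_mem_zsp0 (mem_zsp_of_mem hφ) (mem_zsp_of_mem hc) (vchar_conj_one hv).symm
/-- MathComp `seqInd_sub_lin_vchar`. -/
theorem seqInd_sub_lin (hKL : K ≤ L) (hS : S ⊆ seqIndT K L) (hφ : φ ∈ S) (hψ : ψ ∈ S)
    (h1 : φ 1 = K.relIndex L) :
    ∃ d : ℕ, ψ 1 = d * φ 1 ∧ ψ - (d : ℂ) • φ ∈ zsp0 S := by
  obtain ⟨d, -, hd⟩ := H2.seqIndT_one hKL (hS hψ)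
  rw [← h1] at hd
  exact ⟨d, hd, sub_mem_zsp0 (mem_zsp_of_mem hψ) (natCast_smul_mem d (mem_zsp_of_mem hφ))
    (by simp [hd])⟩
theorem seqIndD_nonempty (L : Subgroup Γ) (hM : M ⊴ K) (h : ¬ H ≤ M) :
    (seqIndD K L H M).Nonempty := by
  obtain ⟨θ, hθ⟩ := irrKD_nonempty hM h
  exact ⟨_, cfInd_mem_seqIndD L hθ⟩
theorem one_lt_card_seqIndD (hK : K ⊴ L) (hodd : Odd (Nat.card L)) (hH : H ≤ K)
    (hφ : φ ∈ seqIndD K L H M) : 1 < (seqIndD K L H M).card :=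
  Finset.one_lt_card.mpr ⟨_, cfAut_seqIndD _ hφ, _, hφ, seqInd_conjC_ne hK hodd hH hφ⟩
theorem one_lt_card_irrPart (hK : K ⊴ L) (hodd : Odd (Nat.card L)) (hH : H ≤ K)
    (hφ : φ ∈ seqIndD K L H M) (hi : φ ∈ Irr L) : 1 < (irrPart L (seqIndD K L H M)).card :=
  Finset.one_lt_card.mpr ⟨_, mem_irrPart.mpr ⟨cfAut_seqIndD _ hφ, irr_conjC hi⟩, _,
    mem_irrPart.mpr ⟨hφ, hi⟩, seqInd_conjC_ne hK hodd hH hφ⟩
theorem exists_linInd (hKL : K ≤ L) (hM : M ⊴ K) (h : ⁅K, K⁆ ⊔ M ≠ K) :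
    ∃ φ ∈ seqIndD K L K M, φ 1 = K.relIndex L := by
  obtain ⟨θ, hθ⟩ := irrKD_nonempty ((der1_nml K).sup hM) (H := K) fun h' =>
    h (le_antisymm (sup_le (der1_le K) hM.le) h')
  obtain ⟨h2, h3, h4⟩ := mem_irrKD.mp hθ
  refine ⟨cfInd L K θ, mem_seqIndD.mpr ⟨θ, h2, le_sup_right.trans h3, h4, rfl⟩, ?_⟩
  rw [cfInd_one hKL, (irr_lin_of_der_le h2 (le_sup_left.trans h3)).one, mul_one]
theorem der1_sup_ne_of_sol (hs : Sol K) (hM : M ⊴ K) (h : M ≠ K) : ⁅K, K⁆ ⊔ M ≠ K := by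
  intro e
  have h1 : quo K M ≠ ⊥ := fun e' => h (le_antisymm hM.le ((quo_eq_bot hM.norm).mp e'))
  have h2 := Sol.der1_lt (hs.quo M) h1
  refine h2.ne ?_
  rw [← quo_comm hM.norm hM.norm, ← quo_sup_right ((der1_le K).trans hM.norm), e]
theorem exists_linInd_sol (hKL : K ≤ L) (hs : Sol K) (hM : M ⊴ K) (h : M ≠ K) :
    ∃ φ ∈ seqIndD K L K M, φ 1 = K.relIndex L :=
  exists_linInd hKL hM (der1_sup_ne_of_sol hs hM h)
theorem sum_seqInd_smul [DecidableEq (Γ → ℂ)] (hK : K ⊴ L) {X : Finset (Γ → ℂ)} (hX : X ⊆ Irr K)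
    (hc : ∀ θ ∈ X, ∀ g ∈ L, cfConj g θ ∈ X) :
    ∑ φ ∈ X.image (cfInd L K), (φ 1 / cfnorm L φ) • φ =
      (K.relIndex L : ℂ) • ∑ θ ∈ X, θ 1 • θ := by
  rw [Finset.smul_sum]
  exact sum_image_cfInd hK hX hc (fun φ => (φ 1 / cfnorm L φ) • φ)
    (fun θ => (K.relIndex L : ℂ) • θ 1 • θ) fun θ hθ => by
      rw [scaled_cfInd_sum_cfclass hK (hX hθ), Finset.smul_sum]
/-- sums over a set of induced characters given by an `L`-invariant set `X ⊆ Irr K`. -/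
theorem sum_seqInd_square [DecidableEq (Γ → ℂ)] (hK : K ⊴ L) {X : Finset (Γ → ℂ)} (hX : X ⊆ Irr K)
    (hc : ∀ θ ∈ X, ∀ g ∈ L, cfConj g θ ∈ X) :
    ∑ φ ∈ X.image (cfInd L K), (deg φ : ℝ) ^ 2 / cfnorm L φ =
      K.relIndex L * ∑ θ ∈ X, (deg θ : ℝ) ^ 2 := by
  have h := congrFun (sum_seqInd_smul hK hX hc) 1
  simp only [Finset.sum_apply, Pi.smul_apply, smul_eq_mul] at h
  apply Complex.ofReal_injective
  push_cast
  rw [Finset.sum_congr rfl (f := fun θ : Γ → ℂ => (deg θ : ℂ) ^ 2) (g := fun θ => θ 1 * θ 1)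
    (s₁ := X) fun θ hθ => by rw [irr_one_eq (hX hθ), sq], ← h]
  refine Finset.sum_congr rfl fun φ hφ => ?_
  obtain ⟨θ, hθ, rfl⟩ := Finset.mem_image.mp hφ
  rw [((irr_char (hX hθ)).ind hK.le).one_eq]
  ring
theorem irrKD_conj (hK : L ≤ N[K]) (hH : L ≤ N[H]) (hM : L ≤ N[M]) (hθ : θ ∈ irrKD K H M) {g : Γ}
    (hg : g ∈ L) : cfConj g θ ∈ irrKD K H M := by
  obtain ⟨h1, h2, h3⟩ := mem_irrKD.mp hθ
  exact mem_irrKD.mpr ⟨irr_conj h1 (hK hg), (le_cfker_cfConj (hK hg) (hM hg)).mpr h2,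
    fun h => h3 ((le_cfker_cfConj (hK hg) (hH hg)).mp h)⟩
theorem irrKD_sub (K H M : Subgroup Γ) : irrKD K H M ⊆ Irr K := fun _ h => (mem_irrKD.mp h).1
theorem sum_seqIndD_square (hK : K ⊴ L) (hH : H ⊴ L) (hM : M ⊴ L) (hMH : M ≤ H) (hHK : H ≤ K) :
    ∑ φ ∈ seqIndD K L H M, (deg φ : ℝ) ^ 2 / cfnorm L φ =
      K.relIndex L * (H.relIndex K * ((M.relIndex H : ℝ) - 1)) := by
  classical
  have h := sum_seqInd_square hK (irrKD_sub K H M)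
    fun θ hθ g hg => irrKD_conj hK.norm hH.norm hM.norm hθ hg
  have h2 := sum_irrKD_deg_sq (hM.of_le (hMH.trans hHK) hK.le) (hH.of_le hHK hK.le)
  rw [sup_eq_left.mpr hMH, ← Subgroup.relIndex_mul_relIndex M H K hMH hHK] at h2
  have h3 : (∑ θ ∈ irrKD K H M, (deg θ : ℝ) ^ 2) + H.relIndex K = M.relIndex H * H.relIndex K := by
    exact_mod_cast h2
  have e : seqIndD K L H M = (irrKD K H M).image (cfInd L K) := by unfold seqIndD; congr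
  rw [e, h, eq_sub_of_add_eq h3]
  ring
theorem sum_seqIndC1_square (hK : K ⊴ L) :
    ∑ φ ∈ seqIndD K L K ⊥, (deg φ : ℝ) ^ 2 / cfnorm L φ =
      K.relIndex L * ((Nat.card K : ℝ) - 1) := H2.sum_seqIndC1_square hK
/-- `∑_{φ ∈ S} (φ(1)/‖φ‖²) φ(x) = −[L : K]` for `x ∈ K^#`, with `S = seqIndD K L K ⊥`. -/
theorem sum_seqIndC1_apply (hK : K ⊴ L) {x : Γ} (hx : x ∈ K) (h1 : x ≠ 1) :
    ∑ φ ∈ seqIndD K L K ⊥, φ 1 / cfnorm L φ * φ x = -(K.relIndex L : ℂ) := by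
  classical
  have h := H2.sum_seqIndC1_apply hK x
  rw [if_neg h1, cfOne_of_mem hx, Finset.sum_apply] at h
  have h0 := relIndexC_ne_zero K L
  rw [← mul_one (K.relIndex L : ℂ), ← mul_neg, ← zero_sub, ← h, Finset.mul_sum]
  refine Finset.sum_congr rfl fun φ _ => ?_
  rw [Pi.smul_apply, smul_eq_mul]
  field_simp
theorem size_irr_subseq_seqInd (hK : K ⊴ L) (hS : S ⊆ seqIndT K L) (hi : S ⊆ Irr L) :
    K.relIndex L * S.card = {θ | θ ∈ Irr K ∧ cfInd L K θ ∈ S}.ncard := by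
  classical
  have h := card_image_cfInd_irr hK (X := (Irr K).filter fun θ => cfInd L K θ ∈ S)
    (Finset.filter_subset _ _) (fun θ hθ g hg => by
      rw [Finset.mem_filter] at hθ ⊢
      exact ⟨irr_conj hθ.1 (hK.norm hg), by rw [cfInd_cfConj hg (hK.norm hg)]; exact hθ.2⟩)
    fun θ hθ => hi (Finset.mem_filter.mp hθ).2
  have e : ((Irr K).filter fun θ => cfInd L K θ ∈ S).image (cfInd L K) = S := by
    ext φ
    simp only [Finset.mem_image, Finset.mem_filter]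
    constructor
    · rintro ⟨θ, h1, rfl⟩; exact h1.2
    · intro h1
      obtain ⟨θ, h2, rfl⟩ := mem_seqIndT.mp (hS h1)
      exact ⟨θ, ⟨h2, h1⟩, rfl⟩
  rw [e] at h
  rw [← h, ← Set.ncard_coe_finset]
  congr 1
  ext θ
  simp
/-- a class function of `L` supported on `K` is a combination of the `Ind_K^L θ`. -/
theorem CFon_eq_sum_seqIndT (hK : K ⊴ L) (hα : α ∈ CFon L (K : Set Γ)) :
    α = ∑ φ ∈ seqIndT K L, (cfdot L α φ / cfnorm L φ) • φ := by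
  have hβ : α - ∑ φ ∈ seqIndT K L, (cfdot L α φ / cfnorm L φ) • φ ∈ CFon L (K : Set Γ) :=
    sub_mem hα (Submodule.sum_mem _ fun φ hφ => Submodule.smul_mem _ _
      ⟨seqInd_CF hφ, seqInd_on hK hφ⟩)
  rw [← sub_eq_zero, ← cfRes_eq_self hβ.2]
  refine CF_eq_zero_of_dot (cfRes_mem_CF hK.le hβ.1) fun θ hθ => ?_
  have h1 := cfInd_mem_seqIndT L hθ
  rw [cfdot_cfRes_left, ← cfdot_cfInd_right hK.le hβ.1, cfdot_sub_left,
    cfdot_sum_orth_left (φ := fun φ => φ) (seqInd_orth hK) _ h1, cfdot_self,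
    div_mul_cancel₀ _ (H2.seqIndT_normC_ne hK.le h1), sub_self]
end seqInd

end H27
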