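import Mathlib
import Cfsg.Agent.H27.PF5a

/-!
# Peterfalvi §5, part (b): coherence, (5.3)(a)–(5.7).
-/

set_option autoImplicit false
set_option linter.unusedSectionVars false
set_option linter.unusedVariables false

namespace H27

open Cfsg H24
open scoped ComplexConjugate

universe u v

variable {Γ : Type u} [Group Γ] [Finite Γ] {Γ' : Type v} [Group Γ'] [Finite Γ']

section coherence
variable {L : Subgroup Γ} {G : Subgroup Γ'} {S S₁ S₂ : Finset (Γ → ℂ)}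
  {τ τ₁ τ₂ : (Γ → ℂ) →ₗ[ℂ] (Γ' → ℂ)} {R : (Γ → ℂ) → Finset (Γ' → ℂ)} {χ φ ψ : Γ → ℂ}

theorem ZIsom.congr {E : Submodule ℤ (Γ → ℂ)} {τ' : (Γ → ℂ) →ₗ[ℂ] (Γ' → ℂ)} (h : ZIsom L G E τ)
    (he : ∀ φ ∈ E, τ φ = τ' φ) : ZIsom L G E τ' :=
  ⟨fun φ hφ ψ hψ => by rw [← he φ hφ, ← he ψ hψ, h.dot φ hφ ψ hψ],
    fun φ hφ => he φ hφ ▸ h.vchar φ hφ⟩
theorem CohWith.congr {τ' : (Γ → ℂ) →ₗ[ℂ] (Γ' → ℂ)} (h : CohWith L G S τ τ₁)
    (he : ∀ φ ∈ zsp0 S, τ φ = τ' φ) : CohWith L G S τ' τ₁ :=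
  ⟨h.isom, fun φ hφ => (h.ext φ hφ).trans (he φ hφ)⟩
theorem Coherent.congr {τ' : (Γ → ℂ) →ₗ[ℂ] (Γ' → ℂ)} (h : Coherent L G S τ)
    (he : ∀ φ ∈ zsp0 S, τ φ = τ' φ) : Coherent L G S τ' :=
  h.imp fun _ h => h.congr he
theorem Subcoh.congr {τ' : (Γ → ℂ) →ₗ[ℂ] (Γ' → ℂ)} (h : Subcoh L G S τ R)
    (he : ∀ φ ∈ zsp0 S, τ φ = τ' φ) : Subcoh L G S τ' R :=
  { h with
    isom := h.isom.congr he
    one := fun φ hφ => he φ hφ ▸ h.one φ hφ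
    R_sum := fun χ hχ => by
      rw [← he _ (sub_conjC_mem_zsp0 hχ (h.conj_mem χ hχ) (h.char χ hχ).vchar), h.R_sum χ hχ] }
theorem CohWith.dot (h : CohWith L G S τ τ₁) (hφ : φ ∈ S) (hψ : ψ ∈ S) :
    cfdot G (τ₁ φ) (τ₁ ψ) = cfdot L φ ψ :=
  h.isom.dot φ (mem_zsp_of_mem hφ) ψ (mem_zsp_of_mem hψ)
theorem CohWith.norm (h : CohWith L G S τ τ₁) (hφ : φ ∈ S) : cfnorm G (τ₁ φ) = cfnorm L φ :=
  h.isom.norm (mem_zsp_of_mem hφ)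
theorem CohWith.vchar (h : CohWith L G S τ τ₁) (hφ : φ ∈ S) : τ₁ φ ∈ vchar G :=
  h.isom.vchar φ (mem_zsp_of_mem hφ)
theorem CohWith.dirr (h : CohWith L G S τ τ₁) (hφ : φ ∈ S) (hi : φ ∈ Irr L) : IsDirr G (τ₁ φ) :=
  vchar_norm_one (h.vchar hφ) (by rw [h.norm hφ, irr_norm hi])
/-- constructing a coherent extension from its values on a pairwise orthogonal set. -/
theorem coherent_of_values (hS : PwOrth L S) (h0 : ∀ χ ∈ S, cfdot L χ χ ≠ 0)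
    (f : (Γ → ℂ) → (Γ' → ℂ)) (hv : ∀ χ ∈ S, f χ ∈ vchar G)
    (hd : ∀ χ ∈ S, ∀ ψ ∈ S, cfdot G (f χ) (f ψ) = cfdot L χ ψ)
    (he : ∀ c : (Γ → ℂ) → ℤ, ∑ χ ∈ S, (c χ : ℂ) * χ 1 = 0 →
      τ (∑ χ ∈ S, (c χ : ℂ) • χ) = ∑ χ ∈ S, (c χ : ℂ) • f χ) :
    ∃ ν, CohWith L G S τ ν ∧ ∀ χ ∈ S, ν χ = f χ := by
  have e : ∀ χ ∈ S, orthMap L S f χ = f χ := fun χ hχ => orthMap_apply hS f hχ (h0 χ hχ)
  refine ⟨orthMap L S f, ⟨ZIsom.of_gen (fun φ hφ ψ hψ => by rw [e φ hφ, e ψ hψ, hd φ hφ ψ hψ])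
    fun φ hφ => e φ hφ ▸ hv φ hφ, fun φ hφ => ?_⟩, e⟩
  obtain ⟨h1, h2⟩ := mem_zsp0.mp hφ
  obtain ⟨c, rfl⟩ := mem_zsp_iff.mp h1
  rw [he c (by simpa [Finset.sum_apply] using h2), map_sum]
  exact Finset.sum_congr rfl fun χ hχ => by rw [map_smul, e χ hχ]
theorem coherent_empty (L : Subgroup Γ) (G : Subgroup Γ') (τ : (Γ → ℂ) →ₗ[ℂ] (Γ' → ℂ)) :
    Coherent L G ∅ τ :=
  (coherent_of_values (S := ∅) (by simp [PwOrth]) (by simp) (fun _ => 0) (by simp) (by simp)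
    (by simp)).imp fun _ h => h.1

/-- a coherent extension from values, checked against one pivot. -/
theorem coherent_of_pivot (hS : PwOrth L S) (h0 : ∀ χ ∈ S, cfdot L χ χ ≠ 0)
    (f : (Γ → ℂ) → (Γ' → ℂ)) (hv : ∀ χ ∈ S, f χ ∈ vchar G)
    (hd : ∀ χ ∈ S, ∀ ψ ∈ S, cfdot G (f χ) (f ψ) = cfdot L χ ψ) (η : Γ → ℂ) (ζ : Γ' → ℂ)
    (he : ∀ χ ∈ S, τ (χ - (χ 1 / η 1) • η) = f χ - (χ 1 / η 1) • ζ) :
    ∃ ν, CohWith L G S τ ν ∧ ∀ χ ∈ S, ν χ = f χ := by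
  refine coherent_of_values hS h0 f hv hd fun c hc => ?_
  have h1 : ∑ χ ∈ S, (c χ : ℂ) * (χ 1 / η 1) = 0 := by
    simp only [← mul_div_assoc]; rw [← Finset.sum_div, hc, zero_div]
  calc τ (∑ χ ∈ S, (c χ : ℂ) • χ) = τ (∑ χ ∈ S, (c χ : ℂ) • (χ - (χ 1 / η 1) • η)) := by
        simp only [smul_sub, smul_smul, Finset.sum_sub_distrib]
        rw [← Finset.sum_smul, h1, zero_smul, sub_zero]
    _ = ∑ χ ∈ S, (c χ : ℂ) • (f χ - (χ 1 / η 1) • ζ) := by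
        rw [map_sum]; exact Finset.sum_congr rfl fun χ hχ => by rw [map_smul, he χ hχ]
    _ = _ := by
        simp only [smul_sub, smul_smul, Finset.sum_sub_distrib]
        rw [← Finset.sum_smul, h1, zero_smul, sub_zero]

theorem cross_mem_zsp0 (hφ : φ ∈ zsp S) (hψ : ψ ∈ zsp S) {m n : ℤ} (hm : φ 1 = m) (hn : ψ 1 = n) :
    (n : ℂ) • φ - (m : ℂ) • ψ ∈ zsp0 S :=
  sub_mem_zsp0 (intCast_smul_mem n hφ) (intCast_smul_mem m hψ) (by simp [hm, hn, mul_comm])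

theorem sub_div_smul_eq {m n : ℂ} (hn : n ≠ 0) (φ ψ : Γ → ℂ) :
    φ - (m / n) • ψ = n⁻¹ • (n • φ - m • ψ) := by
  rw [smul_sub, smul_smul, smul_smul, inv_mul_cancel₀ hn, one_smul, div_eq_inv_mul]

theorem CohWith.ext_div (h : CohWith L G S τ τ₁) (hv : ∀ χ ∈ S, χ ∈ H27.vchar L) (hφ : φ ∈ zsp S)
    (hψ : ψ ∈ zsp S) (h0 : ψ 1 ≠ 0) :
    τ (φ - (φ 1 / ψ 1) • ψ) = τ₁ φ - (φ 1 / ψ 1) • τ₁ ψ := by
  obtain ⟨m, hm⟩ := vchar_one_int (zsp_le_vchar hv hφ)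
  obtain ⟨n, hn⟩ := vchar_one_int (zsp_le_vchar hv hψ)
  rw [← map_smul, ← map_sub, sub_div_smul_eq h0, map_smul, map_smul, hm, hn,
    h.ext _ (cross_mem_zsp0 hφ hψ hm hn)]

theorem ZIsom.dot_div (h : ZIsom L G (zsp0 S) τ) (hv : ∀ χ ∈ S, χ ∈ H27.vchar L) {β : Γ → ℂ}
    (hβ : β ∈ zsp0 S) (hφ : φ ∈ zsp S) (hψ : ψ ∈ zsp S) (h0 : ψ 1 ≠ 0) :
    cfdot G (τ β) (τ (φ - (φ 1 / ψ 1) • ψ)) = cfdot L β (φ - (φ 1 / ψ 1) • ψ) := by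
  obtain ⟨m, hm⟩ := vchar_one_int (zsp_le_vchar hv hφ)
  obtain ⟨n, hn⟩ := vchar_one_int (zsp_le_vchar hv hψ)
  rw [sub_div_smul_eq h0, map_smul, cfdot_smul_right, cfdot_smul_right, hm, hn,
    h.dot _ hβ _ (cross_mem_zsp0 hφ hψ hm hn)]

theorem dot_sub_conjC_eq_zero (h1 : cfdot L φ χ = 0) (h2 : cfdot L φ (conjC χ) = 0) :
    cfdot L (φ - conjC φ) (χ - conjC χ) = 0 := by
  rw [cfdot_sub_left, cfdot_sub_right, cfdot_sub_right, cfdot_conjC_conjC, cfdot_conjC_left, h1, h2]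
  simp

theorem irr_pairs_orth {a b c d : Γ' → ℂ} (ha : a ∈ Irr G) (hb : b ∈ Irr G) (hc : c ∈ Irr G)
    (hd : d ∈ Irr G) (hab : a ≠ b) (hcd : c ≠ d) (h : cfdot G (a - b) (c - d) = 0) :
    a ≠ c ∧ a ≠ d ∧ b ≠ c ∧ b ≠ d := by
  classical
  rw [cfdot_sub_left, cfdot_sub_right, cfdot_sub_right, irr_dot ha hc, irr_dot ha hd, irr_dot hb hc,
    irr_dot hb hd] at h
  refine ⟨?_, ?_, ?_, ?_⟩ <;> rintro rfl <;> split_ifs at h <;> simp_all <;> norm_num at h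

/-- the set `{α, -β}`. -/
theorem exists_pair_R {β : Γ' → ℂ} (hβ : β ∈ vchar G) (h2 : cfnorm G β = 2) (h1 : β 1 = 0) :
    ∃ E : Finset (Γ' → ℂ), (∀ α ∈ E, α ∈ vchar G) ∧ Orthon G E ∧ β = ∑ α ∈ E, α ∧
      ∃ a ∈ Irr G, ∃ b ∈ Irr G, a ≠ b ∧ β = a - b ∧ ∀ α ∈ E, α = a ∨ α = -b := by
  classical
  obtain ⟨a, ha, b, hb, hab, e⟩ := vchar_norm_two_sub hβ h2 h1
  refine ⟨{a, -b}, ?_, ⟨?_, ?_⟩, ?_, a, ha, b, hb, hab, e, by simp⟩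
  · simp [irr_vchar ha, irr_vchar hb]
  · simp [irr_dot_self ha, irr_dot_self hb]
  · simp [PwOrth, irr_dot_ne ha hb hab, irr_dot_ne hb ha hab.symm]
  · rw [Finset.sum_pair (irr_ne_neg ha hb), e, sub_eq_add_neg]

theorem irr_sub_conjC_norm (hχ : χ ∈ Irr L) (hr : conjC χ ≠ χ) : cfnorm L (χ - conjC χ) = 2 := by
  rw [cfnorm_sub_orth (irr_dot_ne hχ (irr_conjC hχ) hr.symm), cfnorm_conjC, irr_norm hχ]
  norm_num

theorem pair_R_orth {β β' : Γ' → ℂ} {E E' : Finset (Γ' → ℂ)}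
    (h : ∃ a ∈ Irr G, ∃ b ∈ Irr G, a ≠ b ∧ β = a - b ∧ ∀ α ∈ E, α = a ∨ α = -b)
    (h' : ∃ a ∈ Irr G, ∃ b ∈ Irr G, a ≠ b ∧ β' = a - b ∧ ∀ α ∈ E', α = a ∨ α = -b)
    (ho : cfdot G β β' = 0) : Orth G E E' := by
  obtain ⟨a, ha, b, hb, hab, rfl, hE⟩ := h
  obtain ⟨c, hc, d, hd, hcd, rfl, hE'⟩ := h'
  obtain ⟨h1, h2, h3, h4⟩ := irr_pairs_orth ha hb hc hd hab hcd ho
  intro α hα γ hγ
  rcases hE α hα with rfl | rfl <;> rcases hE' γ hγ with rfl | rfl <;>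
    simp [irr_dot_ne, *]

/-- (5.3)(a). -/
theorem irr_subcoherent (hS : S ⊆ Irr L) (hc : ∀ χ ∈ S, conjC χ ∈ S) (hr : ∀ χ ∈ S, conjC χ ≠ χ)
    (hτ : ZIsom L G (zsp0 S) τ) (h1 : ∀ φ ∈ zsp0 S, τ φ 1 = 0) : ∃ R, Subcoh L G S τ R := by
  have hm : ∀ χ ∈ S, χ - conjC χ ∈ zsp0 S := fun χ hχ =>
    sub_conjC_mem_zsp0 hχ (hc χ hχ) (irr_vchar (hS hχ))
  have H := fun χ (hχ : χ ∈ S) => exists_pair_R (hτ.vchar _ (hm χ hχ))
    (by rw [hτ.norm (hm χ hχ), irr_sub_conjC_norm (hS hχ) (hr χ hχ)]) (h1 _ (hm χ hχ))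
  choose! R h2 h3 h4 h5 using H
  exact ⟨R, fun χ hχ => irr_char (hS hχ), hc, hr, hτ, h1, (irr_orthon L).2.mono hS, h2, h3, h4,
    fun χ hχ φ hφ o1 o2 => pair_R_orth (h5 φ hφ) (h5 χ hχ)
      (by rw [hτ.dot _ (hm φ hφ) _ (hm χ hχ), dot_sub_conjC_eq_zero o1 o2])⟩

theorem Orthon.dot_sum_subset {E F : Finset (Γ' → ℂ)} (h : Orthon G F) (hE : E ⊆ F) :
    cfdot G (∑ α ∈ F, α) (∑ α ∈ E, α) = E.card := by
  rw [cfdot_sum_right, Finset.sum_congr rfl (g := fun _ => 1), Finset.sum_const, nsmul_eq_mul,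
    mul_one]
  intro α hα
  simpa using h.cfdot_sum_left (fun _ => 1) (hE hα)

theorem sum_mem_zsp {X : Type*} {E F : Finset (X → ℂ)} (hE : E ⊆ F) : ∑ α ∈ E, α ∈ zsp F :=
  Submodule.sum_mem _ fun _ hα => mem_zsp_of_mem (hE hα)

namespace Subcoh
variable (h : Subcoh L G S τ R)
include h

theorem sub (hS : ConjSub S₁ S) : Subcoh L G S₁ τ R :=
  ⟨fun χ hχ => h.char χ (hS.sub hχ), hS.conj_mem, fun χ hχ => h.nreal χ (hS.sub hχ),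
    h.isom.mono (zsp0_mono hS.sub), fun φ hφ => h.one φ (zsp0_mono hS.sub hφ), h.orth.mono hS.sub,
    fun χ hχ => h.R_vchar χ (hS.sub hχ), fun χ hχ => h.R_orthon χ (hS.sub hχ),
    fun χ hχ => h.R_sum χ (hS.sub hχ), fun χ hχ φ hφ => h.R_orth χ (hS.sub hχ) φ (hS.sub hφ)⟩
theorem vchar (hχ : χ ∈ S) : χ ∈ vchar L := (h.char χ hχ).vchar
theorem ne_zero (hχ : χ ∈ S) : χ ≠ 0 := fun e => h.nreal χ hχ (by rw [e, conjC_zero])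
theorem one_ne_zero (hχ : χ ∈ S) : χ 1 ≠ 0 := fun e =>
  h.ne_zero hχ ((h.char χ hχ).eq_zero_of_one e)
theorem norm_pos (hχ : χ ∈ S) : 0 < cfnorm L χ := cfnorm_pos (h.char χ hχ).cfOn (h.ne_zero hχ)
theorem dot_self_ne (hχ : χ ∈ S) : cfdot L χ χ ≠ 0 := by
  rw [cfdot_self]; exact_mod_cast (h.norm_pos hχ).ne'
theorem conj_one (hχ : χ ∈ S) : conjC χ 1 = χ 1 := vchar_conj_one (h.vchar hχ)
theorem sub_conj_mem (hχ : χ ∈ S) : χ - conjC χ ∈ zsp0 S :=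
  sub_conjC_mem_zsp0 hχ (h.conj_mem χ hχ) (h.vchar hχ)
theorem dot_conjC (hχ : χ ∈ S) : cfdot L χ (conjC χ) = 0 :=
  h.orth χ hχ _ (h.conj_mem χ hχ) (h.nreal χ hχ).symm
theorem R_dirr (hχ : χ ∈ S) {α : Γ' → ℂ} (hα : α ∈ R χ) : IsDirr G α :=
  vchar_norm_one (h.R_vchar χ hχ α hα) (cfnorm_eq_one_iff.mpr ((h.R_orthon χ hχ).1 α hα))
theorem card_R (hχ : χ ∈ S) : ((R χ).card : ℝ) = 2 * cfnorm L χ := by
  rw [← (h.R_orthon χ hχ).cfnorm_sum, ← h.R_sum χ hχ, h.isom.norm (h.sub_conj_mem hχ),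
    cfnorm_sub_orth (h.dot_conjC hχ), cfnorm_conjC, two_mul]
theorem R_orth_of_ne (hχ : χ ∈ S) (hφ : φ ∈ S) (h1 : φ ≠ χ) (h2 : φ ≠ conjC χ) :
    Orth G (R φ) (R χ) :=
  h.R_orth χ hχ φ hφ (h.orth φ hφ χ hχ h1) (h.orth φ hφ _ (h.conj_mem χ hχ) h2)
theorem zsp_R_vchar (hχ : χ ∈ S) {X : Γ' → ℂ} (hX : X ∈ zsp (R χ)) : X ∈ H27.vchar G :=
  zsp_le_vchar (h.R_vchar χ hχ) hX
theorem split (hχ : χ ∈ S) {β : Γ' → ℂ} (hβ : β ∈ H27.vchar G) :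
    ∃ X ∈ zsp (R χ), ∃ Y ∈ H27.vchar G, β = X - Y ∧ ∀ α ∈ R χ, cfdot G Y α = 0 := by
  have hX : ∑ α ∈ R χ, cfdot G β α • α ∈ zsp (R χ) := Submodule.sum_mem _ fun α hα => by
    obtain ⟨n, hn⟩ := vchar_dot_int hβ (h.R_vchar χ hχ α hα)
    rw [hn]; exact intCast_smul_mem n (mem_zsp_of_mem hα)
  refine ⟨_, hX, _, sub_mem (h.zsp_R_vchar hχ hX) hβ, (sub_sub_cancel _ _).symm, fun α hα => ?_⟩
  rw [cfdot_sub_left, (h.R_orthon χ hχ).cfdot_sum_left _ hα, sub_self]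
/-- (5.4). -/
theorem norm [DecidableEq (Γ → ℂ)] (hχ : χ ∈ S) (hψ : ψ ∈ H27.vchar L) (o1 : cfdot L χ ψ = 0)
    (o2 : cfdot L (conjC χ) ψ = 0) (hτ₁ : ZIsom L G (zsp {χ - ψ, χ - conjC χ}) τ₁)
    (he : τ₁ (χ - conjC χ) = τ (χ - conjC χ)) {X Y : Γ' → ℂ} (hXY : τ₁ (χ - ψ) = X - Y)
    (hX : X ∈ cfOn (G : Set Γ')) (oXY : cfdot G X Y = 0) (oY : ∀ α ∈ R χ, cfdot G Y α = 0) :
    cfnorm L χ ≤ cfnorm G X ∧ (cfnorm L ψ ≤ cfnorm G Y →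
      cfnorm G X = cfnorm L χ ∧ cfnorm G Y = cfnorm L ψ ∧ ∃ E ⊆ R χ, X = ∑ α ∈ E, α) := by
  classical
  have m1 : χ - ψ ∈ zsp ({χ - ψ, χ - conjC χ} : Finset (Γ → ℂ)) := mem_zsp_of_mem (by simp)
  have m2 : χ - conjC χ ∈ zsp ({χ - ψ, χ - conjC χ} : Finset (Γ → ℂ)) := mem_zsp_of_mem (by simp)
  have hO := h.R_orthon χ hχ
  have hn : ∀ α ∈ R χ, ∃ n : ℤ, cfdot G X α = n := fun α hα => by
    have := vchar_dot_int (hτ₁.vchar _ m1) (h.R_vchar χ hχ α hα)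
    rwa [hXY, cfdot_sub_left, oY α hα, sub_zero] at this
  choose! n hn using hn
  have h1 : cfnorm L χ = ((∑ α ∈ R χ, n α : ℤ) : ℝ) := by
    have := hτ₁.dot _ m1 _ m2
    rw [he, h.R_sum χ hχ, hXY, cfdot_sum_right, Finset.sum_congr rfl fun α hα => by
      rw [cfdot_sub_left, oY α hα, sub_zero, hn α hα]] at this
    simp only [cfdot_sub_left, cfdot_sub_right, h.dot_conjC hχ, cfdot_symm_zero o1,
      cfdot_symm_zero o2, sub_zero, cfdot_self] at this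
    exact_mod_cast this.symm
  have h2 := cfnorm_eq_proj (e := fun α => α) hO.1 hO.2 X
  rw [Finset.sum_congr rfl (g := fun α => ((n α ^ 2 : ℤ) : ℝ)) fun α hα => by
    rw [hn α hα, Complex.norm_intCast, sq_abs, Int.cast_pow]] at h2
  have h3 : ∀ α ∈ R χ, n α ≤ n α ^ 2 := fun α _ => Int.le_self_sq _
  have h4 : ((∑ α ∈ R χ, n α : ℤ) : ℝ) ≤ ∑ α ∈ R χ, ((n α ^ 2 : ℤ) : ℝ) := by
    exact_mod_cast Finset.sum_le_sum h3
  have h5 := cfnorm_nonneg G (X - ∑ α ∈ R χ, cfdot G X α • α)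
  refine ⟨by linarith, fun hle => ?_⟩
  have h6 : cfnorm G X + cfnorm G Y = cfnorm L χ + cfnorm L ψ := by
    rw [← cfnorm_sub_orth oXY, ← hXY, hτ₁.norm m1, cfnorm_sub_orth o1]
  refine ⟨by linarith, by linarith, (R χ).filter fun α => n α = 1, Finset.filter_subset _ _, ?_⟩
  have h7 : ∑ α ∈ R χ, n α = ∑ α ∈ R χ, n α ^ 2 := by
    have : ((∑ α ∈ R χ, n α : ℤ) : ℝ) = ∑ α ∈ R χ, ((n α ^ 2 : ℤ) : ℝ) := by linarith
    exact_mod_cast this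
  have h8 := (Finset.sum_eq_sum_iff_of_le h3).mp h7
  have h9 : X - ∑ α ∈ R χ, cfdot G X α • α = 0 := (cfnorm_eq_zero (sub_mem hX
    (Submodule.sum_mem _ fun α hα => Submodule.smul_mem _ _
      (vchar_cfOn (h.R_vchar χ hχ α hα))))).mp (by linarith)
  rw [sub_eq_zero.mp h9, Finset.sum_filter]
  refine Finset.sum_congr rfl fun α hα => ?_
  rw [hn α hα]
  split_ifs with e
  · simp [e]
  · have : n α * (n α - 1) = 0 := by have := h8 α hα; linarith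
    rw [(mul_eq_zero.mp this).resolve_right (sub_ne_zero.mpr e)]
    simp
/-- (5.5). -/
theorem coherent_sum_subseq [DecidableEq (Γ → ℂ)] (hχ : χ ∈ S)
    (hτ₁ : ZIsom L G (zsp {χ, conjC χ}) τ₁) (he : τ₁ (χ - conjC χ) = τ (χ - conjC χ)) :
    ∃ E ⊆ R χ, τ₁ χ = ∑ α ∈ E, α := by
  have m1 : χ ∈ zsp ({χ, conjC χ} : Finset (Γ → ℂ)) := mem_zsp_of_mem (by simp)
  have m2 : conjC χ ∈ zsp ({χ, conjC χ} : Finset (Γ → ℂ)) := mem_zsp_of_mem (by simp)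
  obtain ⟨X, hX, Y, hY, e, oY⟩ := h.split hχ (hτ₁.vchar _ m1)
  obtain ⟨-, h2, h3⟩ := (h.norm hχ (zero_mem _) (by simp) (by simp) (hτ₁.mono (zsp_le (by
      simp [m1, sub_mem m1 m2]))) he (X := X) (Y := Y) (by rw [sub_zero, e])
    (vchar_cfOn (h.zsp_R_vchar hχ hX))
    (cfdot_symm_zero (cfdot_eq_zero_of_zsp_right oY hX)) oY).2 (by simp [cfnorm_nonneg])
  rw [cfnorm_zero, cfnorm_eq_zero (vchar_cfOn hY)] at h2
  rwa [e, h2, sub_zero]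
theorem mem_coherent_sum_subseq (hS : ConjSub S₁ S) (hc : CohWith L G S₁ τ τ₁) (hχ : χ ∈ S₁) :
    ∃ E ⊆ R χ, τ₁ χ = ∑ α ∈ E, α := by
  classical
  exact h.coherent_sum_subseq (hS.sub hχ) (hc.isom.mono (zsp_mono (by
    simp [Finset.insert_subset_iff, hχ, hS.conj_mem χ hχ]))) (hc.ext _ ((h.sub hS).sub_conj_mem hχ))
theorem coherent_mem_zsp (hS : ConjSub S₁ S) (hc : CohWith L G S₁ τ τ₁) (hχ : χ ∈ S₁) :
    τ₁ χ ∈ zsp (R χ) := by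
  obtain ⟨E, h1, h2⟩ := h.mem_coherent_sum_subseq hS hc hχ
  rw [h2]; exact sum_mem_zsp h1
theorem coherent_ortho_supp (hS : ConjSub S₁ S) (hc : CohWith L G S₁ τ τ₁) (hχ : χ ∈ S)
    (hn : χ ∉ S₁) (hφ : φ ∈ zsp S₁) {α : Γ' → ℂ} (hα : α ∈ R χ) : cfdot G (τ₁ φ) α = 0 := by
  obtain ⟨c, rfl⟩ := mem_zsp_iff.mp hφ
  rw [map_sum, cfdot_sum_left]
  refine Finset.sum_eq_zero fun φ hφ => ?_
  rw [map_smul, cfdot_smul_left, (h.R_orth_of_ne hχ (hS.sub hφ) (fun e => hn (e ▸ hφ))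
    fun e => hn (by rw [← conjC_conjC χ, ← e]; exact hS.conj_mem φ hφ)).zsp
      (h.coherent_mem_zsp hS hc hφ) (mem_zsp_of_mem hα), mul_zero]
theorem coherent_ortho (hS₁ : ConjSub S₁ S) (hc₁ : CohWith L G S₁ τ τ₁) (hS₂ : ConjSub S₂ S)
    (hc₂ : CohWith L G S₂ τ τ₂) (hd : Disjoint S₁ S₂) (hφ : φ ∈ zsp S₁) (hψ : ψ ∈ zsp S₂) :
    cfdot G (τ₁ φ) (τ₂ ψ) = 0 := by
  obtain ⟨c, rfl⟩ := mem_zsp_iff.mp hψ
  rw [map_sum, cfdot_sum_right]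
  refine Finset.sum_eq_zero fun ψ hψ => ?_
  rw [map_smul, cfdot_smul_right, cfdot_eq_zero_of_zsp_right (fun α hα =>
    h.coherent_ortho_supp hS₁ hc₁ (hS₂.sub hψ) (Finset.disjoint_right.mp hd hψ) hφ hα)
      (h.coherent_mem_zsp hS₂ hc₂ hψ), mul_zero]
theorem bridge_cohWith [DecidableEq (Γ → ℂ)] (hS₁ : ConjSub S₁ S) (hc₁ : CohWith L G S₁ τ τ₁)
    (hS₂ : ConjSub S₂ S) (hc₂ : CohWith L G S₂ τ τ₂) (hd : Disjoint S₁ S₂) (hχ : χ ∈ zsp S₁)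
    (hφ : φ ∈ zsp S₂) (h0 : χ 1 ≠ 0) (h1 : χ 1 = φ 1) (he : τ (χ - φ) = τ₁ χ - τ₂ φ) :
    ∃ ν, CohWith L G (S₁ ∪ S₂) τ ν ∧ (∀ η ∈ S₁, ν η = τ₁ η) ∧ ∀ η ∈ S₂, ν η = τ₂ η := by
  have hS : S₁ ∪ S₂ ⊆ S := Finset.union_subset hS₁.sub hS₂.sub
  have hn : ∀ η ∈ S₂, η ∉ S₁ := fun η hη => Finset.disjoint_right.mp hd hη
  have key : ∀ {P : (Γ → ℂ) → (Γ' → ℂ) → Prop}, (∀ η ∈ S₁, P η (τ₁ η)) → (∀ η ∈ S₂, P η (τ₂ η)) →
      ∀ η ∈ S₁ ∪ S₂, P η (if η ∈ S₁ then τ₁ η else τ₂ η) := fun h1 h2 η hη => by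
    split_ifs with e
    · exact h1 η e
    · exact h2 η ((Finset.mem_union.mp hη).resolve_left e)
  obtain ⟨ν, h2, h3⟩ := coherent_of_pivot (τ := τ) (h.orth.mono hS) (fun η hη => h.dot_self_ne (hS hη))
    (fun η => if η ∈ S₁ then τ₁ η else τ₂ η)
    (key (P := fun _ y => y ∈ H27.vchar G) (fun η => hc₁.vchar) fun η => hc₂.vchar)
    (key (P := fun x y => ∀ ψ ∈ S₁ ∪ S₂, cfdot G y (if ψ ∈ S₁ then τ₁ ψ else τ₂ ψ) = cfdot L x ψ)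
      (fun η hη => key (P := fun x y => cfdot G (τ₁ η) y = cfdot L η x) (fun ψ => hc₁.dot hη)
        fun ψ hψ => by
          rw [h.coherent_ortho hS₁ hc₁ hS₂ hc₂ hd (mem_zsp_of_mem hη) (mem_zsp_of_mem hψ),
            h.orth η (hS₁.sub hη) ψ (hS₂.sub hψ) fun e => hn ψ hψ (e ▸ hη)])
      (fun η hη => key (P := fun x y => cfdot G (τ₂ η) y = cfdot L η x) (fun ψ hψ => by
          rw [h.coherent_ortho hS₂ hc₂ hS₁ hc₁ hd.symm (mem_zsp_of_mem hη) (mem_zsp_of_mem hψ),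
            h.orth η (hS₂.sub hη) ψ (hS₁.sub hψ) fun e => hn η hη (e ▸ hψ)])
        fun ψ => hc₂.dot hη)) χ (τ₁ χ)
    (key (P := fun x y => τ (x - (x 1 / χ 1) • χ) = y - (x 1 / χ 1) • τ₁ χ)
      (fun η hη => hc₁.ext_div (fun _ h' => h.vchar (hS₁.sub h')) (mem_zsp_of_mem hη) hχ h0)
      fun η hη => by
        have := hc₂.ext_div (fun _ h' => h.vchar (hS₂.sub h')) (mem_zsp_of_mem hη) hφ (h1 ▸ h0)
        rw [← h1] at this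
        rw [show η - (η 1 / χ 1) • χ = (η - (η 1 / χ 1) • φ) - (η 1 / χ 1) • (χ - φ) by module,
          map_sub, this, map_smul, he]
        module)
  exact ⟨ν, h2, fun η hη => by rw [h3 η (Finset.mem_union_left _ hη), if_pos hη],
    fun η hη => by rw [h3 η (Finset.mem_union_right _ hη), if_neg (hn η hη)]⟩
theorem bridge_coherent [DecidableEq (Γ → ℂ)] (hS₁ : ConjSub S₁ S) (hc₁ : CohWith L G S₁ τ τ₁)
    (hS₂ : ConjSub S₂ S) (hc₂ : CohWith L G S₂ τ τ₂) (hd : Disjoint S₁ S₂) (hχ : χ ∈ S₁)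
    (hφ : φ ∈ zsp S₂) (h1 : χ 1 = φ 1) (he : τ (χ - φ) = τ₁ χ - τ₂ φ) :
    Coherent L G (S₁ ∪ S₂) τ :=
  (h.bridge_cohWith hS₁ hc₁ hS₂ hc₂ hd (mem_zsp_of_mem hχ) hφ (h.one_ne_zero (hS₁.sub hχ)) h1
    he).imp fun _ h => h.1
theorem pivot_cohWith {η₁ : Γ → ℂ} {ζ₁ : Γ' → ℂ} (hη : η₁ ∈ S) (hζ : ζ₁ ∈ H27.vchar G)
    (hp : ∀ η ∈ S, η ≠ η₁ → ∃ a : ℕ, η 1 = a * η₁ 1 ∧
      cfdot G (τ (η - (a : ℂ) • η₁)) ζ₁ = -(a : ℂ) * cfnorm L η₁)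
    (hn : cfnorm G ζ₁ = cfnorm L η₁) : ∃ ν, CohWith L G S τ ν ∧ ν η₁ = ζ₁ := by
  have h0 := h.one_ne_zero hη
  have key : ∀ η ∈ S, ∃ a : ℕ, η 1 / η₁ 1 = a ∧ η - (a : ℂ) • η₁ ∈ zsp0 S ∧
      cfdot G (τ (η - (a : ℂ) • η₁)) ζ₁ = cfdot L (η - (a : ℂ) • η₁) η₁ := fun η hη' => by
    by_cases e : η = η₁
    · exact ⟨1, by simp [e, h0], by simp [e], by simp [e]⟩
    · obtain ⟨a, h1, h2⟩ := hp η hη' e
      exact ⟨a, by rw [h1, mul_div_cancel_right₀ _ h0], sub_mem_zsp0 (mem_zsp_of_mem hη')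
        (natCast_smul_mem a (mem_zsp_of_mem hη)) (by simp [h1]), by
          rw [h2, cfdot_sub_left, h.orth η hη' η₁ hη e, cfdot_smul_left, cfdot_self]; ring⟩
  obtain ⟨ν, h1, h2⟩ := coherent_of_pivot (τ := τ) h.orth (fun η => h.dot_self_ne)
    (fun η => τ (η - (η 1 / η₁ 1) • η₁) + (η 1 / η₁ 1) • ζ₁) (fun η hη' => by
      obtain ⟨a, h1, h2, -⟩ := key η hη'
      rw [h1]; exact add_mem (h.isom.vchar _ h2) (natCast_smul_mem a hζ))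
    (fun η hη' ψ hψ => by
      obtain ⟨a, h1, h2, h3⟩ := key η hη'
      obtain ⟨b, h4, h5, h6⟩ := key ψ hψ
      have h7 : cfdot G ζ₁ (τ (ψ - (b : ℂ) • η₁)) = cfdot L η₁ (ψ - (b : ℂ) • η₁) := by
        rw [← conj_cfdot, h6, conj_cfdot]
      rw [h1, h4, cfdot_add_left, cfdot_add_right, cfdot_add_right, h.isom.dot _ h2 _ h5,
        cfdot_smul_right, cfdot_smul_left, cfdot_smul_left, cfdot_smul_right, h3, h7, cfdot_self,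
        hn, ← cfdot_self]
      simp only [cfdot_sub_left, cfdot_sub_right, cfdot_smul_left, cfdot_smul_right]
      ring) η₁ ζ₁ fun η _ => by rw [add_sub_cancel_right]
  exact ⟨ν, h1, by simp [h2 η₁ hη, h0]⟩
theorem pivot_coherence {η₁ : Γ → ℂ} {ζ₁ : Γ' → ℂ} (hη : η₁ ∈ S) (hζ : ζ₁ ∈ H27.vchar G)
    (hp : ∀ η ∈ S, η ≠ η₁ → ∃ a : ℕ, η 1 = a * η₁ 1 ∧
      cfdot G (τ (η - (a : ℂ) • η₁)) ζ₁ = -(a : ℂ) * cfnorm L η₁)
    (hn : cfnorm G ζ₁ = cfnorm L η₁) : Coherent L G S τ :=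
  (h.pivot_cohWith hη hζ hp hn).imp fun _ h => h.1
theorem conjSub_pair [DecidableEq (Γ → ℂ)] (hχ : χ ∈ S) : ConjSub {χ, conjC χ} S :=
  ⟨by simp [Finset.insert_subset_iff, hχ, h.conj_mem χ hχ], by simp⟩
theorem dot_conj_sub (hχ : χ ∈ S) {E : Finset (Γ' → ℂ)} (hE : E ⊆ R χ)
    (hn : cfnorm G (∑ α ∈ E, α) = cfnorm L χ) :
    cfdot G (τ (conjC χ - χ)) (∑ α ∈ E, α) = -cfnorm L χ := by
  rw [← neg_sub, map_neg, cfdot_neg_left, h.R_sum χ hχ, (h.R_orthon χ hχ).dot_sum_subset hE, ← hn,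
    ((h.R_orthon χ hχ).mono hE).cfnorm_sum]
  simp
theorem pair_cohWith [DecidableEq (Γ → ℂ)] (hχ : χ ∈ S) {E : Finset (Γ' → ℂ)} (hE : E ⊆ R χ)
    (hn : cfnorm G (∑ α ∈ E, α) = cfnorm L χ) :
    ∃ ν, CohWith L G {χ, conjC χ} τ ν ∧ ν χ = ∑ α ∈ E, α :=
  (h.sub (h.conjSub_pair hχ)).pivot_cohWith (by simp) (h.zsp_R_vchar hχ (sum_mem_zsp hE))
    (fun η hη e => by
      obtain rfl : η = conjC χ := by simpa [e] using hη
      exact ⟨1, by simp [h.conj_one hχ], by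
        rw [Nat.cast_one, one_smul, neg_one_mul, h.dot_conj_sub hχ hE hn]⟩) hn
/-- (5.6.3). -/
theorem extend_cohWith [DecidableEq (Γ → ℂ)] (hS : ConjSub S₁ S) (hc : CohWith L G S₁ τ τ₁)
    (hφ : φ ∈ zsp S₁) (hχ : χ ∈ S) (hn : χ ∉ S₁) {X : Γ' → ℂ} (h1 : χ 1 = φ 1)
    (hX : cfdot G X (τ₁ φ) = 0) (he : τ (χ - φ) = X - τ₁ φ) :
    ∃ ν, CohWith L G (insert χ (insert (conjC χ) S₁)) τ ν ∧ ν χ = X ∧ ∀ η ∈ S₁, ν η = τ₁ η := by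
  have hn' : conjC χ ∉ S₁ := fun e => hn (by rw [← conjC_conjC χ]; exact hS.conj_mem _ e)
  have m1 : χ - φ ∈ zsp0 S := sub_mem_zsp0 (mem_zsp_of_mem hχ) (zsp_mono hS.sub hφ) h1
  obtain ⟨h2, -, E, h3, rfl⟩ := (h.norm hχ (zsp_le_vchar (fun _ h' => h.vchar (hS.sub h')) hφ)
    (cfdot_eq_zero_of_zsp_right (fun η hη => h.orth _ hχ η (hS.sub hη) fun e => hn (e ▸ hη)) hφ)
    (cfdot_eq_zero_of_zsp_right (fun η hη => h.orth _ (h.conj_mem χ hχ) η (hS.sub hη)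
      fun e => hn' (e ▸ hη)) hφ) (h.isom.mono (zsp_le (by simp [m1, h.sub_conj_mem hχ]))) rfl he
    (by
      rw [← sub_add_cancel X (τ₁ φ), ← he]
      exact vchar_cfOn (add_mem (h.isom.vchar _ m1) (hc.isom.vchar _ hφ))) hX
    fun α hα => h.coherent_ortho_supp hS hc hχ hn hφ hα).2 (hc.isom.norm hφ).ge
  obtain ⟨τ₂, h4, h5⟩ := h.pair_cohWith hχ h3 h2
  obtain ⟨ν, h6, h7, h8⟩ := h.bridge_cohWith (h.conjSub_pair hχ) h4 hS hc (by simp [hn, hn'])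
    (mem_zsp_of_mem (by simp)) hφ (h.one_ne_zero hχ) h1 (by rw [he, h5])
  refine ⟨ν, ?_, by rw [h7 χ (by simp), h5], h8⟩
  rwa [Finset.insert_union, ← Finset.insert_eq] at h6
/-- (5.6.3). -/
theorem extend_coherent_with [DecidableEq (Γ → ℂ)] (hS : ConjSub S₁ S) (hc : CohWith L G S₁ τ τ₁)
    (hφ : φ ∈ S₁) (hχ : χ ∈ S) (hn : χ ∉ S₁) {a : ℤ} {X : Γ' → ℂ} (h1 : χ 1 = a * φ 1)
    (hX : cfdot G X ((a : ℂ) • τ₁ φ) = 0) (he : τ (χ - (a : ℂ) • φ) = X - (a : ℂ) • τ₁ φ) :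
    Coherent L G (insert χ (insert (conjC χ) S₁)) τ :=
  (h.extend_cohWith hS hc (intCast_smul_mem a (mem_zsp_of_mem hφ)) hχ hn (X := X) (by simp [h1])
    (by rwa [map_smul]) (by rwa [map_smul])).imp fun _ h => h.1
/-- (5.6), keeping track of the extension. -/
theorem extend_cohWith' [DecidableEq (Γ → ℂ)] (hS : ConjSub S₁ S) {ξ : Γ → ℂ} (hξ : ξ ∈ S₁)
    (hχ : χ ∈ S) (hn : χ ∉ S₁) (hc : CohWith L G S₁ τ τ₁) (hd : deg ξ ∣ deg χ)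
    (hlt : 2 * (deg χ : ℝ) * deg ξ < ∑ φ ∈ S₁, (deg φ : ℝ) ^ 2 / cfnorm L φ) :
    ∃ ν, CohWith L G (insert χ (insert (conjC χ) S₁)) τ ν ∧ ∀ η ∈ S₁, ν η = τ₁ η := by
  obtain ⟨a, ha⟩ := hd
  have hn' : conjC χ ∉ S₁ := fun e => hn (by rw [← conjC_conjC χ]; exact hS.conj_mem _ e)
  have hv : ∀ η ∈ S₁, η ∈ H27.vchar L := fun _ h' => h.vchar (hS.sub h')
  have hξS := hS.sub hξ
  have h1 : χ 1 = ((a : ℂ) • ξ) 1 := by
    rw [Pi.smul_apply, (h.char χ hχ).one_eq, (h.char ξ hξS).one_eq, ha]; simp [mul_comm]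
  have m0 : (a : ℂ) • ξ ∈ zsp S₁ := natCast_smul_mem a (mem_zsp_of_mem hξ)
  have m1 : χ - (a : ℂ) • ξ ∈ zsp0 S := sub_mem_zsp0 (mem_zsp_of_mem hχ) (zsp_mono hS.sub m0) h1
  have o1 : ∀ η ∈ S₁, cfdot L χ η = 0 := fun η hη =>
    h.orth _ hχ η (hS.sub hη) fun e => hn (e ▸ hη)
  obtain ⟨X, hX, Y, hY, e, oY⟩ := h.split hχ (h.isom.vchar _ m1)
  have oXY := cfdot_symm_zero (cfdot_eq_zero_of_zsp_right oY hX)
  have h2 := (h.norm hχ (zsp_le_vchar hv m0) (cfdot_eq_zero_of_zsp_right o1 m0)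
    (cfdot_eq_zero_of_zsp_right (fun η hη => h.orth _ (h.conj_mem χ hχ) η (hS.sub hη)
      fun e => hn' (e ▸ hη)) m0) (h.isom.mono (zsp_le (by simp [m1, h.sub_conj_mem hχ]))) rfl e
    (vchar_cfOn (h.zsp_R_vchar hχ hX)) oXY oY).1
  have h3 : cfnorm G X + cfnorm G Y = cfnorm L χ + cfnorm L ((a : ℂ) • ξ) := by
    rw [← cfnorm_sub_orth oXY, ← e, h.isom.norm m1,
      cfnorm_sub_orth (cfdot_eq_zero_of_zsp_right o1 m0)]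
  have oX : ∀ η ∈ zsp S₁, cfdot G X (τ₁ η) = 0 := fun η hη => cfdot_symm_zero
    (cfdot_eq_zero_of_zsp_right (fun α hα => h.coherent_ortho_supp hS hc hχ hn hη hα) hX)
  set Z := Y - τ₁ ((a : ℂ) • ξ) with hZ
  have vZ : Z ∈ H27.vchar G := sub_mem hY (hc.isom.vchar _ m0)
  obtain ⟨l, hl⟩ := vchar_dot_int vZ (hc.vchar hξ)
  have x0 := h.one_ne_zero hξS
  have h4 : ∀ η ∈ S₁, cfdot G Z (τ₁ η) = (deg η / deg ξ) * l := fun η hη => by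
    have h5 := h.isom.dot_div (fun _ => h.vchar) m1 (mem_zsp_of_mem (hS.sub hη))
      (mem_zsp_of_mem hξS) x0
    rw [hc.ext_div hv (mem_zsp_of_mem hη) (mem_zsp_of_mem hξ) x0, e] at h5
    have h6 := hc.isom.dot _ m0 _ (mem_zsp_of_mem hη)
    have h7 := hc.isom.dot _ m0 _ (mem_zsp_of_mem hξ)
    rw [← hl, hZ]
    simp only [cfdot_sub_left, cfdot_sub_right, cfdot_smul_right, oX _ (mem_zsp_of_mem hη),
      oX _ (mem_zsp_of_mem hξ), o1 η hη, o1 ξ hξ, h6, h7, (h.char η (hS.sub hη)).one_eq,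
      (h.char ξ hξS).one_eq, map_div₀, map_natCast] at h5 ⊢
    linear_combination -h5
  set Sg := ∑ φ ∈ S₁, (deg φ : ℝ) ^ 2 / cfnorm L φ with hSg
  set P := ∑ η ∈ S₁, ((deg η / cfnorm L η : ℝ) : ℂ) • τ₁ η with hP
  have nP : cfnorm G P = Sg := by
    rw [hP, cfnorm_sum_orth _ _ fun η hη ψ hψ hne => by
      rw [cfdot_smul_left, cfdot_smul_right, hc.dot hη hψ, h.orth η (hS.sub hη) ψ (hS.sub hψ) hne]
      simp]
    refine Finset.sum_congr rfl fun η hη => ?_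
    have := (h.norm_pos (hS.sub hη)).ne'
    rw [cfnorm_ofReal_smul, hc.norm hη]
    field_simp
  have dP : cfdot G Z P = ((Sg * l / deg ξ : ℝ) : ℂ) := by
    rw [hP, cfdot_sum_right, hSg, Finset.sum_mul, Finset.sum_div]
    push_cast
    refine Finset.sum_congr rfl fun η hη => ?_
    rw [cfdot_smul_right, h4 η hη]
    simp only [map_div₀, map_natCast, Complex.conj_ofReal]
    ring
  have h5 := cfdot_sq_le (H := G) Z P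
  rw [nP, dP, Complex.norm_real, Real.norm_eq_abs, sq_abs] at h5
  have h6 : cfnorm G Y = cfnorm G Z + cfnorm L ((a : ℂ) • ξ) + 2 * (a * l) := by
    rw [← sub_add_cancel Y (τ₁ ((a : ℂ) • ξ)), cfnorm_add, hc.isom.norm m0, map_smul,
      cfdot_smul_right, ← map_smul, ← hZ, hl]
    simp
  have d0 : (0 : ℝ) < deg ξ := by exact_mod_cast (h.char ξ hξS).deg_pos (h.ne_zero hξS)
  have a0 : (0 : ℝ) < a := by
    have := (h.char χ hχ).deg_pos (h.ne_zero hχ)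
    rw [ha] at this
    exact_mod_cast Nat.pos_of_mul_pos_left this
  rw [ha] at hlt
  push_cast at hlt
  have Sg0 : 0 < Sg := lt_of_le_of_lt (by positivity) hlt
  have h7 : cfnorm G Z ≤ -(2 * (a * l)) := by linarith
  have h8 : Sg * l ^ 2 ≤ -(2 * (a * l)) * deg ξ ^ 2 := by
    rw [div_pow, div_le_iff₀ (by positivity)] at h5
    have := mul_le_mul_of_nonneg_right h7 (by positivity : 0 ≤ Sg * (deg ξ : ℝ) ^ 2)
    exact le_of_mul_le_mul_left (by nlinarith) Sg0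
  have l0 : l = 0 := by
    by_contra l0
    have h9 : (0 : ℝ) < l ^ 2 := by positivity
    have h10 : (-l : ℝ) ≤ l ^ 2 := by
      have := Int.le_self_sq (-l)
      rw [neg_sq] at this
      exact_mod_cast this
    have h11 := mul_lt_mul_of_pos_right hlt h9
    have h12 := mul_le_mul_of_nonneg_left h10 (by positivity : 0 ≤ 2 * a * (deg ξ : ℝ) ^ 2)
    nlinarith
  have Z0 : Z = 0 := (cfnorm_eq_zero (vchar_cfOn vZ)).mp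
    (le_antisymm (by simpa [l0] using h7) (cfnorm_nonneg _ _))
  rw [sub_eq_zero.mp (hZ.symm.trans Z0)] at e
  exact (h.extend_cohWith hS hc m0 hχ hn h1 (oX _ m0) e).imp fun _ h => ⟨h.1, h.2.2⟩
/-- (5.6). -/
theorem extend_coherent [DecidableEq (Γ → ℂ)] (hS : ConjSub S₁ S) {ξ : Γ → ℂ} (hξ : ξ ∈ S₁)
    (hχ : χ ∈ S) (hn : χ ∉ S₁) (hc : Coherent L G S₁ τ) (hd : deg ξ ∣ deg χ)
    (hlt : 2 * (deg χ : ℝ) * deg ξ < ∑ φ ∈ S₁, (deg φ : ℝ) ^ 2 / cfnorm L φ) :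
    Coherent L G (insert χ (insert (conjC χ) S₁)) τ := by
  obtain ⟨τ₁, hc⟩ := hc
  exact (h.extend_cohWith' hS hξ hχ hn hc hd hlt).imp fun _ h => h.1
/-- the decomposition of `(χ - η)^τ` for two members of the same degree. -/
theorem sub_decomp {η : Γ → ℂ} (hχ : χ ∈ S) (hη : η ∈ S) (hd : χ 1 = η 1) (h1 : η ≠ χ)
    (h2 : η ≠ conjC χ) : ∃ E ⊆ R χ, ∃ X' ∈ zsp (R η), τ (χ - η) = ∑ α ∈ E, α - X' ∧
      cfnorm G (∑ α ∈ E, α) = cfnorm L χ := by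
  classical
  have h2' : χ ≠ conjC η := fun e => h2 (by rw [e, conjC_conjC])
  have m1 : χ - η ∈ zsp0 S := sub_mem_zsp0 (mem_zsp_of_mem hχ) (mem_zsp_of_mem hη) hd
  have m2 : η - χ ∈ zsp0 S := sub_mem_zsp0 (mem_zsp_of_mem hη) (mem_zsp_of_mem hχ) hd.symm
  obtain ⟨X, hX, Y, hY, e, oY⟩ := h.split hχ (h.isom.vchar _ m1)
  obtain ⟨X', hX', Y', hY', e', oY'⟩ := h.split hη (h.isom.vchar _ m2)
  have oXY := cfdot_symm_zero (cfdot_eq_zero_of_zsp_right oY hX)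
  have oXY' := cfdot_eq_zero_of_zsp_right oY' hX'
  have h3 := (h.norm hη (h.vchar hχ) (h.orth _ hη _ hχ h1) (h.orth _ (h.conj_mem η hη) _ hχ h2'.symm)
    (h.isom.mono (zsp_le (by simp [m2, h.sub_conj_mem hη]))) rfl e'
    (vchar_cfOn (h.zsp_R_vchar hη hX')) (cfdot_symm_zero oXY') oY').1
  have h4 : Y - X' = X - Y' := by
    have : τ (χ - η) + τ (η - χ) = 0 := by rw [← map_add]; simp
    rw [e, e'] at this
    linear_combination -this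
  have h5 : cfnorm G Y = cfnorm G (Y - X') + cfnorm G X' := by
    rw [← cfnorm_add_orth, sub_add_cancel]
    rw [h4, cfdot_sub_left, oXY', (h.R_orth_of_ne hη hχ h1.symm h2').zsp hX hX', sub_zero]
  have h6 := cfnorm_nonneg G (Y - X')
  obtain ⟨h7, h8, E, h9, rfl⟩ := (h.norm hχ (h.vchar hη) (h.orth _ hχ _ hη h1.symm)
    (h.orth _ (h.conj_mem χ hχ) _ hη h2.symm)
    (h.isom.mono (zsp_le (by simp [m1, h.sub_conj_mem hχ]))) rfl e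
    (vchar_cfOn (h.zsp_R_vchar hχ hX)) oXY oY).2 (by linarith)
  refine ⟨E, h9, X', hX', ?_, h7⟩
  rw [e, sub_eq_zero.mp ((cfnorm_eq_zero (vchar_cfOn (sub_mem hY (h.zsp_R_vchar hη hX')))).mp
    (by linarith))]
/-- (5.7). -/
theorem uniform_degree_coherence (hd : ∀ φ ∈ S, ∀ ψ ∈ S, φ 1 = ψ 1) : Coherent L G S τ := by
  rcases S.eq_empty_or_nonempty with rfl | ⟨χ, hχ⟩
  · exact coherent_empty L G τ
  obtain ⟨E, h1, h2, h3⟩ : ∃ E ⊆ R χ, cfnorm G (∑ α ∈ E, α) = cfnorm L χ ∧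
      ∀ η ∈ S, η ≠ χ → η ≠ conjC χ → cfdot G (τ (χ - η)) (∑ α ∈ E, α) = cfnorm L χ := by
    by_cases hex : ∃ η ∈ S, η ≠ χ ∧ η ≠ conjC χ
    · obtain ⟨η₀, hη₀, n1, n2⟩ := hex
      obtain ⟨E, h1, X', hX', e, h2⟩ := h.sub_decomp hχ hη₀ (hd _ hχ _ hη₀) n1 n2
      have o := h.R_orth_of_ne hχ hη₀ n1 n2
      have h0 : cfdot G (τ (χ - η₀)) (∑ α ∈ E, α) = cfnorm L χ := by
        rw [e, cfdot_sub_left, o.zsp hX' (sum_mem_zsp h1), cfdot_self, h2, sub_zero]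
      refine ⟨E, h1, h2, fun η hη m1 m2 => ?_⟩
      by_cases e1 : η = η₀
      · rw [e1, h0]
      by_cases e2 : η = conjC η₀
      · rw [e2, ← sub_add_sub_cancel χ η₀, map_add, cfdot_add_left, h0, h.R_sum _ hη₀,
          o.zsp (sum_mem_zsp (Finset.Subset.refl _)) (sum_mem_zsp h1), add_zero]
      obtain ⟨E', h1', X'', hX'', e', -⟩ := h.sub_decomp hχ hη (hd _ hχ _ hη) m1 m2
      have h3 := h.isom.dot _ (sub_mem_zsp0 (mem_zsp_of_mem hχ) (mem_zsp_of_mem hη) (hd _ hχ _ hη))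
        _ (sub_mem_zsp0 (mem_zsp_of_mem hχ) (mem_zsp_of_mem hη₀) (hd _ hχ _ hη₀))
      have h4 : cfdot G (τ (χ - η)) X' = 0 := by
        rw [e', cfdot_sub_left, o.symm.zsp (sum_mem_zsp h1') hX',
          (h.R_orth_of_ne hη₀ hη e1 e2).zsp hX'' hX', sub_zero]
      rw [e, cfdot_sub_right, h4, sub_zero] at h3
      rw [h3, cfdot_sub_left, cfdot_sub_right, cfdot_sub_right, h.orth _ hχ _ hη₀ n1.symm,
        h.orth _ hη _ hχ m1, h.orth _ hη _ hη₀ e1, cfdot_self]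
      simp
    · obtain ⟨n, hn⟩ := vchar_norm_nat (h.vchar hχ)
      have h1 := h.card_R hχ
      rw [hn] at h1
      obtain ⟨E, h2, h3⟩ := Finset.exists_subset_card_eq (s := R χ) (n := n) (by
        have : (R χ).card = 2 * n := by exact_mod_cast h1
        omega)
      exact ⟨E, h2, by rw [((h.R_orthon χ hχ).mono h2).cfnorm_sum, h3, hn],
        fun η hη m1 m2 => (hex ⟨η, hη, m1, m2⟩).elim⟩
  refine h.pivot_coherence hχ (h.zsp_R_vchar hχ (sum_mem_zsp h1)) (fun η hη m1 =>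
    ⟨1, by simp [hd _ hη _ hχ], ?_⟩) h2
  rw [Nat.cast_one, one_smul, neg_one_mul]
  by_cases m2 : η = conjC χ
  · rw [m2, h.dot_conj_sub hχ h1 h2]
  · rw [← neg_sub, map_neg, cfdot_neg_left, h3 η hη m1 m2]
theorem pair_degree_coherence (hφ : φ ∈ S) (hψ : ψ ∈ S) (hd : φ 1 = ψ 1) :
    ∃ S₁, φ ∈ S₁ ∧ ψ ∈ S₁ ∧ ConjSub S₁ S ∧ Coherent L G S₁ τ := by
  classical
  have hS : ConjSub (S.filter fun η => η 1 = φ 1) S := ⟨Finset.filter_subset _ _, fun η hη => by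
    rw [Finset.mem_filter] at hη ⊢
    exact ⟨h.conj_mem η hη.1, (h.conj_one hη.1).trans hη.2⟩⟩
  exact ⟨_, by simp [hφ], by simp [hψ, hd], hS, (h.sub hS).uniform_degree_coherence
    fun η hη ζ hζ => (Finset.mem_filter.mp hη).2.trans (Finset.mem_filter.mp hζ).2.symm⟩

end Subcoh
end coherence

end H27
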