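import Mathlib
import Cfsg.Agent.H27.PF4
import Cfsg.Agent.H27.PF5b

/-!
# Peterfalvi §5 (coherence): (5.3)(b), (5.8), (5.9).  The rest is in `PF5a`, `PF5b`.
-/

set_option autoImplicit false
set_option linter.unusedSectionVars false
set_option linter.unusedVariables false

namespace H27

open Cfsg H24
open scoped ComplexConjugate

universe u v

variable {Γ : Type u} [Group Γ] [Finite Γ] {Γ' : Type v} [Group Γ'] [Finite Γ']

section prDade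
variable {L K H W W₁ W₂ : Subgroup Γ} {A A₀ : Set Γ} {R : Γ → Subgroup Γ} {S : Finset (Γ → ℂ)}
  {τ₁ : (Γ → ℂ) →ₗ[ℂ] (Γ → ℂ)} {χ k i i' j j' : Γ → ℂ}

namespace PF5

theorem conjC_J (hj : j ∈ irrK W W₁) : conjC j ∈ irrK W W₁ := aut_mem_irrK hj _

theorem conjC_ne_one (h1 : j ≠ cfOne W) : conjC j ≠ cfOne W := fun e =>
  h1 (conjC_eq_cfOne_iff.mp e)

theorem conjC_ne_self (h : CyclicTI ⊤ W W₁ W₂) (hj : j ∈ irrK W W₁) (h1 : j ≠ cfOne W) :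
    conjC j ≠ j := h.conjC_ne (irrK_sub _ _ hj) h1

theorem sign_dot (L W W₁ W₂ : Subgroup Γ) (j : Γ → ℂ) (α β : Γ → ℂ) :
    cfdot ⊤ ((prSign L W W₁ W₂ j : ℂ) • α) ((prSign L W W₁ W₂ j : ℂ) • β) = cfdot ⊤ α β := by
  rw [cfdot_smul_left, cfdot_smul_right, map_intCast, ← mul_assoc, prSign_mul_self, one_mul]

theorem eta_dot_ne (h : CyclicTI ⊤ W W₁ W₂) (hi : i ∈ irrK W W₂) (hj : j ∈ irrK W W₁)
    (hi' : i' ∈ irrK W W₂) (hj' : j' ∈ irrK W W₁) (hne : j ≠ j') :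
    cfdot ⊤ (eta W W₁ W₂ (i * j)) (eta W W₁ W₂ (i' * j')) = 0 := by
  classical
  rw [h.iso_dot_ij hi hj hi' hj', if_neg fun e => hne e.2]

theorem col_dot (h : CyclicTI ⊤ W W₁ W₂) (hi : i ∈ irrK W W₂) (hj : j ∈ irrK W W₁)
    (hi' : i' ∈ irrK W W₂) [Decidable (i = i')] :
    cfdot ⊤ ((prSign L W W₁ W₂ k : ℂ) • eta W W₁ W₂ (i * j))
      ((prSign L W W₁ W₂ k : ℂ) • eta W W₁ W₂ (i' * j)) = if i = i' then 1 else 0 := by
  classical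
  rw [sign_dot, h.iso_dot_ij hi hj hi' hj]
  simp only [and_true]

theorem col_inj (h : CyclicTI ⊤ W W₁ W₂) (hj : j ∈ irrK W W₁) :
    Set.InjOn (fun i => (prSign L W W₁ W₂ k : ℂ) • eta W W₁ W₂ (i * j)) (irrK W W₂) := by
  classical
  intro i hi i' hi' e
  by_contra hne
  have h1 := col_dot (L := L) (k := k) h hi hj hi'
  have h2 := col_dot (L := L) (k := k) h hi' hj hi'
  beta_reduce at e
  rw [e, h2, if_neg hne, if_pos rfl] at h1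
  exact one_ne_zero h1

theorem prRmu_orth (h : CyclicTI ⊤ W W₁ W₂) (hj : j ∈ irrK W W₁) (hi' : i' ∈ irrK W W₂)
    (hj' : j' ∈ irrK W W₁) (h1 : j ≠ j') (h2 : conjC j ≠ j') {α : Γ → ℂ}
    (hα : α ∈ prRmu L W W₁ W₂ j) : cfdot ⊤ α (eta W W₁ W₂ (i' * j')) = 0 := by
  obtain ⟨i, hi, rfl | rfl⟩ := mem_prRmu.mp hα
  · rw [cfdot_smul_left, eta_dot_ne h hi hj hi' hj' h1, mul_zero]
  · rw [cfdot_neg_left, cfdot_smul_left, eta_dot_ne h hi (conjC_J hj) hi' hj' h2, mul_zero, neg_zero]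

theorem orth_prRmu (h : CyclicTI ⊤ W W₁ W₂) (hj : j ∈ irrK W W₁) {β : Γ → ℂ}
    (h1 : ∀ i ∈ irrK W W₂, cfdot ⊤ β (eta W W₁ W₂ (i * j)) = 0)
    (h2 : ∀ i ∈ irrK W W₂, cfdot ⊤ β (eta W W₁ W₂ (i * conjC j)) = 0) {α : Γ → ℂ}
    (hα : α ∈ prRmu L W W₁ W₂ j) : cfdot ⊤ β α = 0 := by
  obtain ⟨i, hi, rfl | rfl⟩ := mem_prRmu.mp hα
  · rw [cfdot_smul_right, h1 i hi, mul_zero]
  · rw [cfdot_neg_right, cfdot_smul_right, h2 i hi, mul_zero, neg_zero]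

theorem prRmu_vchar (h : CyclicTI ⊤ W W₁ W₂) (hj : j ∈ irrK W W₁) {α : Γ → ℂ}
    (hα : α ∈ prRmu L W W₁ W₂ j) : α ∈ vchar (⊤ : Subgroup Γ) := by
  obtain ⟨i, hi, rfl | rfl⟩ := mem_prRmu.mp hα
  · exact intCast_smul_mem _ (h.iso_dirr (h.mul_irr hi hj)).vchar
  · exact neg_mem (intCast_smul_mem _ (h.iso_dirr (h.mul_irr hi (conjC_J hj))).vchar)

theorem prRmu_orthon (h : CyclicTI ⊤ W W₁ W₂) (hj : j ∈ irrK W W₁) (h1 : j ≠ cfOne W) :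
    Orthon ⊤ (prRmu L W W₁ W₂ j) := by
  classical
  have hc := conjC_ne_self h hj h1
  refine ⟨fun α hα => ?_, fun α hα β hβ hne => ?_⟩
  · obtain ⟨i, hi, rfl | rfl⟩ := mem_prRmu.mp hα
    · rw [col_dot h hi hj hi, if_pos rfl]
    · rw [cfdot_neg_left, cfdot_neg_right, neg_neg, col_dot h hi (conjC_J hj) hi, if_pos rfl]
  · obtain ⟨i, hi, rfl | rfl⟩ := mem_prRmu.mp hα <;> obtain ⟨i', hi', rfl | rfl⟩ := mem_prRmu.mp hβ
    · rw [col_dot h hi hj hi', if_neg fun e => hne (by rw [e])]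
    · rw [cfdot_neg_right, sign_dot, eta_dot_ne h hi hj hi' (conjC_J hj) hc.symm, neg_zero]
    · rw [cfdot_neg_left, sign_dot, eta_dot_ne h hi (conjC_J hj) hi' hj hc, neg_zero]
    · rw [cfdot_neg_left, cfdot_neg_right, neg_neg, col_dot h hi (conjC_J hj) hi',
        if_neg fun e => hne (by rw [e])]

theorem sum_col [DecidableEq (Γ → ℂ)] (h : CyclicTI ⊤ W W₁ W₂) (hj : j ∈ irrK W W₁) :
    ∑ α ∈ (irrK W W₂).image (fun i => (prSign L W W₁ W₂ k : ℂ) • eta W W₁ W₂ (i * j)), α =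
      (prSign L W W₁ W₂ k : ℂ) • ∑ i ∈ irrK W W₂, eta W W₁ W₂ (i * j) := by
  rw [Finset.sum_image (col_inj h hj), Finset.smul_sum]

theorem sum_col_neg [DecidableEq (Γ → ℂ)] (h : CyclicTI ⊤ W W₁ W₂) (hj : j ∈ irrK W W₁) :
    ∑ α ∈ (irrK W W₂).image (fun i => -((prSign L W W₁ W₂ k : ℂ) • eta W W₁ W₂ (i * j))), α =
      -((prSign L W W₁ W₂ k : ℂ) • ∑ i ∈ irrK W W₂, eta W W₁ W₂ (i * j)) := by
  rw [Finset.sum_image fun i hi i' hi' e => col_inj h hj hi hi' (neg_injective e),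
    Finset.sum_neg_distrib, Finset.smul_sum]

theorem sum_prRmu (h : CyclicTI ⊤ W W₁ W₂) (hj : j ∈ irrK W W₁) (h1 : j ≠ cfOne W) :
    ∑ α ∈ prRmu L W W₁ W₂ j, α = (prSign L W W₁ W₂ j : ℂ) •
      (∑ i ∈ irrK W W₂, eta W W₁ W₂ (i * j) - ∑ i ∈ irrK W W₂, eta W W₁ W₂ (i * conjC j)) := by
  classical
  unfold prRmu
  rw [Finset.sum_union, sum_col h hj, sum_col_neg h (conjC_J hj), smul_sub, sub_eq_add_neg]
  rw [Finset.disjoint_left]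
  intro α h2 h3
  obtain ⟨i, hi, rfl⟩ := Finset.mem_image.mp h2
  obtain ⟨i', hi', e⟩ := Finset.mem_image.mp h3
  have h4 := col_dot (L := L) (k := j) h hi hj hi
  rw [if_pos rfl] at h4
  nth_rewrite 1 [← e] at h4
  rw [cfdot_neg_left, sign_dot, eta_dot_ne h hi' (conjC_J hj) hi hj (conjC_ne_self h hj h1)] at h4
  simp at h4

theorem red_conjC (h : PrimeTI L K W W₁ W₂) (hj : j ∈ irrK W W₁) :
    prRed L W W₁ W₂ (conjC j) = conjC (prRed L W W₁ W₂ j) := h.red_aut _ hj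

theorem red_ne_one (h : PrimeTI L K W W₁ W₂) (hr : conjC (prRed L W W₁ W₂ j) ≠ prRed L W W₁ W₂ j) :
    j ≠ cfOne W := fun e => hr (by rw [e, h.red_one, conjC_cfInd, conjC_cfOne])

theorem irr_eq_of_dot_eq {G : Subgroup Γ} {a b η : Γ → ℂ} (ha : a ∈ Irr G) (hb : b ∈ Irr G)
    (hη : IsDirr G η) (hab : a ≠ b) (h : cfdot G (a - b) η = 0) :
    cfdot G a η = 0 ∧ cfdot G b η = 0 := by
  rw [cfdot_sub_left, sub_eq_zero] at h
  rcases (irr_dirr ha).dot_cases hη with h1 | h1 | h1 <;>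
    rcases (irr_dirr hb).dot_cases hη with h2 | h2 | h2
  all_goals first
    | exact ⟨h1, h2⟩
    | exact (hab (h1.1.trans h2.1.symm)).elim
    | (exfalso; first
        | (rw [h1.2, h2.2] at h; norm_num at h)
        | (rw [h1.2, h2] at h; norm_num at h)
        | (rw [h1, h2.2] at h; norm_num at h))

end PF5
open PF5

theorem PrimeDade.zisom0 (h : PrimeDade L K H W W₁ W₂ A A₀ R) (hS : S ⊆ seqIndD K L H ⊥) :
    ZIsom L ⊤ (zsp0 S) (Dade A₀ L R) :=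
  Dade_ZIsom0 h.dade fun χ hχ => ⟨seqInd_vchar h.pr.nml.le (seqIndD_subT _ _ _ _ (hS hχ)),
    cfOn_mono (Set.insert_subset_insert h.sub0) (h.seqIndD_on (hS hχ))⟩

/-- a virtual character of small norm vanishing on `V` is orthogonal to the `η_ij`. -/
theorem CyclicTI.ortho_of_norm_le_two {G : Subgroup Γ} (h : CyclicTI G W W₁ W₂) {β : Γ → ℂ}
    (hβ : β ∈ vchar G) (hV : ∀ x ∈ cycV W W₁ W₂, β x = 0) (hn : cfnorm G β ≤ 2) {ω : Γ → ℂ}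
    (hω : ω ∈ Irr W) : cfdot G β (cycIso G W W₁ W₂ ω) = 0 := by
  have h1 : cycNC G W W₁ W₂ β ≤ 2 := by exact_mod_cast (h.NC_le_norm hβ).trans hn
  exact h.NC_eq_zero.mp (h.NC_min (vchar_CF hβ) hV
    (lt_min (h1.trans_lt h.two_lt1) (h1.trans_lt h.two_lt2))) ω hω

/-- (5.3)(b). -/
theorem PrimeDade.subcoherent (h : PrimeDade L K H W W₁ W₂ A A₀ R)
    (hS : ConjSub S (seqIndD K L H ⊥)) (hr : ∀ χ ∈ S, conjC χ ≠ χ) :
    ∃ R₀, Subcoh L ⊤ S (Dade A₀ L R) R₀ ∧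
      (∀ φ ∈ S, φ ∈ Irr L → ∀ α ∈ R₀ φ, ∀ ω ∈ Irr W, cfdot ⊤ α (eta W W₁ W₂ ω) = 0) ∧
      ∀ j ∈ irrK W W₁, R₀ (prRed L W W₁ W₂ j) = prRmu L W W₁ W₂ j := by
  classical
  have hT : S ⊆ seqIndT K L := hS.sub.trans (seqIndD_subT _ _ _ _)
  have hch : ∀ χ ∈ S, IsChar L χ := fun χ hχ => seqInd_char h.pr.nml.le (hT hχ)
  have hτ := h.zisom0 hS.sub
  have hm : ∀ χ ∈ S, χ - conjC χ ∈ zsp0 S := fun χ hχ =>
    sub_conjC_mem_zsp0 hχ (hS.conj_mem χ hχ) (hch χ hχ).vchar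
  have H1 := fun χ (hχ : χ ∈ S ∧ χ ∈ Irr L) => exists_pair_R (hτ.vchar _ (hm χ hχ.1))
    (by rw [hτ.norm (hm χ hχ.1), irr_sub_conjC_norm hχ.2 (hr χ hχ.1)]) (Dade_one h.dade _)
  choose! R₁ h2 h3 h4 h5 using H1
  have h6 : ∀ φ ∈ S, φ ∈ Irr L → ∀ α ∈ R₁ φ, ∀ ω ∈ Irr W, cfdot ⊤ α (eta W W₁ W₂ ω) = 0 := by
    intro φ hφ hi α hα ω hω
    obtain ⟨a, ha, b, hb, hab, e, hE⟩ := h5 φ ⟨hφ, hi⟩
    have := h.cyc.ortho_of_norm_le_two (hτ.vchar _ (hm φ hφ))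
      (fun x hx => h.Dade_V (h.zsp0_on hS.sub (hm φ hφ)) hx)
      (by rw [hτ.norm (hm φ hφ), irr_sub_conjC_norm hi (hr φ hφ)]) hω
    rw [e] at this
    obtain ⟨h7, h8⟩ := irr_eq_of_dot_eq ha hb (h.cyc.iso_dirr hω) hab this
    rcases hE α hα with rfl | rfl
    · exact h7
    · rw [cfdot_neg_left, h8, neg_zero]
  set R₀ : (Γ → ℂ) → Finset (Γ → ℂ) := fun φ =>
    if e : ∃ j ∈ irrK W W₁, φ = prRed L W W₁ W₂ j then prRmu L W W₁ W₂ e.choose else R₁ φ with hR₀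
  have r1 : ∀ j ∈ irrK W W₁, R₀ (prRed L W W₁ W₂ j) = prRmu L W W₁ W₂ j := fun j hj => by
    have e : ∃ j' ∈ irrK W W₁, prRed L W W₁ W₂ j = prRed L W W₁ W₂ j' := ⟨j, hj, rfl⟩
    rw [hR₀]
    simp only [dif_pos e]
    rw [← (h.pr.red_inj hj e.choose_spec.1).mp e.choose_spec.2]
  have r2 : ∀ φ ∈ Irr L, R₀ φ = R₁ φ := fun φ hφ => dif_neg fun ⟨j, hj, e⟩ =>
    h.pr.red_not_irr hj (e ▸ hφ)
  have key : ∀ {P : (Γ → ℂ) → Finset (Γ → ℂ) → Prop}, (∀ φ ∈ S, φ ∈ Irr L → P φ (R₁ φ)) →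
      (∀ j ∈ irrK W W₁, j ≠ cfOne W → P (prRed L W W₁ W₂ j) (prRmu L W W₁ W₂ j)) →
      ∀ φ ∈ S, P φ (R₀ φ) := fun h1 h2 φ hφ => by
    rcases h.pr.seqIndT_cases (hT hφ) with ⟨j, hj, rfl⟩ | ⟨hi, -⟩
    · rw [r1 j hj]; exact h2 j hj (red_ne_one h.pr (hr _ hφ))
    · rw [r2 φ hi]; exact h1 φ hφ hi
  have mix : ∀ φ ∈ S, φ ∈ Irr L → ∀ j ∈ irrK W W₁, Orth ⊤ (R₁ φ) (prRmu L W W₁ W₂ j) :=
    fun φ hφ hi j hj α hα β hβ => orth_prRmu h.cyc hj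
      (fun i hi' => h6 φ hφ hi α hα _ (h.cyc.mul_irr hi' hj))
      (fun i hi' => h6 φ hφ hi α hα _ (h.cyc.mul_irr hi' (conjC_J hj))) hβ
  refine ⟨R₀, ⟨hch, hS.conj_mem, hr, hτ, fun φ _ => Dade_one h.dade φ,
    (seqInd_orth h.pr.nml).mono hT,
    key (P := fun _ E => ∀ α ∈ E, α ∈ vchar ⊤) (fun φ hφ hi => h2 φ ⟨hφ, hi⟩)
      fun j hj _ α => prRmu_vchar h.cyc hj,
    key (P := fun _ E => Orthon ⊤ E) (fun φ hφ hi => h3 φ ⟨hφ, hi⟩)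
      fun j hj h1 => prRmu_orthon h.cyc hj h1,
    key (P := fun φ E => Dade A₀ L R (φ - conjC φ) = ∑ α ∈ E, α) (fun φ hφ hi => h4 φ ⟨hφ, hi⟩)
      fun j hj h1 => ?_,
    key (P := fun χ E => ∀ φ ∈ S, cfdot L φ χ = 0 → cfdot L φ (conjC χ) = 0 → Orth ⊤ (R₀ φ) E)
      (fun χ hχ hi => key (P := fun φ E => cfdot L φ χ = 0 → cfdot L φ (conjC χ) = 0 →
          Orth ⊤ E (R₁ χ)) (fun φ hφ hi' o1 o2 => pair_R_orth (h5 φ ⟨hφ, hi'⟩) (h5 χ ⟨hχ, hi⟩)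
            (by rw [hτ.dot _ (hm φ hφ) _ (hm χ hχ), dot_sub_conjC_eq_zero o1 o2]))
        fun j hj _ _ _ => (mix χ hχ hi j hj).symm)
      fun k hk hk1 => key (P := fun φ E => cfdot L φ (prRed L W W₁ W₂ k) = 0 →
          cfdot L φ (conjC (prRed L W W₁ W₂ k)) = 0 → Orth ⊤ E (prRmu L W W₁ W₂ k))
        (fun φ hφ hi _ _ => mix φ hφ hi k hk) fun j hj hj1 o1 o2 α hα β hβ => ?_⟩,
    fun φ hφ hi => by rw [r2 φ hi]; exact h6 φ hφ hi, r1⟩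
  · rw [sum_prRmu h.cyc hj h1, ← red_conjC h.pr hj]
    exact h.sub_red hj (conjC_J hj) h1 (conjC_ne_one h1) (by
      rw [red_conjC h.pr hj]; exact (vchar_conj_one (h.pr.red_char hj).vchar).symm)
  · have w0 : (Nat.card W₁ : ℂ) ≠ 0 := cardC_ne_zero W₁
    have n1 : j ≠ k := fun e => w0 (by rwa [h.pr.red_dot hj hk, if_pos e] at o1)
    have n2 : j ≠ conjC k := fun e => w0 (by
      rwa [← red_conjC h.pr hk, h.pr.red_dot hj (conjC_J hk), if_pos e] at o2)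
    exact orth_prRmu h.cyc hk
      (fun i hi => prRmu_orth h.cyc hj hi hk n1 (fun e => n2 (by rw [← e, conjC_conjC])) hα)
      (fun i hi => prRmu_orth h.cyc hj hi (conjC_J hk) n2 (fun e => n1 (conjC_injective e)) hα) hβ
/-- irreducible members of a coherent set are mapped orthogonally to the `η_ij`. -/
theorem PrimeDade.coherent_ortho_eta (h : PrimeDade L K H W W₁ W₂ A A₀ R)
    (hS : ConjSub S (seqIndD K L H ⊥)) (hr : ∀ χ ∈ S, conjC χ ≠ χ)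
    (hc : CohWith L ⊤ S (Dade A₀ L R) τ₁) (hχ : χ ∈ S) (hi : χ ∈ Irr L) {ω : Γ → ℂ}
    (hω : ω ∈ Irr W) : cfdot ⊤ (τ₁ χ) (eta W W₁ W₂ ω) = 0 := by
  obtain ⟨R₀, h1, h2, -⟩ := h.subcoherent hS hr
  exact cfdot_eq_zero_of_zsp_left (fun α hα => h2 χ hχ hi α hα ω hω)
    (h1.coherent_mem_zsp (ConjSub.refl hS.conj_mem) hc hχ)
/-- (5.8). -/
theorem PrimeDade.coherent_TIred (h : PrimeDade L K H W W₁ W₂ A A₀ R)
    (hS : ConjSub S (seqIndD K L H ⊥)) (hr : ∀ χ ∈ S, conjC χ ≠ χ) (hχ : χ ∈ S) (hi : χ ∈ Irr L)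
    (hk : k ∈ irrK W W₁) (hkS : prRed L W W₁ W₂ k ∈ S) (hc : CohWith L ⊤ S (Dade A₀ L R) τ₁) :
    τ₁ (prRed L W W₁ W₂ k) = (prSign L W W₁ W₂ k : ℂ) • ∑ i ∈ irrK W W₂, eta W W₁ W₂ (i * k) ∨
      (τ₁ (prRed L W W₁ W₂ k) =
          -((prSign L W W₁ W₂ k : ℂ) • ∑ i ∈ irrK W W₂, eta W W₁ W₂ (i * conjC k)) ∧
        ∀ l ∈ irrK W W₁, prRed L W W₁ W₂ l ∈ S → prRed L W W₁ W₂ l 1 = prRed L W W₁ W₂ k 1 →
          l = k ∨ l = conjC k) := by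
  classical
  obtain ⟨R₀, h1, -, h3⟩ := h.subcoherent hS hr
  obtain ⟨E, h4, h5⟩ := h1.mem_coherent_sum_subseq (ConjSub.refl hS.conj_mem) hc hkS
  rw [h3 k hk] at h4
  have hk1 := red_ne_one h.pr (hr _ hkS)
  have hO := prRmu_orthon (L := L) h.cyc hk hk1
  have cE : E.card = (irrK W W₂).card := by
    have := hc.norm hkS
    rw [h5, (hO.mono h4).cfnorm_sum, h.pr.red_norm hk, ← h.cyc.card_I] at this
    exact_mod_cast this
  have hV : ∀ x ∈ cycV W W₁ W₂, τ₁ (prRed L W W₁ W₂ k) x = 0 := fun x hx => by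
    have m := cross_mem_zsp0 (mem_zsp_of_mem hkS) (mem_zsp_of_mem hχ)
      (m := deg (prRed L W W₁ W₂ k)) (n := deg χ) (by simpa using (h1.char _ hkS).one_eq)
      (by simpa using irr_one_eq hi)
    have h6 := h.Dade_V (h.zsp0_on hS.sub m) hx
    rw [← hc.ext _ m, map_sub, map_smul, map_smul, Pi.sub_apply, Pi.smul_apply, Pi.smul_apply,
      h.cyc.ortho_vanish (vchar_CF (hc.vchar hχ))
        (fun ω hω => h.coherent_ortho_eta hS hr hc hχ hi hω) hx] at h6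
    simpa [(irr_deg_pos hi).ne'] using h6
  have hex : ∀ i ∈ irrK W W₂, cfdot ⊤ (τ₁ (prRed L W W₁ W₂ k)) (eta W W₁ W₂ (i * k)) =
      cfdot ⊤ (τ₁ (prRed L W W₁ W₂ k)) (eta W W₁ W₂ (cfOne W * k)) := fun i hi' => by
    have h0 : ∀ i ∈ irrK W W₂,
        cfdot ⊤ (τ₁ (prRed L W W₁ W₂ k)) (eta W W₁ W₂ (i * cfOne W)) = 0 := fun i hi' => by
      rw [h5]
      exact cfdot_eq_zero_of_zsp_left (fun α hα => prRmu_orth h.cyc hk hi' h.cyc.one_J hk1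
        (conjC_ne_one hk1) hα) (sum_mem_zsp h4)
    have := h.cyc.cfdot_exchange (vchar_CF (hc.vchar hkS)) hV hi' hk h.cyc.one_I h.cyc.one_J
    rwa [h0 i hi', h0 _ h.cyc.one_I, add_zero, zero_add] at this
  have hmem : ∀ i ∈ irrK W W₂, (prSign L W W₁ W₂ k : ℂ) • eta W W₁ W₂ (i * k) ∈ E ↔
      cfdot ⊤ (τ₁ (prRed L W W₁ W₂ k)) ((prSign L W W₁ W₂ k : ℂ) • eta W W₁ W₂ (i * k)) = 1 :=
    fun i hi' => by
      have m : (prSign L W W₁ W₂ k : ℂ) • eta W W₁ W₂ (i * k) ∈ prRmu L W W₁ W₂ k :=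
        mem_prRmu.mpr ⟨i, hi', Or.inl rfl⟩
      rw [h5, cfdot_sum_left, Finset.sum_congr rfl fun α hα => hO.dot (h4 hα) m]
      simp
  have hiff : ∀ i ∈ irrK W W₂, (prSign L W W₁ W₂ k : ℂ) • eta W W₁ W₂ (i * k) ∈ E ↔
      (prSign L W W₁ W₂ k : ℂ) • eta W W₁ W₂ (cfOne W * k) ∈ E := fun i hi' => by
    rw [hmem i hi', hmem _ h.cyc.one_I, cfdot_smul_right, cfdot_smul_right, hex i hi']
  by_cases c : (prSign L W W₁ W₂ k : ℂ) • eta W W₁ W₂ (cfOne W * k) ∈ E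
  · left
    rw [h5, ← sum_col h.cyc hk]
    congr 1
    refine (Finset.eq_of_subset_of_card_le (fun α hα => ?_) ?_).symm
    · obtain ⟨i, hi', rfl⟩ := Finset.mem_image.mp hα
      exact (hiff i hi').mpr c
    · rw [Finset.card_image_of_injOn (col_inj h.cyc hk), cE]
  right
  have e : τ₁ (prRed L W W₁ W₂ k) =
      -((prSign L W W₁ W₂ k : ℂ) • ∑ i ∈ irrK W W₂, eta W W₁ W₂ (i * conjC k)) := by
    rw [h5, ← sum_col_neg h.cyc (conjC_J hk)]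
    congr 1
    refine Finset.eq_of_subset_of_card_le (fun α hα => ?_) (cE ▸ Finset.card_image_le)
    obtain ⟨i, hi', rfl | rfl⟩ := mem_prRmu.mp (h4 hα)
    · exact (c ((hiff i hi').mp hα)).elim
    · exact Finset.mem_image.mpr ⟨i, hi', rfl⟩
  refine ⟨e, fun l hl hlS hd => ?_⟩
  by_contra hne
  rw [not_or] at hne
  have m := sub_mem_zsp0 (mem_zsp_of_mem hkS) (mem_zsp_of_mem hlS) hd.symm
  have h6 := hc.isom.dot _ (zsp0_le_zsp _ m) _ (mem_zsp_of_mem hkS)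
  have h7 : ∀ j ∈ irrK W W₁, j ≠ conjC k → cfdot ⊤ (∑ i ∈ irrK W W₂, eta W W₁ W₂ (i * j))
      (∑ i ∈ irrK W W₂, eta W W₁ W₂ (i * conjC k)) = 0 := fun j hj hne => by
    rw [cfdot_sum_right]
    exact Finset.sum_eq_zero fun i hi' => by rw [h.cyc.dot_col hj hi' (conjC_J hk), if_neg hne]
  rw [hc.ext _ m, h.sub_red hk hl hk1 (red_ne_one h.pr (hr _ hlS)) hd.symm, e, cfdot_neg_right,
    sign_dot, cfdot_sub_left, h7 k hk (conjC_ne_self h.cyc hk hk1).symm, h7 l hl hne.2,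
    cfdot_sub_left, h.pr.red_dot hk hk, h.pr.red_dot hl hk, if_pos rfl, if_neg hne.1] at h6
  exact cardC_ne_zero W₁ (by simpa using h6.symm)
/-- (5.9)(a). -/
theorem cfAut_Dade_coherent (hD : DadeHypothesis A L R) (u : ℂ →+* ℂ)
    (hc : CohWith L ⊤ S (Dade A L R) τ₁) (h2 : 1 < (irrPart L S).card)
    (hu : ∀ φ ∈ S, cfAut u φ ∈ S) (hi : χ ∈ Irr L) (hχ : χ ∈ S) :
    cfAut u (τ₁ χ) = τ₁ (cfAut u χ) := by
  obtain ⟨ψ, hψ, hne⟩ := Finset.exists_mem_ne h2 χ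
  obtain ⟨hψ, hi'⟩ := mem_irrPart.mp hψ
  have ha := (hc.dirr hχ hi).aut u
  have hb := hc.dirr (hu χ hχ) (irr_aut hi u)
  have hc' := (hc.dirr hψ hi').aut u
  have hbd : cfdot ⊤ (τ₁ (cfAut u ψ)) (τ₁ (cfAut u χ)) = 0 := by
    rw [hc.dot (hu ψ hψ) (hu χ hχ)]
    exact irr_dot_ne (irr_aut hi' u) (irr_aut hi u) fun e => hne (cfAut_injective u e)
  have m := cross_mem_zsp0 (mem_zsp_of_mem hψ) (mem_zsp_of_mem hχ) (m := deg ψ) (n := deg χ)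
    (by simpa using irr_one_eq hi') (by simpa using irr_one_eq hi)
  have m' := cross_mem_zsp0 (mem_zsp_of_mem (hu ψ hψ)) (mem_zsp_of_mem (hu χ hχ)) (m := deg ψ)
    (n := deg χ) (by simp [irr_one_eq hi']) (by simp [irr_one_eq hi])
  have h3 : (deg χ : ℂ) • cfAut u (τ₁ ψ) - (deg ψ : ℂ) • cfAut u (τ₁ χ) =
      (deg χ : ℂ) • τ₁ (cfAut u ψ) - (deg ψ : ℂ) • τ₁ (cfAut u χ) := by
    have e1 := congrArg (cfAut u) (hc.ext _ m)
    have e2 := hc.ext _ m'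
    rw [← Dade_aut] at e1
    simp only [map_sub, map_smul, cfAut_smul, Int.cast_natCast, map_natCast] at e1 e2
    rw [e1, e2]
  have h4 : (deg χ : ℂ) * cfAut u (τ₁ ψ) 1 = deg ψ * cfAut u (τ₁ χ) 1 := by
    have e1 := congrFun (hc.ext _ m) 1
    rw [Dade_one hD] at e1
    simp only [map_sub, map_smul, Int.cast_natCast, Pi.sub_apply, Pi.smul_apply, smul_eq_mul] at e1
    rw [cfAut_apply, cfAut_apply, vchar_aut_one (hc.vchar hψ), vchar_aut_one (hc.vchar hχ),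
      sub_eq_zero.mp e1]
  have h5 : cfAut u (τ₁ χ) 1 = τ₁ (cfAut u χ) 1 := by
    have e1 := congrFun (hc.ext _ (sub_mem_zsp0 (mem_zsp_of_mem hχ) (mem_zsp_of_mem (hu χ hχ))
      (vchar_aut_one (irr_vchar hi) u).symm)) 1
    rw [Dade_one hD, map_sub, Pi.sub_apply, sub_eq_zero] at e1
    rw [cfAut_apply, vchar_aut_one (hc.vchar hχ), e1]
  have b0 := hb.one_ne_zero
  have s0 : (deg χ : ℂ) + deg ψ ≠ 0 := by
    have := irr_deg_pos hi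
    exact_mod_cast (by omega : deg χ + deg ψ ≠ 0)
  rcases ha.cases hb with e | e | e
  · exact e
  · rw [e, Pi.neg_apply] at h5
    exact (b0 (by linear_combination -h5 / 2)).elim
  have h6 := congrArg (cfdot ⊤ · (τ₁ (cfAut u χ))) h3
  simp only [cfdot_sub_left, cfdot_smul_left, e, hbd, hb.dot_self] at h6
  rcases hc'.dot_cases hb with e' | e' | e'
  · rw [e'.2] at h6
    exact (s0 (by linear_combination h6)).elim
  · rw [e'.1, h5, Pi.neg_apply] at h4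
    exact (b0 ((mul_eq_zero.mp (by linear_combination -h4)).resolve_left s0)).elim
  · rw [e'] at h6
    exact absurd (by exact_mod_cast (by linear_combination h6 : (deg ψ : ℂ) = 0))
      (irr_deg_pos hi').ne'
theorem cfConjC_Dade_coherent {M : Subgroup Γ} (hD : DadeHypothesis A L R)
    (hc : CohWith L ⊤ (seqIndD K L H M) (Dade A L R) τ₁) (hodd : Odd (Nat.card L)) (hK : K ⊴ L)
    (hH : H ≤ K) (hi : χ ∈ Irr L) (hχ : χ ∈ seqIndD K L H M) :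
    conjC (τ₁ χ) = τ₁ (conjC χ) :=
  cfAut_Dade_coherent hD _ hc (one_lt_card_irrPart hK hodd hH hχ hi) (fun _ => cfAut_seqIndD _) hi hχ
end prDade

end H27
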