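import Mathlib
import Cfsg.Agent.H27.PF5b
import Cfsg.Agent.H27.Defs2

/-!
# Peterfalvi §6, part (a): (6.2)–(6.6).
-/

set_option autoImplicit false
set_option linter.unusedSectionVars false
set_option linter.unusedVariables false

namespace H27

open Cfsg H24
open scoped ComplexConjugate

universe u v

variable {Γ : Type u} [Group Γ] [Finite Γ] {Γ' : Type v} [Group Γ'] [Finite Γ']

section general
variable {K L : Subgroup Γ} {G : Subgroup Γ'} {τ : (Γ → ℂ) →ₗ[ℂ] (Γ' → ℂ)}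
  {R : (Γ → ℂ) → Finset (Γ' → ℂ)}

/-- iterated (5.6). -/
theorem Subcoh.extend_cover {S S₀ T : Finset (Γ → ℂ)} (h : Subcoh L G S τ R) (hS : ConjSub S₀ S)
    (hc : Coherent L G S₀ τ) (hT : T ⊆ S)
    (hb : ∀ ψ ∈ T, ψ ∉ S₀ → ∃ ξ ∈ S₀, deg ξ ∣ deg ψ ∧
      2 * (deg ψ : ℝ) * deg ξ < ∑ φ ∈ S₀, (deg φ : ℝ) ^ 2 / cfnorm L φ) : Coherent L G T τ := by
  classical
  suffices H : ∃ S₁, S₀ ⊆ S₁ ∧ ConjSub S₁ S ∧ T ⊆ S₁ ∧ Coherent L G S₁ τ by
    obtain ⟨S₁, -, -, h1, h2⟩ := H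
    exact h2.mono h1
  induction T using Finset.induction_on with
  | empty => exact ⟨S₀, Finset.Subset.refl _, hS, Finset.empty_subset _, hc⟩
  | insert ψ T _ ih =>
    obtain ⟨S₁, h1, h2, h3, h4⟩ := ih ((Finset.subset_insert _ _).trans hT)
      fun ψ hψ => hb ψ (Finset.mem_insert_of_mem hψ)
    by_cases e : ψ ∈ S₁
    · exact ⟨S₁, h1, h2, Finset.insert_subset e h3, h4⟩
    have hψ := hT (Finset.mem_insert_self _ _)
    obtain ⟨ξ, h5, h6, h7⟩ := hb ψ (Finset.mem_insert_self _ _) fun h' => e (h1 h')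
    refine ⟨insert ψ (insert (conjC ψ) S₁), h1.trans ((Finset.subset_insert _ _).trans
      (Finset.subset_insert _ _)), ⟨Finset.insert_subset hψ (Finset.insert_subset
        (h.conj_mem ψ hψ) h2.sub), fun φ hφ => ?_⟩, Finset.insert_subset_insert _
        (h3.trans (Finset.subset_insert _ _)), h.extend_coherent h2 (h1 h5) hψ e h4 h6
        (h7.trans_le (Finset.sum_le_sum_of_subset_of_nonneg h1 fun φ _ _ =>
          div_nonneg (sq_nonneg _) (cfnorm_nonneg _ _)))⟩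
    simp only [Finset.mem_insert] at hφ ⊢
    rcases hφ with rfl | rfl | hφ
    · simp
    · simp
    · exact Or.inr (Or.inr (h2.conj_mem φ hφ))

/-- (6.2). -/
theorem coherent_seqIndD_bound (hK : K ⊴ L) (hs : Sol K) (hS : Subcoh L G (seqIndD K L K ⊥) τ R)
    {A B C D : Subgroup Γ} (hA : A ⊴ L) (hB : B ⊴ L) (hC : C ⊴ L) (hD : D ⊴ L) (hAK : A < K)
    (hBD : B ≤ D) (hDC : D ≤ C) (hCK : C ≤ K) (hc : ⁅C, D⁆ ≤ B)
    (hcoh : Coherent L G (seqIndD K L K A) τ) :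
    Coherent L G (seqIndD K L K B) τ ∨
      (A.relIndex K - 1) ^ 2 ≤ 4 * C.relIndex L ^ 2 * D.relIndex C := by
  rw [or_iff_not_imp_right, not_le]
  intro hlt
  obtain ⟨ξ, h1, h2⟩ := exists_linInd_sol hK.le hs (hA.of_le hAK.le hK.le) hAK.ne
  refine hS.extend_cover (seqIndD_conjSub K L le_rfl bot_le) hcoh (seqIndD_mono K L le_rfl bot_le)
    fun ψ hψ _ => ⟨ξ, h1, ?_, ?_⟩
  · rw [deg_eq_of h2]; exact dvd_index_seqInd1 hK.le (seqIndD_subT _ _ _ _ hψ)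
  obtain ⟨θ, h3, h4, -, rfl⟩ := mem_seqIndD.mp hψ
  have h5 := irr1_bound_quo h3 h4 hDC hCK hc
  rw [sum_seqIndD_square hK hK hA hAK.le le_rfl, deg_eq_of h2, Subgroup.relIndex_self,
    Nat.cast_one, one_mul, mul_comm]
  refine mul_lt_mul_of_pos_left ?_ (by exact_mod_cast relIndex_pos K L)
  have h6 : 2 * deg (cfInd L K θ) < A.relIndex K - 1 := by
    refine lt_of_pow_lt_pow_left₀ 2 (Nat.zero_le _) (lt_of_le_of_lt ?_ hlt)
    rw [(irr_char h3).deg_ind hK.le, ← Subgroup.relIndex_mul_relIndex C K L hCK hK.le]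
    nlinarith [Nat.mul_le_mul_left (4 * K.relIndex L ^ 2) h5]
  rw [lt_sub_iff_add_lt]
  exact_mod_cast (by omega : 2 * deg (cfInd L K θ) + 1 < A.relIndex K)

theorem Chief.comm_le_of_nil {L H A B : Subgroup Γ} (h : Chief L B A) (hH : H ⊴ L) (hAH : A ≤ H)
    (hn : Nil (quo H B)) : ⁅H, A⁆ ≤ B :=
  (quo_cents (hH.le.trans h.nmlV.norm) h.nml.norm).mp (cents_symm (h.minNml.le_C_of_nil hn
    (quo_mono B hAH) (quo_norm B (hH.le.trans h.nmlU.norm)) (quo_norm B hH.norm)))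

/-- (6.3). -/
theorem bounded_seqIndD_coherence (hK : K ⊴ L) (hs : Sol K)
    (hS : Subcoh L G (seqIndD K L K ⊥) τ R) {M H H₁ : Subgroup Γ} (hM : M ⊴ L) (hH : H ⊴ L)
    (hH₁ : H₁ ⊴ L) (h1 : M ≤ H₁) (h2 : H₁ ≤ H) (h3 : H ≤ K) (hn : Nil (quo H M))
    (hcoh : Coherent L G (seqIndD K L K H₁) τ) (hlt : 4 * K.relIndex L ^ 2 + 1 < H₁.relIndex H) :
    Coherent L G (seqIndD K L K M) τ := by
  induction H₁ using subgroup_ind with
  | h A ih =>
  rcases h1.eq_or_lt with rfl | h1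
  · exact hcoh
  obtain ⟨B, h4, h5⟩ := exists_chief_below hM hH₁ h1
  have hAH : A < H := lt_of_le_of_ne h2 fun e => by simp [e] at hlt
  rcases coherent_seqIndD_bound hK hs hS hH₁ h4.nmlV hH hH₁ (hAH.trans_le h3) h4.le h2 h3
    (Chief.comm_le_of_nil h4 hH h2 (hn.quo_mono (hH.le.trans hM.norm) (hH.le.trans h4.nmlV.norm)
      (inf_le_left.trans h5))) hcoh with h6 | h6
  · refine ih B h4.lt h4.nmlV h5 (h4.le.trans h2) h6 (hlt.trans_le ?_)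
    exact Nat.le_of_dvd (relIndex_pos _ _) (Subgroup.relIndex_dvd_of_le_left _ h4.le)
  exfalso
  rw [← Subgroup.relIndex_mul_relIndex A H K h2 h3, ← Subgroup.relIndex_mul_relIndex H K L h3 hK.le]
    at h6
  have k0 := relIndex_pos H K
  generalize A.relIndex H = x at h6 hlt
  generalize H.relIndex K = k at h6 k0
  generalize K.relIndex L = e at h6 hlt
  obtain ⟨y, rfl⟩ : ∃ y, x = y + 2 := ⟨x - 2, by omega⟩
  have h7 : (k * (y + 1)) ^ 2 ≤ ((y + 2) * k - 1) ^ 2 :=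
    Nat.pow_le_pow_left (Nat.le_sub_one_of_lt (by nlinarith)) 2
  have h8 : k ^ 2 * (y + 1) ^ 2 ≤ k ^ 2 * (4 * e ^ 2 * (y + 2)) := by nlinarith
  have h9 := Nat.le_of_mul_le_mul_left h8 (by positivity)
  nlinarith [Nat.mul_le_mul_right (y + 2) (by omega : 4 * e ^ 2 ≤ y)]

theorem two_mul_add_one_le {e n : ℕ} (he : Odd e) (hn : Odd n) (h1 : 1 < n) (h : e ∣ n - 1) :
    2 * e + 1 ≤ n := by
  have h2 : 2 * e ∣ n - 1 := Nat.Coprime.mul_dvd_of_dvd_of_dvd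
    (Nat.coprime_two_left.mpr he) (Nat.Odd.sub_odd hn odd_one).two_dvd h
  have := Nat.le_of_dvd (by omega) h2
  omega

theorem odd_relIndex {A B : Subgroup Γ} (h : Odd (Nat.card B)) : Odd (A.relIndex B) :=
  Odd.of_dvd_nat h (Subgroup.relIndex_dvd_card A B)

theorem FrobK.index_dvd_quo {M A : Subgroup Γ} (hM : M ⊴ L) (hK : K ⊴ L) (hMK : M ≤ K)
    (h : FrobK (quo L M) (quo K M)) (hA : A ⊴ L) (h1 : M ≤ A) (h2 : A ≤ K) :
    K.relIndex L ∣ M.relIndex A - 1 := by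
  obtain ⟨E, hE⟩ := h
  rw [← relIndex_quo (hM.of_le hMK hK.le) hM.norm, hE.sd.relIndex_left,
    ← card_quo (hA.le.trans hM.norm)]
  exact (hE.reg.mono (quo_mono M h2) le_rfl).dvd_pred (hE.compl_le.trans (quo_norm M hA.norm))

theorem FrobK.index_le_quo {M A B : Subgroup Γ} (hodd : Odd (Nat.card L)) (hM : M ⊴ L) (hK : K ⊴ L)
    (hMK : M ≤ K) (h : FrobK (quo L M) (quo K M)) (hA : A ⊴ L) (hB : B ⊴ L) (h1 : M ≤ A)
    (h2 : A < B) (h3 : B ≤ K) : 2 * K.relIndex L + 1 ≤ A.relIndex B := by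
  have h4 := h.index_dvd_quo hM hK hMK hA h1 (h2.le.trans h3)
  have h5 := h.index_dvd_quo hM hK hMK hB (h1.trans h2.le) h3
  rw [← Subgroup.relIndex_mul_relIndex M A B h1 h2.le] at h5
  refine two_mul_add_one_le (odd_relIndex hodd) (odd_relIndex (odd_of_le hodd hB.le))
    (Nat.one_lt_iff_ne_zero_and_ne_one.mpr ⟨(relIndex_pos _ _).ne', fun e =>
      h2.not_ge (Subgroup.relIndex_eq_one.mp e)⟩) ?_
  have a0 := relIndex_pos M A
  have b0 := relIndex_pos A B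
  generalize M.relIndex A = a at *
  generalize A.relIndex B = b at *
  obtain ⟨a, rfl⟩ : ∃ c, a = c + 1 := ⟨a - 1, by omega⟩
  obtain ⟨b, rfl⟩ : ∃ c, b = c + 1 := ⟨b - 1, by omega⟩
  rw [show (a + 1) * (b + 1) - 1 = a * (b + 1) + b by rw [add_mul]; omega] at h5
  exact (Nat.dvd_add_right (Dvd.dvd.mul_right h4 _)).mp h5

theorem seqIndD_der_one (hKL : K ≤ L) {H M : Subgroup Γ} (hM : ⁅K, K⁆ ≤ M) {φ : Γ → ℂ}
    (hφ : φ ∈ seqIndD K L H M) : φ 1 = K.relIndex L := by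
  obtain ⟨θ, h1, h2, -, rfl⟩ := mem_seqIndD.mp hφ
  rw [cfInd_one hKL, (irr_lin_of_der_le h1 (hM.trans h2)).one, mul_one]

theorem Subcoh.coherent_der (hS : Subcoh L G (seqIndD K L K ⊥) τ R) (hKL : K ≤ L) {M : Subgroup Γ}
    (hM : ⁅K, K⁆ ≤ M) : Coherent L G (seqIndD K L K M) τ :=
  (hS.sub (seqIndD_conjSub K L le_rfl bot_le)).uniform_degree_coherence fun φ hφ ψ hψ => by
    rw [seqIndD_der_one hKL hM hφ, seqIndD_der_one hKL hM hψ]

theorem Nil.isPi_of_der {X : Subgroup Γ} {π : Set ℕ} (h : Nil X) (hp : PiNat π (⁅X, X⁆.relIndex X)) :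
    IsPi π X := by
  have h1 := le_of_idx_compl' (der1_nml X) hp (pcore_pi πᶜ X) (pcore_le _ _)
  have h2 := h.pcoreC π
  have h3 : O[π, X] = X := Phi_nongen (pcore_le _ _) (by
    nth_rewrite 1 [← h2.sup]
    exact sup_le_sup_left (h1.trans h.der1_le_Phi) _)
  exact isPi_of_pcore_eq h3

/-- (6.5). -/
theorem non_coherent_chief (hK : K ⊴ L) (hs : Sol K) (hS : Subcoh L G (seqIndD K L K ⊥) τ R)
    {M : Subgroup Γ} (h : OddFrobQuo K L M) :
    Coherent L G (seqIndD K L K M) τ ∨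
      (Chief L (⁅K, K⁆ ⊔ M) K ∧ (⁅K, K⁆ ⊔ M).relIndex K ≤ 4 * K.relIndex L ^ 2 + 1 ∧
        ∃ p : ℕ, p.Prime ∧ IsPi {p} (quo K M) ∧ ¬ ⁅K, K⁆ ≤ M ∧ ¬ K.relIndex L ∣ p - 1) := by
  have hH₁ : ⁅K, K⁆ ⊔ M ⊴ L := hK.der1.sup h.nml
  have hle : ⁅K, K⁆ ⊔ M ≤ K := sup_le (der1_le K) h.le
  by_cases hab : ⁅K, K⁆ ≤ M
  · exact Or.inl (hS.coherent_der hK.le hab)
  rcases lt_or_ge (4 * K.relIndex L ^ 2 + 1) ((⁅K, K⁆ ⊔ M).relIndex K) with hb | hb
  · exact Or.inl (bounded_seqIndD_coherence hK hs hS h.nml hK hH₁ le_sup_right hle le_rfl h.nil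
      (hS.coherent_der hK.le le_sup_left) hb)
  right
  have e0 := relIndex_pos K L
  have hlt : ⁅K, K⁆ ⊔ M < K := lt_of_le_of_ne hle fun e =>
    h.frob.ne_bot (quo_eq_bot_of_le e.ge)
  have hch : Chief L (⁅K, K⁆ ⊔ M) K := ⟨hlt, hH₁, hK, fun W h1 h2 h3 => by
    by_contra hne
    rw [not_or] at hne
    have hW : W ⊴ L := ⟨h2.trans hK.le, h3⟩
    have h4 := h.frob.index_le_quo h.odd hH₁ hK hle hH₁ hW le_rfl
      (lt_of_le_of_ne h1 (Ne.symm hne.1)) h2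
    have h5 := h.frob.index_le_quo h.odd hH₁ hK hle hW hK h1 (lt_of_le_of_ne h2 hne.2) le_rfl
    rw [← Subgroup.relIndex_mul_relIndex _ W K h1 h2] at hb
    nlinarith [Nat.mul_le_mul h4 h5]⟩
  obtain ⟨p, hp, hel⟩ := hch.elem hs
  have hMK := h.nml.of_le h.le hK.le
  have hidx : ⁅quo K M, quo K M⁆.relIndex (quo K M) = (⁅K, K⁆ ⊔ M).relIndex K := by
    rw [← quo_comm hMK.norm hMK.norm, ← quo_sup_right ((der1_le K).trans hMK.norm),
      relIndex_quo (h.nml.of_le le_sup_right hH₁.le) hMK.norm]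
  have hpi : IsPi {p} (quo K (⁅K, K⁆ ⊔ M)) := isPi_iff_piElt.mpr fun x hx =>
    piElt_of_pow_eq_one (fun q hq hd => (Nat.prime_dvd_prime_iff_eq hq hp).mp hd) (hel.2 x hx)
  have hN : K ≤ N[⁅K, K⁆ ⊔ M] := hK.le.trans hH₁.norm
  refine ⟨hch, hb, p, hp, Nil.isPi_of_der h.nil (hidx ▸ (isPi_quo_iff hN).mp hpi), hab, fun hd => ?_⟩
  obtain ⟨n, hn⟩ := hpi.card_eq_pow hp
  rw [card_quo hN] at hn
  rcases n with _ | _ | n
  · exact hlt.not_ge (Subgroup.relIndex_eq_one.mp hn)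
  · refine hab ((abl_quo hMK.norm).mp (h.nil.cyc_of_quo_der1 (cyc_of_prime ?_)).abl)
    rw [card_quo (der1_nml _).norm, hidx, hn]
    simpa
  · have h4 : Odd p := (odd_relIndex (A := ⁅K, K⁆ ⊔ M) (odd_of_le h.odd hK.le)).of_dvd_nat
      (by rw [hn]; exact dvd_pow_self p (by omega))
    have h5 := two_mul_add_one_le (odd_relIndex h.odd) h4 hp.one_lt hd
    have h6 : p ^ 2 ≤ p ^ (n + 1 + 1) := Nat.pow_le_pow_right hp.pos (by omega)
    nlinarith [Nat.pow_le_pow_left h5 2]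

theorem seqIndD_eq_irrKD (hK : K ⊴ L) {Z : Subgroup Γ} (hZ : Z ⊴ L) (hZK : Z ≤ K)
    (hi : seqIndD K L Z ⊥ ⊆ Irr L) : seqIndD K L Z ⊥ = irrKD L Z ⊥ := by
  ext χ
  rw [mem_irrKD]
  refine ⟨fun h => ⟨hi h, bot_le, ((mem_seqIndD_iff_ker hK.le hZ (Nml.bot L)).mp h).2.2⟩,
    fun ⟨h1, _, h2⟩ => ?_⟩
  obtain ⟨θ, h3, h4⟩ := exists_irr_under hK.le h1
  have h5 : cfInd L K θ ∈ seqIndD K L Z ⊥ := mem_seqIndD.mpr ⟨θ, h3, bot_le,
    fun h => h2 ((le_cfker_constt_res_iff hK hZ hZK h1 h3 h4).mp h), rfl⟩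
  rwa [irr_eq_of_dot_ne h1 (hi h5) (by rwa [cfdot_cfInd_right hK.le (irr_CF h1)])]

/-- (6.6). -/
theorem seqIndD_irr_coherence (hK : K ⊴ L) (hS : Subcoh L G (seqIndD K L K ⊥) τ R)
    (h : OddFrobQuo K L ⊥) {Z : Subgroup Γ} (hZ : Z ⊴ L) (hZ1 : Z ≠ ⊥) (hZK : Z ≤ Z[K])
    (hi : seqIndD K L Z ⊥ ⊆ Irr L) :
    seqIndD K L Z ⊥ = irrKD L Z ⊥ ∧ Coherent L G (seqIndD K L Z ⊥) τ := by
  classical
  have hZK' : Z ≤ K := hZK.trans inf_le_left
  refine ⟨seqIndD_eq_irrKD hK hZ hZK' hi, ?_⟩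
  have hN : K ≤ N[(⊥ : Subgroup Γ)] := (Nml.bot K).norm
  have hX : ConjSub (seqIndD K L Z ⊥) (seqIndD K L K ⊥) := seqIndD_conjSub K L hZK' le_rfl
  rcases non_coherent_chief hK (nil_of_quo hN (by simp) h.nil).sol hS h with hc |
    ⟨hch, -, p, hp, hpi, -, -⟩
  · exact hc.mono hX.sub
  replace hpi := isPi_of_quo hN (isPi_bot _) hpi
  have hN' := hch.nml.norm
  have hcop : p.Coprime (K.relIndex L) := by
    obtain ⟨E, hE⟩ := h.frob
    rw [← relIndex_quo hch.nml hch.nmlV.norm, hE.sd.relIndex_left]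
    exact hE.coprime.coprime_dvd_left ((hpi.quo _).dvd_card hE.ker_ne)
  have p3 : 3 ≤ p := by
    have h1 : Odd p := hpi.odd_prime (ne_bot_of_le hZ1 hZK') (odd_of_le h.odd hK.le)
    have := hp.two_le
    rcases h1 with ⟨k, rfl⟩
    omega
  obtain ⟨c, hc⟩ := (piNat_singleton hp (relIndex_pos Z K).ne').mp (hpi.relIndex Z)
  have hdeg : ∀ χ ∈ seqIndD K L Z ⊥, ∃ b, deg χ = K.relIndex L * p ^ b ∧ (p ^ b) ^ 2 ∣ p ^ c := by
    intro χ hχ
    obtain ⟨θ, h1, -, -, rfl⟩ := mem_seqIndD.mp hχ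
    obtain ⟨b, hb⟩ := (piNat_singleton hp (irr_deg_pos h1).ne').mp
      (fun q hq hd => hpi.mem hq (hd.trans (irr_deg_dvd_card h1)))
    have h2 := irr_deg_sq_le h1 hZK' fun z hz x hx => by
      rw [← comm_of_cent (hZK.trans inf_le_right) hz hx]; simp
    rw [hb, hc, ← pow_mul] at h2
    exact ⟨b, by rw [(irr_char h1).deg_ind hK.le, hb], by
      rw [← pow_mul]; exact pow_dvd_pow p ((Nat.pow_le_pow_iff_right hp.one_lt).mp h2)⟩
  have hsum : p ^ c ∣ ∑ χ ∈ seqIndD K L Z ⊥, deg χ ^ 2 := by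
    have h1 := sum_seqIndD_square hK hZ (Nml.bot L) bot_le hZK'
    rw [Finset.sum_congr rfl fun χ hχ => by rw [irr_norm (hi hχ), div_one], hc] at h1
    obtain ⟨m, hm⟩ : ∃ m, (⊥ : Subgroup Γ).relIndex Z = m + 1 :=
      ⟨_, (Nat.succ_pred_eq_of_pos (relIndex_pos _ _)).symm⟩
    rw [hm, Nat.cast_add, Nat.cast_one, add_sub_cancel_right] at h1
    have h2 : ∑ χ ∈ seqIndD K L Z ⊥, deg χ ^ 2 = K.relIndex L * (p ^ c * m) := by exact_mod_cast h1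
    rw [h2]
    exact Dvd.dvd.mul_left (Dvd.intro _ rfl) _
  have e0 := relIndex_pos K L
  have hcs : ∀ n, ConjSub ((seqIndD K L Z ⊥).filter fun χ => deg χ < n) (seqIndD K L K ⊥) :=
    fun n => ⟨(Finset.filter_subset _ _).trans hX.sub, fun χ hχ => by
      rw [Finset.mem_filter] at hχ ⊢
      exact ⟨hX.conj_mem χ hχ.1, by rw [deg_conjC]; exact hχ.2⟩⟩
  suffices H : ∀ n, Coherent L G ((seqIndD K L Z ⊥).filter fun χ => deg χ < n) τ by
    refine (H ((seqIndD K L Z ⊥).sup deg + 1)).mono fun χ hχ => ?_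
    exact Finset.mem_filter.mpr ⟨hχ, Nat.lt_succ_of_le (Finset.le_sup hχ)⟩
  intro n
  induction n with
  | zero => simpa using coherent_empty L G τ
  | succ n ih =>
  have hn : ∀ ψ ∈ (seqIndD K L Z ⊥).filter fun χ => deg χ < n + 1,
      ψ ∉ (seqIndD K L Z ⊥).filter (fun χ => deg χ < n) → deg ψ = n := fun ψ h1 h2 => by
    rw [Finset.mem_filter] at h1 h2
    have : ¬ deg ψ < n := fun e => h2 ⟨h1.1, e⟩
    omega
  rcases ((seqIndD K L Z ⊥).filter fun χ => deg χ < n).eq_empty_or_nonempty with e | ⟨ξ, hξ⟩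
  · refine (hS.sub (hcs (n + 1))).uniform_degree_coherence fun φ hφ ψ hψ => ?_
    rw [(hS.char φ ((hcs _).sub hφ)).one_eq, (hS.char ψ ((hcs _).sub hψ)).one_eq,
      hn φ hφ (by simp [e]), hn ψ hψ (by simp [e])]
  refine hS.extend_cover (hcs n) ih (hcs (n + 1)).sub fun ψ hψ hψ' => ⟨ξ, hξ, ?_⟩
  have h1 := hn ψ hψ hψ'
  obtain ⟨b, hb, hb'⟩ := hdeg ψ (Finset.mem_filter.mp hψ).1
  obtain ⟨a, ha, -⟩ := hdeg ξ (Finset.mem_filter.mp hξ).1
  have hab : a < b := by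
    have := (Finset.mem_filter.mp hξ).2
    rw [← h1, ha, hb] at this
    exact (Nat.pow_lt_pow_iff_right hp.one_lt).mp (Nat.lt_of_mul_lt_mul_left this)
  refine ⟨by rw [ha, hb]; exact Nat.mul_dvd_mul_left _ (pow_dvd_pow p hab.le), ?_⟩
  rw [Finset.sum_congr rfl fun χ hχ => by rw [irr_norm (hi (Finset.mem_filter.mp hχ).1), div_one]]
  have h2 : deg ψ ^ 2 ∣ ∑ χ ∈ (seqIndD K L Z ⊥).filter fun χ => deg χ < n, deg χ ^ 2 := by
    rw [hb, mul_pow]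
    refine Nat.Coprime.mul_dvd_of_dvd_of_dvd (((hcop.symm.pow_right b).pow 2 2))
      (Finset.dvd_sum fun χ hχ => pow_dvd_pow_of_dvd (dvd_index_seqInd1 hK.le
        (seqIndD_subT _ _ _ _ (Finset.mem_filter.mp hχ).1)) 2) ?_
    have h3 := hb'.trans hsum
    rw [← Finset.sum_filter_add_sum_filter_not _ fun χ => deg χ < n] at h3
    refine (Nat.dvd_add_left (Finset.dvd_sum fun χ hχ => ?_)).mp h3
    obtain ⟨h4, h5⟩ := Finset.mem_filter.mp hχ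
    obtain ⟨d, hd, -⟩ := hdeg χ h4
    rw [← h1, hb, hd, not_lt] at h5
    rw [hd]
    exact pow_dvd_pow_of_dvd (Dvd.dvd.mul_left (pow_dvd_pow p ((Nat.pow_le_pow_iff_right
      hp.one_lt).mp (Nat.le_of_mul_le_mul_left h5 e0))) _) 2
  have x0 : 0 < deg ξ := by rw [ha]; have := hp.pos; positivity
  have h3 := Nat.le_of_dvd (lt_of_lt_of_le (by positivity) (Finset.single_le_sum
    (f := fun χ => deg χ ^ 2) (fun _ _ => Nat.zero_le _) hξ)) h2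
  have h4 : 3 * deg ξ ≤ deg ψ := by
    rw [ha, hb, mul_left_comm]
    refine Nat.mul_le_mul_left _ ((Nat.mul_le_mul_right _ p3).trans ?_)
    rw [← pow_succ']
    exact Nat.pow_le_pow_right hp.pos hab
  have h5 : 2 * deg ψ * deg ξ < ∑ χ ∈ (seqIndD K L Z ⊥).filter fun χ => deg χ < n, deg χ ^ 2 := by
    nlinarith
  exact_mod_cast h5
end general

end H27
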