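import Mathlib
import Cfsg.Agent.H27.PF5
import Cfsg.Agent.H27.PF6a
import Cfsg.Agent.H2.PF67

/-!
# Peterfalvi §6: (6.7) and Sibley's coherence theorem (6.8).  (6.2)–(6.6) are in `PF6a`.
-/

set_option autoImplicit false
set_option linter.unusedSectionVars false
set_option linter.unusedVariables false

namespace H27

open Cfsg H24
open scoped ComplexConjugate

universe u v

variable {Γ : Type u} [Group Γ] [Finite Γ] {Γ' : Type v} [Group Γ'] [Finite Γ']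

theorem NormedTI.shp_le {H L : Subgroup Γ} (h : NormedTI (shp H) L) : H ≤ L :=
  (norm_self H).trans h.N_eq.le

theorem NormedTI.shp_nml {H L : Subgroup Γ} (h : NormedTI (shp H) L) : H ⊴ L :=
  ⟨NormedTI.shp_le h, h.N_eq.ge⟩

/-- (6.7). -/
theorem constant_irr_mod_TI_Sylow {Z L P : Subgroup Γ} {p : ℕ} (hp : p.Prime) (hP : Syl p ⊤ P)
    (hodd : Odd (Nat.card L)) (hTI : NormedTI (shp P) L) (hZ : Z ⊴ L) (hZP : Z ≤ Z[P])
    (hc : ∀ x ∈ shp Z, ∀ y ∈ shp Z, Nat.card ↥(L ⊓ C{x}) = Nat.card ↥(L ⊓ C{y}))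
    {φ : Γ → ℂ} (hφ : φ ∈ Irr (⊤ : Subgroup Γ)) (hconst : ∀ x ∈ shp Z, ∀ y ∈ shp Z, φ x = φ y)
    {x : Γ} (hx : x ∈ shp Z) : ∃ n : ℤ, φ x = n ∧ (Nat.card P : ℤ) ∣ n - deg φ := by
  obtain ⟨n, h1, h2⟩ := H2.constant_irr_mod_TI_Sylow hP hodd (nti_of_normedTI hTI)
    (NormedTI.shp_le hTI) hZ hZP hφ (fun x hx y hy h1 h2 => hconst x ⟨hx, h1⟩ y ⟨hy, h2⟩) hx.1 hx.2
  exact ⟨n, h1, dvd_sub_comm.mp h2⟩

namespace PF6
variable {L H K M V W₁ Z : Subgroup Γ} {R : (Γ → ℂ) → Finset (Γ → ℂ)}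
  {τ₁ : (Γ → ℂ) →ₗ[ℂ] (Γ → ℂ)} {η₁ φ ψ : Γ → ℂ}

theorem frobK_quo (hsd : SD H W₁ L) (hcop : (♯H).Coprime ♯W₁) (hW : W₁ ≠ ⊥) (hV : V ⊴ L)
    (hVH : V < H) (hc : ∀ x ∈ W₁, x ≠ 1 → H ⊓ C{x} ≤ V) : FrobK (quo L V) (quo H V) := by
  have hN := hsd.left_le.trans hV.norm
  have hN' := hsd.right_le.trans hV.norm
  refine ⟨quo W₁ V, hsd.quo_of_le hVH.le hV.norm, fun e => hVH.not_ge ((quo_eq_bot hN).mp e),
    fun e => hW (eq_bot_of_le hsd.inf (le_inf (((quo_eq_bot hN').mp e).trans hVH.le) le_rfl)),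
    fun z hz h1 => ?_⟩
  obtain ⟨x, hx, hxN, rfl⟩ := mem_quo.mp hz
  rw [← coprime_quo_cent1 (hsd.norm hx) hxN hN ((hcop.coprime_dvd_left (card_dvd hVH.le)).coprime_dvd_right
    (orderOf_dvd_card' hx))]
  exact quo_eq_bot_of_le (hc x hx fun e => h1 (by rw [e]; exact ap_one _))

theorem irr_of_frobK_quo (hM : M ⊴ L) (hK : K ⊴ L) (hMK : M ≤ K) (h : FrobK (quo L M) (quo K M))
    (hφ : φ ∈ seqIndD K L K M) : φ ∈ Irr L := by
  obtain ⟨θ, h1, h2, h3, rfl⟩ := mem_seqIndD.mp hφ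
  obtain ⟨θ', h4, rfl⟩ := exists_irr_mod_eq (hK.le.trans hM.norm) h1 (inf_le_right.trans h2)
  rw [cfInd_cfMod hM hMK hK.le]
  refine irrK_sub _ _ (irr_mod hM (irr_induced_Frobenius_ker h.nml (fun x => h.cent_le) h4 ?_))
  rintro rfl
  exact h3 (by rw [cfMorph_cfOne _ (hK.le.trans hM.norm), cfker_cfOne])

theorem central_hc (hZH : Z ≤ Z[H]) (θ : Γ → ℂ) :
    ∀ z ∈ Z, ∀ x ∈ H, x * z * x⁻¹ * z⁻¹ ∈ cfker H θ := fun z hz x hx => by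
  rw [← comm_of_cent (hZH.trans inf_le_right) hz hx]; simp

theorem res_central (hZH : Z ≤ Z[H]) {θ : Γ → ℂ} (hθ : θ ∈ Irr H) :
    ∃ lam, IsLin Z lam ∧ cfRes Z θ = θ 1 • lam ∧ (lam = cfOne Z → Z ≤ cfker H θ) := by
  obtain ⟨lam, h1, h2, h3⟩ := irr_res_central hθ (hZH.trans inf_le_left) (central_hc hZH θ)
  exact ⟨lam, h1, h2, fun e z hz => ⟨(hZH hz).1, fun y => by
    rw [h3 z hz, e, cfOne_of_mem hz, one_mul]⟩⟩

theorem irr_of_semireg (hsd : SD H W₁ L) (hZ : Z ⊴ L) (hZH : Z ≤ Z[H]) (hr : Semireg Z W₁) :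
    seqIndD H L Z ⊥ ⊆ Irr L := fun φ hφ => by
  obtain ⟨θ, h1, -, h3, rfl⟩ := mem_seqIndD.mp hφ
  refine inertia_ind_irr hsd.nml h1 fun g hg => ?_
  obtain ⟨hg, e⟩ := mem_inertia.mp hg
  obtain ⟨lam, h4, h5, h6⟩ := res_central hZH h1
  by_contra hgH
  obtain ⟨h, hh, w, hw, rfl⟩ := hsd.isProd.mul g hg
  refine not_fix_irr_of_fpf (hZ.norm hg) ?_ h4.irr (fun e => h3 (h6 e)) ?_
  · refine eq_bot_of_le (hr w hw fun e => hgH (by rw [e, mul_one]; exact hh)) fun z hz =>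
      ⟨hz.1, mem_C1.mpr ?_⟩
    have := mem_C1.mp hz.2
    rw [← mul_assoc, comm_of_cent (hZH.trans inf_le_right) hz.1 hh, mul_assoc, mul_assoc] at this
    exact mul_left_cancel this
  · have := cfConj_cfRes (hZ.norm hg) θ
    rw [e, h5, map_smul] at this
    exact smul_right_injective _ (irr_one_ne_zero h1) this

theorem bound_dot {G : Subgroup Γ'} {S S₁ : Finset (Γ → ℂ)} {τ τ₁ : (Γ → ℂ) →ₗ[ℂ] (Γ' → ℂ)}
    {R : (Γ → ℂ) → Finset (Γ' → ℂ)} {χ y : Γ → ℂ} (h : Subcoh L G S τ R) (hS : ConjSub S₁ S)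
    (hc : CohWith L G S₁ τ τ₁) (hχ : χ ∈ S) (hn : χ ∉ S₁) (hφ : φ ∈ zsp S₁) (h1 : χ 1 = φ 1)
    (hy : y ∈ zsp S₁) : ‖cfdot G (τ (χ - φ)) (τ₁ y)‖ ^ 2 ≤ cfnorm L φ * cfnorm L y := by
  classical
  have hn' : conjC χ ∉ S₁ := fun e => hn (by rw [← conjC_conjC χ]; exact hS.conj_mem _ e)
  have m1 : χ - φ ∈ zsp0 S := sub_mem_zsp0 (mem_zsp_of_mem hχ) (zsp_mono hS.sub hφ) h1
  have o1 := cfdot_eq_zero_of_zsp_right
    (fun η hη => h.orth _ hχ η (hS.sub hη) fun e => hn (e ▸ hη)) hφ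
  obtain ⟨X, hX, Y, hY, e, oY⟩ := h.split hχ (h.isom.vchar _ m1)
  have oXY := cfdot_symm_zero (cfdot_eq_zero_of_zsp_right oY hX)
  have h2 := (h.norm hχ (zsp_le_vchar (fun _ h' => h.vchar (hS.sub h')) hφ) o1
    (cfdot_eq_zero_of_zsp_right (fun η hη => h.orth _ (h.conj_mem χ hχ) η (hS.sub hη)
      fun e => hn' (e ▸ hη)) hφ) (h.isom.mono (zsp_le (by simp [m1, h.sub_conj_mem hχ]))) rfl e
    (vchar_cfOn (h.zsp_R_vchar hχ hX)) oXY oY).1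
  have h3 : cfnorm G X + cfnorm G Y = cfnorm L χ + cfnorm L φ := by
    rw [← cfnorm_sub_orth oXY, ← e, h.isom.norm m1, cfnorm_sub_orth o1]
  rw [e, cfdot_sub_left, cfdot_symm_zero (cfdot_eq_zero_of_zsp_right
    (fun α hα => h.coherent_ortho_supp hS hc hχ hn hy hα) hX), zero_sub, norm_neg]
  refine (cfdot_sq_le _ _).trans ?_
  rw [hc.isom.norm hy]
  exact mul_le_mul_of_nonneg_right (by linarith) (cfnorm_nonneg _ _)

theorem cfdot_of_const (hφ : IsLin Z φ) (h1 : φ ≠ cfOne Z) {c : ℂ}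
    (hc : ∀ z ∈ Z, z ≠ 1 → ψ z = c) : ♯Z * cfdot Z φ ψ = conj (ψ 1 - c) := by
  have h2 : cfdot Z φ ψ = cfdot Z φ (ψ - c • cfOne Z) := by
    rw [cfdot_sub_right, cfdot_smul_right, irr_dot_ne hφ.irr (cfOne_mem_Irr Z) h1]; simp
  rw [h2, cfdot_def, mul_inv_cancel_left₀ (cardC_ne_zero Z), ← sum_fs_subset (A := {1})
    (by simp) _ fun x hx h => by simp [hc x hx h, cfOne_of_mem hx], sum_fs_singleton]
  simp [hφ.one]

theorem disjoint_XY (hH : H ⊴ L) (hZ : Z ⊴ L) (hZH' : Z ≤ ⁅H, H⁆) :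
    Disjoint (seqIndD H L Z ⊥) (seqIndD H L H ⁅H, H⁆) := Finset.disjoint_left.mpr fun χ h1 h2 =>
  ((mem_seqIndD_iff_ker hH.le hZ (Nml.bot L)).mp h1).2.2
    (hZH'.trans ((mem_seqIndD_iff_ker hH.le hH hH.der1).mp h2).2.1)

theorem const_A (hH : H ⊴ L) (hS : Subcoh L ⊤ (seqIndD H L H ⊥) (cfInd ⊤ L) R)
    (hF : OddFrobQuo H L ⊥) (hZ : Z ⊴ L) (hZ1 : Z ≠ ⊥) (hZH : Z ≤ Z[H]) (hZH' : Z ≤ ⁅H, H⁆)
    (hi : seqIndD H L Z ⊥ ⊆ Irr L) (hY : CohWith L ⊤ (seqIndD H L H ⁅H, H⁆) (cfInd ⊤ L) τ₁)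
    (hη : η₁ ∈ seqIndD H L H ⁅H, H⁆) :
    ∀ x ∈ Z, ∀ y ∈ Z, x ≠ 1 → y ≠ 1 → τ₁ η₁ x = τ₁ η₁ y := by
  classical
  obtain ⟨hX, τ₂, hc⟩ := seqIndD_irr_coherence hH hS hF hZ hZ1 hZH hi
  have hXS := seqIndD_conjSub H L (hZH.trans inf_le_left) (le_refl ⊥)
  have hYS := seqIndD_conjSub H L (le_refl H) (bot_le : ⊥ ≤ ⁅H, H⁆)
  obtain ⟨χ₁, h1⟩ := seqIndD_nonempty L (Nml.bot H) (H := Z) fun h => hZ1 (le_bot_iff.mp h)
  have hψ := vchar_CF (hY.vchar hη)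
  have key : ∀ χ ∈ irrKD L Z ⊥, cfdot L (τ₁ η₁) χ = cfdot L (τ₁ η₁) χ₁ / χ₁ 1 * χ 1 := by
    intro χ hχ
    rw [← hX] at hχ
    have o := fun χ hχ => hS.coherent_ortho hYS hY hXS hc (disjoint_XY hH hZ hZH').symm
      (mem_zsp_of_mem hη) (mem_zsp_of_mem (φ := χ) hχ)
    have h2 := cfdot_cfInd_right le_top hψ (χ - (χ 1 / χ₁ 1) • χ₁) (H := L)
    rw [hc.ext_div (fun _ h' => hS.vchar (hXS.sub h')) (mem_zsp_of_mem hχ) (mem_zsp_of_mem h1)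
      (hS.one_ne_zero (hXS.sub h1))] at h2
    simp only [cfdot_sub_right, cfdot_smul_right, o χ hχ, o χ₁ h1, map_div₀,
      vchar_conj_one (hS.vchar (hXS.sub hχ)), vchar_conj_one (hS.vchar (hXS.sub h1))] at h2
    linear_combination -h2
  intro x hx y hy hx1 hy1
  have hr := cfRes_mem_CF (H := L) le_top hψ
  rw [← cfRes_of_mem (τ₁ η₁) (hZ.le hx), ← cfRes_of_mem (τ₁ η₁) (hZ.le hy), CF_apply_eq_sum hr,
    CF_apply_eq_sum hr, ← sub_eq_zero, ← Finset.sum_sub_distrib, Finset.sum_congr rfl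
      (g := fun χ => cfdot L (τ₁ η₁) χ₁ / χ₁ 1 * (χ 1 * χ x - χ 1 * χ y)) fun χ hχ => ?_,
    ← Finset.mul_sum, Finset.sum_sub_distrib, sum_Irr_deg_mul, sum_Irr_deg_mul, if_neg hx1,
    if_neg hy1, sub_self, mul_zero]
  rw [cfdot_cfRes_left]
  by_cases e : Z ≤ cfker L χ
  · rw [cfker_apply (e hx), cfker_apply (e hy), sub_self, sub_self, mul_zero]
  · rw [key χ (mem_irrKD.mpr ⟨hχ, bot_le, e⟩)]; ring

theorem const_B (hTI : NormedTI (shp H) L) (hodd : Odd ♯L) (hZ : (♯Z).Prime) (hZH' : Z ≤ ⁅H, H⁆)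
    (hY : CohWith L ⊤ (seqIndD H L H ⁅H, H⁆) (cfInd ⊤ L) τ₁)
    (hη : η₁ ∈ seqIndD H L H ⁅H, H⁆) (hi : η₁ ∈ Irr L) :
    ∀ x ∈ Z, ∀ y ∈ Z, x ≠ 1 → y ≠ 1 → τ₁ η₁ x = τ₁ η₁ y := by
  have hH := NormedTI.shp_nml hTI
  have hN := nti_of_normedTI hTI
  have hD := normedTI_Dade hN (by simp)
  have hT := seqIndD_subT H L H ⁅H, H⁆
  have hker : ∀ η ∈ seqIndD H L H ⁅H, H⁆, Z ≤ cfker L η := fun η h =>
    hZH'.trans ((mem_seqIndD_iff_ker hH.le hH hH.der1).mp h).2.1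
  intro x hx y hy hx1 hy1
  have ho : ∀ z ∈ Z, z ≠ 1 → orderOf z = ♯Z := fun z hz h1 => by
    rw [← card_zpowers', zpowers_eq_of_prime hZ hz h1]
  obtain ⟨k, rfl⟩ : y ∈ Submonoid.powers x := by
    rw [mem_powers_iff_mem_zpowers, zpowers_eq_of_prime hZ hx hx1]; exact hy
  have hk : k.Coprime (orderOf x) := by
    rw [ho x hx hx1, Nat.coprime_comm, hZ.coprime_iff_not_dvd, ← ho x hx hx1]
    exact fun h => hy1 (orderOf_dvd_iff_pow_eq_one.mp h)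
  obtain ⟨u, -, h1, -⟩ := make_pi_cfAut (⊤ : Subgroup Γ) (orderOf_pos x) hk
  have h2 := cfAut_Dade_coherent hD u (hY.congr fun φ hφ =>
    (Dade_Ind hD subset_rfl hN (zsp0_seqInd_on hH hT hφ)).symm)
    (one_lt_card_irrPart hH hodd le_rfl hη hi) (fun _ => cfAut_seqIndD u) hi hη
  have hu := cfAut_seqIndD u hη
  have m := sub_mem_zsp0 (mem_zsp_of_mem hu) (mem_zsp_of_mem hη) (seqInd_aut_one hH.le u (hT hη))
  have h3 := congrFun (hY.ext _ m) x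
  rw [hN.cfInd_apply (zsp0_seqInd_on hH hT m) ⟨der1_le H (hZH' hx), hx1⟩, map_sub, ← h2,
    Pi.sub_apply, Pi.sub_apply, cfker_apply (hker _ hu hx), cfker_apply (hker _ hη hx),
    seqInd_aut_one hH.le u (hT hη), sub_self, cfAut_apply,
    h1 _ (hY.vchar hη) x trivial dvd_rfl] at h3
  exact (sub_eq_zero.mp h3).symm

theorem cfnorm_ind_le (hZ : Z ⊴ L) (hφ : φ ∈ Irr Z) : cfnorm L (cfInd L Z φ) ≤ Z.relIndex L := by
  rw [cfnorm_cfInd_irr hZ hφ]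
  exact_mod_cast Nat.le_of_dvd (relIndex_pos _ _) (relIndex_dvd_of_nml hZ (inertia_le _ _))

theorem coh_XY [DecidableEq (Γ → ℂ)] (hTI : NormedTI (shp H) L) (hall : IsHall L H) (hodd : Odd ♯L)
    (hS : Subcoh L ⊤ (seqIndD H L H ⊥) (cfInd ⊤ L) R) (hZ : Z ⊴ L) (hZ1 : Z ≠ ⊥) (hZH : Z ≤ Z[H])
    (hZH' : Z ≤ ⁅H, H⁆) (hlt : H.relIndex L < Z.relIndex H) (hi : seqIndD H L H ⁅H, H⁆ ⊆ Irr L)
    (hY : CohWith L ⊤ (seqIndD H L H ⁅H, H⁆) (cfInd ⊤ L) τ₁) (hη : η₁ ∈ seqIndD H L H ⁅H, H⁆)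
    (hc : ∀ x ∈ Z, ∀ y ∈ Z, x ≠ 1 → y ≠ 1 → τ₁ η₁ x = τ₁ η₁ y) :
    Coherent L ⊤ (seqIndD H L Z ⊥ ∪ seqIndD H L H ⁅H, H⁆) (cfInd ⊤ L) := by
  have hH := NormedTI.shp_nml hTI
  have hN := nti_of_normedTI hTI
  have hZH₀ : Z ≤ H := hZH.trans inf_le_left
  have hXS := seqIndD_conjSub H L hZH₀ (le_refl ⊥)
  have hYS := seqIndD_conjSub H L (le_refl H) (bot_le : ⊥ ≤ ⁅H, H⁆)
  have hT := seqIndD_subT H L H ⁅H, H⁆
  have hdis := disjoint_XY hH hZ hZH'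
  have hone := fun η (h : η ∈ seqIndD H L H ⁅H, H⁆) => seqIndD_der_one hH.le le_rfl h
  have hker : ∀ η ∈ seqIndD H L H ⁅H, H⁆, Z ≤ cfker L η := fun η h =>
    hZH'.trans ((mem_seqIndD_iff_ker hH.le hH hH.der1).mp h).2.1
  have hdot : ∀ η ∈ seqIndD H L H ⁅H, H⁆, ∀ ζ ∈ seqIndD H L H ⁅H, H⁆,
      cfdot ⊤ (τ₁ η) (τ₁ ζ) = if η = ζ then 1 else 0 := fun η h ζ h' => by
    rw [hY.dot h h', irr_dot (hi h) (hi h')]
    congr
  -- `(η₁^τ₁)(1) ≡ (η₁^τ₁)(z) mod |H|`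
  obtain ⟨z, hz, hz1⟩ := exists_ne_one hZ1
  obtain ⟨s, hs⟩ : ∃ s : ℤ, τ₁ η₁ 1 - τ₁ η₁ z = ♯H * s := by
    obtain ⟨ε, ζ, hε, hζ, e⟩ := (hY.dirr hη (hi hη)).exists_sign
    have ε0 : (ε : ℂ) ≠ 0 := by rcases hε with rfl | rfl <;> simp
    obtain ⟨n, h1, s, h2⟩ := H2.constant_irr_mod_TI_Hall hall hodd hN hZ hZH hζ
      (fun x hx y hy hx1 hy1 => mul_left_cancel₀ ε0 (by simpa [e] using hc x hx y hy hx1 hy1)) hz hz1
    refine ⟨ε * s, ?_⟩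
    have h3 : (deg ζ : ℂ) - n = ♯H * s := by exact_mod_cast h2
    rw [e, Pi.smul_apply, Pi.smul_apply, h1, irr_one_eq hζ, smul_eq_mul, smul_eq_mul, ← mul_sub, h3]
    push_cast
    ring
  obtain ⟨r, hr⟩ := vchar_dot_int_of_le (hS.vchar (hYS.sub hη)) (hY.vchar hη) le_top
  set n := Z.relIndex H with hn
  have hβ : ∀ φ, IsLin Z φ → cfInd L Z φ - (n : ℂ) • η₁ ∈ CFon L (shp H) := fun φ hφ => by
    refine mem_CFon.mpr ⟨sub_mem (cfInd_mem_CF _ _ _) (Submodule.smul_mem _ _ (seqInd_CF (hT hη))),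
      cfOn_of_insert_one (cfOn_mono (by simp) (sub_mem (cfOn_mono hZH₀
        (cfInd_mem_cfOn_nml hZ.norm φ)) (Submodule.smul_mem _ _ (seqInd_on hH (hT hη))))) ?_⟩
    rw [Pi.sub_apply, cfInd_one hZ.le, hφ.one, Pi.smul_apply, hone _ hη,
      ← Subgroup.relIndex_mul_relIndex Z H L hZH₀ hH.le]
    simp [hn]
  have ho : ∀ φ, IsLin Z φ → φ ≠ cfOne Z → ∀ η ∈ seqIndD H L H ⁅H, H⁆,
      cfdot L (cfInd L Z φ) η = 0 := fun φ hφ h1 η h => by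
    rw [cfdot_cfInd_left hZ.le _ (seqInd_CF (hT h)), ← cfdot_cfRes_right,
      cfRes_eq_of_le_cfker (hker η h), cfdot_smul_right, irr_dot_ne hφ.irr (cfOne_mem_Irr Z) h1,
      mul_zero]
  have b1 : ∀ φ, IsLin Z φ → φ ≠ cfOne Z →
      cfdot ⊤ (cfInd ⊤ L (cfInd L Z φ - (n : ℂ) • η₁)) (τ₁ η₁) = n * (s - r : ℤ) := fun φ hφ h1 => by
    have h2 := cfdot_of_const hφ h1 (ψ := τ₁ η₁) fun x hx hx1 => hc x hx z hz hx1 hz1
    rw [hs, ← card_mul_relIndex hZH₀, Nat.cast_mul, mul_assoc, map_mul, map_natCast] at h2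
    have hψ := vchar_CF (hY.vchar hη)
    rw [cfdot_cfInd_left le_top _ hψ, cfdot_sub_left, cfdot_smul_left, hr, ← cfdot_cfRes_right,
      cfdot_cfInd_left hZ.le _ (cfRes_mem_CF le_top hψ), ← cfdot_cfRes_right, cfRes_cfRes hZ.le,
      cfdot_cfRes_right, mul_left_cancel₀ (cardC_ne_zero Z) h2]
    simp [mul_sub, hn]
  have b2 : ∀ φ, IsLin Z φ → φ ≠ cfOne Z → ∀ η ∈ seqIndD H L H ⁅H, H⁆, η ≠ η₁ →
      cfdot ⊤ (cfInd ⊤ L (cfInd L Z φ - (n : ℂ) • η₁)) (τ₁ η) = n * (s - r + 1 : ℤ) := by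
    intro φ hφ h1 η h hne
    have m := sub_mem_zsp0 (mem_zsp_of_mem h) (mem_zsp_of_mem hη) (by rw [hone _ h, hone _ hη])
    have h2 := hN.cfdot_cfInd (hβ φ hφ).2 (zsp0_seqInd_on hH hT m)
    rw [← hY.ext _ m, map_sub τ₁, cfdot_sub_right, b1 φ hφ h1] at h2
    simp only [cfdot_sub_left, cfdot_sub_right, cfdot_smul_left, ho φ hφ h1 η h, ho φ hφ h1 η₁ hη,
      irr_dot_ne (hi hη) (hi h) hne.symm, irr_dot_self (hi hη)] at h2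
    push_cast at h2 ⊢
    linear_combination h2
  have n0 : (0 : ℝ) < n := by exact_mod_cast relIndex_pos Z H
  have b3 : ∀ η ∈ seqIndD H L H ⁅H, H⁆, ∀ ζ ∈ seqIndD H L H ⁅H, H⁆, η ≠ ζ → ∀ a b : ℤ,
      (∀ φ, IsLin Z φ → φ ≠ cfOne Z →
        cfdot ⊤ (cfInd ⊤ L (cfInd L Z φ - (n : ℂ) • η₁)) (τ₁ η) = n * a) →
      (∀ φ, IsLin Z φ → φ ≠ cfOne Z →
        cfdot ⊤ (cfInd ⊤ L (cfInd L Z φ - (n : ℂ) • η₁)) (τ₁ ζ) = n * b) → a ^ 2 + b ^ 2 < 2 := by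
    intro η h ζ h' hne a b ha hb
    obtain ⟨φ, hφ⟩ := irrKD_nonempty (Nml.bot Z) (H := Z) fun h => hZ1 (le_bot_iff.mp h)
    obtain ⟨h1, h2⟩ := H2.mem_irrKD1.mp hφ
    have h3 := irr_lin_of_abl ((abl_center H).of_le hZH) h1
    have h4 := sum_sq_cfdot_le (s := {η, ζ}) (e := fun η => τ₁ η) (H := ⊤)
      (by simp [hdot _ h _ h, hdot _ h' _ h']) (by simp [hdot _ h _ h', hdot _ h' _ h, hne, hne.symm])
      (cfInd ⊤ L (cfInd L Z φ - (n : ℂ) • η₁))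
    rw [Finset.sum_pair hne, ha φ h3 h2, hb φ h3 h2, cfnorm_congr_dot
      (hN.cfdot_cfInd (hβ φ h3).2 (hβ φ h3)), cfnorm_sub_orth (by
        rw [cfdot_smul_right, ho φ h3 h2 _ hη, mul_zero]), cfnorm_natCast_smul, irr_norm (hi hη)] at h4
    simp only [norm_mul, Complex.norm_natCast, Complex.norm_intCast, mul_pow, sq_abs] at h4
    have h5 := cfnorm_ind_le hZ h1
    rw [← Subgroup.relIndex_mul_relIndex Z H L hZH₀ hH.le, Nat.cast_mul, ← hn] at h5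
    have h6 : (H.relIndex L : ℝ) < n := by exact_mod_cast hlt
    have h7 : (n : ℝ) ^ 2 * (a ^ 2 + b ^ 2) < n ^ 2 * 2 := by nlinarith
    exact_mod_cast lt_of_mul_lt_mul_left h7 (by positivity)
  obtain ⟨y, hy, ny, y1, y2⟩ : ∃ y ∈ zsp (seqIndD H L H ⁅H, H⁆), cfnorm L y = 1 ∧
      (∀ η ∈ seqIndD H L H ⁅H, H⁆, η ≠ η₁ → cfdot ⊤ (τ₁ η - τ₁ η₁) (τ₁ y) = -1) ∧
      ∀ φ, IsLin Z φ → φ ≠ cfOne Z →
        cfdot ⊤ (cfInd ⊤ L (cfInd L Z φ - (n : ℂ) • η₁)) (τ₁ y) = -n := by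
    by_cases t : s - r = -1
    · exact ⟨η₁, mem_zsp_of_mem hη, irr_norm (hi hη), fun η h hne => by
        simp [hdot _ h _ hη, hdot _ hη _ hη, hne], fun φ hφ h1 => by rw [b1 φ hφ h1, t]; simp⟩
    have h2 := hYS.conj_mem _ hη
    have hne := seqInd_conjC_ne hH hodd le_rfl hη
    have h3 := b3 _ hη _ h2 hne.symm _ _ b1 fun φ hφ h1 => b2 φ hφ h1 _ h2 hne
    have t0 : s - r = 0 := by
      have : -2 < s - r := by nlinarith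
      have : s - r < 1 := by nlinarith
      omega
    refine ⟨-conjC η₁, neg_mem (mem_zsp_of_mem h2), by simp [irr_norm (hi hη)], fun η h hne' => ?_,
      fun φ hφ h1 => by rw [map_neg, cfdot_neg_right, b2 φ hφ h1 _ h2 hne, t0]; simp⟩
    obtain rfl : η = conjC η₁ := by
      by_contra hne''
      have := b3 _ h _ h2 hne'' _ _ (fun φ hφ h1 => b2 φ hφ h1 _ h hne')
        fun φ hφ h1 => b2 φ hφ h1 _ h2 hne
      simp [t0] at this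
    simp [hdot _ h _ h, hdot _ hη _ h, hne.symm]
  have hU : ConjSub (seqIndD H L Z ⊥ ∪ seqIndD H L H ⁅H, H⁆) (seqIndD H L H ⊥) :=
    ⟨Finset.union_subset hXS.sub hYS.sub, fun χ h => Finset.mem_union.mpr
      ((Finset.mem_union.mp h).imp (hXS.conj_mem χ) (hYS.conj_mem χ))⟩
  refine (hS.sub hU).pivot_coherence (Finset.mem_union_right _ hη) (hY.isom.vchar _ hy)
    (fun χ h hne => ?_) (by rw [hY.isom.norm hy, ny, irr_norm (hi hη)])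
  simp only [irr_norm (hi hη), Complex.ofReal_one, mul_one]
  rcases Finset.mem_union.mp h with h | h
  swap
  · refine ⟨1, by simp [hone _ h, hone _ hη], ?_⟩
    rw [Nat.cast_one, one_smul, ← hY.ext _ (sub_mem_zsp0 (mem_zsp_of_mem h) (mem_zsp_of_mem hη)
      (by rw [hone _ h, hone _ hη])), map_sub, y1 χ h hne]
  obtain ⟨θ, h1, -, h2, rfl⟩ := mem_seqIndD.mp h
  have d1 : ∀ θ ∈ Irr H, cfInd L H θ 1 = deg θ * η₁ 1 := fun θ h => by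
    rw [cfInd_one hH.le, hone _ hη, irr_one_eq h, mul_comm]
  refine ⟨deg θ, d1 θ h1, ?_⟩
  obtain ⟨φ, h3, h4, h5⟩ := res_central hZH h1
  have hφ1 : φ ≠ cfOne Z := fun e => h2 (h5 e)
  set T := (Irr H).filter fun θ => cfRes Z θ = θ 1 • φ with hT'
  have t1 : cfInd H Z φ = ∑ θ ∈ T, (deg θ : ℂ) • θ := by
    rw [CF_eq_sum (cfInd_mem_CF H Z φ), hT', Finset.sum_filter]
    refine Finset.sum_congr rfl fun θ hθ => ?_
    obtain ⟨lam, h6, h7, -⟩ := res_central hZH hθ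
    rw [cfdot_cfInd_left hZH₀ _ (irr_CF hθ), ← cfdot_cfRes_right]
    split_ifs with e
    · rw [e, cfdot_smul_right, irr_dot_self h3.irr, irr_one_eq hθ, map_natCast, mul_one]
    · rw [h7, cfdot_smul_right, irr_dot_ne h3.irr h6.irr fun e' => e (e' ▸ h7), mul_zero, zero_smul]
  have t2 : ∑ θ ∈ T, (deg θ : ℂ) * deg θ = n := by
    have := congrFun t1 1
    rw [cfInd_one hZH₀, h3.one, mul_one, Finset.sum_apply] at this
    rw [hn, this]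
    exact Finset.sum_congr rfl fun θ hθ => by
      rw [Pi.smul_apply, irr_one_eq (Finset.mem_filter.mp hθ).1, smul_eq_mul]
  have t3 : ∀ θ ∈ T, ∃ b : ℤ, cfdot ⊤ (cfInd ⊤ L (cfInd L H θ - (deg θ : ℂ) • η₁)) (τ₁ y) = -b ∧
      b ≤ deg θ := fun θ hθ => by
    obtain ⟨h6, h7⟩ := Finset.mem_filter.mp hθ
    have h8 : cfInd L H θ ∈ seqIndD H L Z ⊥ := mem_seqIndD.mpr ⟨θ, h6, bot_le, fun e => hφ1
      (smul_right_injective _ (irr_one_ne_zero h6) (h7.symm.trans (cfRes_eq_of_le_cfker e))), rfl⟩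
    have m0 := natCast_smul_mem (deg θ) (mem_zsp_of_mem hη)
    have d2 : cfInd L H θ 1 = ((deg θ : ℂ) • η₁) 1 := d1 θ h6
    obtain ⟨b, hb⟩ := vchar_dot_int (hS.isom.vchar _ (sub_mem_zsp0 (mem_zsp_of_mem (hXS.sub h8))
      (zsp_mono hYS.sub m0) d2)) (hY.isom.vchar _ hy)
    have h9 := bound_dot hS hYS hY (hXS.sub h8) (Finset.disjoint_left.mp hdis h8) m0 d2 hy
    rw [hb, Complex.norm_intCast, sq_abs, cfnorm_natCast_smul, irr_norm (hi hη), ny, mul_one,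
      mul_one] at h9
    have h10 : (-b) ^ 2 ≤ (deg θ : ℤ) ^ 2 := by
      rw [neg_sq]; exact_mod_cast h9
    exact ⟨-b, by rw [hb]; simp, (abs_le_of_sq_le_sq' h10 (Int.natCast_nonneg _)).2⟩
  choose! b t4 t5 using t3
  have t6 : ∑ θ ∈ T, (deg θ : ℤ) * b θ = ∑ θ ∈ T, (deg θ : ℤ) * deg θ := by
    have h6 := y2 φ h3 hφ1
    rw [← cfInd_cfInd hZH₀ hH.le, t1, ← t2, Finset.sum_smul, map_sum, ← Finset.sum_sub_distrib,
      map_sum, cfdot_sum_left, Finset.sum_congr rfl (g := fun θ => -((deg θ : ℂ) * b θ))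
        fun θ hθ => by
          rw [map_smul, mul_smul, ← smul_sub, map_smul, cfdot_smul_left, t4 θ hθ, mul_neg],
      Finset.sum_neg_distrib, neg_inj] at h6
    exact_mod_cast h6
  have hθT : θ ∈ T := Finset.mem_filter.mpr ⟨h1, h4⟩
  have t7 := (Finset.sum_eq_sum_iff_of_le fun θ hθ =>
    mul_le_mul_of_nonneg_left (t5 θ hθ) (Int.natCast_nonneg _)).mp t6 θ hθT
  rw [t4 θ hθT, mul_left_cancel₀ (by exact_mod_cast (irr_deg_pos h1).ne') t7, Int.cast_natCast]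

theorem coh_final [DecidableEq (Γ → ℂ)] (hH : H ⊴ L)
    (hS : Subcoh L ⊤ (seqIndD H L H ⊥) (cfInd ⊤ L) R) (hZ : Z ⊴ L) (hZH : Z ≤ H)
    (hη : η₁ ∈ seqIndD H L H ⁅H, H⁆)
    (hc : Coherent L ⊤ (seqIndD H L Z ⊥ ∪ seqIndD H L H ⁅H, H⁆) (cfInd ⊤ L))
    (hb : ∀ θ ∈ irrK H Z, 2 * H.relIndex L * deg θ < Z.relIndex H * (♯Z - 1)) :
    Coherent L ⊤ (seqIndD H L H ⊥) (cfInd ⊤ L) := by
  have hXS := seqIndD_conjSub H L hZH (le_refl ⊥)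
  have hYS := seqIndD_conjSub H L (le_refl H) (bot_le : ⊥ ≤ ⁅H, H⁆)
  refine hS.extend_cover ⟨Finset.union_subset hXS.sub hYS.sub, fun χ h => Finset.mem_union.mpr
    ((Finset.mem_union.mp h).imp (hXS.conj_mem χ) (hYS.conj_mem χ))⟩ hc (Finset.Subset.refl _)
    fun ψ hψ hn => ⟨η₁, Finset.mem_union_right _ hη, ?_⟩
  rw [deg_eq_of (seqIndD_der_one hH.le le_rfl hη)]
  refine ⟨dvd_index_seqInd1 hH.le (seqIndD_subT _ _ _ _ hψ), lt_of_lt_of_le ?_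
    (Finset.sum_le_sum_of_subset_of_nonneg Finset.subset_union_left fun φ _ _ =>
      div_nonneg (sq_nonneg _) (cfnorm_nonneg _ _))⟩
  obtain ⟨θ, h1, -, -, rfl⟩ := mem_seqIndD.mp hψ
  have h2 := hb θ (mem_irrK.mpr ⟨h1, by
    by_contra e
    exact hn (Finset.mem_union_left _ (mem_seqIndD.mpr ⟨θ, h1, bot_le, e, rfl⟩))⟩)
  rw [sum_seqIndD_square hH hZ (Nml.bot L) bot_le hZH, (irr_char h1).deg_ind hH.le, mul_comm,
    Subgroup.relIndex_bot_left]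
  refine mul_lt_mul_of_pos_left ?_ (by exact_mod_cast relIndex_pos H L)
  have h3 : ((♯Z - 1 : ℕ) : ℝ) = ♯Z - 1 := by rw [Nat.cast_sub (card_pos Z), Nat.cast_one]
  rw [← h3, Nat.cast_mul, ← mul_assoc]
  exact_mod_cast h2

theorem sibley_core {W₂ : Subgroup Γ} (hodd : Odd ♯L) (hn : Nil H) (hTI : NormedTI (shp H) L)
    (hsd : SD H W₁ L) (hcop : (♯H).Coprime ♯W₁) (hW : W₁ ≠ ⊥) (hW₂ : W₂ ≤ ⁅H, H⁆)
    (hp : W₂ = ⊥ ∨ (♯W₂).Prime) (hc : ∀ x ∈ W₁, x ≠ 1 → H ⊓ C{x} ≤ W₂) (hc' : W₁ ≤ C[W₂])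
    (hS : Subcoh L ⊤ (seqIndD H L H ⊥) (cfInd ⊤ L) R) :
    Coherent L ⊤ (seqIndD H L H ⊥) (cfInd ⊤ L) := by
  classical
  have hH := hsd.nml
  by_cases hab : ⁅H, H⁆ = ⊥
  · exact hS.coherent_der hH.le hab.le
  have hlt := hn.sol.der1_lt hTI.ne_bot
  have hF := frobK_quo hsd hcop hW hH.der1 hlt fun x hx h1 => (hc x hx h1).trans hW₂
  have hi : seqIndD H L H ⁅H, H⁆ ⊆ Irr L := fun _ => irr_of_frobK_quo hH.der1 hH hlt.le hF
  obtain ⟨τ₁, hY⟩ := hS.coherent_der hH.le (le_refl ⁅H, H⁆)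
  obtain ⟨η₁, hη, -⟩ := exists_linInd_sol hH.le hn.sol (der1_nml H) hlt.ne
  have hidx : ∀ Z ≤ ⁅H, H⁆, H.relIndex L < Z.relIndex H := fun Z hZ => by
    have h1 := hF.index_le_quo hodd hH.der1 hH hlt.le hH.der1 hH le_rfl hlt le_rfl
    have h2 := Nat.le_of_dvd (relIndex_pos _ _) (Subgroup.relIndex_dvd_of_le_left H hZ)
    omega
  have hall := hsd.isHall_left hcop
  by_cases hB : W₂ ≠ ⊥ ∧ W₂ ≤ Z[H]
  · have hp := hp.resolve_left hB.1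
    have hZ : W₂ ⊴ L := ⟨hW₂.trans hH.der1.le, by
      rw [← hsd.sup]
      exact sup_le (norm_of_cent (cents_symm (hB.2.trans inf_le_right))) (norm_of_cent hc')⟩
    have hZH := hW₂.trans_lt hlt
    refine coh_final hH hS hZ hZH.le hη (coh_XY hTI hall hodd hS hZ hB.1 hB.2 hW₂ (hidx _ hW₂) hi hY
      hη (const_B hTI hodd hp hW₂ hY hη (hi hη))) fun θ hθ => ?_
    obtain ⟨Z₁, h1, h2⟩ := exists_chief_above hZ hH hZH
    have h3 := (frobK_quo hsd hcop hW hZ hZH hc).index_le_quo hodd hZ hH hZH.le hZ h1.nmlU le_rfl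
      h1.lt h2
    have h4 := irr1_bound_quo (mem_irrK.mp hθ).1 (mem_irrK.mp hθ).2 h2 le_rfl
      (Chief.comm_le_of_nil h1 hH h2 (hn.quo _))
    rw [Subgroup.relIndex_self, one_pow, one_mul] at h4
    have h5 := irr_deg_pos (mem_irrK.mp hθ).1
    have h6 : 1 ≤ ♯W₂ - 1 := by have := hp.two_le; omega
    rw [← Subgroup.relIndex_mul_relIndex W₂ Z₁ H h1.le h2]
    nlinarith [Nat.mul_le_mul (Nat.mul_le_mul h3 h4) h6, Nat.le_self_pow two_ne_zero (deg θ)]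
  have hZ : ⁅H, H⁆ ⊓ Z[H] ⊴ L := hH.der1.inf hH.center
  have hZ1 := meet_center_nil hn (der1_nml H) hab
  have hr : Semireg (⁅H, H⁆ ⊓ Z[H]) W₁ := fun x hx h1 => by
    have h2 : W₂ ⊓ Z[H] = ⊥ := by
      rcases hp with rfl | hp
      · simp
      · exact prime_inf_of_not_le hp fun h => hB ⟨ne_bot_of_prime hp, h⟩
    exact eq_bot_of_le h2 (le_inf ((inf_le_inf_right _ (inf_le_left.trans hlt.le)).trans
      (hc x hx h1)) (inf_le_left.trans inf_le_right))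
  have hZH : ⁅H, H⁆ ⊓ Z[H] ≤ H := inf_le_left.trans hlt.le
  refine coh_final hH hS hZ hZH hη (coh_XY hTI hall hodd hS hZ hZ1 inf_le_right inf_le_left
    (hidx _ inf_le_left) hi hY hη (const_A hH hS ⟨hodd, Nml.bot L, bot_le, hn.quo _, by
      rw [sup_bot_eq]; exact hF⟩ hZ hZ1 inf_le_right inf_le_left
      (irr_of_semireg hsd hZ inf_le_right hr) hY hη)) fun θ hθ => ?_
  have h1 := two_mul_add_one_le (odd_of_le hodd hsd.right_le) (odd_of_le hodd hZ.le)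
    (one_lt_card hZ1) (hr.dvd_pred (hsd.right_le.trans hZ.norm))
  have h2 := irr_deg_sq_le (mem_irrK.mp hθ).1 hZH (central_hc inf_le_right θ)
  have h3 := hidx _ (inf_le_left : ⁅H, H⁆ ⊓ Z[H] ≤ _)
  have h4 := relIndex_pos H L
  rw [← hsd.relIndex_left] at h1
  have h5 : deg θ < (⁅H, H⁆ ⊓ Z[H]).relIndex H := by nlinarith
  nlinarith [Nat.mul_le_mul_left ((⁅H, H⁆ ⊓ Z[H]).relIndex H)
    (by omega : 2 * H.relIndex L ≤ ♯(⁅H, H⁆ ⊓ Z[H]) - 1)]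

end PF6

/-- Theorem (6.8) (Sibley). -/
theorem Sibley_coherence {L H W₁ : Subgroup Γ} (hodd : Odd (Nat.card L)) (hn : Nil H)
    (hTI : NormedTI (shp H) L)
    (hc : Frob L H W₁ ∨ ∃ (W₂ W : Subgroup Γ) (A₀ : Set Γ) (R : Γ → Subgroup Γ),
      (Nat.card W₂).Prime ∧ W₂ ≤ ⁅H, H⁆ ∧ PrimeDade L H H W W₁ W₂ (shp H) A₀ R) :
    Coherent L ⊤ (seqIndD H L H ⊥) (cfInd ⊤ L) := by
  have hH := NormedTI.shp_nml hTI
  have hN := nti_of_normedTI hTI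
  have hT := seqIndD_subT H L H ⊥
  have hr : ∀ χ ∈ seqIndD H L H ⊥, conjC χ ≠ χ := fun _ => seqInd_conjC_ne hH hodd le_rfl
  rcases hc with h | ⟨W₂, W, A₀, R, h1, h2, h⟩
  · obtain ⟨R, hS⟩ := irr_subcoherent (G := ⊤) (τ := cfInd ⊤ L) (fun φ hφ => by
      obtain ⟨θ, h1, h2, rfl⟩ := mem_seqIndC1.mp hφ
      exact irr_induced_Frobenius_ker hH (fun x => h.cent1_ker) h1 h2) (fun _ => cfAut_seqIndD _) hr
      ⟨fun φ hφ ψ hψ => hN.cfdot_cfInd (zsp0_seqInd_on hH hT hφ).2 (zsp0_seqInd_on hH hT hψ),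
        fun φ hφ => vchar_ind (zsp_seqInd_vchar hH.le hT (zsp0_le_zsp _ hφ)) le_top⟩
      fun φ hφ => by rw [cfInd_one le_top, (mem_zsp0.mp hφ).2, mul_zero]
    exact PF6.sibley_core hodd hn hTI h.sd h.coprime h.compl_ne bot_le (Or.inl rfl)
      (fun x hx h1 => (h.reg x hx h1).le) (by rw [C_bot]; exact le_top) hS
  · obtain ⟨R₀, hS, -⟩ := h.subcoherent (seqIndD_conjSub H L le_rfl le_rfl) hr
    exact PF6.sibley_core hodd hn hTI h.pr.sd h.pr.cop h.pr.ne1 h2 (Or.inr h1)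
      (fun x hx h1 => (h.pr.cent x hx h1).le) (cents_symm h.pr.dp.cent)
      (hS.congr fun φ hφ => Dade_Ind h.dade h.sub0 hN (zsp0_seqInd_on hH hT hφ))

end H27
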