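import Mathlib
import Cfsg.Agent.H27.PF5b
import Cfsg.Agent.H24.S08
import Cfsg.Agent.H1.ThompsonFPF

/-!
# Feit's coherence theory for sets of irreducible characters (no parity assumption)
-/

set_option autoImplicit false
set_option linter.unusedSectionVars false
set_option linter.unusedVariables false

namespace H27

open Cfsg H24
open scoped ComplexConjugate

universe u v

variable {Γ : Type u} [Group Γ] [Finite Γ] {Γ' : Type v} [Group Γ'] [Finite Γ']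
variable {L : Subgroup Γ} {G : Subgroup Γ'} {S X Y : Finset (Γ → ℂ)}
  {τ τ₁ τ₂ : (Γ → ℂ) →ₗ[ℂ] (Γ' → ℂ)} {χ φ ψ : Γ → ℂ}

theorem irr_pwOrth (hS : S ⊆ Irr L) : PwOrth L S := (irr_orthon L).2.mono hS

theorem irr_dot_self_ne (hS : S ⊆ Irr L) : ∀ χ ∈ S, cfdot L χ χ ≠ 0 := fun χ hχ => by
  rw [irr_dot_self (hS hχ)]; exact one_ne_zero

theorem CohWith.apply_one (hc : CohWith L G S τ τ₁) (hS : S ⊆ Irr L)
    (h1 : ∀ φ ∈ zsp0 S, τ φ 1 = 0) (hχ : χ ∈ S) (hψ : ψ ∈ S) :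
    τ₁ χ 1 = (deg χ : ℂ) / deg ψ * τ₁ ψ 1 := by
  have h2 := cross_mem_zsp0 (mem_zsp_of_mem hχ) (mem_zsp_of_mem hψ) (m := deg χ) (n := deg ψ)
    (by simpa using irr_one_eq (hS hχ)) (by simpa using irr_one_eq (hS hψ))
  have h3 := h1 _ h2
  rw [← hc.ext _ h2, map_sub, map_smul, map_smul] at h3
  have h4 : (deg ψ : ℂ) ≠ 0 := Nat.cast_ne_zero.mpr (irr_deg_pos (hS hψ)).ne'
  simp only [Pi.sub_apply, Pi.smul_apply, smul_eq_mul, Int.cast_natCast] at h3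
  field_simp
  linear_combination h3

/-- a coherent extension on a set of irreducible characters has a constant sign. -/
theorem CohWith.exists_sign (hc : CohWith L G S τ τ₁) (hS : S ⊆ Irr L)
    (h1 : ∀ φ ∈ zsp0 S, τ φ 1 = 0) :
    ∃ ε : ℤ, (ε = 1 ∨ ε = -1) ∧ ∀ χ ∈ S, (ε : ℂ) • τ₁ χ ∈ Irr G := by
  rcases S.eq_empty_or_nonempty with rfl | ⟨ψ, hψ⟩
  · exact ⟨1, Or.inl rfl, by simp⟩
  obtain ⟨ε, μ, hε, hμ, e⟩ := (hc.dirr hψ (hS hψ)).exists_sign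
  refine ⟨ε, hε, fun χ hχ => ((hc.dirr hχ (hS hχ)).sign_smul hε).irr_of_pos ?_⟩
  have : ((ε : ℂ) • τ₁ χ) 1 = (((deg χ : ℝ) / deg ψ * deg μ : ℝ) : ℂ) := by
    rw [Pi.smul_apply, hc.apply_one hS h1 hχ hψ, e, Pi.smul_apply, irr_one_eq hμ]
    rcases hε with rfl | rfl <;> simp
  rw [this, Complex.ofReal_re]
  positivity

/-- a set of irreducible characters of the same degree is coherent. -/
theorem irr_uniform_coherent (hS : S ⊆ Irr L) (hd : ∀ χ ∈ S, ∀ ψ ∈ S, χ 1 = ψ 1)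
    (hτ : ZIsom L G (zsp0 S) τ) (h1 : ∀ φ ∈ zsp0 S, τ φ 1 = 0) : Coherent L G S τ := by
  rcases S.eq_empty_or_nonempty with rfl | ⟨ψ, hψ⟩
  · exact coherent_empty _ _ _
  obtain ⟨μ, ε, hε, h2, h3, h4⟩ := vchar_isometry_base hS hd hτ h1
  obtain ⟨ν, hν, -⟩ := coherent_of_pivot (τ := τ) (irr_pwOrth hS) (irr_dot_self_ne hS)
    (fun χ => (ε : ℂ) • μ χ) (fun χ hχ => intCast_smul_mem ε (irr_vchar (h2 χ hχ)))
    (fun χ hχ φ hφ => by
      classical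
      rw [cfdot_smul_left, cfdot_smul_right, irr_dot (h2 χ hχ) (h2 φ hφ), irr_dot (hS hχ) (hS hφ),
        map_intCast, ← mul_assoc, if_congr (h3.eq_iff hχ hφ) rfl rfl]
      rcases hε with rfl | rfl <;> simp)
    ψ ((ε : ℂ) • μ ψ) (fun χ hχ => by
      rw [hd χ hχ ψ hψ, div_self (irr_one_ne_zero (hS hψ)), one_smul, one_smul, h4 χ hχ ψ hψ,
        smul_sub])
  exact ⟨ν, hν⟩

/-- Feit's extension criterion. -/
theorem feit_extend [DecidableEq (Γ → ℂ)] (hS : S ⊆ Irr L) (hχ : χ ∈ Irr L) (hn : χ ∉ S)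
    (hτ : ZIsom L G (zsp0 (insert χ S)) τ) (h1 : ∀ φ ∈ zsp0 (insert χ S), τ φ 1 = 0)
    (hc : CohWith L G S τ τ₁) (hψ : ψ ∈ S) (hd : deg ψ ∣ deg χ)
    (hlt : 2 * deg ψ * deg χ < ∑ ξ ∈ S, deg ξ ^ 2) : Coherent L G (insert χ S) τ := by
  obtain ⟨a, ha⟩ := hd
  have hS' : insert χ S ⊆ Irr L := Finset.insert_subset hχ hS
  have hsub : S ⊆ insert χ S := Finset.subset_insert _ _
  have hψ0 := irr_deg_pos (hS hψ)
  have hψR : (0 : ℝ) < deg ψ := by exact_mod_cast hψ0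
  have hψC : (deg ψ : ℂ) ≠ 0 := Nat.cast_ne_zero.mpr hψ0.ne'
  have ha0 : 0 < a := Nat.pos_of_mul_pos_left (ha ▸ irr_deg_pos hχ)
  have hne : ∀ ξ ∈ S, χ ≠ ξ := fun ξ hξ e => hn (e ▸ hξ)
  have hdiv : χ 1 / ψ 1 = a := by
    rw [irr_one_eq hχ, irr_one_eq (hS hψ), ha]; push_cast; field_simp
  have hβ₀ : χ - (a : ℂ) • ψ ∈ zsp0 (insert χ S) := sub_mem_zsp0
    (mem_zsp_of_mem (Finset.mem_insert_self _ _)) (natCast_smul_mem a (mem_zsp_of_mem (hsub hψ)))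
    (by rw [Pi.smul_apply, ← hdiv, smul_eq_mul, div_mul_cancel₀ _ (irr_one_ne_zero (hS hψ))])
  set β := τ (χ - (a : ℂ) • ψ) with hβ
  have hβv : β ∈ vchar G := hτ.vchar _ hβ₀
  have hβn : cfnorm G β = 1 + (a : ℝ) ^ 2 := by
    rw [hτ.norm hβ₀, cfnorm_sub_orth (by
      rw [cfdot_smul_right, irr_dot_ne hχ (hS hψ) (hne ψ hψ), mul_zero]), cfnorm_natCast_smul,
      irr_norm hχ, irr_norm (hS hψ), mul_one]
  obtain ⟨b, hb⟩ := vchar_dot_int hβv (hc.vchar hψ)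
  have hcoef : ∀ ξ ∈ S, cfdot G β (τ₁ ξ) =
      (((deg ξ : ℝ) / deg ψ * (b + a) - if ξ = ψ then (a : ℝ) else 0 : ℝ) : ℂ) := by
    intro ξ hξ
    have h2 := hτ.dot_div (fun χ h => irr_vchar (hS' h)) hβ₀ (mem_zsp_of_mem (hsub hξ))
      (mem_zsp_of_mem (hsub hψ)) (irr_one_ne_zero (hS hψ))
    rw [hc.ext_div (fun χ h => irr_vchar (hS h)) (mem_zsp_of_mem hξ) (mem_zsp_of_mem hψ)
      (irr_one_ne_zero (hS hψ)), ← hβ, irr_one_eq (hS hξ), irr_one_eq (hS hψ)] at h2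
    simp only [cfdot_sub_left, cfdot_sub_right, cfdot_smul_left, cfdot_smul_right, hb,
      irr_dot_ne hχ (hS hξ) (hne ξ hξ), irr_dot_ne hχ (hS hψ) (hne ψ hψ), irr_dot_self (hS hψ),
      map_div₀, map_natCast] at h2
    by_cases e : ξ = ψ
    · subst e
      rw [hb, if_pos rfl, div_self hψR.ne']; push_cast; ring
    · rw [irr_dot_ne (hS hψ) (hS hξ) (Ne.symm e)] at h2
      rw [if_neg e]; push_cast
      linear_combination h2
  set s : ℝ := ∑ ξ ∈ S, ((deg ξ : ℝ) / deg ψ) ^ 2 with hs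
  have hs2 : 2 * (a : ℝ) < s := by
    have h2 : ((2 * deg ψ * deg χ : ℕ) : ℝ) < ((∑ ξ ∈ S, deg ξ ^ 2 : ℕ) : ℝ) := by exact_mod_cast hlt
    simp only [hs, div_pow]
    rw [← Finset.sum_div, lt_div_iff₀ (by positivity)]
    rw [ha] at h2
    push_cast at h2
    linarith
  set l : ℤ := b + a with hl
  have hlR : (b : ℝ) + a = l := by rw [hl]; push_cast; ring
  set Z := β - ∑ ξ ∈ S, cfdot G β (τ₁ ξ) • τ₁ ξ with hZ
  have ho1 : ∀ ξ ∈ S, cfdot G (τ₁ ξ) (τ₁ ξ) = 1 := fun ξ hξ => by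
    rw [hc.dot hξ hξ, irr_dot_self (hS hξ)]
  have ho2 : ∀ ξ ∈ S, ∀ ζ ∈ S, ξ ≠ ζ → cfdot G (τ₁ ξ) (τ₁ ζ) = 0 := fun ξ hξ ζ hζ e => by
    rw [hc.dot hξ hζ, irr_dot_ne (hS hξ) (hS hζ) e]
  have hproj := cfnorm_eq_proj ho1 ho2 β
  have hsum : ∑ ξ ∈ S, ‖cfdot G β (τ₁ ξ)‖ ^ 2 = (l : ℝ) ^ 2 * s - 2 * a * l + (a : ℝ) ^ 2 := by
    rw [Finset.sum_congr rfl (g := fun ξ => (l : ℝ) ^ 2 * ((deg ξ : ℝ) / deg ψ) ^ 2 +
      if ξ = ψ then (-2 * a * l + (a : ℝ) ^ 2) else 0) (fun ξ hξ => by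
        rw [hcoef ξ hξ, Complex.norm_real, Real.norm_eq_abs, sq_abs, hlR]
        split_ifs with e
        · rw [e, div_self hψR.ne']; ring
        · ring), Finset.sum_add_distrib, ← Finset.mul_sum, Finset.sum_ite_eq' S ψ, if_pos hψ]
    ring
  have hZv : Z ∈ vchar G := sub_mem hβv (Submodule.sum_mem _ fun ξ hξ => by
    obtain ⟨n, hn⟩ := vchar_dot_int hβv (hc.vchar hξ)
    rw [hn]; exact intCast_smul_mem n (hc.vchar hξ))
  rw [hβn, hsum, ← hZ] at hproj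
  have hl0 : l = 0 := by
    by_contra h0
    have h2 : (0 : ℝ) ≤ l * (l - 1) := by
      have : (0 : ℤ) ≤ l * (l - 1) := by
        rcases le_or_gt l 0 with h | h
        · exact mul_nonneg_of_nonpos_of_nonpos h (by omega)
        · exact mul_nonneg h.le (by omega)
      exact_mod_cast this
    have h3 : (0 : ℝ) < (l : ℝ) ^ 2 := by positivity
    have haR : (0 : ℝ) < a := by exact_mod_cast ha0
    have h4 : cfnorm G Z < 1 := by nlinarith
    have h5 : Z = 0 := by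
      by_contra h; exact absurd (vchar_one_le_norm hZv h) (not_le.mpr h4)
    rw [h5, cfnorm_zero] at hproj
    have h6 := congrFun h5 1
    have hβ1 : β 1 = 0 := h1 _ hβ₀
    rw [hZ, Pi.sub_apply, hβ1, Finset.sum_apply, Finset.sum_congr rfl
      (g := fun ξ => ((l * ((deg ξ : ℝ) / deg ψ) ^ 2 - if ξ = ψ then (a : ℝ) else 0 : ℝ) : ℂ) *
        τ₁ ψ 1) (fun ξ hξ => by
        rw [Pi.smul_apply, hcoef ξ hξ, hc.apply_one hS (fun φ h => h1 φ (zsp0_mono hsub h)) hξ hψ,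
          hlR, smul_eq_mul]
        split_ifs with e
        · rw [e]; push_cast; field_simp
        · push_cast; ring), ← Finset.sum_mul, ← Complex.ofReal_sum, Finset.sum_sub_distrib,
      ← Finset.mul_sum, Finset.sum_ite_eq' S ψ, if_pos hψ, ← hs, Pi.zero_apply, zero_sub,
      neg_eq_zero, mul_eq_zero, Complex.ofReal_eq_zero] at h6
    have h7 := h6.resolve_right (hc.dirr hψ (hS hψ)).one_ne_zero
    have h8 : (0 : ℝ) < l := by
      by_contra h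
      have : (l : ℝ) * s ≤ 0 := mul_nonpos_of_nonpos_of_nonneg (not_lt.mp h) (by linarith)
      linarith
    nlinarith
  have hZe : β = Z - (a : ℂ) • τ₁ ψ := by
    rw [hZ, Finset.sum_eq_single ψ (fun ξ hξ e => by
      rw [hcoef ξ hξ, hlR, hl0, if_neg e]; simp) (fun h => absurd hψ h), hcoef ψ hψ, hlR, hl0]
    simp
  have hZn : cfdot G Z Z = 1 := cfnorm_eq_one_iff.mp (by
    rw [hl0] at hproj; push_cast at hproj; linarith)
  have hZo : ∀ ξ ∈ S, cfdot G Z (τ₁ ξ) = 0 := fun ξ hξ => by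
    rw [hZ, cfdot_sub_left, cfdot_sum_orth_left ho2 _ hξ, ho1 ξ hξ, mul_one, sub_self]
  have hup : ∀ ξ ∈ S, Function.update (fun ξ => τ₁ ξ) χ Z ξ = τ₁ ξ := fun ξ hξ =>
    Function.update_of_ne (hne ξ hξ).symm _ _
  obtain ⟨ν, hν, -⟩ := coherent_of_pivot (τ := τ) (irr_pwOrth hS') (irr_dot_self_ne hS')
    (Function.update (fun ξ => τ₁ ξ) χ Z) (fun ξ hξ => by
      rcases Finset.mem_insert.mp hξ with e | h
      · rwa [e, Function.update_self]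
      · rw [hup ξ h]; exact hc.vchar h)
    (fun ξ hξ ζ hζ => by
      rcases Finset.mem_insert.mp hξ with e | h <;> rcases Finset.mem_insert.mp hζ with e' | h'
      · rw [e, e', Function.update_self, hZn, irr_dot_self hχ]
      · rw [e, Function.update_self, hup ζ h', hZo ζ h', irr_dot_ne hχ (hS h') (hne ζ h')]
      · rw [e', Function.update_self, hup ξ h, cfdot_symm_zero (hZo ξ h),
          irr_dot_ne (hS h) hχ (hne ξ h).symm]
      · rw [hup ξ h, hup ζ h', hc.dot h h'])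
    ψ (τ₁ ψ) (fun ξ hξ => by
      rcases Finset.mem_insert.mp hξ with e | h
      · rw [e, Function.update_self, hdiv, ← hZe]
      · rw [hup ξ h, hc.ext_div (fun χ h => irr_vchar (hS h)) (mem_zsp_of_mem h)
          (mem_zsp_of_mem hψ) (irr_one_ne_zero (hS hψ))])
  exact ⟨ν, hν⟩

theorem irr_coherent_ortho (hS : S ⊆ Irr L) (hτ : ZIsom L G (zsp0 S) τ)
    (h1 : ∀ φ ∈ zsp0 S, τ φ 1 = 0) (hX : X ⊆ S) (hY : Y ⊆ S) (hd : Disjoint X Y)
    (hX2 : 1 < X.card) (hY2 : 1 < Y.card) (hc₁ : CohWith L G X τ τ₁) (hc₂ : CohWith L G Y τ τ₂)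
    (hχ : χ ∈ X) {η : Γ → ℂ} (hη : η ∈ Y) : cfdot G (τ₁ χ) (τ₂ η) = 0 := by
  obtain ⟨χ', hχ', n1⟩ := Finset.exists_mem_ne hX2 χ
  obtain ⟨η', hη', n2⟩ := Finset.exists_mem_ne hY2 η
  have hXi := hX.trans hS
  have hYi := hY.trans hS
  obtain ⟨ε, hε, e1⟩ := hc₁.exists_sign hXi (fun φ h => h1 φ (zsp0_mono hX h))
  obtain ⟨δ, hδ, e2⟩ := hc₂.exists_sign hYi (fun φ h => h1 φ (zsp0_mono hY h))
  have m1 := cross_mem_zsp0 (mem_zsp_of_mem hχ) (mem_zsp_of_mem hχ') (m := deg χ) (n := deg χ')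
    (by simpa using irr_one_eq (hXi hχ)) (by simpa using irr_one_eq (hXi hχ'))
  have m2 := cross_mem_zsp0 (mem_zsp_of_mem hη) (mem_zsp_of_mem hη') (m := deg η) (n := deg η')
    (by simpa using irr_one_eq (hYi hη)) (by simpa using irr_one_eq (hYi hη'))
  have h2 := hτ.dot _ (zsp0_mono hX m1) _ (zsp0_mono hY m2)
  have ho : ∀ a ∈ X, ∀ b ∈ Y, cfdot L a b = 0 := fun a ha b hb =>
    irr_dot_ne (hXi ha) (hYi hb) fun e => Finset.disjoint_left.mp hd ha (e ▸ hb)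
  rw [← hc₁.ext _ m1, ← hc₂.ext _ m2] at h2
  simp only [map_sub, map_smul, cfdot_sub_left, cfdot_sub_right, cfdot_smul_left, cfdot_smul_right,
    ho _ hχ _ hη, ho _ hχ _ hη', ho _ hχ' _ hη, ho _ hχ' _ hη', map_intCast, Int.cast_natCast,
    map_natCast] at h2
  by_contra h0
  have hεε : (ε : ℂ) * ε = 1 := by rcases hε with rfl | rfl <;> simp
  have hδδ : (δ : ℂ) * δ = 1 := by rcases hδ with rfl | rfl <;> simp
  have hε0 : (ε : ℂ) ≠ 0 := left_ne_zero_of_mul_eq_one hεε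
  have hδ0 : (δ : ℂ) ≠ 0 := left_ne_zero_of_mul_eq_one hδδ
  have e := irr_eq_of_dot_ne (e1 χ hχ) (e2 η hη) (by
    rw [cfdot_smul_left, cfdot_smul_right, map_intCast]
    exact mul_ne_zero hε0 (mul_ne_zero hδ0 h0))
  have a1 := irr_dot_self (e1 χ hχ)
  nth_rewrite 2 [e] at a1
  have a2 : cfdot G ((ε : ℂ) • τ₁ χ) (τ₂ η') = 0 := by
    rw [e, cfdot_smul_left, hc₂.dot hη hη', irr_dot_ne (hYi hη) (hYi hη') n2.symm, mul_zero]
  have a3 : cfdot G (τ₁ χ') ((δ : ℂ) • τ₂ η) = 0 := by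
    rw [← e, cfdot_smul_right, hc₁.dot hχ' hχ, irr_dot_ne (hXi hχ') (hXi hχ) n1, mul_zero]
  obtain ⟨k, hk⟩ := char_dot_nat (irr_char (e1 χ' hχ')) (irr_char (e2 η' hη'))
  simp only [cfdot_smul_left, cfdot_smul_right, map_intCast] at a1 a2 a3 hk
  rw [(mul_eq_zero.mp a2).resolve_left hε0, (mul_eq_zero.mp a3).resolve_left hδ0] at h2
  have h3 : ((deg χ' * deg η' + deg χ * deg η * k : ℕ) : ℂ) = 0 := by
    push_cast
    linear_combination (ε * δ : ℂ) * h2 - (deg χ' * deg η' : ℂ) * a1 - (deg χ * deg η : ℂ) * hk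
  have h4 := Nat.mul_pos (irr_deg_pos (hXi hχ')) (irr_deg_pos (hYi hη'))
  rw [Nat.cast_eq_zero] at h3
  omega

theorem irr_bridge_coherent [DecidableEq (Γ → ℂ)] (hX : X ⊆ Irr L) (hY : Y ⊆ Irr L)
    (hd : Disjoint X Y) (hc₁ : CohWith L G X τ τ₁) (hc₂ : CohWith L G Y τ τ₂)
    (ho : ∀ χ ∈ X, ∀ η ∈ Y, cfdot G (τ₁ χ) (τ₂ η) = 0) (hχ : χ ∈ X) {η : Γ → ℂ} (hη : η ∈ Y)
    (he : τ (χ 1 • η - η 1 • χ) = χ 1 • τ₂ η - η 1 • τ₁ χ) : Coherent L G (X ∪ Y) τ := by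
  have hS : X ∪ Y ⊆ Irr L := Finset.union_subset hX hY
  have hY' : ∀ ξ ∈ X ∪ Y, ξ ∉ X → ξ ∈ Y := fun ξ h h' => (Finset.mem_union.mp h).resolve_left h'
  have ho' : ∀ a ∈ X, ∀ b ∈ Y, cfdot L a b = 0 := fun a ha b hb =>
    irr_dot_ne (hX ha) (hY hb) fun e => Finset.disjoint_left.mp hd ha (e ▸ hb)
  have c0 := irr_one_ne_zero (hX hχ)
  have c1 := irr_one_ne_zero (hY hη)
  obtain ⟨ν, hν, -⟩ := coherent_of_pivot (τ := τ) (irr_pwOrth hS) (irr_dot_self_ne hS)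
    (fun ξ => if ξ ∈ X then τ₁ ξ else τ₂ ξ) (fun ξ hξ => by
      split_ifs with h
      · exact hc₁.vchar h
      · exact hc₂.vchar (hY' ξ hξ h))
    (fun ξ hξ ζ hζ => by
      split_ifs with h h' h'
      · exact hc₁.dot h h'
      · rw [ho _ h _ (hY' ζ hζ h'), ho' _ h _ (hY' ζ hζ h')]
      · rw [cfdot_symm_zero (ho _ h' _ (hY' ξ hξ h)), cfdot_symm_zero (ho' _ h' _ (hY' ξ hξ h))]
      · exact hc₂.dot (hY' ξ hξ h) (hY' ζ hζ h'))
    χ (τ₁ χ) (fun ξ hξ => by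
      split_ifs with h
      · exact hc₁.ext_div (fun χ h => irr_vchar (hX h)) (mem_zsp_of_mem h) (mem_zsp_of_mem hχ) c0
      · have h2 := hc₂.ext_div (fun χ h => irr_vchar (hY h)) (mem_zsp_of_mem (hY' ξ hξ h))
          (mem_zsp_of_mem hη) c1
        have h3 : ξ - (ξ 1 / χ 1) • χ =
            (ξ - (ξ 1 / η 1) • η) + (ξ 1 / (η 1 * χ 1)) • (χ 1 • η - η 1 • χ) := by
          funext x; simp only [Pi.sub_apply, Pi.add_apply, Pi.smul_apply, smul_eq_mul]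
          field_simp; ring
        rw [h3, map_add, map_smul, h2, he]
        funext x; simp only [Pi.sub_apply, Pi.add_apply, Pi.smul_apply, smul_eq_mul]
        field_simp; ring)
  exact ⟨ν, hν⟩

/-! ## Frobenius groups -/

variable {K A B : Subgroup Γ}

theorem FrobK.seqInd_irr (h : FrobK L K) : seqIndD K L K ⊥ ⊆ Irr L := fun φ hφ => by
  obtain ⟨θ, hθ, h1, rfl⟩ := mem_seqIndC1.mp hφ
  exact irr_induced_Frobenius_ker h.nml (fun x hx h1 => h.cent_le hx h1) hθ h1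

theorem FrobK.mem_seqIndD (h : FrobK L K) {Z : Subgroup Γ} (hZ : Z ⊴ L) (hZK : Z ≤ K) :
    φ ∈ seqIndD K L Z ⊥ ↔ φ ∈ Irr L ∧ ¬ Z ≤ cfker L φ := by
  rw [mem_seqIndD_iff_ker h.nml.le hZ (Nml.bot L)]
  constructor
  · rintro ⟨h1, -, h2⟩
    exact ⟨h.seqInd_irr ((mem_seqIndD_iff_ker h.nml.le h.nml (Nml.bot L)).mpr
      ⟨h1, bot_le, fun h3 => h2 (hZK.trans h3)⟩), h2⟩
  · rintro ⟨h1, h2⟩
    obtain ⟨θ, hθ, -, rfl⟩ := Frobenius_Ind_irrP h.nml (fun x hx h1 => h.cent_le hx h1) h1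
      (fun h3 => h2 (hZK.trans h3))
    exact ⟨cfInd_mem_seqIndT L hθ, bot_le, h2⟩

theorem FrobK.nil (h : FrobK L K) : Nil K := by
  obtain ⟨E, h⟩ := h; exact H1.Frobenius_kernel_nil h

theorem FrobK.quo (h : FrobK L K) (hA : A ⊴ L) (hAK : A < K) : FrobK (quo L A) (quo K A) := by
  obtain ⟨E, h⟩ := h; exact ⟨_, h.quo hA hAK⟩

theorem FrobK.dvd_index_pred (h : FrobK L K) (hA : A ⊴ L) (hAK : A ≤ K) :
    K.relIndex L ∣ A.relIndex K - 1 := by
  rcases hAK.eq_or_lt with rfl | hlt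
  · simp
  · have := (h.quo hA hlt).index_dvd
    rwa [relIndex_quo (hA.of_le hAK h.nml.le) hA.norm, card_quo (h.nml.le.trans hA.norm)] at this

theorem sum_deg_sq_seqIndD_irr (hK : K ⊴ L) (hA : A ⊴ L) (hAK : A ≤ K)
    (hi : seqIndD K L K A ⊆ Irr L) :
    ∑ φ ∈ seqIndD K L K A, deg φ ^ 2 = K.relIndex L * (A.relIndex K - 1) := by
  have h1 := sum_seqIndD_square hK hK hA hAK le_rfl
  rw [Finset.sum_congr rfl (g := fun φ => (deg φ : ℝ) ^ 2)
    (fun φ hφ => by rw [irr_norm (hi hφ), div_one]), Subgroup.relIndex_self] at h1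
  have h2 : 1 ≤ A.relIndex K := relIndex_pos A K
  apply Nat.cast_injective (R := ℝ)
  push_cast [h2]
  rw [h1]; ring

theorem feit_bound (hK : K ⊴ L) (hi : seqIndD K L K ⊥ ⊆ Irr L)
    (hτ : ZIsom L G (zsp0 (seqIndD K L K ⊥)) τ) (h1 : ∀ φ ∈ zsp0 (seqIndD K L K ⊥), τ φ 1 = 0)
    (hA : A ⊴ L) (hAK : A ≤ K) (hA' : ⁅K, K⁆ ⊔ A ≠ K) (hc : Coherent L G (seqIndD K L K A) τ)
    (hT : X ⊆ seqIndD K L K ⊥) (hlt : ∀ χ ∈ X, 2 * deg χ < A.relIndex K - 1) :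
    Coherent L G X τ := by
  classical
  obtain ⟨ψ, hψ, hψ1⟩ := exists_linInd hK.le (hA.of_le hAK hK.le) hA'
  have hψd := deg_eq_of hψ1
  have hAs : seqIndD K L K A ⊆ seqIndD K L K ⊥ := seqIndD_mono K L le_rfl bot_le
  suffices h : Coherent L G (seqIndD K L K A ∪ X) τ from h.mono Finset.subset_union_right
  induction X using Finset.induction_on with
  | empty => rwa [Finset.union_empty]
  | insert χ X hn ih =>
    have ih' := ih ((Finset.subset_insert _ _).trans hT)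
      (fun φ h => hlt φ (Finset.mem_insert_of_mem h))
    rw [Finset.union_insert]
    by_cases hm : χ ∈ seqIndD K L K A ∪ X
    · rwa [Finset.insert_eq_of_mem hm]
    have hχ := hT (Finset.mem_insert_self _ _)
    have hs : insert χ (seqIndD K L K A ∪ X) ⊆ seqIndD K L K ⊥ := Finset.insert_subset hχ
      (Finset.union_subset hAs ((Finset.subset_insert _ _).trans hT))
    obtain ⟨τ₁, hτ₁⟩ := ih'
    refine feit_extend (((Finset.subset_insert _ _).trans hs).trans hi) (hi hχ) hm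
      (hτ.mono (zsp0_mono hs)) (fun φ h => h1 φ (zsp0_mono hs h)) hτ₁
      (Finset.mem_union_left _ hψ) (hψd ▸ dvd_index_seqInd1 hK.le (seqIndD_subT _ _ _ _ hχ)) ?_
    refine lt_of_lt_of_le ?_ (Finset.sum_le_sum_of_subset Finset.subset_union_left)
    rw [sum_deg_sq_seqIndD_irr hK hA hAK (hAs.trans hi), hψd, mul_comm 2, mul_assoc]
    exact Nat.mul_lt_mul_of_pos_left (hlt χ (Finset.mem_insert_self _ _)) (relIndex_pos K L)

theorem nil_isPi_of_quo {π : Set ℕ} (hK : Nil K) (hB : B ⊴ K) (hB' : B ≤ ⁅K, K⁆)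
    (h : IsPi π (quo K B)) : IsPi π K := by
  have h1 : O[πᶜ, K] ≤ B := le_of_idx_compl' hB (by rw [← card_quo hB.norm]; exact h)
    (pcore_pi _ _) (pcore_le _ _)
  have h2 : O[π, K] = K := Phi_nongen (pcore_le _ _) (by
    nth_rewrite 1 [← (hK.pcoreC π).sup]
    exact sup_le_sup_left (h1.trans (hB'.trans hK.der1_le_Phi)) _)
  rw [← h2]; exact pcore_pi _ _

theorem seqIndD_der1_deg (hKL : K ≤ L) (hA : ⁅K, K⁆ ≤ A) (hφ : φ ∈ seqIndD K L K A) :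
    φ 1 = K.relIndex L := by
  obtain ⟨θ, hθ, h1, -, rfl⟩ := mem_seqIndD.mp hφ
  rw [cfInd_one hKL, (irr_lin_of_der_le hθ (hA.trans h1)).one, mul_one]

/-- Feit's coherence theorem for Frobenius groups. -/
theorem feit_coherence (h : FrobK L K) (hτ : ZIsom L G (zsp0 (seqIndD K L K ⊥)) τ)
    (h1 : ∀ φ ∈ zsp0 (seqIndD K L K ⊥), τ φ 1 = 0) :
    Coherent L G (seqIndD K L K ⊥) τ ∨ ∃ p : ℕ, p.Prime ∧ IsPi {p} K ∧ ¬ Abl K ∧
      ⁅K, K⁆.relIndex K ≤ 4 * K.relIndex L ^ 2 + 1 := by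
  have hK := h.nml
  have hi := h.seqInd_irr
  have hn := h.nil
  have hK' : ⁅K, K⁆ < K := hn.sol.der1_lt h.ne_bot
  have hs : ∀ A, seqIndD K L K A ⊆ seqIndD K L K ⊥ := fun A => seqIndD_mono K L le_rfl bot_le
  refine or_iff_not_imp_right.mpr fun hbad => ?_
  have h0 : Coherent L G (seqIndD K L K ⁅K, K⁆) τ := irr_uniform_coherent ((hs _).trans hi)
    (fun χ hχ ψ hψ => by rw [seqIndD_der1_deg hK.le le_rfl hχ, seqIndD_der1_deg hK.le le_rfl hψ])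
    (hτ.mono (zsp0_mono (hs _))) (fun φ h => h1 φ (zsp0_mono (hs _) h))
  suffices H : ∀ A, A ⊴ L → A ≤ ⁅K, K⁆ → Coherent L G (seqIndD K L K A) τ →
      Coherent L G (seqIndD K L K ⊥) τ from H _ hK.der1 le_rfl h0
  intro A
  induction A using subgroup_ind with
  | h A ih =>
  intro hA hAK hc
  by_cases hA0 : A = ⊥
  · rwa [hA0] at hc
  obtain ⟨B, hch, -⟩ := exists_chief_below (Nml.bot L) hA (bot_lt_iff_ne_bot.mpr hA0)
  have hB := hch.nmlV
  have hAK' := hAK.trans hK'.le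
  have hBK := hB.of_le (hch.le.trans hAK') hK.le
  refine ih B hch.lt hB (hch.le.trans hAK) (feit_bound hK hi hτ h1 hA hAK'
    (by rw [sup_eq_left.mpr hAK]; exact hK'.ne) hc (hs B) fun χ hχ => ?_)
  set D := coq B Z[quo K B] with hD
  have hDK : D ≤ K := coq_le_of_le_quo hBK inf_le_left
  have hDL : D ⊴ L := nml_coq_of hB (hK.quo B).center
  have hKD : ⁅K, D⁆ ≤ B := (quo_cents hBK.norm (hDK.trans hBK.norm)).mp
    (by rw [hD, quo_coq]; exact le_C_center _)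
  have hAD : A ≤ D := (quo_le_iff (hAK'.trans hBK.norm)).mp (le_inf (quo_mono B hAK')
    ((quo_cents (hAK'.trans hBK.norm) hBK.norm).mpr
      ((comm_mono_right (Fitting_max hK hn)).trans hch.comm_Fitting_le)))
  have hb := irr1_bound_quo (hi (hs B hχ)) ((mem_seqIndD_iff_ker hK.le hK hB).mp hχ).2.1 hDK hK.le hKD
  have hx : A.relIndex K = A.relIndex D * D.relIndex K :=
    (Subgroup.relIndex_mul_relIndex A D K hAD hDK).symm
  have hx' : ⁅K, K⁆.relIndex K ≤ A.relIndex K :=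
    Subgroup.relIndex_le_of_le_left hAK (relIndex_pos A K).ne'
  set e := K.relIndex L
  set x := A.relIndex K
  set y := D.relIndex K
  set z := A.relIndex D
  have hz0 : 0 < z := relIndex_pos A D
  suffices hlt : 4 * e ^ 2 * y < (x - 1) ^ 2 by
    by_contra hge
    have := Nat.pow_le_pow_left (not_lt.mp hge) 2
    nlinarith
  by_cases hbig : 4 * e ^ 2 + 1 < ⁅K, K⁆.relIndex K
  · obtain ⟨w, hw⟩ : ∃ w, x = w + 2 := ⟨x - 2, by omega⟩
    have h2 : y ≤ x := hx ▸ Nat.le_mul_of_pos_left y hz0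
    have h3 : 4 * e ^ 2 ≤ w := by omega
    rw [hw] at h2 ⊢
    calc 4 * e ^ 2 * y ≤ w * (w + 2) := Nat.mul_le_mul h3 h2
      _ < (w + 2 - 1) ^ 2 := by rw [show w + 2 - 1 = w + 1 from rfl]; nlinarith
  have hy1 : y ≠ 1 := fun e1 => by
    have h2 : K ≤ D := Subgroup.relIndex_eq_one.mp e1
    exact hch.lt.not_ge (hAK.trans ((comm_mono_right h2).trans hKD))
  have hz1 : z ≠ 1 := fun e1 => by
    have h2 : D ≤ A := Subgroup.relIndex_eq_one.mp e1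
    obtain ⟨p, hp, h3⟩ := hch.elem (hn.sol.of_le hAK')
    have h4 : IsPi {p} Z[quo K B] := (isPi_iff_piElt.mpr fun x hx =>
      piElt_of_pow_eq_one (piNat_self hp) (h3.2 x hx)).of_le (by
      have := quo_mono B h2; rwa [hD, quo_coq] at this)
    refine hbad ⟨p, hp, nil_isPi_of_quo hn hBK (hch.le.trans hAK) fun q hq hd =>
      h4 q hq ((hn.quo B).dvd_card_center hq hd), fun ha => hA0 (eq_bot_of_le (der1_eq_bot.mpr ha) hAK),
      not_lt.mp hbig⟩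
  have hy0 : 0 < y := relIndex_pos D K
  have hye0 : e ∣ y - 1 := h.dvd_index_pred hDL hDK
  obtain ⟨y', hy'⟩ := hye0
  have hxe : e ∣ x - 1 := h.dvd_index_pred hA hAK'
  have hye : y = e * y' + 1 := by omega
  have hze : e ∣ z - 1 := by
    obtain ⟨z', hz'⟩ : ∃ z', z = z' + 1 := ⟨z - 1, by omega⟩
    have : x - 1 = z' + e * (y' * z) := by rw [hx, hye, hz']; ring_nf; omega
    rw [this] at hxe
    rw [hz']
    exact (Nat.dvd_add_left (Dvd.intro _ rfl)).mp hxe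
  have hy2 : e + 1 ≤ y := by have := Nat.le_of_dvd (by omega) (Dvd.intro _ hy'.symm); omega
  have hz2 : e + 1 ≤ z := by have := Nat.le_of_dvd (by omega) hze; omega
  have he : 0 < e := relIndex_pos K L
  have h5 : e * (y + 1) ≤ x - 1 := by
    have : (e + 1) * y ≤ x := hx ▸ Nat.mul_le_mul_right y hz2
    have h6 : e * (y + 1) + 1 ≤ (e + 1) * y := by nlinarith
    omega
  calc 4 * e ^ 2 * y < (e * (y + 1)) ^ 2 := by
        obtain ⟨w, hw⟩ : ∃ w, y = w + 2 := ⟨y - 2, by omega⟩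
        rw [hw, mul_pow, mul_comm 4, mul_assoc]
        exact Nat.mul_lt_mul_of_pos_left (by nlinarith) (by positivity)
    _ ≤ (x - 1) ^ 2 := Nat.pow_le_pow_left h5 2

theorem exists_zsp0_ne_zero (hS : S ⊆ Irr L) (h2 : 1 < S.card) : ∃ α ∈ zsp0 S, α ≠ 0 := by
  obtain ⟨χ, hχ, ψ, hψ, hne⟩ := Finset.one_lt_card.mp h2
  refine ⟨_, cross_mem_zsp0 (mem_zsp_of_mem hχ) (mem_zsp_of_mem hψ) (m := deg χ) (n := deg ψ)
    (by simpa using irr_one_eq (hS hχ)) (by simpa using irr_one_eq (hS hψ)), fun h => ?_⟩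
  have := congrArg (fun φ => cfdot L φ χ) h
  simp only [cfdot_sub_left, cfdot_smul_left, irr_dot_self (hS hχ),
    irr_dot_ne (hS hψ) (hS hχ) hne.symm, cfdot_zero_left] at this
  exact (irr_deg_pos (hS hψ)).ne' (by simpa using this)

theorem FrobK.exists_lin (h : FrobK L K) : ∃ φ ∈ seqIndD K L K ⊥, deg φ = K.relIndex L := by
  obtain ⟨φ, h1, h2⟩ := exists_linInd_sol h.nml.le h.nil.sol (Nml.bot K) h.ne_bot.symm
  exact ⟨φ, h1, deg_eq_of h2⟩

theorem FrobK.sum_deg_sq (h : FrobK L K) :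
    ∑ φ ∈ seqIndD K L K ⊥, deg φ ^ 2 = K.relIndex L * (Nat.card K - 1) := by
  rw [sum_deg_sq_seqIndD_irr h.nml (Nml.bot L) bot_le h.seqInd_irr, Subgroup.relIndex_bot_left]

theorem FrobK.card_seqInd_eq_one_iff (h : FrobK L K) :
    (seqIndD K L K ⊥).card = 1 ↔ Nat.card K = K.relIndex L + 1 := by
  obtain ⟨φ, h1, h2⟩ := h.exists_lin
  have h3 := h.sum_deg_sq
  have h4 := card_pos K
  have he := relIndex_pos K L
  constructor
  · intro h5
    obtain ⟨ψ, hψ⟩ := Finset.card_eq_one.mp h5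
    rw [hψ] at h1 h3
    rw [Finset.sum_singleton, ← Finset.mem_singleton.mp h1, h2, sq] at h3
    have := Nat.eq_of_mul_eq_mul_left he h3
    omega
  · intro h5
    classical
    rw [h5, Nat.add_sub_cancel, ← Finset.add_sum_erase _ _ h1, h2, sq, add_eq_left,
      Finset.sum_eq_zero_iff] at h3
    refine Finset.card_eq_one.mpr ⟨φ, Finset.eq_singleton_iff_unique_mem.mpr ⟨h1, fun ψ hψ => ?_⟩⟩
    by_contra hne
    exact (pow_pos (irr_deg_pos (h.seqInd_irr hψ)) 2).ne' (h3 ψ (Finset.mem_erase.mpr ⟨hne, hψ⟩))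

theorem FrobK.one_lt_card_seqInd (h : FrobK L K) (he : Nat.card K ≠ K.relIndex L + 1) :
    1 < (seqIndD K L K ⊥).card := by
  obtain ⟨φ, h1, -⟩ := h.exists_lin
  have := Finset.card_pos.mpr ⟨φ, h1⟩
  have := mt h.card_seqInd_eq_one_iff.mp he
  omega

end H27
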