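import Mathlib
import Cfsg.Agent.H27.PF2

/-!
# Bridges between functions on subtypes (frozen statements) and the ambient vocabulary
-/

set_option autoImplicit false
set_option linter.unusedSectionVars false
set_option linter.unusedVariables false

namespace H27

open Cfsg H24 H4
open scoped ComplexConjugate

universe u v

variable {Γ : Type u} [Group Γ] [Finite Γ] {Γ' : Type v} [Group Γ'] [Finite Γ']

section ext0
variable {H T : Subgroup Γ}

theorem ext0_one (θ : H → ℂ) : extendByZero H θ 1 = θ 1 := ext0_coe θ 1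

theorem ext0_const_one (H : Subgroup Γ) : extendByZero H (fun _ => 1) = cfOne H := ext0_res H 1

theorem ext0_eq_cfOne_iff {θ : H → ℂ} : extendByZero H θ = cfOne H ↔ θ = fun _ => 1 := by
  rw [← ext0_const_one, ext0_injective.eq_iff]

theorem ext0_cfConj [hN : H.Normal] (θ : H → ℂ) (g : Γ) :
    cfConj g (extendByZero H θ) =
      extendByZero H (fun h : H => θ ⟨g * h * g⁻¹, hN.conj_mem h h.2 g⟩) :=
  ext_on (cfConj_mem_cfOn_of_mem_N ((nml_top H).norm trivial) (ext0_mem_cfOn θ)) (ext0_mem_cfOn _)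
    fun x hx => by rw [cfConj_apply, ext0_of_mem _ hx, ext0_of_mem]

theorem mem_inertia_top_ext0 [hN : H.Normal] {θ : H → ℂ} {g : Γ} :
    g ∈ inertia ⊤ (extendByZero H θ) ↔ ∀ h : H, θ ⟨g * h * g⁻¹, hN.conj_mem h h.2 g⟩ = θ h := by
  rw [mem_inertia, ext0_cfConj, ext0_injective.eq_iff, funext_iff]
  exact and_iff_right trivial

theorem mem_cfclass_top_ext0 [hN : H.Normal] {θ φ : H → ℂ} :
    extendByZero H φ ∈ cfclass ⊤ (extendByZero H θ) ↔
      ∃ g : Γ, φ = fun h : H => θ ⟨g * h * g⁻¹, hN.conj_mem h h.2 g⟩ := by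
  rw [mem_cfclass]
  refine exists_congr fun g => ?_
  rw [ext0_cfConj, ext0_injective.eq_iff, eq_comm]
  exact and_iff_right trivial

theorem res_cfInd [Fintype T] (H : Subgroup Γ) (hHT : H ≤ T) (φ : Γ → ℂ) :
    (fun x : T => cfInd T H φ x) = indFun (H.subgroupOf T) (fun x => φ ((x : T) : Γ)) := by
  rw [← cfInd_top (H.subgroupOf T) (fun x : T => φ x)]
  funext x
  rw [cfInd_of_mem _ _ x.2, cfInd_of_mem _ _ (Subgroup.mem_top x), card_subgroupOf_of_le hHT,
    Subgroup.coe_top, fs_univ, ← Finset.sum_coe_sort]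
  congr 1
  refine Finset.sum_bij' (fun g _ => (⟨g.1, mem_fs.mp g.2⟩ : T)) (fun g _ => ⟨g.1, mem_fs.mpr g.2⟩)
    (by simp) (by simp) (by simp) (by simp) fun g' _ => ?_
  set g : T := ⟨g'.1, mem_fs.mp g'.2⟩
  change cfRes H φ ((g : Γ) * x * (g : Γ)⁻¹) = _
  by_cases h : (g : Γ) * x * (g : Γ)⁻¹ ∈ H
  · rw [cfRes_of_mem _ h, cfRes_of_mem _ (show g * x * g⁻¹ ∈ H.subgroupOf T from h)]; rfl
  · rw [cfRes_of_not_mem _ h, cfRes_of_not_mem _ (show g * x * g⁻¹ ∉ H.subgroupOf T from h)]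

theorem cfdot_ext0 [Fintype H] (θ φ : H → ℂ) :
    cfdot H (extendByZero H θ) (extendByZero H φ) = classInner θ φ := by
  rw [cfdot_eq_classInner, res_ext0, res_ext0]

theorem ext0_add (θ φ : H → ℂ) :
    extendByZero H (θ + φ) = extendByZero H θ + extendByZero H φ := (ext0L H).map_add θ φ

theorem ext0_sub (θ φ : H → ℂ) :
    extendByZero H (θ - φ) = extendByZero H θ - extendByZero H φ := (ext0L H).map_sub θ φ

theorem ext0_conjFun (θ : H → ℂ) : extendByZero H (conjFun θ) = conjC (extendByZero H θ) :=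
  ext_on (ext0_mem_cfOn _) (cfAut_mem_cfOn _ (ext0_mem_cfOn _)) fun x hx => by
    rw [conjC_apply, ext0_of_mem _ hx, ext0_of_mem _ hx]; rfl

theorem ext0_mem_cfOn_of {A : Set Γ} {θ : H → ℂ} (h : ∀ x : H, (x : Γ) ∉ A → θ x = 0) :
    extendByZero H θ ∈ cfOn A := fun x hx => by
  by_cases hH : x ∈ H
  · rw [ext0_of_mem _ hH]; exact h ⟨x, hH⟩ hx
  · exact ext0_of_not_mem _ hH

theorem Dade_ext0 (A : Set Γ) (R : Γ → Subgroup Γ) (α : H → ℂ) :
    Dade A H R (extendByZero H α) = dadeIsometry A H R α := by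
  change dadeIsometry A H R (fun x : H => extendByZero H α x) = _
  rw [res_ext0]

theorem le_cfker_ext0 {θ : H → ℂ} (hθ : IsCharacter H θ) {A : Subgroup Γ} (hA : A ≤ H) :
    A ≤ cfker H (extendByZero H θ) ↔ ∀ a : H, (a : Γ) ∈ A → θ a = θ 1 := by
  rw [(isChar_ext0 hθ).le_cfker hA, ext0_one]
  exact ⟨fun h a ha => by rw [← h a ha, ext0_coe], fun h a ha => by
    rw [ext0_of_mem _ (hA ha)]; exact h ⟨a, hA ha⟩ ha⟩

theorem le_cfker_top {χ : Γ → ℂ} (hχ : IsCharacter Γ χ) {A : Subgroup Γ} :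
    A ≤ cfker ⊤ χ ↔ ∀ a ∈ A, χ a = χ 1 :=
  (isChar_top.mpr hχ).le_cfker le_top

theorem exists_ext0 {φ : Γ → ℂ} (hφ : φ ∈ cfOn (H : Set Γ)) : ∃ θ : H → ℂ, φ = extendByZero H θ :=
  ⟨fun x => φ x, by rw [ext0_res, cfRes_eq_self hφ]⟩

end ext0

/-! ## extending isometries linearly -/

/-- a map preserving inner products on a set `E` agrees on `E` with a linear map. -/
theorem exists_linear_ext (E : Set (Γ → ℂ)) (τ : (Γ → ℂ) → (Γ' → ℂ))
    (h : ∀ α ∈ E, ∀ β ∈ E, cfdot ⊤ (τ α) (τ β) = cfdot ⊤ α β) :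
    ∃ τ' : (Γ → ℂ) →ₗ[ℂ] (Γ' → ℂ), ∀ α ∈ E, τ' α = τ α := by
  classical
  obtain ⟨b, hbE, hspan, hli⟩ := exists_linearIndependent ℂ E
  have hli' : LinearIndepOn ℂ id b := hli
  let B := Module.Basis.extend hli'
  refine ⟨B.constr ℂ (fun x => τ x), fun α hα => ?_⟩
  have hb : ∀ x ∈ b, B.constr ℂ (fun x => τ x) x = τ x := fun x hx => by
    have := B.constr_basis ℂ (fun x => τ x) ⟨x, hli'.subset_extend _ hx⟩
    rwa [Module.Basis.extend_apply_self] at this
  obtain ⟨c, s, hs, -, e⟩ := Submodule.mem_span_iff_exists_finset_subset.mp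
    (hspan ▸ Submodule.subset_span hα : α ∈ Submodule.span ℂ b)
  have h1 : B.constr ℂ (fun x => τ x) α = ∑ x ∈ s, c x • τ x := by
    rw [← e, map_sum]
    exact Finset.sum_congr rfl fun x hx => by rw [map_smul, hb x (hs hx)]
  have key : ∀ β ∈ E, cfdot ⊤ (∑ x ∈ s, c x • τ x - τ α) (τ β) = 0 := fun β hβ => by
    rw [cfdot_sub_left, cfdot_sum_left, h α hα β hβ, ← e, cfdot_sum_left, sub_eq_zero]
    exact Finset.sum_congr rfl fun x hx => by
      rw [cfdot_smul_left, cfdot_smul_left, h x (hbE (hs hx)) β hβ]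
  rw [h1, ← sub_eq_zero, ← cfdot_self_eq_zero (H := ⊤) (fun x hx => absurd trivial hx)]
  conv_lhs => rw [cfdot_sub_right, key α hα, cfdot_sum_right]
  rw [sub_zero]
  exact Finset.sum_eq_zero fun x hx => by rw [cfdot_smul_right, key x (hbE (hs hx)), mul_zero]

end H27
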