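import Mathlib
import Cfsg.Agent.H27.Feit
import Cfsg.Agent.H27.Wrap1
import Cfsg.Agent.H27.PF2

/-!
# Bridges between the frozen coherence notions and the ambient ones
-/

set_option autoImplicit false
set_option linter.unusedSectionVars false
set_option linter.unusedVariables false

namespace H27

open Cfsg H24 H4
open scoped ComplexConjugate

universe u v

section top
variable {L : Type u} [Group L] [Fintype L] {G : Type v} [Group G] [Fintype G]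
  {S : Finset (L → ℂ)} {τ : (L → ℂ) → (G → ℂ)} {τ' : (L → ℂ) →ₗ[ℂ] (G → ℂ)}
  {R : (L → ℂ) → Finset (G → ℂ)}

theorem mem_zspan_coe {X : Type u} {S : Finset (X → ℂ)} {α : X → ℂ} :
    α ∈ zspan (↑S : Set (X → ℂ)) ↔ α ∈ zsp S := Iff.rfl

theorem mem_zspanOn_coe {α : L → ℂ} : α ∈ zspanOn (↑S : Set (L → ℂ)) {1}ᶜ ↔ α ∈ zsp0 S := Iff.rfl

theorem ZIsom.linIsomOn {E : Submodule ℤ (L → ℂ)} (h : ZIsom ⊤ ⊤ E τ') :
    IsLinearIsometryOn (E : Set (L → ℂ)) τ' :=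
  ⟨fun α _ β _ => map_add _ _ _, fun α _ n => map_zsmul _ _ _,
    fun α hα β hβ => by rw [← cfdot_top, ← cfdot_top]; exact h.dot α hα β hβ,
    fun α hα => mem_vchar_top.mp (h.vchar α hα)⟩

theorem exists_zisom (E : Submodule ℤ (L → ℂ)) (h : IsLinearIsometryOn (E : Set (L → ℂ)) τ) :
    ∃ τ' : (L → ℂ) →ₗ[ℂ] (G → ℂ), ZIsom ⊤ ⊤ E τ' ∧ ∀ α ∈ E, τ' α = τ α := by
  obtain ⟨τ', h1⟩ := exists_linear_ext (E : Set (L → ℂ)) τ (fun α hα β hβ => by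
    rw [cfdot_top, cfdot_top]; exact h.2.2.1 α hα β hβ)
  refine ⟨τ', ⟨fun α hα β hβ => ?_, fun α hα => ?_⟩, h1⟩
  · rw [h1 α hα, h1 β hβ, cfdot_top, cfdot_top]; exact h.2.2.1 α hα β hβ
  · rw [h1 α hα]; exact mem_vchar_top.mpr (h.2.2.2 α hα)

theorem exists_zisom0 (h : IsLinearIsometryOn (zspanOn (↑S : Set (L → ℂ)) {1}ᶜ) τ) :
    ∃ τ' : (L → ℂ) →ₗ[ℂ] (G → ℂ), ZIsom ⊤ ⊤ (zsp0 S) τ' ∧ ∀ α ∈ zsp0 S, τ' α = τ α :=
  exists_zisom (zsp0 S) h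

theorem exists_cohWith {σ : (L → ℂ) → (G → ℂ)} (h : IsLinearIsometryOn (zspan (↑S : Set (L → ℂ))) σ)
    (he : ∀ α ∈ zsp0 S, σ α = τ' α) :
    ∃ ν, CohWith ⊤ ⊤ S τ' ν ∧ ∀ α ∈ zsp S, ν α = σ α := by
  obtain ⟨ν, h1, h2⟩ := exists_zisom (zsp S) h
  exact ⟨ν, ⟨h1, fun α hα => (h2 α (zsp0_le_zsp S hα)).trans (he α hα)⟩, h2⟩

theorem coherent_of_isCoherent (h : IsCoherent (↑S : Set (L → ℂ)) {1}ᶜ τ)
    (he : ∀ α ∈ zsp0 S, τ' α = τ α) : Coherent ⊤ ⊤ S τ' := by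
  obtain ⟨-, σ, h1, h2⟩ := h
  obtain ⟨ν, h3, -⟩ := exists_cohWith (τ' := τ') h1 fun α hα => (h2 α hα).trans (he α hα).symm
  exact ⟨ν, h3⟩

theorem Coherent.isCoherent (h : Coherent ⊤ ⊤ S τ') (he : ∀ α ∈ zsp0 S, τ' α = τ α)
    (hne : ∃ α ∈ zsp0 S, α ≠ 0) : IsCoherent (↑S : Set (L → ℂ)) {1}ᶜ τ := by
  obtain ⟨ν, h1⟩ := h
  exact ⟨hne, ν, h1.isom.linIsomOn, fun α hα => (h1.ext α hα).trans (he α hα)⟩

theorem finite_of_orth {T : Set (L → ℂ)} (h1 : ∀ χ ∈ T, IsChar ⊤ χ) (h0 : ∀ χ ∈ T, χ ≠ 0)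
    (h2 : ∀ χ ∈ T, ∀ φ ∈ T, χ ≠ φ → cfdot ⊤ χ φ = 0) : T.Finite := by
  choose! f hf using fun χ (hχ : χ ∈ T) => exists_constt (h1 χ hχ).CF (h0 χ hχ)
  refine Set.Finite.of_injOn (f := f) (t := ↑(Irr (⊤ : Subgroup L))) (fun χ hχ => (hf χ hχ).1)
    (fun χ hχ φ hφ e => by_contra fun hne => ?_) (Finset.finite_toSet _)
  have h3 := (irr_char (hf φ hφ).1).dot_ne_zero_add ((h1 φ hφ).sub_irr (hf φ hφ).1 (hf φ hφ).2)
    (h1 χ hχ) (fun h => (hf χ hχ).2 (e ▸ cfdot_symm_zero h))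
  rw [add_sub_cancel] at h3
  exact h3 (h2 φ hφ χ hχ (Ne.symm hne))

theorem system_finite {T : Set (L → ℂ)} (h : IsCoherenceSystem T τ R) : T.Finite :=
  finite_of_orth (fun χ hχ => isChar_top.mpr (h.isCharacter χ hχ))
    (fun χ hχ e => h.conj_ne χ hχ (by rw [e]; funext x; simp [conjFun]))
    (fun χ hχ φ hφ e => by rw [cfdot_top]; exact h.orthogonal χ hχ φ hφ e)

theorem irr_set_finite {T : Set (L → ℂ)} (h : ∀ χ ∈ T, IsIrrCharacter L χ) : T.Finite :=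
  (Finset.finite_toSet (Irr (⊤ : Subgroup L))).subset fun χ hχ => mem_Irr_top.mpr (h χ hχ)

theorem subcoh_of_system (h : IsCoherenceSystem (↑S : Set (L → ℂ)) τ R) :
    ∃ τ' : (L → ℂ) →ₗ[ℂ] (G → ℂ), Subcoh ⊤ ⊤ S τ' R ∧ ∀ α ∈ zsp0 S, τ' α = τ α := by
  obtain ⟨τ', h1, h2⟩ := exists_zisom0 h.isometry
  have hc : ∀ χ ∈ S, IsChar ⊤ χ := fun χ hχ => isChar_top.mpr (h.isCharacter χ hχ)
  refine ⟨τ', ⟨hc, h.conj_mem, h.conj_ne, h1, fun α hα => by rw [h2 α hα]; exact h.map_one α hα,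
    fun χ hχ φ hφ e => by rw [cfdot_top]; exact h.orthogonal χ hχ φ hφ e,
    fun χ hχ α hα => mem_vchar_top.mpr (h.virtual χ hχ α hα), fun χ hχ => ⟨fun α hα => ?_,
      fun α hα β hβ e => ?_⟩, fun χ hχ => ?_, fun χ hχ φ hφ e1 e2 α hα β hβ => ?_⟩, h2⟩
  · rw [cfdot_top, h.orthonormal χ hχ α hα α hα, if_pos rfl]
  · rw [cfdot_top, h.orthonormal χ hχ α hα β hβ, if_neg e]
  · rw [h2 _ (sub_conjC_mem_zsp0 hχ (h.conj_mem χ hχ) (hc χ hχ).vchar)]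
    exact h.sum_eq χ hχ
  · rw [cfdot_top] at e1 e2 ⊢
    exact h.disjoint χ hχ φ hφ e1 e2 α hα β hβ

theorem Subcoh.system (h : Subcoh ⊤ ⊤ S τ' R) (he : ∀ α ∈ zsp0 S, τ' α = τ α) (hne : S.Nonempty) :
    IsCoherenceSystem (↑S : Set (L → ℂ)) τ R := by
  have h1 := h.isom.linIsomOn
  refine ⟨hne, fun χ hχ => isChar_top.mp (h.char χ hχ), h.conj_mem, h.nreal,
    ⟨fun α hα β hβ => ?_, fun α hα n => ?_, fun α hα β hβ => ?_, fun α hα => ?_⟩,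
    fun α hα => by rw [← he α hα]; exact h.one α hα,
    fun χ hχ φ hφ e => by rw [← cfdot_top]; exact h.orth χ hχ φ hφ e,
    fun χ hχ α hα β hβ => ?_, fun χ hχ α hα => mem_vchar_top.mp (h.R_vchar χ hχ α hα),
    fun χ hχ => ?_, fun χ hχ φ hφ e1 e2 α hα β hβ => ?_⟩
  · rw [← he α hα, ← he β hβ, ← he _ ((zsp0 S).add_mem hα hβ), map_add]
  · rw [← he α hα, ← he _ ((zsp0 S).smul_mem n hα), map_zsmul]
  · rw [← he α hα, ← he β hβ]; exact h1.2.2.1 α hα β hβ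
  · rw [← he α hα]; exact h1.2.2.2 α hα
  · rw [← cfdot_top]; convert (h.R_orthon χ hχ).dot hα hβ
  · rw [← h.R_sum χ hχ, he _ (h.sub_conj_mem hχ)]; rfl
  · rw [← cfdot_top] at e1 e2 ⊢
    exact h.R_orth χ hχ φ hφ e1 e2 α hα β hβ

theorem Subcoh.exists_ne_zero {Γ : Type u} [Group Γ] [Finite Γ] {Γ' : Type v} [Group Γ'] [Finite Γ']
    {L : Subgroup Γ} {G : Subgroup Γ'} {S S₁ : Finset (Γ → ℂ)} {τ : (Γ → ℂ) →ₗ[ℂ] (Γ' → ℂ)}
    {R : (Γ → ℂ) → Finset (Γ' → ℂ)} (h : Subcoh L G S τ R) (hS : ConjSub S₁ S) (hne : S₁.Nonempty) :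
    ∃ α ∈ zsp0 S₁, α ≠ 0 := by
  obtain ⟨χ, hχ⟩ := hne
  exact ⟨_, (h.sub hS).sub_conj_mem hχ, sub_ne_zero.mpr (h.nreal χ (hS.sub hχ)).symm⟩

theorem inducedIrrAbove_eq {K A : Subgroup L} (hA : A ≤ K) :
    inducedIrrAbove K A = ↑(seqIndD K ⊤ K A) := by
  ext φ
  rw [Finset.mem_coe, mem_seqIndD]
  constructor
  · rintro ⟨θ, h1, h2, h3, rfl⟩
    have h4 := ext0_mem_Irr.mpr h1
    exact ⟨_, h4, (le_cfker_ext0 h1.isCharacter hA).mpr h3,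
      fun h => h2 (ext0_eq_cfOne_iff.mp ((irr_eq_cfOne_iff h4).mpr h)), (cfInd_top_ext0 K θ).symm⟩
  · rintro ⟨θ, h1, h2, h3, rfl⟩
    obtain ⟨θ, rfl⟩ := exists_ext0 (irr_cfOn h1)
    have h4 := ext0_mem_Irr.mp h1
    exact ⟨θ, h4, fun e => h3 ((irr_eq_cfOne_iff h1).mp (ext0_eq_cfOne_iff.mpr e)),
      (le_cfker_ext0 h4.isCharacter hA).mp h2, cfInd_top_ext0 K θ⟩

theorem irr_nontriv_eq (Z : Subgroup L) :
    {χ : L → ℂ | IsIrrCharacter L χ ∧ ∃ z ∈ Z, χ z ≠ χ 1} = ↑(irrKD ⊤ Z ⊥) := by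
  ext χ
  rw [Finset.mem_coe, mem_irrKD, Set.mem_setOf_eq, mem_Irr_top]
  refine and_congr_right fun h => ?_
  rw [le_cfker_top (A := Z) h.isCharacter]
  simp

end top

section ambient
variable {Γ : Type u} [Group Γ] [Finite Γ] {G : Type v} [Group G] [Fintype G] {L : Subgroup Γ}
  [Fintype L] {S : Finset (Γ → ℂ)} {T : Set (L → ℂ)} {τ : (Γ → ℂ) →ₗ[ℂ] (G → ℂ)}

theorem ext0_mem_zsp (hT : ∀ θ ∈ T, extendByZero L θ ∈ S) {α : L → ℂ} (hα : α ∈ zspan T) :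
    extendByZero L α ∈ zsp S := by
  rw [← ext0L_apply]
  induction hα using Submodule.span_induction with
  | mem x hx => exact mem_zsp_of_mem (hT x hx)
  | zero => rw [map_zero]; exact zero_mem _
  | add x y _ _ hx hy => rw [map_add]; exact add_mem hx hy
  | smul n x _ hx => rw [map_zsmul]; exact (zsp S).smul_mem n hx

theorem ext0_mem_zsp0 (hT : ∀ θ ∈ T, extendByZero L θ ∈ S) {α : L → ℂ}
    (hα : α ∈ zspanOn T {1}ᶜ) : extendByZero L α ∈ zsp0 S :=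
  mem_zsp0.mpr ⟨ext0_mem_zsp hT hα.1, by rw [ext0_one]; exact hα.2 1 (by simp)⟩

/-- transfer of coherence from the ambient form to functions on the subgroup. -/
theorem Coherent.isCoherent_sub (hc : Coherent L ⊤ S τ) (hS : ∀ φ ∈ S, φ ∈ cfOn (L : Set Γ))
    (hT : ∀ θ, θ ∈ T ↔ extendByZero L θ ∈ S) (hne : ∃ α ∈ zsp0 S, α ≠ 0)
    {σ : (L → ℂ) → (G → ℂ)} (hσ : ∀ α, σ α = τ (extendByZero L α)) : IsCoherent T {1}ᶜ σ := by
  obtain ⟨ν, hν⟩ := hc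
  have hT' := fun θ => (hT θ).mp
  refine ⟨?_, ν ∘ₗ ext0L L, ⟨fun α _ β _ => map_add _ _ _, fun α _ n => map_zsmul _ _ _,
    fun α hα β hβ => ?_, fun α hα => mem_vchar_top.mp (hν.isom.vchar _ (ext0_mem_zsp hT' hα))⟩,
    fun α hα => (hν.ext _ (ext0_mem_zsp0 hT' hα)).trans (hσ α).symm⟩
  · obtain ⟨α, hα, h0⟩ := hne
    have h1 := (mem_zsp0.mp hα).1
    refine ⟨resL L α, ⟨map_mem_of_zsp (resL L) (E := Submodule.span ℤ T) (fun φ hφ =>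
      Submodule.subset_span ((hT _).mpr ?_)) h1, fun x hx => ?_⟩, fun e => h0 ?_⟩
    · rwa [resL_apply, ext0_res, cfRes_eq_self (hS φ hφ)]
    · rw [show x = 1 by simpa using hx]; exact (mem_zsp0.mp hα).2
    · rw [← cfRes_eq_self (zsp_le_C hS h1), ← ext0_res, ← resL_apply, e, ← ext0L_apply, map_zero]
  · rw [← cfdot_top, ← cfdot_ext0]
    exact hν.isom.dot _ (ext0_mem_zsp hT' hα) _ (ext0_mem_zsp hT' hβ)

theorem ext0_mem_irrKD {Z : Subgroup Γ} (hZ : Z ≤ L) {θ : L → ℂ} :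
    (IsIrrCharacter L θ ∧ ∃ z : L, (z : Γ) ∈ Z ∧ θ z ≠ θ 1) ↔ extendByZero L θ ∈ irrKD L Z ⊥ := by
  rw [mem_irrKD, ext0_mem_Irr]
  refine and_congr_right fun h => ?_
  rw [le_cfker_ext0 h.isCharacter hZ]
  simp

theorem ext0_mem_seqIndC1 {H : Subgroup Γ} (hH : H ≤ L) {θ : L → ℂ} :
    θ ∈ inducedIrrAbove (H.subgroupOf L) ⊥ ↔ extendByZero L θ ∈ seqIndD H L H ⊥ := by
  rw [mem_seqIndC1]
  let e := Subgroup.subgroupOfEquivOfLe hH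
  constructor
  · rintro ⟨ξ, h1, h2, -, rfl⟩
    refine ⟨extendByZero H (fun x => ξ (e.symm x)), ext0_mem_Irr.mpr (h1.comp_mulEquiv e.symm),
      fun h => h2 ?_, ?_⟩
    · funext x
      simpa using congrFun (ext0_eq_cfOne_iff.mp h) (e x)
    · rw [← cfRes_CF (cfInd_mem_CF L H _), ← ext0_res, res_cfInd H hH]
      congr 2
      funext x
      exact ((ext0_coe _ (e x)).trans (by simp)).symm
  · rintro ⟨ξ, h1, h2, h3⟩
    refine ⟨fun x => ξ ((x : L) : Γ), (mem_Irr.mp h1).1.comp_mulEquiv e, fun h => h2 ?_,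
      fun a ha => by rw [show a = 1 from Subtype.ext (Subgroup.mem_bot.mp ha)], ?_⟩
    · refine ext_on (irr_cfOn h1) (CF_le_cfOn _ (cfOne_mem_CF H)) fun x hx => ?_
      rw [cfOne_of_mem hx]
      exact congrFun h ⟨⟨x, hH hx⟩, hx⟩
    · rw [← res_cfInd H hH, ← h3, res_ext0]

end ambient

section TI
variable {Γ : Type u} [Group Γ] [Finite Γ] {K L : Subgroup Γ} {S : Finset (Γ → ℂ)}

theorem ind_zisom0 (hK : K ⊴ L) (h : NormedTI (shp K) L) (hS : S ⊆ seqIndT K L) :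
    ZIsom L ⊤ (zsp0 S) (cfInd ⊤ L) :=
  ⟨fun α hα β hβ => (nti_of_normedTI h).cfdot_cfInd (zsp0_seqInd_on hK hS hα).2
    (zsp0_seqInd_on hK hS hβ), fun α hα =>
    vchar_ind (zsp_seqInd_vchar hK.le hS (zsp0_le_zsp S hα)) le_top⟩

theorem ind_one_zsp0 (L : Subgroup Γ) : ∀ α ∈ zsp0 S, cfInd ⊤ L α 1 = 0 := fun α hα => by
  rw [cfInd_one le_top, (mem_zsp0.mp hα).2, mul_zero]

theorem FrobK.seqIndD_eq (h : FrobK L K) {Z : Subgroup Γ} (hZ : Z ⊴ L) (hZK : Z ≤ K) :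
    seqIndD K L Z ⊥ = irrKD L Z ⊥ := by
  ext φ
  rw [h.mem_seqIndD hZ hZK, mem_irrKD]
  simp

end TI

end H27
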