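import Mathlib
import Cfsg.Agent.H27.Wrap2
import Cfsg.Agent.H27.PF6

/-!
# Frobenius normalisers of TI subgroups: glue for the Feit–Sibley coherence statements
-/

set_option autoImplicit false
set_option linter.unusedSectionVars false
set_option linter.unusedVariables false

namespace H27

open Cfsg H24 H4

universe u v

section
variable {Γ : Type u} [Group Γ] [Finite Γ] {K L H M Z : Subgroup Γ}

theorem frobK_quo_of_cent (hK : K ⊴ L) (hH : H ⊴ L) (hlt : H < K) (hKL : K ≠ L)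
    (h : ∀ k ∈ K, k ∉ H → ∀ x ∈ L, x * k * x⁻¹ * k⁻¹ ∈ H → x ∈ K) : FrobK (quo L H) (quo K H) := by
  have hHK := hH.of_le hlt.le hK.le
  refine frobK_of_cent (hK.quo H) (fun e => hlt.not_ge ((quo_eq_bot hHK.norm).mp e))
    (fun e => hKL (quo_inj hHK hH e)) fun z hz h1 y hy => ?_
  obtain ⟨k, hk, hkN, rfl⟩ := mem_quo.mp hz
  obtain ⟨x, hx, hxN, rfl⟩ := mem_quo.mp hy.1
  refine cs_mem_quo (h k hk (fun e => h1 (cs_of_mem e)) x hx ?_) hxN
  rw [← cs_eq_one (mul_mem (mul_mem (mul_mem hxN hkN) (inv_mem hxN)) (inv_mem hkN)),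
    cs, ap_mul _ (mul_mem (mul_mem hxN hkN) (inv_mem hxN)) (inv_mem hkN), ap_conj _ hxN hkN,
    ap_inv _ hkN, mem_C1_iff_conj.mp hy.2, mul_inv_cancel]

theorem nil_quo_of_quotient (h : H ≤ N[M]) [(M.subgroupOf H).Normal]
    (hn : Group.IsNilpotent (H ⧸ M.subgroupOf H)) : Nil (quo H M) :=
  nilpotent_of_mulEquiv (quoEquivQuotient h)

theorem FrobK.elem_of_card (h : FrobK L K) (he : Nat.card K = K.relIndex L + 1) :
    ∃ p : ℕ, p.Prime ∧ IsElementaryAbelian p K := by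
  obtain ⟨V, p, h1, h2, hp, h3⟩ := solvable_norm_abelem h.nil.sol h.ne_bot h.nml.norm
  have h4 := h.dvd_index_pred ⟨h2.trans h.nml.le, h1.norm⟩ h2
  have h5 := card_eq_mul_relIndex h2
  have h6 := relIndex_pos V K
  have h7 : 1 < Nat.card V := one_lt_card h1.ne_bot
  have h8 := h.one_lt_index
  have h9 : V.relIndex K - 1 = 0 := Nat.eq_zero_of_dvd_of_lt h4 (by
    have : 2 * V.relIndex K ≤ Nat.card V * V.relIndex K := Nat.mul_le_mul_right _ h7
    omega)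
  have : K = V := le_antisymm (Subgroup.relIndex_eq_one.mp (by omega)) h2
  exact ⟨p, hp, this ▸ h3⟩

theorem FrobK.odd_index (h : FrobK L K) (hn : ¬ Abl K) : Odd (K.relIndex L) := by
  obtain ⟨E, h⟩ := h
  rw [h.sd.relIndex_left, ← Nat.not_even_iff_odd, even_iff_two_dvd]
  intro h2
  obtain ⟨t, ht, ho⟩ := exists_orderOf_eq Nat.prime_two h2
  exact hn (H2.inverts_of_fpf_involution (h.norm ht) (by rw [← sq, ← ho, pow_orderOf_eq_one])
    (h.reg t ht (ne_one_of_orderOf_prime (ho ▸ Nat.prime_two)))).2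

theorem FrobK.odd_card {p : ℕ} (h : FrobK L K) (hn : ¬ Abl K) (hp : p.Prime) (h2 : p ≠ 2)
    (hK : IsPi {p} K) : Odd (Nat.card L) := by
  obtain ⟨k, hk⟩ := hK.card_eq_pow hp
  rw [card_eq_mul_relIndex h.nml.le, hk]
  exact ((hp.odd_of_ne_two h2).pow).mul (h.odd_index hn)

theorem FrobK.sibley (h : FrobK L K) (hTI : NormedTI (shp K) L) (hodd : Odd (Nat.card L)) :
    Coherent L ⊤ (seqIndD K L K ⊥) (cfInd ⊤ L) := by
  obtain ⟨E, hE⟩ := h
  exact Sibley_coherence hodd (FrobK.nil ⟨E, hE⟩) hTI (Or.inl hE)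

theorem frobK_N (h1 : K ≠ ⊥) (hlt : K < N[K]) (hC : ∀ k ∈ K, k ≠ 1 → C{k} ≤ K) : FrobK N[K] K :=
  frobK_of_cent ⟨norm_self K, le_rfl⟩ h1 hlt.ne fun x hx h => inf_le_right.trans (hC x hx h)

/-- the Feit–Sibley theorem in ambient form. -/
theorem feit_sibley (h : FrobK L K) (hTI : NormedTI (shp K) L) :
    Coherent L ⊤ (seqIndD K L K ⊥) (cfInd ⊤ L) ∨
      (IsPi {2} K ∧ ¬ Abl K ∧ ⁅K, K⁆.relIndex K < 4 * K.relIndex L ^ 2) := by
  rcases feit_coherence h (ind_zisom0 h.nml hTI (seqIndD_subT _ _ _ _)) (ind_one_zsp0 L) with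
    hc | ⟨p, hp, h1, h2, h3⟩
  · exact Or.inl hc
  by_cases h4 : p = 2
  · subst h4
    refine Or.inr ⟨h1, h2, ?_⟩
    obtain ⟨k, hk⟩ := (piNat_singleton hp (relIndex_pos _ _).ne').mp (h1.relIndex ⁅K, K⁆)
    have h5 := h.odd_index h2
    have h6 := h.one_lt_index
    rw [hk] at h3 ⊢
    rcases h3.eq_or_lt with e | h3
    · rcases k with _ | k
      · simp at e; omega
      · omega
    refine (Nat.le_of_lt_succ h3).lt_of_ne fun e => h6.ne' ?_
    exact Nat.Coprime.eq_one_of_dvd ((Nat.coprime_two_right.mpr h5).pow_right k)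
      (e ▸ Dvd.dvd.mul_left (dvd_pow_self _ two_ne_zero) 4)
  · exact Or.inl (h.sibley hTI (h.odd_card h2 hp h4 h1))

theorem FrobK.syl_top {p : ℕ} (h : FrobK N[K] K) (hp : p.Prime) (hK : IsPi {p} K) : Syl p ⊤ K :=
  (h.isHall.syl (hall_self hK) hp (hK.dvd_card h.ne_bot)).of_norm_le hp le_top inf_le_right

theorem card_irr_nontriv (hZ : Z ≤ L) :
    Nat.card {χ : L → ℂ // IsIrrCharacter L χ ∧ ∃ z : L, (z : Γ) ∈ Z ∧ χ z ≠ χ 1} =
      (irrKD L Z ⊥).card := by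
  have := Fintype.ofFinite L
  rw [← Nat.card_eq_finsetCard]
  refine Nat.card_congr (Equiv.ofBijective
    (fun χ => ⟨extendByZero L χ.1, (ext0_mem_irrKD hZ).mp χ.2⟩) ⟨fun χ ψ e => ?_, fun φ => ?_⟩)
  · exact Subtype.ext (ext0_injective (congrArg Subtype.val e))
  · obtain ⟨θ, hθ⟩ := exists_ext0 (irr_cfOn (irrKD_sub _ _ _ φ.2))
    exact ⟨⟨θ, (ext0_mem_irrKD hZ).mpr (hθ ▸ φ.2)⟩, Subtype.ext hθ.symm⟩

end

section
variable {G : Type u} [Group G] [Fintype G] {K L Z : Subgroup G} [Fintype L]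

theorem FrobK.isCoherent_of (h : FrobK L K) (hZ : Z ⊴ L) (hZK : Z ≤ K)
    (hc : Coherent L ⊤ (seqIndD K L K ⊥) (cfInd ⊤ L)) (h2 : 1 < (seqIndD K L Z ⊥).card) :
    IsCoherent {χ : L → ℂ | IsIrrCharacter L χ ∧ ∃ z : L, (z : G) ∈ Z ∧ χ z ≠ χ 1} {1}ᶜ
      (fun α => indFun L α) := by
  have hs := seqIndD_mono K L hZK (le_refl ⊥)
  exact (hc.mono hs).isCoherent_sub (fun φ hφ => irr_cfOn (h.seqInd_irr (hs hφ)))
    (fun θ => by rw [h.seqIndD_eq hZ hZK]; exact ext0_mem_irrKD hZ.le)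
    (exists_zsp0_ne_zero (hs.trans h.seqInd_irr) h2) fun α => (cfInd_top_ext0 L α).symm

end

end H27
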