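import Mathlib
import Cfsg.Agent.H24.Base5
import Cfsg.Agent.H16.PSL2Max
import Cfsg.Agent.H16.PSL2Inv
import Cfsg.Agent.H16.PSL2Sub
import Cfsg.Agent.H4.Induce
import Cfsg.Agent.H17.Klein
import Cfsg.Agent.S0157

/-! Abstract properties of `PSL₂(q)`, `q ≡ ±3 (mod 8)`, used for the Janko–Thompson–Ward theorem. -/

set_option autoImplicit false
open Cfsg H24 Subgroup

namespace H27.JT

theorem orderOf_eq_two {G : Type*} [Group G] {s : G} (h1 : s ≠ 1) (h : s * s = 1) :
    orderOf s = 2 := orderOf_eq_prime (by rw [pow_two, h]) h1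

theorem sq_of_two {G : Type*} [Group G] {s : G} (h : orderOf s = 2) : s * s = 1 := by
  rw [← pow_two, ← h, pow_orderOf_eq_one]

theorem ne_one_of_two {G : Type*} [Group G] {s : G} (h : orderOf s = 2) : s ≠ 1 := by
  rintro rfl; simp at h

theorem inv_of_two {G : Type*} [Group G] {s : G} (h : orderOf s = 2) : s⁻¹ = s :=
  inv_eq_of_mul_eq_one_right (sq_of_two h)

theorem mem_zpowers_two {G : Type*} [Group G] {s g : G} (h : s * s = 1) :
    g ∈ zpowers s ↔ g = 1 ∨ g = s := by
  constructor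
  · rintro ⟨k, rfl⟩
    have h2 : s ^ (2 : ℤ) = 1 := by rw [zpow_two, h]
    rcases Int.even_or_odd' k with ⟨m, rfl | rfl⟩
    · left; simp only; rw [zpow_mul, h2, one_zpow]
    · right; simp only; rw [zpow_add, zpow_mul, h2, one_zpow, one_mul, zpow_one]
  · rintro (rfl | rfl)
    · exact one_mem _
    · exact mem_zpowers _

/-- abstract properties of `PSL₂(q)` with `q = 4a + ε`, `b = 2a + ε`, `a` odd. -/
structure LH (L : Type*) [Group L] (p q a b : ℕ) (ε : ℤ) : Prop where
  prime : p.Prime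
  pow : ∃ k, q = p ^ k
  eps : ε = 1 ∨ ε = -1
  hq : (q : ℤ) = 4 * a + ε
  hb : (b : ℤ) = 2 * a + ε
  odd_a : Odd a
  card : Nat.card L = 4 * a * b * q
  comm : ∀ y c d : L, y * y ≠ 1 → c * y = y * c → d * y = y * d → c * d = d * c
  ord : ∀ g : L, g ^ p = 1 ∨ g ^ (2 * a) = 1 ∨ g ^ b = 1
  conj : ∀ s t : L, orderOf s = 2 → orderOf t = 2 → IsConj s t
  tor : ∃ x s : L, orderOf x = 2 * a ∧ s * s = 1 ∧ s * x * s⁻¹ = x⁻¹ ∧ s ∉ zpowers x
  torb : ∃ x : L, orderOf x = b

/-- the Steinberg character -/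
def HasSt (L : Type*) [Group L] (q : ℕ) (ε : ℤ) : Prop :=
  ∃ e : L → ℂ, IsIrrCharacter L e ∧ e 1 = q ∧
    ∀ g s : L, g ≠ 1 → orderOf s = 2 → g * s = s * g → e g = ε

namespace LH

variable {L : Type*} [Group L] {p q a b : ℕ} {ε : ℤ} (h : LH L p q a b ε)
include h

theorem a_pos : 0 < a := h.odd_a.pos
theorem three_le : 3 ≤ q := by
  have := h.a_pos; have := h.hq; rcases h.eps with h | h <;> omega
theorem b_pos : 0 < b := by
  have := h.a_pos; have := h.hb; rcases h.eps with h | h <;> omega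
theorem odd_q : Odd q := by
  rw [Nat.odd_iff]; have := h.hq; rcases h.eps with h | h <;> omega
theorem odd_b : Odd b := by
  rw [Nat.odd_iff]; have := h.hb; rcases h.eps with h | h <;> omega
theorem p_dvd : p ∣ q := by
  obtain ⟨k, hk⟩ := h.pow
  have := h.three_le
  rcases k with _ | k
  · simp at hk; omega
  · rw [hk]; exact dvd_pow_self p (by omega)
theorem odd_p : Odd p := h.odd_q.of_dvd_nat h.p_dvd
theorem eq_p {k : ℕ} (hk : k.Prime) (hd : k ∣ q) : k = p := by
  obtain ⟨n, hn⟩ := h.pow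
  exact (Nat.prime_dvd_prime_iff_eq hk h.prime).mp (hk.dvd_of_dvd_pow (hn ▸ hd))

theorem cop_ab : a.Coprime b := by
  rw [← Nat.isCoprime_iff_coprime]
  have := h.hb
  rcases h.eps with e | e <;> rw [e] at this
  · exact ⟨-2, 1, by linear_combination this⟩
  · exact ⟨2, -1, by linear_combination -this⟩
theorem cop_aq : a.Coprime q := by
  rw [← Nat.isCoprime_iff_coprime]
  have := h.hq
  rcases h.eps with e | e <;> rw [e] at this
  · exact ⟨-4, 1, by linear_combination this⟩
  · exact ⟨4, -1, by linear_combination -this⟩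
theorem cop_bq : b.Coprime q := by
  rw [← Nat.isCoprime_iff_coprime]
  have h1 := h.hq
  have h2 := h.hb
  rcases h.eps with e | e <;> rw [e] at h1 h2
  · exact ⟨2, -1, by linear_combination 2 * h2 - h1⟩
  · exact ⟨-2, 1, by linear_combination h1 - 2 * h2⟩

theorem of_equiv {L' : Type*} [Group L'] (e : L ≃* L') : LH L' p q a b ε where
  prime := h.prime
  pow := h.pow
  eps := h.eps
  hq := h.hq
  hb := h.hb
  odd_a := h.odd_a
  card := by rw [← Nat.card_congr e.toEquiv, h.card]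
  comm y c d hy hc hd := by
    obtain ⟨y, rfl⟩ := e.surjective y
    obtain ⟨c, rfl⟩ := e.surjective c
    obtain ⟨d, rfl⟩ := e.surjective d
    simp only [← map_mul, EmbeddingLike.apply_eq_iff_eq, ne_eq, EmbeddingLike.map_eq_one_iff]
      at hy hc hd ⊢
    exact h.comm y c d hy hc hd
  ord g := by
    obtain ⟨g, rfl⟩ := e.surjective g
    simp only [← map_pow, EmbeddingLike.map_eq_one_iff]
    exact h.ord g
  conj s t hs ht := by
    obtain ⟨s, rfl⟩ := e.surjective s
    obtain ⟨t, rfl⟩ := e.surjective t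
    rw [MulEquiv.orderOf_eq] at hs ht
    exact e.toMonoidHom.map_isConj (h.conj s t hs ht)
  tor := by
    obtain ⟨x, s, h1, h2, h3, h4⟩ := h.tor
    refine ⟨e x, e s, by rw [MulEquiv.orderOf_eq, h1], by rw [← map_mul, h2, map_one],
      by rw [← map_inv, ← map_mul, ← map_mul, h3, map_inv], ?_⟩
    rintro ⟨k, hk⟩
    exact h4 ⟨k, e.injective (by simpa using hk)⟩
  torb := by
    obtain ⟨x, hx⟩ := h.torb
    exact ⟨e x, by rw [MulEquiv.orderOf_eq, hx]⟩

/-- elements of even order -/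
theorem pow_of_even {g : L} (hg : 2 ∣ orderOf g) : g ^ (2 * a) = 1 := by
  rcases h.ord g with e | e | e
  · exact absurd (hg.trans (orderOf_dvd_of_pow_eq_one e)) h.odd_p.not_two_dvd_nat
  · exact e
  · exact absurd (hg.trans (orderOf_dvd_of_pow_eq_one e)) h.odd_b.not_two_dvd_nat

theorem sq_of_pow_four {g : L} {k : ℕ} (hg : g ^ 2 ^ k = 1) : g * g = 1 := by
  by_cases h2 : 2 ∣ orderOf g
  · have h3 := h.pow_of_even h2
    have h4 : (g ^ 2) ^ 2 ^ k = 1 := by rw [← pow_mul, mul_comm, pow_mul, hg, one_pow]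
    rw [pow_mul] at h3
    have := Nat.dvd_gcd (orderOf_dvd_of_pow_eq_one h3) (orderOf_dvd_of_pow_eq_one h4)
    rw [(Nat.Coprime.pow_right k (Nat.coprime_two_right.mpr h.odd_a)), Nat.dvd_one,
      orderOf_eq_one_iff] at this
    rwa [← pow_two]
  · have := (Nat.dvd_prime_pow Nat.prime_two).mp (orderOf_dvd_of_pow_eq_one hg)
    obtain ⟨j, -, hj⟩ := this
    rcases j with _ | j
    · rw [pow_zero, orderOf_eq_one_iff] at hj; rw [hj, one_mul]
    · exact absurd (hj ▸ dvd_pow_self 2 (by omega)) h2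

variable [Finite L]

theorem klein (P : Sylow 2 L) : IsKleinFour (P : Subgroup L) where
  card_four := by
    have := P.card_eq_multiplicity
    rw [this, h.card, show 4 * a * b * q = 2 ^ 2 * (a * b * q) by ring,
      Nat.factorization_mul (by norm_num) ((h.odd_a.mul h.odd_b).mul h.odd_q).pos.ne',
      Nat.factorization_pow]
    simp [Nat.prime_two.factorization_self,
      Nat.factorization_eq_zero_of_not_dvd ((h.odd_a.mul h.odd_b).mul h.odd_q).not_two_dvd_nat]
  exponent_two := by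
    have hc : Nat.card P = 4 := by
      have := P.card_eq_multiplicity
      rw [this, h.card, show 4 * a * b * q = 2 ^ 2 * (a * b * q) by ring,
        Nat.factorization_mul (by norm_num) ((h.odd_a.mul h.odd_b).mul h.odd_q).pos.ne',
        Nat.factorization_pow]
      simp [Nat.prime_two.factorization_self,
        Nat.factorization_eq_zero_of_not_dvd ((h.odd_a.mul h.odd_b).mul h.odd_q).not_two_dvd_nat]
    have : Nontrivial P := Finite.one_lt_card_iff_nontrivial.mp (by omega)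
    refine (Monoid.exponent_eq_prime_iff Nat.prime_two).mpr fun g hg => ?_
    obtain ⟨k, hk⟩ := P.isPGroup' g
    refine orderOf_eq_two hg (Subtype.ext (h.sq_of_pow_four (k := k) ?_))
    exact congrArg Subtype.val hk

theorem card_C_dvd {s : L} (hs : orderOf s = 2) : ♯C{s} ∣ 4 * a := by
  have h1 : ♯C{s} ∣ 4 * a * (b * q) := by
    rw [← mul_assoc, ← h.card]; exact card_subgroup_dvd_card _
  refine Nat.Coprime.dvd_of_dvd_mul_right ?_ h1
  refine Nat.Coprime.symm (Nat.coprime_of_dvd fun k hk h2 h3 => ?_)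
  obtain ⟨c, hc, hco⟩ := exists_orderOf_eq hk h3
  have hk2 : Odd k := (h.odd_b.mul h.odd_q).of_dvd_nat h2
  have hcs : Commute c s := mem_C1.mp hc
  have ho : orderOf (c * s) = k * 2 := by
    rw [hcs.orderOf_mul_eq_mul_orderOf_of_coprime, hco, hs]
    rw [hco, hs]; exact Nat.coprime_two_right.mpr hk2
  have h4 := orderOf_dvd_of_pow_eq_one (h.pow_of_even (ho ▸ dvd_mul_left 2 k))
  rw [ho, mul_comm k] at h4
  have h5 : k ∣ a := Nat.dvd_of_mul_dvd_mul_left two_pos h4
  exact hk.one_lt.ne' (Nat.eq_one_of_dvd_coprimes (h.cop_ab.mul_right h.cop_aq) h5 h2)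

/-- the centraliser of an involution is dihedral of order `4a`. -/
theorem exists_cyc {s : L} (hs : orderOf s = 2) : ♯C{s} = 4 * a ∧ ∃ x : L, orderOf x = 2 * a ∧
    x ^ a = s ∧ ∀ g ∈ C{s}, g ∈ zpowers x ∨ (g ∉ zpowers x ∧ g * g = 1 ∧ g * x * g⁻¹ = x⁻¹) := by
  obtain ⟨x, w, h1, h2, h3, h4⟩ := h.tor
  have ha := h.a_pos
  have hx : orderOf (x ^ a) = 2 := by
    rw [orderOf_pow' _ ha.ne', h1, Nat.gcd_eq_right (dvd_mul_left a 2), Nat.mul_div_cancel _ ha]
  have hw1 : w ≠ 1 := by rintro rfl; exact h4 (one_mem _)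
  have hn : zpowers w ≤ N[zpowers x] := by
    rw [zpowers_le]
    refine mem_N_of_finite ?_
    rintro _ ⟨k, rfl⟩
    refine ⟨-k, ?_⟩
    simp only
    rw [← conj_zpow, h3, inv_zpow', zpow_neg]
  have hi : zpowers x ⊓ zpowers w = ⊥ := by
    rw [eq_bot_iff]
    rintro g ⟨hg1, hg2⟩
    rcases (mem_zpowers_two h2).mp hg2 with rfl | rfl
    · exact one_mem _
    · exact absurd hg1 h4
  have hc : ♯(zpowers x ⊔ zpowers w) = 4 * a := by
    rw [card_sup_of_inf hn hi, card_zpowers', card_zpowers', h1, orderOf_eq_two hw1 h2]; ring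
  have hle : zpowers x ⊔ zpowers w ≤ C{x ^ a} := by
    refine sup_le ?_ ?_
    · rw [zpowers_le, mem_C1]; exact (Commute.self_pow x a).eq
    · rw [zpowers_le, mem_C1_iff_conj, ← conj_pow, h3, inv_pow, inv_of_two hx]
  have he : zpowers x ⊔ zpowers w = C{x ^ a} :=
    eq_of_card_ge hle (hc ▸ Nat.le_of_dvd (by omega) (h.card_C_dvd hx))
  obtain ⟨c, hc'⟩ := isConj_iff.mp (h.conj _ _ hx hs)
  subst hc'
  refine ⟨by rw [← cj_C1, card_cj, ← he, hc], c * x * c⁻¹, by rw [orderOf_conj, h1],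
    by rw [conj_pow], fun g hg => ?_⟩
  rw [← cj_C1, mem_cj'] at hg
  obtain ⟨g, hg, rfl⟩ := hg
  rw [← cj_zpowers, conj_mem_cj_iff]
  by_cases hgx : g ∈ zpowers x
  · exact Or.inl hgx
  right
  rw [← he, mem_sup_of_norm hn] at hg
  obtain ⟨u, ⟨k, rfl⟩, v, hv, rfl⟩ := hg
  rcases (mem_zpowers_two h2).mp hv with rfl | rfl
  · exact absurd (by rw [mul_one]; exact ⟨k, rfl⟩) hgx
  refine ⟨hgx, ?_, ?_⟩
  · have e : v * x ^ k * v⁻¹ = (x ^ k)⁻¹ := by rw [← conj_zpow, h3, inv_zpow]
    have hv' : v⁻¹ = v := inv_eq_of_mul_eq_one_right h2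
    calc c * (x ^ k * v) * c⁻¹ * (c * (x ^ k * v) * c⁻¹) = c * (x ^ k * (v * x ^ k * v⁻¹)) * c⁻¹ := by
          rw [hv']; group
      _ = 1 := by rw [e]; group
  · calc c * (x ^ k * v) * c⁻¹ * (c * x * c⁻¹) * (c * (x ^ k * v) * c⁻¹)⁻¹
          = c * (x ^ k * (v * x * v⁻¹) * (x ^ k)⁻¹) * c⁻¹ := by group
      _ = (c * x * c⁻¹)⁻¹ := by rw [h3]; group

theorem card_C {s : L} (hs : orderOf s = 2) : ♯C{s} = 4 * a := (h.exists_cyc hs).1

theorem exists_inv : ∃ s : L, orderOf s = 2 := by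
  obtain ⟨x, w, -, h2, -, h4⟩ := h.tor
  exact ⟨w, orderOf_eq_two (by rintro rfl; exact h4 (one_mem _)) h2⟩

theorem not_central {s : L} (hs : orderOf s = 2) : ∃ g, g * s ≠ s * g := by
  by_contra hc
  push Not at hc
  have : C{s} = ⊤ := by rw [eq_top_iff]; intro g _; exact mem_C1.mpr (hc g)
  have h1 := h.card_C hs
  rw [this, card_top, h.card] at h1
  have h2 := h.three_le
  have h3 := h.b_pos
  have h4 := h.a_pos
  have : 4 * a * (b * q) = 4 * a * 1 := by rw [← mul_assoc, h1, mul_one]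
  have := Nat.eq_of_mul_eq_mul_left (by omega) this
  nlinarith

/-- the centraliser of an element of order 3 -/
theorem card_C_three {r : L} (hr : orderOf r = 3) (h3 : ¬ 3 ∣ a) : ♯C{r} = q ∨ ♯C{r} = b := by
  have hr1 : r ≠ 1 := by rintro rfl; simp at hr
  have hrr : r * r ≠ 1 := by
    intro e
    have := orderOf_dvd_of_pow_eq_one (show r ^ 2 = 1 by rw [pow_two, e])
    rw [hr] at this; omega
  have key : ∀ k, k.Prime → k ∣ ♯C{r} → k ≠ 3 → 3 * k ∣ b := by
    intro k hk hd hk3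
    obtain ⟨c, hc, hco⟩ := exists_orderOf_eq hk hd
    have hcs : Commute r c := (mem_C1.mp hc).symm
    have ho : orderOf (r * c) = 3 * k := by
      rw [hcs.orderOf_mul_eq_mul_orderOf_of_coprime, hco, hr]
      rw [hco, hr]; exact (Nat.coprime_primes Nat.prime_three hk).mpr hk3.symm
    rcases h.ord (r * c) with e | e | e <;> have e' := ho ▸ orderOf_dvd_of_pow_eq_one e
    · rcases (Nat.dvd_prime h.prime).mp e' with e1 | e1
      · omega
      · exact absurd (e1 ▸ h.prime) (Nat.not_prime_mul (by norm_num) hk.one_lt.ne')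
    · exact absurd ((Nat.Coprime.dvd_of_dvd_mul_left (by norm_num)
        ((dvd_mul_right 3 k).trans e'))) h3
    · exact e'
  have hd : ♯C{r} ∣ 4 * a * b * q := h.card ▸ card_subgroup_dvd_card _
  by_cases hb3 : 3 ∣ b
  · right
    have hcop : (♯C{r}).Coprime (4 * a * q) := by
      refine Nat.coprime_of_dvd fun k hk h1 h2 => ?_
      have hkb : k ∣ b := by
        by_cases hk3 : k = 3
        · rwa [hk3]
        · exact (dvd_mul_left k 3).trans (key k hk h1 hk3)
      have : b.Coprime (4 * a * q) :=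
        ((Nat.Coprime.pow_right 2 (Nat.coprime_two_right.mpr h.odd_b)).mul_right
          h.cop_ab.symm).mul_right h.cop_bq
      exact hk.one_lt.ne' (Nat.eq_one_of_dvd_coprimes this hkb h2)
    refine Nat.dvd_antisymm (hcop.dvd_of_dvd_mul_left (by
      rwa [show 4 * a * q * b = 4 * a * b * q by ring])) ?_
    obtain ⟨x, hx⟩ := h.torb
    obtain ⟨P, hP⟩ := Sylow_exists Nat.prime_three (zpowers x)
    have hP' : Syl 3 ⊤ P := by
      refine hP.of_idx le_top ?_
      have e : (zpowers x).relIndex ⊤ = 4 * a * q := by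
        have := card_mul_relIndex (le_top (a := zpowers x))
        rw [card_top, card_zpowers', hx, h.card] at this
        exact Nat.eq_of_mul_eq_mul_left h.b_pos (by rw [this]; ring)
      rw [e, piNat_compl_singleton Nat.prime_three]
      intro hd3
      have : b.Coprime (4 * a * q) :=
        ((Nat.Coprime.pow_right 2 (Nat.coprime_two_right.mpr h.odd_b)).mul_right
          h.cop_ab.symm).mul_right h.cop_bq
      exact absurd (Nat.eq_one_of_dvd_coprimes this hb3 hd3) (by norm_num)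
    obtain ⟨g, -, hg⟩ := Sylow_subJ Nat.prime_three hP'
      (piElt_of_orderOf_prime Nat.prime_three hr).isPi le_top
    have : cj g (zpowers x) ≤ C{r} :=
      ((abl_zpowers x).cj g).le_C.trans (C_le_C1 (cj_mono g hP.le (hg (mem_zpowers r))))
    rw [← hx, ← card_zpowers', ← card_cj g]
    exact card_dvd this
  · left
    have hpi : IsPi {3} C{r} := fun k hk hd => by
      by_contra hk3
      exact hb3 ((dvd_mul_right 3 k).trans (key k hk hd hk3))
    have hq3 : 3 ∣ q := by
      have h1 : 3 ∣ 4 * a * b * q := (hr ▸ orderOf_dvd_card' (self_mem_C1 r)).trans hd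
      rcases (Nat.prime_three.dvd_mul).mp h1 with h2 | h2
      · rcases (Nat.prime_three.dvd_mul).mp h2 with h2 | h2
        · rcases (Nat.prime_three.dvd_mul).mp h2 with h2 | h2
          · omega
          · exact absurd h2 h3
        · exact absurd h2 hb3
      · exact h2
    obtain ⟨P, hP, hrP⟩ := Sylow_superset Nat.prime_three
      (piElt_of_orderOf_prime Nat.prime_three hr).isPi le_top
    have hP1 : P ≠ ⊥ := ne_bot_of_mem (hrP (mem_zpowers r)) hr1
    obtain ⟨z, ⟨hzP, hzC⟩, hz1⟩ :=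
      exists_ne_one (IsPi.inf_C_ne_bot Nat.prime_three hP.pi hP.pi (norm_self P) hP1)
    have hzz : z * z ≠ 1 := by
      intro e
      have h1 := (hP.pi.piElt hzP).dvd_orderOf hz1
      rw [orderOf_eq_two hz1 e] at h1
      omega
    have hPC : P ≤ C{r} := fun g hg => mem_C1.mpr
      (h.comm z g r hzz (mem_C.mp hzC g hg) (mem_C.mp hzC r (hrP (mem_zpowers r))))
    rw [hP.eq_of_le hpi hPC le_top]
    have hq' : PiNat {3} q := by
      obtain ⟨k, hk⟩ := h.pow
      rw [hk, ← h.eq_p Nat.prime_three hq3]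
      exact piNat_self_pow Nat.prime_three k
    have h4 : PiNat {3}ᶜ (4 * a * b) := by
      rw [piNat_compl_singleton Nat.prime_three]
      intro h2
      rcases (Nat.prime_three.dvd_mul).mp h2 with h2 | h2
      · rcases (Nat.prime_three.dvd_mul).mp h2 with h2 | h2
        · omega
        · exact absurd h2 h3
      · exact absurd h2 hb3
    refine pi_part_unique hP.pi hP.idx hq' h4 ?_
    rw [hP.card, card_top, h.card]; ring

/-- the Steinberg character from the action on the projective line -/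
theorem hasSt (Ω : Type*) [MulAction L Ω] [Finite Ω] [MulAction.IsPretransitive L Ω]
    (hΩ : Nat.card Ω = q + 1) (h2 : MulAction.IsMultiplyPretransitive L Ω 2)
    (h3 : ∀ (g : L) (x y z : Ω), x ≠ y → x ≠ z → y ≠ z → g • x = x → g • y = y → g • z = z → g = 1) :
    HasSt L q ε := by
  classical
  have hq3 := h.three_le
  refine ⟨fun g => (Nat.card (MulAction.fixedBy Ω g) : ℂ) - 1,
    (Cfsg.Agent.S0157.result Ω (by omega)).mpr h2, ?_, ?_⟩
  · simp only [MulAction.fixedBy_one_eq_univ, Nat.card_univ, hΩ]; push_cast; ring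
  have hB : ∀ x : Ω, ♯(MulAction.stabilizer L x) * (q + 1) = 4 * a * b * q := fun x => by
    rw [← hΩ, ← MulAction.index_stabilizer_of_transitive L x, card_mul_index, h.card]
  have hle : ∀ g : L, g ≠ 1 → Nat.card (MulAction.fixedBy Ω g) ≤ 2 := by
    intro g hg
    by_contra hc
    have := Fintype.ofFinite (MulAction.fixedBy Ω g)
    rw [Nat.card_eq_fintype_card] at hc
    obtain ⟨x, y, z, hxy, hxz, hyz⟩ := Fintype.two_lt_card_iff.mp (not_le.mp hc)
    exact hg (h3 g x y z (fun e => hxy (Subtype.ext e)) (fun e => hxz (Subtype.ext e))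
      (fun e => hyz (Subtype.ext e)) x.2 y.2 z.2)
  intro g s hg hs hgs
  have hq := h.hq
  have hb := h.hb
  rcases h.eps with e | e
  · subst e
    have hB' : ∀ x : Ω, ♯(MulAction.stabilizer L x) = 2 * a * q := fun x => by
      have e1 : q + 1 = 2 * b := by omega
      have := hB x
      rw [e1] at this
      exact Nat.eq_of_mul_eq_mul_right (show 0 < 2 * b by omega) (by rw [this]; ring)
    have hinv : ∀ s : L, orderOf s = 2 → Nat.card (MulAction.fixedBy Ω s) = 2 := by
      intro s hs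
      have hne : Nonempty Ω := (Nat.card_pos_iff.mp (by omega : 0 < Nat.card Ω)).1
      obtain ⟨x⟩ := hne
      obtain ⟨u, hu, huo⟩ := exists_orderOf_eq (H := MulAction.stabilizer L x) Nat.prime_two
        (by rw [hB', mul_assoc]; exact dvd_mul_right _ _)
      obtain ⟨c, rfl⟩ := isConj_iff.mp (h.conj u s huo hs)
      have h1 : 0 < Nat.card (MulAction.fixedBy Ω (c * u * c⁻¹)) := by
        have : Nonempty (MulAction.fixedBy Ω (c * u * c⁻¹)) := ⟨⟨c • x, by
          rw [MulAction.mem_fixedBy, mul_smul, mul_smul, inv_smul_smul,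
            MulAction.mem_stabilizer_iff.mp hu]⟩⟩
        exact Nat.card_pos
      have h4 := hle _ (ne_one_of_two hs)
      have : Fact (Nat.Prime 2) := ⟨Nat.prime_two⟩
      have hp : IsPGroup 2 (zpowers (c * u * c⁻¹)) :=
        IsPGroup.of_card (n := 1) (by rw [card_zpowers', hs, pow_one])
      have h5 := hp.card_modEq_card_fixedPoints Ω
      have e2 : MulAction.fixedPoints (zpowers (c * u * c⁻¹)) Ω =
          MulAction.fixedBy Ω (c * u * c⁻¹) := by
        ext y
        constructor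
        · intro hy; exact hy ⟨_, mem_zpowers _⟩
        · intro hy k
          exact MulAction.mem_stabilizer_iff.mp
            ((zpowers_le.mpr (MulAction.mem_stabilizer_iff.mpr hy) :
              zpowers _ ≤ MulAction.stabilizer L y) k.2)
      rw [e2, hΩ] at h5
      unfold Nat.ModEq at h5
      omega
    have : Nat.card (MulAction.fixedBy Ω g) = 2 := by
      by_cases hgg : g * g = 1
      · exact hinv g (orderOf_eq_two hg hgg)
      refine le_antisymm (hle g hg) ?_
      rw [← hinv s hs]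
      refine Nat.card_mono (Set.toFinite _) fun y hy => ?_
      obtain ⟨-, x, hx, hxa, hx2⟩ := h.exists_cyc hs
      rcases hx2 g (mem_C1.mpr hgs) with hgx | ⟨-, hgx, -⟩
      swap
      · exact absurd hgx hgg
      have hy' : s • y = y := hy
      have ha' : g ^ a ∈ MulAction.stabilizer L y := by
        obtain ⟨k, rfl⟩ := hgx
        simp only
        rw [← zpow_natCast, ← zpow_mul, mul_comm, zpow_mul, zpow_natCast, hxa]
        exact zpow_mem (MulAction.mem_stabilizer_iff.mpr hy') k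
      have h2' : g ^ 2 ∈ MulAction.stabilizer L y := by
        have hf : ∀ w : Ω, s • w = w → s • g • w = g • w := fun w hw => by
          rw [← mul_smul, ← hgs, mul_smul, hw]
        rw [MulAction.mem_stabilizer_iff, pow_two, mul_smul]
        by_contra hc
        by_cases h1 : g • y = y
        · exact hc (by rw [h1, h1])
        exact ne_one_of_two hs (h3 s y (g • y) (g • g • y) (Ne.symm h1) (Ne.symm hc)
          (fun e => h1 (smul_left_cancel g e).symm) hy' (hf y hy') (hf _ (hf y hy')))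
      obtain ⟨m, hm⟩ := h.odd_a
      have : g ∈ MulAction.stabilizer L y := by
        have e3 : g = g ^ a * ((g ^ 2) ^ m)⁻¹ := by rw [hm]; group
        rw [e3]
        exact mul_mem ha' (inv_mem (pow_mem h2' m))
      exact this
    simp only [this]; norm_num
  · subst e
    have hB' : ∀ x : Ω, ♯(MulAction.stabilizer L x) = b * q := fun x => by
      have e1 : q + 1 = 4 * a := by omega
      have := hB x
      rw [e1] at this
      exact Nat.eq_of_mul_eq_mul_right (show 0 < 4 * a by omega) (by rw [this]; ring)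
    have : IsEmpty (MulAction.fixedBy Ω g) := ⟨fun ⟨y, hy⟩ => hg (by
      have h1 := orderOf_dvd_card' (MulAction.mem_stabilizer_iff.mpr hy)
      have h4 := orderOf_dvd_card' (mem_C1.mpr hgs)
      rw [hB'] at h1
      rw [h.card_C hs] at h4
      have hc : (4 * a).Coprime (b * q) :=
        (Nat.Coprime.pow_left 2 (Nat.coprime_two_left.mpr (h.odd_b.mul h.odd_q))).mul_left
          (h.cop_ab.mul_right h.cop_aq)
      exact orderOf_eq_one_iff.mp (Nat.eq_one_of_dvd_coprimes hc h4 h1))⟩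
    simp

end LH

theorem HasSt.of_equiv {L L' : Type*} [Group L] [Group L'] [Finite L] {q : ℕ} {ε : ℤ}
    (h : HasSt L q ε) (e : L ≃* L') : HasSt L' q ε := by
  obtain ⟨χ, h1, h2, h3⟩ := h
  refine ⟨fun g => χ (e.symm g), H5.isIrr_comp_equiv e.symm h1, by simp [h2],
    fun g s hg hs hgs => h3 _ (e.symm s) (by simpa using hg) (by rwa [MulEquiv.orderOf_eq]) ?_⟩
  rw [← map_mul, hgs, map_mul]

section PSL

open Matrix MatrixGroups OnePoint MulAction H16

variable {F : Type*} [Field F] [Fintype F]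

theorem cross_aux {K : Type*} [Field K] {a₁ a₂ a₃ b₁ b₂ b₃ y₁ y₂ y₃ : K}
    (hy : ¬ (y₁ = 0 ∧ y₂ = 0 ∧ y₃ = 0)) (h₁ : a₁ * y₂ = y₁ * a₂) (h₂ : a₁ * y₃ = y₁ * a₃)
    (h₃ : a₂ * y₃ = y₂ * a₃) (k₁ : b₁ * y₂ = y₁ * b₂) (k₂ : b₁ * y₃ = y₁ * b₃)
    (k₃ : b₂ * y₃ = y₂ * b₃) : a₁ * b₂ = b₁ * a₂ ∧ a₁ * b₃ = b₁ * a₃ ∧ a₂ * b₃ = b₂ * a₃ := by
  by_cases e₁ : y₁ = 0
  · by_cases e₂ : y₂ = 0
    · have e₃ : y₃ ≠ 0 := fun e => hy ⟨e₁, e₂, e⟩
      refine ⟨mul_left_cancel₀ e₃ ?_, mul_left_cancel₀ e₃ ?_, mul_left_cancel₀ e₃ ?_⟩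
      · linear_combination a₁ * k₃ - b₁ * h₃ + (a₁ * b₃ - b₁ * a₃) * e₂
      · linear_combination b₃ * h₂ - a₃ * k₂
      · linear_combination b₃ * h₃ - a₃ * k₃
    · refine ⟨mul_left_cancel₀ e₂ ?_, mul_left_cancel₀ e₂ ?_, mul_left_cancel₀ e₂ ?_⟩
      · linear_combination b₂ * h₁ - a₂ * k₁
      · linear_combination b₃ * h₁ - a₃ * k₁ + (a₂ * b₃ - b₂ * a₃) * e₁
      · linear_combination -a₂ * k₃ + b₂ * h₃
  · refine ⟨mul_left_cancel₀ e₁ ?_, mul_left_cancel₀ e₁ ?_, mul_left_cancel₀ e₁ ?_⟩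
    · linear_combination -a₁ * k₁ + b₁ * h₁
    · linear_combination -a₁ * k₂ + b₁ * h₂
    · linear_combination -b₃ * h₁ + b₂ * h₂ - a₁ * k₃

omit [Fintype F] in
theorem sl2_comm_iff (c y : SL(2, F)) : c * y = y * c ↔ c 0 1 * y 1 0 = y 0 1 * c 1 0 ∧
    c 0 1 * (y 0 0 - y 1 1) = y 0 1 * (c 0 0 - c 1 1) ∧
    c 1 0 * (y 0 0 - y 1 1) = y 1 0 * (c 0 0 - c 1 1) := by
  constructor
  · intro hc
    have e : c.1 * y.1 = y.1 * c.1 := congrArg Subtype.val hc
    have c00 := congrFun (congrFun e 0) 0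
    have c01 := congrFun (congrFun e 0) 1
    have c10 := congrFun (congrFun e 1) 0
    simp only [Matrix.mul_apply, Fin.sum_univ_two] at c00 c01 c10
    exact ⟨by linear_combination c00, by linear_combination -c01, by linear_combination c10⟩
  · rintro ⟨k1, k2, k3⟩
    apply Subtype.ext
    change c.1 * y.1 = y.1 * c.1
    ext i j
    fin_cases i <;> fin_cases j <;>
      simp only [Matrix.mul_apply, Fin.sum_univ_two, Fin.zero_eta, Fin.mk_one, Fin.isValue]
    · linear_combination k1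
    · linear_combination -k2
    · linear_combination k3
    · linear_combination -k1

theorem sl2_comm (y c d : SL(2, F)) (hy : y ∉ Subgroup.center SL(2, F)) (hc : c * y = y * c)
    (hd : d * y = y * d) : c * d = d * c := by
  rw [sl2_mem_center_iff, ← sub_eq_zero (a := y 0 0)] at hy
  rw [sl2_comm_iff] at hc hd ⊢
  exact cross_aux hy hc.1 hc.2.1 hc.2.2 hd.1 hd.2.1 hd.2.2

theorem psl2_comm (h2 : (2 : F) ≠ 0) (y c d : PSL(2, F)) (hy : y * y ≠ 1) (hc : c * y = y * c)
    (hd : d * y = y * d) : c * d = d * c := by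
  induction y using QuotientGroup.induction_on with | H y =>
  induction c using QuotientGroup.induction_on with | H c =>
  induction d using QuotientGroup.induction_on with | H d =>
  have hy' : y ∉ Subgroup.center SL(2, F) := fun e => hy (by
    rw [(QuotientGroup.eq_one_iff y).mpr e, mul_one])
  have key : ∀ c : SL(2, F), (c : PSL(2, F)) * y = y * c → c * y = y * c := by
    intro c hc
    rw [← QuotientGroup.mk_mul, ← QuotientGroup.mk_mul, psl2_mk_eq_iff] at hc
    rcases hc with hc | hc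
    · exact hc.symm
    · exact absurd (mk_mul_self_of_sq y (sq_eq_of_anti h2 c y hc)) hy
  rw [← QuotientGroup.mk_mul, ← QuotientGroup.mk_mul, sl2_comm y c d hy' (key c hc) (key d hd)]

theorem psl2_two_trans [DecidableEq F] : IsMultiplyPretransitive PSL(2, F) (OnePoint F) 2 := by
  rw [is_two_pretransitive_iff]
  have key : ∀ x y : OnePoint F, x ≠ y → ∃ g : PSL(2, F), g • (∞ : OnePoint F) = x ∧
      g • ((0 : F) : OnePoint F) = y := by
    intro x y hxy
    obtain ⟨g, rfl⟩ := exists_smul_eq PSL(2, F) (∞ : OnePoint F) x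
    obtain ⟨z, rfl⟩ : ∃ z, y = g • z := ⟨g⁻¹ • y, (smul_inv_smul g y).symm⟩
    cases z with
    | infty => exact absurd rfl hxy
    | coe b =>
      refine ⟨g * (sl2 1 b 0 1 (by simp) : SL(2, F)), ?_, ?_⟩
      · rw [mul_smul]
        congr 1
        rw [psl_smul_def, toPGL_sl2_transl, transl_smul_infty]
      · rw [mul_smul, psl_mk_smul, upper_smul_coe _ (by simp)]
        simp
  intro a b c d hab hcd
  obtain ⟨g, rfl, rfl⟩ := key a b hab
  obtain ⟨k, rfl, rfl⟩ := key c d hcd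
  exact ⟨k * g⁻¹, by rw [mul_smul, inv_smul_smul], by rw [mul_smul, inv_smul_smul]⟩

/-- `PSL₂(q)` for odd `q` whose Sylow `2`-subgroups are abelian -/
theorem psl2_LH {q : ℕ} (hF : Fintype.card F = q) (hodd : Odd q)
    (hab : ∀ x y : PSL(2, F), (∃ k, x ^ 2 ^ k = 1) → y * y = 1 → y * x * y⁻¹ = x⁻¹ → x * x = 1) :
    ∃ p a b ε, LH PSL(2, F) p q a b ε ∧ HasSt PSL(2, F) q ε := by
  classical
  obtain ⟨p, hp⟩ := CharP.exists F
  obtain ⟨n, hpp, hn⟩ := FiniteField.card F p
  have : Fact p.Prime := ⟨hpp⟩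
  have h2 : (2 : F) ≠ 0 := H7.two_ne_zero_of_odd_card (hF ▸ hodd)
  have hq2 : q % 2 = 1 := Nat.odd_iff.mp hodd
  have hq1 : 1 < q := hF ▸ Fintype.one_lt_card
  have hg : Nat.gcd 2 (q - 1) = 2 := Nat.gcd_eq_left (by omega)
  have hcard := H7.card_psl_two hF
  rw [hg] at hcard
  obtain ⟨x₁, s₁, a1, a2, a3, a4⟩ : ∃ x s : PSL(2, F), orderOf x = (q + 1) / 2 ∧ s * s = 1 ∧
      s * x * s⁻¹ = x⁻¹ ∧ s ∉ zpowers x := by
    obtain ⟨x, y, h1, h3, h4, h5⟩ := H7.exists_nonsplit_torus hF
    exact psl2_dihedral_of_torus x y _ h1 h3 h4 h5 2 (Or.inr ⟨h2, rfl, by omega⟩)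
  obtain ⟨x₂, s₂, b1, b2, b3, b4⟩ : ∃ x s : PSL(2, F), orderOf x = (q - 1) / 2 ∧ s * s = 1 ∧
      s * x * s⁻¹ = x⁻¹ ∧ s ∉ zpowers x := by
    obtain ⟨x, y, h1, h3, h4, h5⟩ := H7.exists_split_torus hF
    exact psl2_dihedral_of_torus x y _ h1 h3 h4 h5 2 (Or.inr ⟨h2, rfl, by omega⟩)
  have hodd' : ∀ (x s : PSL(2, F)) (a : ℕ), 0 < a → orderOf x = 2 * a → s * s = 1 →
      s * x * s⁻¹ = x⁻¹ → Odd a := by
    intro x s a ha h1 h3 h4
    rw [← Nat.not_even_iff_odd]
    rintro ⟨m, rfl⟩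
    have h5 := hab (x ^ m) s ⟨2, by
      rw [← pow_mul, show m * 2 ^ 2 = 2 * (m + m) by ring, ← h1, pow_orderOf_eq_one]⟩ h3
      (by rw [← conj_pow, h4, inv_pow])
    rw [← pow_add] at h5
    have := Nat.le_of_dvd ha (h1 ▸ orderOf_dvd_of_pow_eq_one h5)
    omega
  have hord := psl2_pow_cases p hF
  rw [hg] at hord
  have hconj : ∀ s t : PSL(2, F), orderOf s = 2 → orderOf t = 2 → IsConj s t := fun s t hs ht =>
    psl2_involutions_conj h2 s t (ne_one_of_two hs) (sq_of_two hs) (ne_one_of_two ht) (sq_of_two ht)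
  have hsq : q ^ 2 - 1 = (q + 1) * (q - 1) := by simpa using Nat.sq_sub_sq q 1
  have hst : ∀ a b ε, LH PSL(2, F) p q a b ε → HasSt PSL(2, F) q ε := fun a b ε h =>
    h.hasSt (OnePoint F) (by
        rw [← hF, ← Nat.card_eq_fintype_card]; exact Finite.card_option) psl2_two_trans
      fun g x y z hxy hxz hyz hx hy hz => ProjectiveSpecialLinearGroup.toPGL_injective (by
        rw [map_one]; exact pgl2_eq_one_of_three _ hxy hxz hyz hx hy hz)
  rcases (by omega : q % 4 = 1 ∨ q % 4 = 3) with h4 | h4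
  · obtain ⟨a, rfl⟩ : ∃ a, q = 4 * a + 1 := ⟨q / 4, by omega⟩
    have e1 : (4 * a + 1 - 1) / 2 = 2 * a := by omega
    have e2 : (4 * a + 1 + 1) / 2 = 2 * a + 1 := by omega
    rw [e1] at b1 hord
    rw [e2] at a1 hord
    have h : LH PSL(2, F) p (4 * a + 1) a (2 * a + 1) 1 :=
      ⟨hpp, ⟨n, by rw [← hF, hn]⟩, Or.inl rfl, by push_cast; ring, by push_cast; ring,
        hodd' x₂ s₂ a (by omega) b1 b2 b3,
        Nat.eq_of_mul_eq_mul_left two_pos (by rw [hcard, hsq, Nat.add_sub_cancel]; ring),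
        psl2_comm h2, hord, hconj, ⟨x₂, s₂, b1, b2, b3, b4⟩, ⟨x₁, a1⟩⟩
    exact ⟨p, _, _, _, h, hst _ _ _ h⟩
  · obtain ⟨a, rfl⟩ : ∃ a, q = 4 * a + 3 := ⟨q / 4, by omega⟩
    have e1 : (4 * a + 3 - 1) / 2 = 2 * a + 1 := by omega
    have e2 : (4 * a + 3 + 1) / 2 = 2 * (a + 1) := by omega
    rw [e1] at b1 hord
    rw [e2] at a1 hord
    have h : LH PSL(2, F) p (4 * a + 3) (a + 1) (2 * a + 1) (-1) :=
      ⟨hpp, ⟨n, by rw [← hF, hn]⟩, Or.inr rfl, by push_cast; ring, by push_cast; ring,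
        hodd' x₁ s₁ (a + 1) (by omega) a1 a2 a3,
        Nat.eq_of_mul_eq_mul_left two_pos (by
          rw [hcard, hsq, show 4 * a + 3 - 1 = 4 * a + 2 from rfl]; ring),
        psl2_comm h2, fun g => by have := hord g; tauto, hconj, ⟨x₁, s₁, a1, a2, a3, a4⟩, ⟨x₂, b1⟩⟩
    exact ⟨p, _, _, _, h, hst _ _ _ h⟩

end PSL

end H27.JT
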