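import Mathlib
import Cfsg.Agent.H27.JTL

/-! The local configuration `V × A`, `t`, `r` of the Janko–Thompson–Ward theorem. -/

set_option autoImplicit false
open Cfsg H24 Subgroup

namespace H27.JT

/-- `V` a Klein four group, `A = ⟨x⟩` of odd order `a`, `C(V) = VA⟨t⟩`, `N(V) = C(V)⟨r⟩`. -/
structure Cfg {G : Type*} [Group G] (t : G) (V : Subgroup G) (x r : G) (a : ℕ) : Prop where
  klein : IsKleinFour V
  ordt : orderOf t = 2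
  tV : t ∉ V
  ordx : orderOf x = a
  odd_a : Odd a
  inv : t * x * t⁻¹ = x⁻¹
  CV : ∀ g, g ∈ centralizer (V : Set G) ↔
    ∃ v ∈ V, ∃ y ∈ zpowers x, g = v * y ∨ g = v * y * t
  ordr : orderOf r = 3
  rt : r * t = t * r
  rN : r ∈ normalizer (V : Set G)
  rC : r ∉ centralizer (V : Set G)
  NV : ∀ g ∈ normalizer (V : Set G), ∃ c ∈ centralizer (V : Set G),
    g = c ∨ g = c * r ∨ g = c * r⁻¹
  cent : ∀ v ∈ V, v ≠ 1 → ∀ y ∈ zpowers x, y ≠ 1 → ∀ g, g * v = v * g → g * y = y * g →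
    ∃ w ∈ V, ∃ z ∈ zpowers x, g = w * z
  no4 : ∀ g : G, g ^ 4 = 1 → g ^ 2 = 1
  two : ∀ P : Subgroup G, IsPGroup 2 P → ∀ g ∈ P, ∀ k ∈ P, g * k = k * g
  Cr : ¬ 3 ∣ a → ∃ n : ℕ, Nat.card (centralizer {t} ⊓ centralizer {r} : Subgroup G) = 2 * n ∧
    Odd n ∧ (a : ℤ) ∣ (n : ℤ) ^ 2 - 1
  conj3 : ∀ y ∈ zpowers x, orderOf y = 3 → IsConj y r

end H27.JT
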