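import Mathlib
import Cfsg.Agent.H18.JTa
import Cfsg.Agent.H2.Frobenius
import Cfsg.Agent.H1.Wielandt
import Cfsg.Agent.H27.PF14

/-! Local analysis for the Janko–Thompson–Ward theorem. -/

set_option autoImplicit false
set_option linter.unusedSectionVars false
open Cfsg H24 Subgroup H27.JT

namespace H18.JT

variable {G : Type*} [Group G] [Finite G] {t : G} {V : Subgroup G} {x r : G} {a : ℕ}

theorem mem_zpowers_of_pow {x y z : G} (hy : y ∈ zpowers x) (hz : z ∈ zpowers x)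
    (h : z ^ orderOf y = 1) : z ∈ zpowers y :=
  H25.cyc_le_of_card_dvd inferInstance (zpowers_le.2 hz) (zpowers_le.2 hy) (by
    rw [card_zpowers', card_zpowers']
    exact orderOf_dvd_of_pow_eq_one h) (mem_zpowers z)

theorem not_inv (h4 : ∀ g : G, g ^ 4 = 1 → g ^ 2 = 1) {g y : G} (hy : y * y ≠ 1)
    (h : g * g * y * (g * g)⁻¹ = y⁻¹) : False := by
  obtain ⟨k, m, hm, e⟩ := Nat.exists_eq_two_pow_mul_odd (orderOf_pos g).ne'
  have h2 : ∀ k, (g ^ m) ^ 2 ^ (k + 1) = 1 → (g ^ m) ^ 2 = 1 := fun k => by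
    induction k with
    | zero => exact id
    | succ k ih =>
      intro h3
      refine ih ?_
      have := h4 ((g ^ m) ^ 2 ^ k) (by rw [← pow_mul, ← h3]; congr 1; ring)
      rwa [← pow_mul, ← pow_succ] at this
  have h3 := h2 k (by rw [pow_succ, pow_mul, ← pow_mul g, mul_comm, ← e, pow_orderOf_eq_one, one_pow])
  refine hy (mul_eq_one_iff_eq_inv.2 (H21.eq_inv_of_odd_inverts hm ?_ h))
  rwa [← sq, ← pow_mul, mul_comm, pow_mul]

theorem not_swap (h4 : ∀ g : G, g ^ 4 = 1 → g ^ 2 = 1) {g y u : G} (hy : y * y ≠ 1)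
    (hu : u ^ 3 = 1) (hc : Commute y u) (h1 : g * y * g⁻¹ = u) :
    g * u * g⁻¹ ≠ y⁻¹ ∧ g * u * g⁻¹ ≠ y * u ∧ g * u * g⁻¹ ≠ y * u⁻¹ := by
  have e1 : g * g * y * (g * g)⁻¹ = g * u * g⁻¹ := by rw [← h1]; group
  have e2 : u * u = u⁻¹ := by rw [eq_inv_iff_mul_eq_one, ← hu, pow_three']
  have e3 : g * g * (g * g) * y * (g * g * (g * g))⁻¹ =
    g * (g * (g * (g * y * g⁻¹) * g⁻¹) * g⁻¹) * g⁻¹ := by group
  have e4 : ∀ c d, g * (c * d) * g⁻¹ = g * c * g⁻¹ * (g * d * g⁻¹) := fun c d => by group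
  have e5 : ∀ c, g * c⁻¹ * g⁻¹ = (g * c * g⁻¹)⁻¹ := fun c => by group
  refine ⟨fun h => not_inv h4 hy (e1.trans h), fun h => not_inv h4 hy (g := g * g) ?_,
    fun h => not_inv h4 hy (g := g * g) ?_⟩
  · rw [e3, h1, h, e4 y, h1, h, ← mul_assoc u, ← hc.eq, mul_assoc y, e2, e4 y, h1, e5, h]
    group
  · rw [e3, h1, h, e4 y, h1, e5, h, mul_inv_rev y, inv_inv, ← mul_assoc u, e2, e4 u⁻¹, e5, e5, h1,
      h, hc.inv_right.eq]
    group

section
variable (h : Cfg t V x r a) {y : G} (hy : y ∈ zpowers x) (h1 : y ≠ 1) (hr : r * y = y * r)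
include h hy h1 hr

theorem mem_C_of_odd {g : G} (hg : g ∈ N[zpowers y]) {n : ℕ} (hn : Odd n) (ho : g ^ n = 1) :
    g ∈ C{y} := by
  have h2 := Frattini_arg Nat.prime_two (C_nml_N (zpowers y))
    (C_zpowers y ▸ sylV h hy h1 (le_sup_left.trans (VA_le h hy)) le_rfl)
  obtain ⟨m, hm, k, hk, rfl⟩ := h2.mul g hg
  rw [C_zpowers] at hm
  have key : ∀ c ∈ C[V], ∀ s ∈ C{y}, (m * (c * s)) ^ n = 1 → m * (c * s) ∈ C{y} :=
    fun c hc s hs ho => by
      rcases pm h hc hy with h3 | h3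
      · exact mul_mem hm (mul_mem (mem_C1_iff_conj.2 h3) hs)
      · have h4 : c * s * y * (c * s)⁻¹ = y⁻¹ := by
          rw [← h3]
          conv_rhs => rw [← mem_C1_iff_conj.1 hs]
          group
        have h5 := H21.eq_inv_of_odd_inverts hn ho (inv_mul_C1 hm h4)
        exact absurd (eq_one_A h hy (mul_eq_one_iff_eq_inv.2 h5)) h1
  obtain ⟨c, hc, rfl | rfl | rfl⟩ := h.NV k hk.2
  · simpa using key k hc 1 (one_mem _) (by simpa using ho)
  · exact key c hc r (mem_C1.2 hr) ho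
  · exact key c hc _ (inv_mem (mem_C1.2 hr)) ho

theorem decomp_r {g : G} (hg : g ∈ C{y}) (hg' : g ∈ C{r}) :
    ∃ z ∈ zpowers x, ∃ k ∈ zpowers r, g = z * k := by
  obtain ⟨z, hz, k, hk, rfl⟩ := decomp h hy h1 hr hg
  refine ⟨z, hz, k, cent_r h hy h1 hr ⟨hk, ?_⟩, rfl⟩
  have h2 : k * r * k⁻¹ * r⁻¹ = z⁻¹ * (r * z * r⁻¹) := by
    conv_rhs => rw [← mem_C1_iff_conj.1 hg']
    rw [mem_C1_iff_conj.1 hg']
    nth_rw 3 [← mem_C1_iff_conj.1 hg']
    group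
  have h3 : r ∈ C{t} := mem_C1.2 h.rt
  have h4 := eq_one_of_t h (h2 ▸ mul_mem (inv_mem hz) (conj_mem (normA h h.rN) hz))
    (mem_C1.1 (mul_mem (mul_mem (mul_mem hk.2 h3) (inv_mem hk.2)) (inv_mem h3)))
  exact mem_C1_iff_conj.2 (mul_inv_eq_one.1 h4)

theorem case_four (h3 : ¬ 3 ∣ a) (hl : (orderOf y).Prime) : False := by
  obtain ⟨n, hn, hodd, hdvd⟩ := h.Cr h3
  have hla : orderOf y ∣ a := h.ordx ▸ orderOf_dvd_of_mem_zpowers hy
  have hl2 : orderOf y ≠ 2 := fun hc => by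
    have := h.odd_a.of_dvd_nat (hc ▸ hla)
    exact absurd this (by decide)
  have hln : ¬ orderOf y ∣ n := fun hc => by
    have h4 : (orderOf y : ℤ) ∣ n ^ 2 := (Int.natCast_dvd_natCast.2 hc).pow two_ne_zero
    have h5 := (dvd_sub_right h4).1 ((Int.natCast_dvd_natCast.2 hla).trans hdvd)
    exact hl.one_lt.ne' (Nat.dvd_one.1 (Int.natCast_dvd_natCast.1 h5))
  have hT : zpowers t ≤ C{t} ⊓ C{r} := zpowers_le.2 ⟨self_mem_C1 t, mem_C1.2 h.rt.symm⟩
  have hT2 : ♯(zpowers t) = 2 := by rw [card_zpowers', h.ordt]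
  have hTp := isPi_of_card_prime Nat.prime_two hT2
  have hS : Syl 2 (C{t} ⊓ C{r}) (zpowers t) := Syl.mk' Nat.prime_two hT hTp (by
    have := card_mul_relIndex hT
    rw [hT2, hn] at this
    rw [Nat.eq_of_mul_eq_mul_left two_pos this]
    exact hodd.not_two_dvd_nat)
  have hS' : Syl 2 C{r} (zpowers t) := syl_of_max Nat.prime_two hTp (hT.trans inf_le_right)
    fun Q hQ h4 h5 => (hS.eq_of_le hQ h4 (le_inf (C_zpowers t ▸ (abl_of_pi h hQ).cents le_rfl h4)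
      h5)).le
  have hO := H26.Burnside_normal_complement Nat.prime_two hS' fun g hg => by
    rw [C_zpowers, mem_C1_iff_conj]
    refine ((mem_zpowers_two (tt h)).1 (conj_mem hg.2 (mem_zpowers t))).resolve_left ?_
    simpa using ne_one_of_two h.ordt
  have hOp := pcore_pi {2}ᶜ C{r}
  have hOH := hO.hall_left hOp (by simpa using hTp)
  have hOn : ♯(O[{2}ᶜ, C{r}] ⊓ C{t}) = n := by
    have h4 := (hO.modr hT inf_le_right).card
    rw [hn, hT2, ← inf_assoc, inf_right_comm, inf_eq_left.2 (pcore_le _ _)] at h4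
    omega
  have hOodd : Odd ♯O[{2}ᶜ, C{r}] :=
    Nat.not_even_iff_odd.1 fun hc => hOp.not_dvd' Nat.prime_two rfl hc.two_dvd
  have hXp := (piElt_of_orderOf_prime hl rfl).isPi
  have hXO : zpowers y ≤ O[{2}ᶜ, C{r}] :=
    hOH.le_pcore (hXp.compl_of_ne hl2) (zpowers_le.2 (mem_C1.2 hr.symm))
  have hTX : zpowers t ≤ N[zpowers y] := zpowers_le.2 (mem_N_of_finite fun u hu => by
    rw [invA h (zpowers_le.2 hy hu)]
    exact inv_mem hu)
  obtain ⟨P, hP, h4, h5⟩ := H26.sol_coprime_Sylow_subset hl hO.norm (hOp.coprime' hTp)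
    (Or.inl inferInstance) hXO hXp hTX
  have hCl : IsPi {orderOf y}ᶜ (O[{2}ᶜ, C{r}] ⊓ C{t}) := (isPi_compl_iff hl).2 (hOn ▸ hln)
  obtain ⟨h6, h7⟩ := H2.inverts_of_fpf_involution (h4 (mem_zpowers t)) (tt h)
    ((hP.pi.inf_left _).eq_bot (hCl.of_le (inf_le_inf_right _ hP.le)))
  have hPA : P ≤ zpowers x := fun g hg => mem_A_of_inv h hy h1 hr
    (mem_C1.2 (Abl.comm h7 hg (h5 (mem_zpowers y)))) hOodd
    (H21.pow_card_eq_one_of_mem (hP.le hg)) (h6 g hg)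
  have hK := H26.Burnside_normal_complement hl hP fun g hg => by
    have h8 := mem_C_of_odd h hy h1 hr (mem_N_of_finite fun u hu => mem_zpowers_of_pow hy
      (hPA (conj_mem hg.2 (h5 hu))) (by
        rw [conj_pow, orderOf_dvd_iff_pow_eq_one.1 (orderOf_dvd_of_mem_zpowers hu)]; simp))
      hOodd (H21.pow_card_eq_one_of_mem hg.1)
    obtain ⟨z, hz, k, hk, rfl⟩ := decomp_r h hy h1 hr h8 (pcore_le _ _ hg.1)
    refine mul_mem ((abl_zpowers x).cents le_rfl hPA hz) (cents_symm ?_ hk)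
    exact C_zpowers r ▸ hP.le.trans (pcore_le _ _)
  have hKp := pcore_pi {orderOf y}ᶜ O[{2}ᶜ, C{r}]
  have hKH := hK.hall_left hKp (by simpa using hP.pi)
  have hKO := pcore_le {orderOf y}ᶜ O[{2}ᶜ, C{r}]
  have hXK := norm_pcore {orderOf y}ᶜ (norm_of_le hXO)
  have hW := H1.regular_Wielandt_fixpoint hTX (fun s hs hs1 => by
      obtain rfl := ((mem_zpowers_two (tt h)).1 hs).resolve_left hs1
      exact eq_bot_iff.2 fun u hu => eq_one_of_t h (zpowers_le.2 hy hu.1) (mem_C1.1 hu.2))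
    hXK (norm_pcore _ hO.norm) (IsPi.coprime' (π := {orderOf y, 2})
      ((hKp.inter (hOp.of_le hKO)).mono (by rw [← Set.compl_union]; rfl))
      ((hXp.of_mem (by simp)).sup (hTp.of_mem (by simp)) hTX))
    (H27.Feit_Thompson _ (odd_of_le hOodd hKO))
  have hrp := piElt_of_orderOf_prime Nat.prime_three h.ordr
  have e1 : O[{orderOf y}ᶜ, O[{2}ᶜ, C{r}]] ⊓ C[zpowers y ⊔ zpowers t] = zpowers r := by
    rw [C_sup, C_zpowers, C_zpowers]
    refine le_antisymm (fun g hg => cent_r h hy h1 hr ⟨hg.2, pcore_le _ _ (hKO hg.1)⟩)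
      (zpowers_le.2 ⟨hKH.mem_pcore (hrp.of_mem fun hc => h3 ((hc : 3 = _) ▸ hla))
        (hOH.mem_pcore (hrp.of_mem (by simp)) (self_mem_C1 r)), mem_C1.2 hr, mem_C1.2 h.rt⟩)
  have e2 : O[{orderOf y}ᶜ, O[{2}ᶜ, C{r}]] ⊓ C[zpowers t] = O[{2}ᶜ, C{r}] ⊓ C{t} := by
    rw [C_zpowers]
    exact le_antisymm (inf_le_inf_right _ hKO) (le_inf (hKH.le_pcore hCl inf_le_left) inf_le_right)
  rw [e1, e2, hOn, hT2, card_zpowers', h.ordr] at hW
  have := Fact.mk hl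
  have h8 := H22.card_modEq_cent (hXp.isPGroup hl) fun g hg u hu => conj_mem (hXK hg) hu
  have h9 := (isPi_compl_iff hl).1 (hKp.inf_left C[zpowers y])
  generalize ♯(O[{orderOf y}ᶜ, O[{2}ᶜ, C{r}]] ⊓ C[zpowers y]) = c at *
  have h10 : (orderOf y : ℤ) ∣ 2 ^ 3 * c := by
    have h10 := (h8.mul_left (3 ^ 2)).dvd
    rw [hW] at h10
    have h11 := (((Int.natCast_dvd_natCast.2 hla).trans hdvd).mul_right c).add h10
    have h12 := h8.dvd
    push_cast at h11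
    rwa [show _ + _ = 2 ^ 3 * (c : ℤ) - 3 ^ 2 * 0 by ring] at h11
  rcases (Nat.Prime.dvd_mul hl).1 (by exact_mod_cast h10 : orderOf y ∣ 2 ^ 3 * c) with h11 | h11
  · exact hl2 ((Nat.prime_dvd_prime_iff_eq hl Nat.prime_two).1 (hl.dvd_of_dvd_pow h11))
  · exact h9 h11

theorem case_five (h3 : orderOf y = 3) : False := by
  obtain ⟨g, hg⟩ := isConj_iff.1 (h.conj3 y hy h3)
  have hy3 : y ^ 3 = 1 := h3 ▸ pow_orderOf_eq_one y
  have hAM := le_sup_right.trans (VA_le h hy)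
  have hyy : y * y ≠ 1 := fun hc => h1 (eq_one_A h hy hc)
  have h4 : g⁻¹ * y * g ∈ C{y} := by
    rw [← mem_cj, cj_C1, hg]
    exact mem_C1.2 hr.symm
  have hrA : r ∉ zpowers x := fun hc => h.rC (AC h hc)
  obtain ⟨z, hz, k, hk, e⟩ := decomp h hy h1 hr h4
  have hkN := M_le_N h hy h1 hr hk.1
  have e3 : ∀ z k : G, (z * k) ^ 3 = z * (k * z * k⁻¹) * (k * (k * z * k⁻¹) * k⁻¹) * k ^ 3 :=
    fun z k => by simp only [pow_succ]; group
  have h5 : (z * k) ^ 3 = 1 := by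
    rw [← e, ← inv_inv g, inv_inv g⁻¹, conj_pow, hy3]; simp
  have h6 : k ^ 3 = 1 := by
    refine eq_one_of_t h ?_ (mem_C1.1 (pow_mem hk.2 3))
    rw [e3] at h5
    rw [eq_inv_of_mul_eq_one_right h5]
    exact inv_mem (mul_mem (mul_mem hz (conj_mem hkN hz)) (conj_mem hkN (conj_mem hkN hz)))
  have h7 : k ≠ 1 := by
    rintro rfl
    rw [mul_one] at e h5
    have h7 := conj_mem_cj g (e ▸ mem_zpowers_of_pow hy hz (h3 ▸ h5))
    rw [cj_zpowers, hg, show g * (g⁻¹ * y * g) * g⁻¹ = y by group] at h7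
    exact h1 (eq_one_of_t h hy (mem_C1.1 (zpowers_le.2 (mem_C1.2 h.rt) h7)))
  obtain ⟨b, hb, h8⟩ := Sylow_Jsub Nat.prime_three (syl3 h hy h1 hr)
    (piElt_of_pow_eq_one (piNat_self Nat.prime_three) h6).isPi (zpowers_le.2 hk)
  have h9 := h8 (conj_mem_cj b (mem_zpowers k))
  have h10 := conj_mem (M_le_N h hy h1 hr hb.1) hz
  have h11 : b * (z * k) * b⁻¹ = b * z * b⁻¹ * (b * k * b⁻¹) := by group
  have h12 : (b * z * b⁻¹ * (b * k * b⁻¹)) ^ 3 = 1 := by rw [← h11, conj_pow, h5]; simp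
  have h13 : b * k * b⁻¹ ≠ 1 := by simpa using h7
  rw [← e] at h11
  generalize b * z * b⁻¹ = w at h10 h11 h12
  generalize b * k * b⁻¹ = s at h9 h11 h12 h13
  have hs : s ∈ C{y} := zpowers_le.2 (mem_C1.2 hr) h9
  have hs3 : s ^ 3 = 1 := orderOf_dvd_iff_pow_eq_one.1 (h.ordr ▸ orderOf_dvd_of_mem_zpowers h9)
  obtain ⟨i, hi⟩ := mem_zpowers_iff.1 (conj_mem (M_le_N h hy h1 hr hs) (mem_zpowers x))
  have h14 : ∀ u ∈ zpowers x, s * u * s⁻¹ = u ^ i := by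
    rintro _ ⟨j, rfl⟩
    simp only
    rw [← conj_zpow, ← hi, ← zpow_mul, ← zpow_mul, mul_comm]
  obtain ⟨j, hj⟩ : (3 : ℤ) ∣ i - 1 := by
    have h15 := h14 y hy
    rw [mem_C1_iff_conj.1 hs] at h15
    have := orderOf_dvd_iff_zpow_eq_one.2 (show y ^ (i - 1) = 1 by rw [zpow_sub_one, ← h15]; simp)
    rwa [h3] at this
  rw [e3, hs3, mul_one, h14 w h10, h14 _ (zpow_mem h10 i)] at h12
  have h15 : w ^ (-(j + 1)) * (w * s) * (w ^ (-(j + 1)))⁻¹ = w ^ (1 + (j + 1) * (i - 1)) * s := by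
    calc _ = w ^ (-(j + 1)) * w * (s * w ^ (j + 1) * s⁻¹) * s := by group
      _ = _ := by rw [h14 _ (zpow_mem h10 _)]; group
  have h16 := mem_zpowers_of_pow hy (zpow_mem h10 (1 + (j + 1) * (i - 1))) (by
    rw [h3, ← h12, show i = 3 * j + 1 by omega]
    group)
  have hm := mul_mem (hAM (zpow_mem h10 (-(j + 1)))) hb.1
  rw [← h11] at h15
  generalize w ^ (1 + (j + 1) * (i - 1)) = u at h15 h16
  have h17 : g * (w ^ (-(j + 1)) * b)⁻¹ * y * (g * (w ^ (-(j + 1)) * b)⁻¹)⁻¹ = r := by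
    rw [← hg]
    conv_rhs => rw [← mem_C1_iff_conj.1 (inv_mem hm)]
    group
  have h18 : g * (w ^ (-(j + 1)) * b)⁻¹ * (u * s) * (g * (w ^ (-(j + 1)) * b)⁻¹)⁻¹ = y := by
    rw [← h15]
    group
  generalize g * (w ^ (-(j + 1)) * b)⁻¹ = f at h17 h18
  have mem3 : ∀ {c d : G}, c ^ 3 = 1 → d ∈ zpowers c → d = 1 ∨ d = c ∨ d = c⁻¹ := by
    rintro c _ hc ⟨n, rfl⟩
    have hc' : c ^ (3 : ℤ) = 1 := by exact_mod_cast hc
    obtain ⟨m, rfl | rfl | rfl⟩ : ∃ m, n = 3 * m ∨ n = 3 * m + 1 ∨ n = 3 * m - 1 :=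
      ⟨(n + 1) / 3, by omega⟩ <;> simp [zpow_add, zpow_sub, zpow_mul, hc']
  have hc : Commute y r := hr.symm
  have k1 := not_swap h.no4 hyy (r3 h) hc h17
  have k2 := not_swap h.no4 hyy (u := r⁻¹) (g := f * t) (by rw [inv_pow, r3 h, inv_one])
    hc.inv_right (by
      rw [← h17, conj_inv]
      conv_rhs => rw [← invA h hy]
      group)
  have h19 : f * t * r⁻¹ * (f * t)⁻¹ = (f * r * f⁻¹)⁻¹ := by
    conv_rhs => rw [← mem_C1_iff_conj.1 (mem_C1.2 h.rt.symm)]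
    group
  rw [← conj_mul] at h18
  rw [h19, inv_inv] at k2
  rcases (mem3 (r3 h) h9).resolve_left h13 with rfl | rfl <;>
    rcases mem3 hy3 h16 with rfl | rfl | rfl
  · exact k2.1 (by rw [← h18]; simp)
  · exact k1.2.2 (by rw [hc.inv_right.eq, ← h18, h17]; group)
  · exact k1.2.1 (by rw [hc.eq, ← h18, ← conj_inv, h17]; group)
  · exact k1.1 (by rw [← h18]; group)
  · exact k2.2.1 (by rw [hc.inv_right.eq, ← h18, h17]; group)
  · exact k2.2.2 (by rw [hc.eq, ← h18, ← conj_inv, h17]; group)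

end

end H18.JT

namespace H27.JT

theorem Cfg.local {G : Type*} [Group G] [Finite G] {t : G} {V : Subgroup G} {x r : G} {a : ℕ}
    (h : Cfg t V x r a) (ha : a ≠ 1) :
    ∃ y ∈ zpowers x, (orderOf y).Prime ∧ 7 ≤ orderOf y ∧
      ∀ g, g * y = y * g → ∃ w ∈ V, ∃ z ∈ zpowers x, g = w * z := by
  obtain ⟨l, hl, h1, h2⟩ : ∃ l, l.Prime ∧ l ∣ a ∧ (3 ∣ a → l = 3) := by
    by_cases h3 : 3 ∣ a
    · exact ⟨3, Nat.prime_three, h3, fun _ => rfl⟩
    · exact ⟨_, Nat.minFac_prime ha, Nat.minFac_dvd a, fun hc => absurd hc h3⟩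
  obtain ⟨y, hy, rfl⟩ := exists_orderOf_eq (H := zpowers x) hl (by rwa [card_zpowers', h.ordx])
  have hy1 := ne_one_of_orderOf_prime hl
  have hr : r * y ≠ y * r := fun hr => by
    by_cases h3 : 3 ∣ a
    · exact H18.JT.case_five h hy hy1 hr (h2 h3)
    · exact H18.JT.case_four h hy hy1 hr h3 hl
  refine ⟨y, hy, hl, ?_, fun g hg => (H18.JT.mem_B h).1 (H18.JT.case_one h hy hy1 hr (mem_C1.2 hg))⟩
  have : Fact (Nat.Prime 3) := ⟨Nat.prime_three⟩
  have h3 : r ∈ N[zpowers y] := mem_N_of_finite fun u hu => H18.JT.mem_zpowers_of_pow hy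
    (conj_mem (H18.JT.normA h h.rN) (zpowers_le.2 hy hu)) (by
      rw [conj_pow, orderOf_dvd_iff_pow_eq_one.1 (orderOf_dvd_of_mem_zpowers hu)]; simp)
  have h4 := H22.card_modEq_cent (p := 3) (P := zpowers r) (U := zpowers y)
    (IsPGroup.of_card (n := 1) (by rw [Nat.card_zpowers, h.ordr]; rfl))
    fun g hg u hu => conj_mem (zpowers_le.2 h3 hg) hu
  rw [prime_inf_of_not_le (by rwa [card_zpowers']) fun hc => hr
    (mem_C.1 (hc (mem_zpowers y)) r (mem_zpowers r)), card_bot, card_zpowers'] at h4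
  have h5 := hl.two_le
  unfold Nat.ModEq at h4
  have h6 : orderOf y ≠ 4 := fun hc => absurd (hc ▸ hl) (by decide)
  omega

end H27.JT
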