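import Mathlib

/-! Arithmetic for the Janko–Thompson–Ward theorem (S0343). -/

set_option autoImplicit false

namespace H27.JT

theorem prop3 {K : Type*} [Field K] {d₁ d₂ d₃ v₁ v₂ v₃ : K} (h₁ : d₁ ≠ 0) (h₂ : d₂ ≠ 0)
    (h₃ : d₃ ≠ 0) (hd : d₁ + d₂ + d₃ = 0) (hv : v₁ + v₂ + v₃ = 0)
    (h : v₁ ^ 2 / d₁ + v₂ ^ 2 / d₂ + v₃ ^ 2 / d₃ = 0) : v₁ * d₂ = v₂ * d₁ := by
  have e3 : d₃ = -(d₁ + d₂) := by linear_combination hd
  have e4 : v₃ = -(v₁ + v₂) := by linear_combination hv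
  field_simp at h
  subst e3 e4
  have : (v₁ * d₂ - v₂ * d₁) ^ 2 = 0 := by linear_combination -h
  exact sub_eq_zero.mp ((pow_eq_zero_iff two_ne_zero).mp this)

/-- the Ree case -/
theorem caseI {Q ρ N x y₄ z₄ y z : ℤ} (hQ : Q = 2 * ρ - 1) (hρ : 2 ≤ ρ ∨ ρ ≤ -1)
    (hx : x ≠ 0) (hy₄ : y₄ ≠ 0) (hy : y ≠ 0) (hz : z ≠ 0)
    (hN : N = -Q ^ 2 * x) (hz₄ : z₄ = -Q * x) (d₄ : 1 + x + y₄ + z₄ = 0) (d₂ : 1 + x + y + z = 0)
    (F₄ : 1 + 1 / (x : ℂ) + (Q : ℂ) ^ 2 / y₄ + (Q : ℂ) ^ 2 / z₄ =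
      4 * (ρ : ℂ) ^ 2 * Q * (Q - 1) / N)
    (F₂ : 1 + 1 / (x : ℂ) + (ρ : ℂ) ^ 2 / y + (ρ : ℂ) ^ 2 / z =
      4 * (ρ : ℂ) * (ρ + 1) * Q ^ 2 / N) :
    N = Q ^ 2 * (Q ^ 2 + Q + 1) ∧ 3 * (y - z) ^ 2 = -Q * (2 * ρ * (Q - 1)) ^ 2 := by
  have hQ0 : Q ≠ 0 := by omega
  have hρ0 : ρ ≠ 0 := by omega
  have hQ1 : Q - 1 ≠ 0 := by omega
  have cx : (x : ℂ) ≠ 0 := by exact_mod_cast hx
  have cQ : (Q : ℂ) ≠ 0 := by exact_mod_cast hQ0
  have cy₄ : (y₄ : ℂ) ≠ 0 := by exact_mod_cast hy₄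
  have cy : (y : ℂ) ≠ 0 := by exact_mod_cast hy
  have cz : (z : ℂ) ≠ 0 := by exact_mod_cast hz
  subst hN hz₄
  push_cast at F₄ F₂
  field_simp at F₄ F₂
  have G₄ : (Q - 1) * ((Q * x - 1) * (x + (Q ^ 2 + Q + 1))) = 0 := by
    have e : y₄ = (Q - 1) * x - 1 := by linear_combination d₄
    have F : ((x + 1) * y₄ + x * Q ^ 2 + -(y₄ * Q)) * Q = -(y₄ * 4 * ρ ^ 2 * (Q - 1)) := by
      have : (((x + 1) * y₄ + x * Q ^ 2 + -(y₄ * Q)) * Q : ℂ) = -(y₄ * 4 * ρ ^ 2 * (Q - 1)) := by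
        linear_combination F₄
      exact_mod_cast this
    subst e hQ
    linear_combination F
  have hxe : x = -(Q ^ 2 + Q + 1) := by
    rcases mul_eq_zero.mp G₄ with h | h
    · exact absurd h hQ1
    rcases mul_eq_zero.mp h with h | h
    · have h1 : Q ∣ 1 := ⟨x, by linear_combination -h⟩
      have := Int.le_of_dvd one_pos ((abs_dvd _ _).mpr h1)
      rcases abs_le.mp this with ⟨h2, h3⟩
      omega
    · linear_combination h
  refine ⟨by rw [hxe]; ring, ?_⟩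
  have F : ((x + 1) * y + x * ρ ^ 2) * z + x * y * ρ ^ 2 = -(y * z * 4 * ρ * (ρ + 1)) := by
    have : (((x + 1) * y + x * ρ ^ 2) * z + x * y * ρ ^ 2 : ℂ) = -(y * z * 4 * ρ * (ρ + 1)) := by
      linear_combination F₂
    exact_mod_cast this
  have hs : y + z = 2 * ρ * Q := by rw [hxe] at d₂; subst hQ; linear_combination d₂
  have hp : 2 * ρ * (3 * (y * z) - ρ ^ 2 * Q * (Q ^ 2 + Q + 1)) = 0 := by
    have e : z = 2 * ρ * Q - y := by linear_combination hs
    subst hxe e hQ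
    linear_combination F
  have hp' : 3 * (y * z) = ρ ^ 2 * Q * (Q ^ 2 + Q + 1) := by
    rcases mul_eq_zero.mp hp with h | h
    · omega
    · linear_combination h
  have : (y - z) ^ 2 = (y + z) ^ 2 - 4 * (y * z) := by ring
  rw [this, hs]
  linear_combination -4 * hp'

/-- the Diophantine core of case II -/
theorem coreII {Q d k α x₀ : ℤ} (hQ : Odd Q) (hq : 27 ≤ |Q|) (hα : α = d + Q * k)
    (hx : x₀ = (Q + 1) * (Q + 3) + d - k) (h7 : 7 ≤ x₀) (hodd : Odd α) (hne : α ≠ -Q * x₀)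
    (E : x₀ * (d * ((Q + 1) * α - 2 * Q) + Q ^ 2) = α * (2 * d - Q)) : False := by
  have hQ0 : Q ≠ 0 := by rintro rfl; simp at hq
  have hd : d ≠ 0 := by
    rintro rfl
    apply hne
    have : Q * (α + Q * x₀) = 0 := by linear_combination E
    rcases mul_eq_zero.mp this with h | h
    · exact absurd h hQ0
    · linear_combination h
  set q := |Q| with hqd
  have hQ2 : Q ^ 2 = q ^ 2 := (sq_abs Q).symm
  have hP : q - 1 ≤ |Q + 1| := by
    have := abs_sub (Q + 1) 1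
    simp only [add_sub_cancel_right, abs_one] at this
    omega
  have hD : 1 ≤ |d| := Int.one_le_abs hd
  -- the two exceptional values of `α`
  have h1 : α ≠ 1 := by
    intro h
    have hd' : d = 1 - Q * k := by linear_combination h - hα
    subst h
    by_cases hk : k + 1 = 0
    · have hk' : k = -1 := by omega
      subst hk'
      have : x₀ = Q + 2 := by rw [hd'] at E; linear_combination E
      have h3 : (Q + 1) * (Q + 3) = 0 := by rw [hd'] at hx; linear_combination this - hx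
      rcases mul_eq_zero.mp h3 with h | h <;> rcases abs_cases Q with h' | h' <;> omega
    · have E' : x₀ * (Q * (Q - 1) * (k + 1) + 1) = 2 + Q - 2 * Q * (k + 1) := by
        rw [hd'] at E; linear_combination E
      have hj : 1 ≤ |k + 1| := Int.one_le_abs hk
      have hm : q - 1 ≤ |Q - 1| := by
        have := abs_add_le (Q - 1) 1
        simp only [sub_add_cancel, abs_one] at this
        omega
      have a1 : q * |Q - 1| * |k + 1| - 1 ≤ |Q * (Q - 1) * (k + 1) + 1| := by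
        have := abs_sub (Q * (Q - 1) * (k + 1) + 1) 1
        simp only [add_sub_cancel_right, abs_one, abs_mul] at this
        exact by linarith
      have a2 : |2 + Q - 2 * Q * (k + 1)| ≤ 2 + q + 2 * q * |k + 1| := by
        calc _ ≤ |2 + Q| + |2 * Q * (k + 1)| := abs_sub _ _
          _ ≤ _ := by
            have := abs_add_le 2 Q
            simp only [abs_mul, abs_two] at this ⊢
            linarith
      have a3 := congrArg (|·|) E'
      simp only [abs_mul] at a3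
      rw [abs_of_pos (by omega : 0 < x₀)] at a3
      have a4 : 26 * (q * |k + 1|) ≤ q * |Q - 1| * |k + 1| := by
        have : 0 ≤ q * |k + 1| := by positivity
        nlinarith
      have a5 : q ≤ q * |k + 1| := by nlinarith
      nlinarith [abs_nonneg (Q * (Q - 1) * (k + 1) + 1)]
  have h3 : α ≠ 3 := by
    intro h
    have hd' : d = 3 - Q * k := by linear_combination h - hα
    subst h
    by_cases hk : 1 - k = 0
    · have hk' : k = 1 := by omega
      subst hk'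
      have : 9 * x₀ = 9 * (2 - Q) := by rw [hd'] at E; linear_combination E
      have h3 : (Q + 1) * (Q + 3) = 0 := by rw [hd'] at hx; nlinarith
      rcases mul_eq_zero.mp h3 with h | h <;> rcases abs_cases Q with h' | h' <;> omega
    · have E' : x₀ * (Q * (Q + 3) * (1 - k) + 9) = 18 - 9 * Q + 6 * Q * (1 - k) := by
        rw [hd'] at E; linear_combination E
      have hj : 1 ≤ |1 - k| := Int.one_le_abs hk
      have hm : q - 3 ≤ |Q + 3| := by
        have := abs_sub (Q + 3) 3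
        simp only [add_sub_cancel_right, Nat.abs_ofNat] at this
        omega
      have a1 : q * |Q + 3| * |1 - k| - 9 ≤ |Q * (Q + 3) * (1 - k) + 9| := by
        have := abs_sub (Q * (Q + 3) * (1 - k) + 9) 9
        simp only [add_sub_cancel_right, Nat.abs_ofNat, abs_mul] at this
        exact by linarith
      have a2 : |18 - 9 * Q + 6 * Q * (1 - k)| ≤ 18 + 9 * q + 6 * q * |1 - k| := by
        calc _ ≤ |18 - 9 * Q| + |6 * Q * (1 - k)| := abs_add_le _ _
          _ ≤ _ := by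
            have := abs_sub 18 (9 * Q)
            simp only [abs_mul, Nat.abs_ofNat] at this ⊢
            linarith
      have a3 := congrArg (|·|) E'
      simp only [abs_mul] at a3
      rw [abs_of_pos (by omega : 0 < x₀)] at a3
      have a4 : 24 * (q * |1 - k|) ≤ q * |Q + 3| * |1 - k| := by
        have : 0 ≤ q * |1 - k| := by positivity
        nlinarith
      have a5 : q ≤ q * |1 - k| := by nlinarith
      nlinarith [abs_nonneg (Q * (Q + 3) * (1 - k) + 9)]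
  have hu : 3 ≤ |α - 2| := by
    obtain ⟨m, hm⟩ := hodd
    rcases abs_cases (α - 2) with h | h <;> omega
  set u := |α - 2| with hud
  set T := |(Q + 1) * α - 2 * Q| with hT
  set D := |d| with hDd
  have hTu : (q - 1) * u - 2 ≤ T := by
    have e : (Q + 1) * (α - 2) = ((Q + 1) * α - 2 * Q) - 2 := by ring
    have := abs_sub ((Q + 1) * α - 2 * Q) 2
    rw [← e, abs_mul, abs_two] at this
    nlinarith
  set w := |(Q + 1) * x₀ - 2| with hw
  have hw7 : 7 * q - 9 ≤ w := by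
    have := abs_add_le ((Q + 1) * x₀ - 2) 2
    simp only [sub_add_cancel, abs_mul, abs_two] at this
    rw [abs_of_pos (by omega : 0 < x₀)] at this
    nlinarith
  have key : D * T * w ≤ q ^ 2 * w + q * (4 * D + 4 * q + T) := by
    have e : d * ((Q + 1) * α - 2 * Q) * ((Q + 1) * x₀ - 2) =
        -(Q ^ 2 * ((Q + 1) * x₀ - 2)) + Q * (4 * d - 4 * Q - ((Q + 1) * α - 2 * Q)) := by
      linear_combination (Q + 1) * E
    have a := congrArg (|·|) e
    simp only [abs_mul] at a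
    rw [← hDd, ← hT, ← hw] at a
    rw [a]
    refine (abs_add_le _ _).trans ?_
    rw [abs_neg, abs_mul, abs_mul, abs_pow, ← hqd, ← hw]
    have b : |4 * d - 4 * Q - ((Q + 1) * α - 2 * Q)| ≤ 4 * D + 4 * q + T := by
      refine (abs_sub _ _).trans ?_
      have := abs_sub (4 * d) (4 * Q)
      simp only [abs_mul, Nat.abs_ofNat] at this
      omega
    have : q * |4 * d - 4 * Q - ((Q + 1) * α - 2 * Q)| ≤ q * (4 * D + 4 * q + T) :=
      mul_le_mul_of_nonneg_left b (by omega)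
    omega
  have hT8 : 76 ≤ T := by nlinarith
  have hDT : 3 * (D * T) ≤ 4 * q ^ 2 := by
    by_contra hc
    push Not at hc
    have b1 : q * T ≤ q * (D * T) := mul_le_mul_of_nonneg_left (by nlinarith) (by omega)
    have b2 : 76 * (q * D) ≤ q * (D * T) := by
      have : 76 * D ≤ D * T := by nlinarith
      nlinarith
    have b3 : D * T * (19 * w - 20 * q) ≤ 19 * q ^ 2 * (w + 4) := by nlinarith
    have b4 : 4 * q ^ 2 * (19 * w - 20 * q) ≤ 3 * (D * T) * (19 * w - 20 * q) :=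
      mul_le_mul_of_nonneg_right hc.le (by omega)
    have b5 : 57 * (w + 4) < 4 * (19 * w - 20 * q) := by omega
    have : 0 < q ^ 2 := by positivity
    nlinarith
  by_cases hk : k = 0
  · subst hk
    have hαd : α = d := by linear_combination hα
    have hDu : D - 2 ≤ u := by
      have := abs_add_le (α - 2) 2
      simp only [sub_add_cancel, abs_two] at this
      rw [hαd] at this; rw [hud, hαd]; omega
    have hD3 : 3 * D ≤ q := by
      by_contra hc
      push Not at hc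
      have c1 : (q - 1) * 8 - 2 ≤ T := by nlinarith
      nlinarith
    have c2 : |α * (2 * d - Q)| ≤ D * (2 * D + q) := by
      rw [abs_mul, hαd]
      refine mul_le_mul_of_nonneg_left ?_ (by omega)
      have := abs_sub (2 * d) Q
      simp only [abs_mul, abs_two] at this
      omega
    have c3 : q ^ 2 - 4 * q + 3 - D ≤ x₀ := by
      have := neg_abs_le Q
      have := neg_abs_le d
      nlinarith
    have c4 : α * (2 * d - Q) ≠ 0 := by
      refine mul_ne_zero ?_ ?_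
      · rintro rfl; exact absurd hodd (by decide)
      · obtain ⟨m, hm⟩ := hQ; omega
    rw [← E] at c2 c4
    have c5 : 1 ≤ |d * ((Q + 1) * α - 2 * Q) + Q ^ 2| :=
      Int.one_le_abs (right_ne_zero_of_mul c4)
    rw [abs_mul, abs_of_pos (by omega : 0 < x₀)] at c2
    nlinarith
  · have hk1 : 1 ≤ |k| := Int.one_le_abs hk
    have c0 : q * |k| ≤ D + u + 2 := by
      have e : Q * k = (α - 2) - d + 2 := by linear_combination -hα
      have a := congrArg (|·|) e
      simp only [abs_mul] at a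
      have b1 := abs_add_le (α - 2 - d) 2
      have b2 := abs_sub (α - 2) d
      rw [abs_two] at b1
      rw [← hqd] at a
      omega
    by_cases hD1 : D = 1
    · have hk2 : 2 ≤ |k| := by
        by_contra hc
        have hk' : k = 1 ∨ k = -1 := by rcases abs_cases k with h | h <;> omega
        have hd' : d = 1 ∨ d = -1 := by rcases abs_cases d with h | h <;> omega
        obtain ⟨m, hm⟩ := hQ
        obtain ⟨n, hn⟩ := hodd
        rcases hk' with rfl | rfl <;> rcases hd' with rfl | rfl <;> omega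
      have : 2 * q - 3 ≤ u := by nlinarith
      rw [hD1] at hDT
      nlinarith
    · have hD2 : 2 ≤ D := by omega
      have c1 : q ≤ D + u + 2 := by nlinarith
      have c2 : 2 * (q - 4) ≤ D * u := by
        have : 0 ≤ (D - 2) * (u - 2) := by apply mul_nonneg <;> omega
        nlinarith
      have c3 : D * ((q - 1) * u - 2) ≤ D * T := mul_le_mul_of_nonneg_left hTu (by omega)
      have c4 : 3 * D ≤ D * u := by nlinarith
      have c5 : (3 * q - 5) * (D * u) ≤ 3 * (D * T) := by nlinarith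
      have c6 : (3 * q - 5) * (2 * (q - 4)) ≤ (3 * q - 5) * (D * u) :=
        mul_le_mul_of_nonneg_left c2 (by omega)
      nlinarith

theorem caseII {Q ρ N x y z y₄ z₄ : ℤ} (hQ : Q = 2 * ρ - 1) (hρ : Odd ρ) (hq : 27 ≤ |Q|)
    (hN : 0 < N) (hx : x ≠ 0) (hy : y ≠ 0) (hz : z ≠ 0) (hy₄ : y₄ ≠ 0) (hz₄ : z₄ ≠ 0)
    (hyN : ρ * N = -y * Q ^ 2) (d₂ : 1 + x + y + z = 0)
    (m₁ : (8 : ℤ) ∣ x - 1) (m₂ : (8 : ℤ) ∣ y - ρ) (hx1 : x ≠ 1)
    (i₁ : x ∣ N) (i₂ : z ∣ N * ρ) (i₃ : y₄ ∣ N * Q) (i₄ : z₄ ∣ N * Q)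
    (F₄ : 1 + 1 / (x : ℂ) + (Q : ℂ) ^ 2 / y₄ + (Q : ℂ) ^ 2 / z₄ =
      4 * (ρ : ℂ) ^ 2 * Q * (Q - 1) / N)
    (F₂ : 1 + 1 / (x : ℂ) + (ρ : ℂ) ^ 2 / y + (ρ : ℂ) ^ 2 / z =
      4 * (ρ : ℂ) * (ρ + 1) * Q ^ 2 / N) : False := by
  have hQ0 : Q ≠ 0 := by omega
  have hρ0 : ρ ≠ 0 := by rintro rfl; exact absurd hρ (by decide)
  have hcop : IsCoprime ρ Q := ⟨2, -1, by rw [hQ]; ring⟩
  obtain ⟨x₀, hx₀⟩ : ρ ∣ -y := by
    refine (hcop.pow_right (n := 2)).dvd_of_dvd_mul_right ⟨N, hyN.symm⟩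
  have hy' : y = -(ρ * x₀) := by linear_combination -hx₀
  have hN' : N = Q ^ 2 * x₀ := by
    apply mul_left_cancel₀ hρ0
    rw [hyN, hx₀]; ring
  have hx0 : 0 < x₀ := by
    by_contra hc
    have : Q ^ 2 * x₀ ≤ 0 := mul_nonpos_of_nonneg_of_nonpos (sq_nonneg Q) (by omega)
    omega
  have h7 : 7 ≤ x₀ := by
    have h8 : (8 : ℤ) ∣ ρ * (x₀ + 1) := by
      have := m₂.neg_right
      rwa [show -(y - ρ) = ρ * (x₀ + 1) by rw [hy']; ring] at this
    have hc : IsCoprime (8 : ℤ) ρ := by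
      obtain ⟨m, hm⟩ := hρ
      have : IsCoprime (2 : ℤ) ρ := ⟨-m, 1, by rw [hm]; ring⟩
      exact this.pow_left (m := 3)
    have := hc.dvd_of_dvd_mul_left h8
    omega
  obtain ⟨w₁, e₁⟩ := i₁
  obtain ⟨w₂, e₂⟩ := i₂
  obtain ⟨w₃, e₃⟩ := i₃
  obtain ⟨w₄, e₄⟩ := i₄
  have cx : (x : ℂ) ≠ 0 := by exact_mod_cast hx
  have cN : (N : ℂ) ≠ 0 := by exact_mod_cast hN.ne'
  have cy₄ : (y₄ : ℂ) ≠ 0 := by exact_mod_cast hy₄
  have cz₄ : (z₄ : ℂ) ≠ 0 := by exact_mod_cast hz₄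
  have cy : (y : ℂ) ≠ 0 := by exact_mod_cast hy
  have cz : (z : ℂ) ≠ 0 := by exact_mod_cast hz
  have f₁ : (N : ℂ) * (1 / x) = w₁ := by rw [e₁]; push_cast; field_simp
  have f₂ : (N : ℂ) * ((ρ : ℂ) ^ 2 / z) = ρ * w₂ := by
    have : (N : ℂ) * ρ = z * w₂ := by exact_mod_cast e₂
    field_simp; linear_combination this
  have f₃ : (N : ℂ) * ((Q : ℂ) ^ 2 / y₄) = Q * w₃ := by
    have : (N : ℂ) * Q = y₄ * w₃ := by exact_mod_cast e₃
    field_simp; linear_combination this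
  have f₄ : (N : ℂ) * ((Q : ℂ) ^ 2 / z₄) = Q * w₄ := by
    have : (N : ℂ) * Q = z₄ * w₄ := by exact_mod_cast e₄
    field_simp; linear_combination this
  have f₅ : (N : ℂ) * ((ρ : ℂ) ^ 2 / y) = -(ρ * Q ^ 2) := by
    have : (ρ : ℂ) * N = -y * Q ^ 2 := by exact_mod_cast hyN
    field_simp; linear_combination this
  have G₄ : N + w₁ + Q * w₃ + Q * w₄ = 4 * ρ ^ 2 * Q * (Q - 1) := by
    have : (N + w₁ + Q * w₃ + Q * w₄ : ℂ) = 4 * ρ ^ 2 * Q * (Q - 1) := by
      rw [eq_div_iff cN] at F₄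
      linear_combination F₄ - f₁ - f₃ - f₄
    exact_mod_cast this
  have G₂ : N + w₁ - ρ * Q ^ 2 + ρ * w₂ = 4 * ρ * (ρ + 1) * Q ^ 2 := by
    have : (N + w₁ - ρ * Q ^ 2 + ρ * w₂ : ℂ) = 4 * ρ * (ρ + 1) * Q ^ 2 := by
      rw [eq_div_iff cN] at F₂
      linear_combination F₂ - f₁ - f₂ - f₅
    exact_mod_cast this
  obtain ⟨α, hα⟩ : Q ∣ w₁ :=
    ⟨4 * ρ ^ 2 * (Q - 1) - w₃ - w₄ - Q * x₀, by rw [hN'] at G₄; linear_combination G₄⟩
  obtain ⟨η, hη⟩ : Q ∣ -w₂ := by
    refine hcop.symm.dvd_of_dvd_mul_left ⟨Q * x₀ + α - ρ * Q - 4 * ρ * (ρ + 1) * Q, ?_⟩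
    rw [hN', hα] at G₂; linear_combination -G₂
  have hw₂ : w₂ = -(Q * η) := by linear_combination -hη
  have g₁ : x * α = Q * x₀ := by
    apply mul_left_cancel₀ hQ0
    rw [hN', hα] at e₁; linear_combination -e₁
  have g₂ : z * η = -(ρ * Q * x₀) := by
    apply mul_left_cancel₀ hQ0
    rw [hN', hw₂] at e₂; linear_combination e₂
  have g₃ : Q * x₀ + α = ρ * (4 * ρ + 5) * Q + ρ * η := by
    apply mul_left_cancel₀ hQ0
    rw [hN', hα, hw₂] at G₂; linear_combination G₂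
  have hQo : Odd Q := ⟨ρ - 1, by rw [hQ]; ring⟩
  have hx₀o : Odd x₀ := by
    have h8 : (2 : ℤ) ∣ y - ρ := (by norm_num : (2 : ℤ) ∣ 8).trans m₂
    have : Odd (ρ * x₀) := by
      obtain ⟨m, hm⟩ := hρ
      obtain ⟨n, hn⟩ := h8
      exact ⟨-m - n - 1, by linear_combination hy' - hn - hm⟩
    exact (Int.odd_mul.mp this).2
  have hαo : Odd α := (Int.odd_mul.mp (g₁ ▸ hQo.mul hx₀o)).2
  have hηo : Odd η := by
    have : Odd (z * η) := by rw [g₂]; exact ((hρ.mul hQo).mul hx₀o).neg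
    exact (Int.odd_mul.mp this).2
  obtain ⟨d, hd⟩ : Even (η + Q) := hηo.add_odd hQo
  have hη' : η = 2 * d - Q := by linear_combination hd
  refine coreII (Q := Q) (d := d) (k := (Q + 1) * (Q + 3) + d - x₀) (α := α) (x₀ := x₀)
    hQo hq ?_ (by ring) h7 hαo ?_ ?_
  · rw [hη'] at g₃; subst hQ; linear_combination g₃
  · intro h
    have : (x + 1) * (Q * x₀) = 0 := by rw [h] at g₁; linear_combination -g₁
    rcases mul_eq_zero.mp this with h | h
    · omega
    · exact mul_ne_zero hQ0 hx0.ne' h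
  · rw [hy'] at d₂
    have : α * η * (1 + x + -(ρ * x₀) + z) = 0 := by rw [d₂, mul_zero]
    rw [hη'] at this g₂
    subst hQ
    linear_combination -this + (2 * d - (2 * ρ - 1)) * g₁ + α * g₂

end H27.JT
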