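import Mathlib

/-! Arithmetic for the Janko–Thompson–Ward theorem (S0343), part 2. -/

set_option autoImplicit false

namespace H27.JT

/-- the quintic of the case `(4,3)` -/
def E43 (d ρ : ℤ) : ℤ :=
  28 * d ^ 5 * ρ ^ 2 - 24 * d ^ 5 * ρ + 5 * d ^ 5 - 64 * d ^ 4 * ρ ^ 5 + 80 * d ^ 4 * ρ ^ 4
  - 120 * d ^ 4 * ρ ^ 3 + 224 * d ^ 4 * ρ ^ 2 - 136 * d ^ 4 * ρ + 25 * d ^ 4 + 64 * d ^ 3 *
  ρ ^ 8 - 128 * d ^ 3 * ρ ^ 7 + 160 * d ^ 3 * ρ ^ 6 - 256 * d ^ 3 * ρ ^ 5 + 336 * d ^ 3 * ρ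
  ^ 4 - 552 * d ^ 3 * ρ ^ 3 + 630 * d ^ 3 * ρ ^ 2 - 304 * d ^ 3 * ρ + 50 * d ^ 3 + 96 * d ^
  2 * ρ ^ 6 - 288 * d ^ 2 * ρ ^ 5 + 592 * d ^ 2 * ρ ^ 4 - 940 * d ^ 2 * ρ ^ 3 + 826 * d ^ 2
  * ρ ^ 2 - 336 * d ^ 2 * ρ + 50 * d ^ 2 - 16 * d * ρ ^ 8 + 32 * d * ρ ^ 7 + 4 * d * ρ ^ 6 -
  160 * d * ρ ^ 5 + 485 * d * ρ ^ 4 - 704 * d * ρ ^ 3 + 518 * d * ρ ^ 2 - 184 * d * ρ + 25 *
  d + 8 * ρ ^ 7 - 16 * ρ ^ 6 - 36 * ρ ^ 5 + 149 * ρ ^ 4 - 196 * ρ ^ 3 + 126 * ρ ^ 2 - 40 * ρ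
  + 5

theorem pos_aux {e a b c r D : ℤ} (he : 0 ≤ e) (ha : 0 < a) (hr : 0 < r) (hD : 0 ≤ D)
    (h : 4 * a * c - b ^ 2 = D) : 0 < e ^ 3 * (a * e ^ 2 - b * e + c) + r := by
  have h1 : 0 ≤ 4 * a * (a * e ^ 2 - b * e + c) := by nlinarith [sq_nonneg (2 * a * e - b)]
  have h2 : 0 ≤ a * e ^ 2 - b * e + c := by
    by_contra hc
    nlinarith
  positivity

theorem E43_a {e k : ℤ} (he : 0 ≤ e) (hk : 0 ≤ k) : E43 (1 + e) (7 + k) ≠ 0 := by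
  have h := pos_aux (e := e) (a := 28 * k ^ 2 + 368 * k + 1209)
    (b := 64 * k ^ 5 + 2160 * k ^ 4 + 29240 * k ^ 3 + 198156 * k ^ 2 + 671360 * k + 908634)
    (c := 64 * k ^ 8 + 3456 * k ^ 7 + 81696 * k ^ 6 + 1103808 * k ^ 5 + 9320176 * k ^ 4 +
      50343864 * k ^ 3 + 169829030 * k ^ 2 + 327001196 * k + 275054574)
    (r := 192 * e ^ 2 * k ^ 8 + 10368 * e ^ 2 * k ^ 7 + 245184 * e ^ 2 * k ^ 6 + 3315552 * e ^ 2
      * k ^ 5 + 28034560 * e ^ 2 * k ^ 4 + 151740108 * e ^ 2 * k ^ 3 + 513301040 * e ^ 2 * k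
      ^ 2 + 991944092 * e ^ 2 * k + 838218648 * e ^ 2 + 176 * e * k ^ 8 + 9504 * e * k ^ 7 +
      224900 * e * k ^ 6 + 3045032 * e * k ^ 5 + 25792817 * e * k ^ 4 + 139923628 * e * k ^
      3 + 474633362 * e * k ^ 2 + 920188756 * e * k + 780478161 * e + 48 * k ^ 8 + 2600 * k
      ^ 7 + 61788 * k ^ 6 + 840876 * k ^ 5 + 7163762 * k ^ 4 + 39105480 * k ^ 3 + 133523208
      * k ^ 2 + 260637620 * k + 222621258)
    (D := 3072 * k ^ 10 + 204800 * k ^ 9 + 6138368 * k ^ 8 + 108915456 * k ^ 7 + 1266801344 * k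
      ^ 6 + 10091084096 * k ^ 5 + 55747158288 * k ^ 4 + 210870451776 * k ^ 3 + 522618254472
      * k ^ 2 + 766217072304 * k + 504548173908)
    he (by positivity) (by positivity) (by positivity) (by ring)
  intro h0
  refine h.ne' ?_
  unfold E43 at h0
  linear_combination h0

theorem E43_b {e k : ℤ} (he : 0 ≤ e) (hk : 0 ≤ k) : E43 (-1 - e) (7 + k) ≠ 0 := by
  have h := pos_aux (e := e) (a := 28 * k ^ 2 + 368 * k + 1209)
    (b := -64 * k ^ 5 - 2160 * k ^ 4 - 29240 * k ^ 3 - 198436 * k ^ 2 - 675040 * k - 920724)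
    (c := 64 * k ^ 8 + 3456 * k ^ 7 + 81696 * k ^ 6 + 1104320 * k ^ 5 + 9337456 * k ^ 4 +
      50577784 * k ^ 3 + 171415398 * k ^ 2 + 332386796 * k + 282372006)
    (r := 192 * e ^ 2 * k ^ 8 + 10368 * e ^ 2 * k ^ 7 + 244992 * e ^ 2 * k ^ 6 + 3308832 * e ^ 2
      * k ^ 5 + 27938336 * e ^ 2 * k ^ 4 + 151024836 * e ^ 2 * k ^ 3 + 510431124 * e ^ 2 * k
      ^ 2 + 986205164 * e ^ 2 * k + 834012732 * e ^ 2 + 176 * e * k ^ 8 + 9504 * e * k ^ 7 +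
      224516 * e * k ^ 6 + 3030568 * e * k ^ 5 + 25565809 * e * k ^ 4 + 138025244 * e * k ^
      3 + 465720794 * e * k ^ 2 + 897939700 * e * k + 757431465 * e + 48 * k ^ 8 + 2584 * k
      ^ 7 + 60844 * k ^ 6 + 818468 * k ^ 5 + 6879600 * k ^ 4 + 37000096 * k ^ 3 + 124342988
      * k ^ 2 + 238726628 * k + 200473896)
    (D := 3072 * k ^ 10 + 204800 * k ^ 9 + 6138368 * k ^ 8 + 108936960 * k ^ 7 + 1267809728 * k
      ^ 6 + 10111375808 * k ^ 5 + 55974246864 * k ^ 4 + 212396536032 * k ^ 3 + 528775316184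
      * k ^ 2 + 780023080368 * k + 517818336840)
    he (by positivity) (by positivity) (by positivity) (by ring)
  intro h0
  refine h.ne' ?_
  unfold E43 at h0
  linear_combination -h0

theorem E43_c {e k : ℤ} (he : 0 ≤ e) (hk : 0 ≤ k) : E43 (1 + e) (-5 - k) ≠ 0 := by
  have h := pos_aux (e := e) (a := 28 * k ^ 2 + 304 * k + 825)
    (b := -64 * k ^ 5 - 1680 * k ^ 4 - 17720 * k ^ 3 - 94164 * k ^ 2 - 252896 * k - 275430)
    (c := 64 * k ^ 8 + 2688 * k ^ 7 + 49440 * k ^ 6 + 520512 * k ^ 5 + 3433456 * k ^ 4 +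
      14542152 * k ^ 3 + 38655686 * k ^ 2 + 59024548 * k + 39689790)
    (r := 192 * e ^ 2 * k ^ 8 + 8064 * e ^ 2 * k ^ 7 + 148416 * e ^ 2 * k ^ 6 + 1564320 * e ^ 2
      * k ^ 5 + 10334080 * e ^ 2 * k ^ 4 + 43844916 * e ^ 2 * k ^ 3 + 116766080 * e ^ 2 * k
      ^ 2 + 178634404 * e ^ 2 * k + 120334920 * e ^ 2 + 176 * e * k ^ 8 + 7392 * e * k ^ 7 +
      136196 * e * k ^ 6 + 1438840 * e * k ^ 5 + 9540497 * e * k ^ 4 + 40694660 * e * k ^ 3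
      + 109162946 * e * k ^ 2 + 168580892 * e * k + 114915585 * e + 48 * k ^ 8 + 2008 * k ^
      7 + 36924 * k ^ 6 + 390324 * k ^ 5 + 2598242 * k ^ 4 + 11171352 * k ^ 3 + 30353832 * k
      ^ 2 + 47746444 * k + 33354330)
    (D := 3072 * k ^ 10 + 163840 * k ^ 9 + 3926528 * k ^ 8 + 55694592 * k ^ 7 + 517881536 * k ^
      6 + 3299335360 * k ^ 5 + 14588160528 * k ^ 4 + 44216528064 * k ^ 3 + 87955302792 * k ^
      2 + 103733502480 * k + 55114622100)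
    he (by positivity) (by positivity) (by positivity) (by ring)
  intro h0
  refine h.ne' ?_
  unfold E43 at h0
  linear_combination h0

theorem E43_d {e k : ℤ} (he : 0 ≤ e) (hk : 0 ≤ k) : E43 (-1 - e) (-5 - k) ≠ 0 := by
  have h := pos_aux (e := e) (a := 28 * k ^ 2 + 304 * k + 825)
    (b := 64 * k ^ 5 + 1680 * k ^ 4 + 17720 * k ^ 3 + 93884 * k ^ 2 + 249856 * k + 267180)
    (c := 64 * k ^ 8 + 2688 * k ^ 7 + 49440 * k ^ 6 + 520000 * k ^ 5 + 3420016 * k ^ 4 +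
      14400392 * k ^ 3 + 37903494 * k ^ 2 + 57013540 * k + 37519350)
    (r := 192 * e ^ 2 * k ^ 8 + 8064 * e ^ 2 * k ^ 7 + 148224 * e ^ 2 * k ^ 6 + 1557216 * e ^ 2
      * k ^ 5 + 10226336 * e ^ 2 * k ^ 4 + 42982716 * e ^ 2 * k ^ 3 + 112910340 * e ^ 2 * k
      ^ 2 + 169467700 * e ^ 2 * k + 111259500 * e ^ 2 + 176 * e * k ^ 8 + 7392 * e * k ^ 7 +
      135812 * e * k ^ 6 + 1425656 * e * k ^ 5 + 9351889 * e * k ^ 4 + 39253780 * e * k ^ 3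
      + 102955850 * e * k ^ 2 + 154269500 * e * k + 101105625 * e + 48 * k ^ 8 + 2024 * k ^
      7 + 37324 * k ^ 6 + 393148 * k ^ 5 + 2587200 * k ^ 4 + 10892000 * k ^ 3 + 28647500 * k
      ^ 2 + 43037500 * k + 28275000)
    (D := 3072 * k ^ 10 + 163840 * k ^ 9 + 3926528 * k ^ 8 + 55673088 * k ^ 7 + 517083584 * k ^
      6 + 3286619200 * k ^ 5 + 14475293904 * k ^ 4 + 43613638176 * k ^ 3 + 86016287064 * k ^
      2 + 100255159440 * k + 52428702600)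
    he (by positivity) (by positivity) (by positivity) (by ring)
  intro h0
  refine h.ne' ?_
  unfold E43 at h0
  linear_combination -h0

theorem E43_ne {d ρ : ℤ} (hd : d ≠ 0) (hρ : 7 ≤ ρ ∨ ρ ≤ -5) : E43 d ρ ≠ 0 := by
  rcases lt_or_gt_of_ne hd with h | h <;> rcases hρ with h' | h'
  · have := E43_b (e := -1 - d) (k := ρ - 7) (by omega) (by omega)
    simpa using this
  · have := E43_d (e := -1 - d) (k := -5 - ρ) (by omega) (by omega)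
    simpa using this
  · have := E43_a (e := d - 1) (k := ρ - 7) (by omega) (by omega)
    simpa using this
  · have := E43_c (e := d - 1) (k := -5 - ρ) (by omega) (by omega)
    simpa using this

theorem case43 {Q ρ N x d y y₄ : ℤ} (hQ : Q = 2 * ρ - 1) (hρ : 7 ≤ ρ ∨ ρ ≤ -5)
    (hN : N ≠ 0) (hx : x ≠ 0) (hd : d ≠ 0) (hy : y ≠ 0) (hy₄ : y₄ ≠ 0)
    (hyN : ρ * N = -y * Q ^ 2) (d₂ : 1 + x + d + y = 0) (d₄ : 1 + d + d + y₄ = 0)
    (F₂ : 1 + (2 * ρ : ℂ) ^ 2 / x + (1 - ρ : ℂ) ^ 2 / d + (ρ : ℂ) ^ 2 / y =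
      4 * (ρ : ℂ) * (ρ + 1) * Q ^ 2 / N)
    (F₄ : 1 + (1 - ρ : ℂ) ^ 2 / d + (1 - ρ : ℂ) ^ 2 / d + (Q : ℂ) ^ 2 / y₄ =
      4 * (ρ : ℂ) ^ 2 * Q * (Q - 1) / N) : False := by
  have hρ0 : ρ ≠ 0 := by omega
  have hQ0 : Q ≠ 0 := by omega
  have cx : (x : ℂ) ≠ 0 := by exact_mod_cast hx
  have cN : (N : ℂ) ≠ 0 := by exact_mod_cast hN
  have cd : (d : ℂ) ≠ 0 := by exact_mod_cast hd
  have cy₄ : (y₄ : ℂ) ≠ 0 := by exact_mod_cast hy₄
  have cy : (y : ℂ) ≠ 0 := by exact_mod_cast hy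
  have cQ : (Q : ℂ) ≠ 0 := by exact_mod_cast hQ0
  have cρ : (ρ : ℂ) ≠ 0 := by exact_mod_cast hρ0
  have cyN : (ρ : ℂ) * N = -y * Q ^ 2 := by exact_mod_cast hyN
  have r₂ : 4 * (ρ : ℂ) * (ρ + 1) * Q ^ 2 / N = -(4 * ρ ^ 2 * (ρ + 1)) / y := by
    rw [div_eq_div_iff cN cy]; linear_combination (4 * ρ * (ρ + 1) : ℂ) * cyN
  have r₄ : 4 * (ρ : ℂ) ^ 2 * Q * (Q - 1) / N = -(4 * ρ ^ 3 * (Q - 1)) / (y * Q) := by
    rw [div_eq_div_iff cN (mul_ne_zero cy cQ)]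
    linear_combination (4 * ρ ^ 2 * (Q - 1) : ℂ) * cyN
  rw [r₂] at F₂
  rw [r₄] at F₄
  field_simp at F₂ F₄
  have ex : x = -1 - d - y := by linear_combination d₂
  have ey : y₄ = -1 - 2 * d := by linear_combination d₄
  have G₂ : (d + (1 - ρ) ^ 2) * y * x + 4 * ρ ^ 2 * d * y + ρ ^ 2 * (4 * ρ + 5) * d * x = 0 := by
    have : ((d + (1 - ρ) ^ 2) * y * x + 4 * ρ ^ 2 * d * y + ρ ^ 2 * (4 * ρ + 5) * d * x : ℂ)
        = 0 := by linear_combination F₂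
    exact_mod_cast this
  have G₄ : ((d + 2 * (1 - ρ) ^ 2) * y₄ + d * Q ^ 2) * y * Q = -(4 * ρ ^ 3 * (Q - 1) * d * y₄) := by
    have : (((d + 2 * (1 - ρ) ^ 2) * y₄ + d * Q ^ 2) * y * Q : ℂ)
        = -(4 * ρ ^ 3 * (Q - 1) * d * y₄) := by linear_combination F₄
    exact_mod_cast this
  have hB : y * (Q * (d + (1 - ρ)) ^ 2) = 4 * (1 - ρ) * ρ ^ 3 * (d * (1 + 2 * d)) := by
    apply mul_left_cancel₀ (two_ne_zero' ℤ)
    subst ey hQ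
    linear_combination -G₄
  set B := Q * (d + (1 - ρ)) ^ 2 with hBd
  have h1 : (d + (1 - ρ) ^ 2) * (y * B) * (-(1 + d) * B - y * B) + 4 * ρ ^ 2 * d * (y * B) * B +
      ρ ^ 2 * (4 * ρ + 5) * d * B * (-(1 + d) * B - y * B) = 0 := by
    subst ex
    linear_combination B ^ 2 * G₂
  rw [hB, hBd] at h1
  have h2 : ρ ^ 2 * d * E43 d ρ = 0 := by
    unfold E43
    subst hQ
    linear_combination -h1
  exact mul_ne_zero (mul_ne_zero (pow_ne_zero _ hρ0) hd) (E43_ne hd hρ) h2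

theorem three_i {x y z : ℤ} (hx : x ≠ 0) (hy : y ≠ 0) (hz : z ≠ 0) (hx1 : x ≠ -1) (hy1 : y ≠ -1)
    (hz1 : z ≠ -1) (d : 1 + x + y + z = 0)
    (F : 1 + 1 / (x : ℂ) + 1 / (y : ℂ) + 1 / z = 0) : False := by
  have cx : (x : ℂ) ≠ 0 := by exact_mod_cast hx
  have cy : (y : ℂ) ≠ 0 := by exact_mod_cast hy
  have cz : (z : ℂ) ≠ 0 := by exact_mod_cast hz
  field_simp at F
  have G : x * y * z + y * z + x * z + x * y = 0 := by
    have : (x * y * z + y * z + x * z + x * y : ℂ) = 0 := by linear_combination F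
    exact_mod_cast this
  have e : x = -1 - y - z := by linear_combination d
  have : (x + 1) * ((y + 1) * (z + 1)) = 0 := by subst e; linear_combination G
  rcases mul_eq_zero.mp this with h | h
  · omega
  · rcases mul_eq_zero.mp h with h | h <;> omega

theorem three_ii_aux {x d y : ℤ} (hx : x ≠ 0) (hd : d ≠ 0) (hy : y ≠ 0) (hy1 : y ≠ -1)
    (m₁ : (8 : ℤ) ∣ x + 2) (m₂ : (8 : ℤ) ∣ d - 2) (e : 1 + x + d + y = 0)
    (F : 1 + 4 / (x : ℂ) + 4 / (d : ℂ) + 1 / y = 0) : d = -6 ∧ y = 15 := by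
  have cx : (x : ℂ) ≠ 0 := by exact_mod_cast hx
  have cy : (y : ℂ) ≠ 0 := by exact_mod_cast hy
  have cd : (d : ℂ) ≠ 0 := by exact_mod_cast hd
  field_simp at F
  have G : x * d * y + 4 * d * y + 4 * x * y + x * d = 0 := by
    have : (x * d * y + 4 * d * y + 4 * x * y + x * d : ℂ) = 0 := by linear_combination F
    exact_mod_cast this
  have ey : y = -1 - x - d := by linear_combination e
  have : (y + 1) * ((x + 4) * (d + 4) - 12) = 0 := by subst ey; linear_combination G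
  rcases mul_eq_zero.mp this with h | h
  · omega
  have h12 : (d + 4) ∣ 12 := ⟨x + 4, by linear_combination -h⟩
  have := Int.le_of_dvd (by norm_num) ((abs_dvd _ _).mpr h12)
  rcases abs_le.mp this with ⟨h1, h2⟩
  have h3 : -16 ≤ d := by omega
  have h4 : d ≤ 8 := by omega
  interval_cases d <;> omega

theorem three_ii {N x d d' y y' y₄ : ℤ} (hN : N ≠ 0) (hx : x ≠ 0) (hd : d ≠ 0) (hd' : d' ≠ 0)
    (hy : y ≠ 0) (hy' : y' ≠ 0) (hy1 : y ≠ -1) (hy1' : y' ≠ -1)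
    (m₁ : (8 : ℤ) ∣ x + 2) (m₂ : (8 : ℤ) ∣ d - 2) (m₃ : (8 : ℤ) ∣ d' - 2)
    (e : 1 + x + d + y = 0) (e' : 1 + x + d' + y' = 0) (e₄ : 1 + d + d' + y₄ = 0)
    (i : y ∣ N)
    (F : 1 + 4 / (x : ℂ) + 4 / (d : ℂ) + 1 / y = 0)
    (F' : 1 + 4 / (x : ℂ) + 4 / (d' : ℂ) + 1 / y' = 0)
    (F₄ : 1 + 4 / (d : ℂ) + 4 / (d' : ℂ) + 9 / y₄ = 48 / N) : False := by
  obtain ⟨rfl, rfl⟩ := three_ii_aux hx hd hy hy1 m₁ m₂ e F
  obtain ⟨rfl, rfl⟩ := three_ii_aux hx hd' hy' hy1' m₁ m₃ e' F'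
  obtain rfl : y₄ = 11 := by omega
  have cN : (N : ℂ) ≠ 0 := by exact_mod_cast hN
  rw [eq_div_iff cN] at F₄
  push_cast at F₄
  have : (N : ℂ) = 99 := by linear_combination (33 / 16 : ℂ) * F₄
  have : N = 99 := by exact_mod_cast this
  omega

/-- `3 m² = q k²` with `q` a prime power forces `q = 3^(odd)`. -/
theorem three_pow_of_sq {p n : ℕ} (hp : p.Prime) {m k : ℤ} (hk : k ≠ 0)
    (h : 3 * m ^ 2 = (p ^ n : ℕ) * k ^ 2) : p = 3 ∧ Odd n := by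
  have h' : 3 * m.natAbs ^ 2 = p ^ n * k.natAbs ^ 2 := by
    have := congrArg Int.natAbs h
    simpa [Int.natAbs_mul, Int.natAbs_pow] using this
  have hk' : k.natAbs ≠ 0 := Int.natAbs_ne_zero.mpr hk
  have hm' : m.natAbs ≠ 0 := by
    intro h0
    rw [h0] at h'
    exact mul_ne_zero (pow_ne_zero n hp.ne_zero) (pow_ne_zero 2 hk') (by rw [← h']; norm_num)
  have := congrArg (fun x => x.factorization 3) h'
  simp only [Nat.factorization_mul (by norm_num : (3 : ℕ) ≠ 0) (pow_ne_zero _ hm'),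
    Nat.factorization_mul (pow_ne_zero _ hp.ne_zero) (pow_ne_zero _ hk'), Nat.factorization_pow,
    Finsupp.add_apply, Finsupp.smul_apply, smul_eq_mul, Nat.prime_three.factorization_self,
    hp.factorization] at this
  by_cases h3 : p = 3
  · subst h3
    simp only [Finsupp.single_eq_same, mul_one] at this
    exact ⟨rfl, Nat.odd_iff.mpr (by omega)⟩
  · rw [Finsupp.single_eq_of_ne (Ne.symm h3)] at this
    omega

end H27.JT
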