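import Mathlib
import Cfsg.Agent.H27.JTL
import Cfsg.Agent.H5.SIrr

/-! The principal `2`-block of `L = PSL₂(q)`, `q ≡ ±3 (mod 8)`. -/

set_option autoImplicit false
open Cfsg H4 H5 H17 H24 Subgroup
open scoped ComplexConjugate

namespace H27.JT

/-- the constant function `1` -/
abbrev o (G : Type*) : G → ℂ := fun _ => 1

section Gen
variable {G : Type*} [Group G] [Fintype G]

theorem inner_congr_right {φ ψ ψ' : G → ℂ} (h : ∀ g, φ g ≠ 0 → ψ g = ψ' g) :
    classInner φ ψ = classInner φ ψ' := by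
  rw [classInner_def, classInner_def]
  congr 1
  refine Finset.sum_congr rfl fun g _ => ?_
  by_cases hg : φ g = 0
  · simp [hg]
  · rw [h g hg]

theorem inner_congr_left {φ φ' ψ : G → ℂ} (h : ∀ g, ψ g ≠ 0 → φ g = φ' g) :
    classInner φ ψ = classInner φ' ψ := by
  rw [classInner_def, classInner_def]
  congr 1
  refine Finset.sum_congr rfl fun g _ => ?_
  by_cases hg : ψ g = 0
  · simp [hg]
  · rw [h g hg]

theorem inner_eq_zero_of_supp {φ ψ : G → ℂ} (h : ∀ g, φ g = 0 ∨ ψ g = 0) :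
    classInner φ ψ = 0 := by
  rw [classInner_def, Finset.sum_eq_zero, mul_zero]
  intro g _
  rcases h g with h | h <;> simp [h]

theorem inner_const_right (φ : G → ℂ) (n : ℕ) :
    classInner φ (fun _ => (n : ℂ)) = n * classInner φ (o G) := by
  have : (fun _ : G => (n : ℂ)) = (n : ℂ) • o G := by ext; simp
  rw [this, classInner_smul_right, map_natCast]

theorem sirr_eq_of_apply {X Y : G → ℂ} (hX : SIrr X) (hY : SIrr Y) (h : classInner X Y ≠ 0)
    {g : G} (h1 : X g = Y g) (h0 : X g ≠ 0) : X = Y := by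
  rcases hX.eq_or_eq_neg hY h with h2 | h2
  · exact h2
  · exfalso
    have : X g = -Y g := by rw [h2]; rfl
    exact h0 (by linear_combination (this + h1) / 2)

theorem gam_of_isConj {a a' b b' : G} (h : IsConj a a') (h' : IsConj b b') :
    gam a b = gam a' b' := by
  classical
  ext x
  simp only [gam]
  congr 2
  ext u
  simp only [Finset.mem_filter, mem_cl]
  exact and_congr ⟨fun k => h.symm.trans k, fun k => h.trans k⟩
    ⟨fun k => h'.symm.trans k, fun k => h'.trans k⟩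

/-- with one class of involutions `gam` counts the involutions `u` with `u * x` an involution -/
theorem gam_eq_card {s : G} (hs : orderOf s = 2)
    (hc : ∀ u : G, orderOf u = 2 → IsConj s u) (x : G) :
    gam s s x = Nat.card {u : G // orderOf u = 2 ∧ orderOf (u * x) = 2} := by
  classical
  rw [gam, Nat.subtype_card ((cl s).filter fun u => IsConj s (u⁻¹ * x))]
  intro u
  simp only [Finset.mem_filter, mem_cl]
  constructor
  · rintro ⟨h1, h2⟩
    have hu : orderOf u = 2 := by rw [← orderOf_eq_of_isConj h1, hs]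
    rw [inv_of_two hu] at h2
    exact ⟨hu, by rw [← orderOf_eq_of_isConj h2, hs]⟩
  · rintro ⟨h1, h2⟩
    rw [inv_of_two h1]
    exact ⟨hc _ h1, hc _ h2⟩

theorem inverts_of_two {G : Type*} [Group G] {u x : G} (h1 : orderOf u = 2)
    (h2 : u * x * (u * x) = 1) : u * x * u⁻¹ = x⁻¹ := by
  rw [inv_of_two h1]
  exact eq_inv_of_mul_eq_one_left (by rw [← h2]; group)

end Gen

/-- the principal `2`-block of a group with a Klein four Sylow subgroup, signed -/
structure LB {L : Type*} [Group L] [Fintype L] (M : Ideal AlgInt) (e₂ e₃ e₄ : L → ℂ) : Prop where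
  s₂ : SIrr e₂
  s₃ : SIrr e₃
  s₄ : SIrr e₄
  o₂ : classInner (o L) e₂ = 0
  o₃ : classInner (o L) e₃ = 0
  o₄ : classInner (o L) e₄ = 0
  o₂₃ : classInner e₂ e₃ = 0
  o₂₄ : classInner e₂ e₄ = 0
  o₃₄ : classInner e₃ e₄ = 0
  ev : ∀ g, 2 ∣ orderOf g → e₂ g = 1 ∧ e₃ g = 1 ∧ e₄ g = 1
  od : ∀ g, ¬ 2 ∣ orderOf g → 1 + e₂ g + e₃ g + e₄ g = 0
  blk : ∀ f g, blockPart (principalBlock M L) f g = classInner f (o L) +
    classInner f e₂ * e₂ g + classInner f e₃ * e₃ g + classInner f e₄ * e₄ g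

namespace LB
variable {L : Type*} [Group L] [Fintype L] {M : Ideal AlgInt} {e₂ e₃ e₄ : L → ℂ}
  (h : LB M e₂ e₃ e₄)
include h

theorem o₂' : classInner e₂ (o L) = 0 := classInner_comm_of_eq_zero h.o₂
theorem o₃' : classInner e₃ (o L) = 0 := classInner_comm_of_eq_zero h.o₃
theorem o₄' : classInner e₄ (o L) = 0 := classInner_comm_of_eq_zero h.o₄
theorem o₃₂ : classInner e₃ e₂ = 0 := classInner_comm_of_eq_zero h.o₂₃
theorem o₄₂ : classInner e₄ e₂ = 0 := classInner_comm_of_eq_zero h.o₂₄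
theorem o₄₃ : classInner e₄ e₃ = 0 := classInner_comm_of_eq_zero h.o₃₄

theorem swap₂₃ : LB M e₃ e₂ e₄ :=
  ⟨h.s₃, h.s₂, h.s₄, h.o₃, h.o₂, h.o₄, h.o₃₂, h.o₃₄, h.o₂₄,
    fun g hg => ⟨(h.ev g hg).2.1, (h.ev g hg).1, (h.ev g hg).2.2⟩,
    fun g hg => by linear_combination h.od g hg, fun f g => by rw [h.blk]; ring⟩

theorem swap₃₄ : LB M e₂ e₄ e₃ :=
  ⟨h.s₂, h.s₄, h.s₃, h.o₂, h.o₄, h.o₃, h.o₂₄, h.o₂₃, h.o₄₃,
    fun g hg => ⟨(h.ev g hg).1, (h.ev g hg).2.2, (h.ev g hg).2.1⟩,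
    fun g hg => by linear_combination h.od g hg, fun f g => by rw [h.blk]; ring⟩

theorem sum_od {g : L} (hg : ¬ 2 ∣ orderOf g) : (o L + e₂ + e₃ + e₄) g = 0 := h.od g hg

theorem inner_sum_one : classInner (o L + e₂ + e₃ + e₄) (o L) = 1 := by
  simp only [classInner_add_left, h.o₂', h.o₃', h.o₄', classInner_one_one, add_zero]

/-- linear independence on the elements of odd order -/
theorem indep {c₂ c₃ c₄ : ℂ}
    (h0 : ∀ g, ¬ 2 ∣ orderOf g → c₂ * e₂ g + c₃ * e₃ g + c₄ * e₄ g = 0) :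
    c₂ = 0 ∧ c₃ = 0 ∧ c₄ = 0 := by
  have key : c₂ • e₂ + c₃ • e₃ + c₄ • e₄ = ((c₂ + c₃ + c₄) / 4) • (o L + e₂ + e₃ + e₄) := by
    ext g
    by_cases hg : 2 ∣ orderOf g
    · obtain ⟨a, b, c⟩ := h.ev g hg
      simp [a, b, c]; ring
    · rw [Pi.smul_apply, h.sum_od hg]
      simpa using h0 g hg
  have h1 := congrArg (fun f => classInner f (o L)) key
  simp only [classInner_smul_left, h.inner_sum_one] at h1
  simp only [classInner_add_left, classInner_smul_left, h.o₂', h.o₃', h.o₄', mul_zero, add_zero,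
    mul_one] at h1
  rw [← h1, zero_smul] at key
  have h2 := congrArg (fun f => classInner f e₂) key
  have h3 := congrArg (fun f => classInner f e₃) key
  have h4 := congrArg (fun f => classInner f e₄) key
  simp only [classInner_add_left, classInner_smul_left, h.s₂.norm, h.s₃.norm, h.s₄.norm, h.o₂₃,
    h.o₂₄, h.o₃₄, h.o₃₂, h.o₄₂, h.o₄₃, classInner_zero_left, mul_zero, mul_one, add_zero,
    zero_add] at h2 h3 h4
  exact ⟨h2, h3, h4⟩

end LB

theorem exists_LB {L : Type*} [Group L] [Fintype L] (M : Ideal AlgInt) [PM 2 M] (P : Sylow 2 L)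
    (hP : IsKleinFour (P : Subgroup L))
    (hone : ∀ s t : L, orderOf s = 2 → orderOf t = 2 → IsConj s t) :
    ∃ e₂ e₃ e₄ : L → ℂ, LB M e₂ e₃ e₄ := by
  obtain ⟨ζ₂, ζ₃, ζ₄, ε, hε, n₂, n₃, n₄, n₂₃, n₂₄, n₃₄, hB, hev, hod⟩ := klein_block M P hP hone
  have hee : (ε : ℂ) * ε = 1 := by rcases hε with rfl | rfl <;> simp
  have hne : ∀ {χ ψ : Irr L}, χ ≠ ψ → classInner χ.1 ψ.1 = 0 := fun {χ ψ} h =>
    χ.2.inner_of_ne ψ.2 fun h' => h (Subtype.ext h')
  have s₃ : SIrr ((ε : ℂ) • ζ₃.1) := by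
    rcases hε with rfl | rfl
    · simpa using sirr_of_irr ζ₃.2
    · simpa using (sirr_of_irr ζ₃.2).neg
  refine ⟨ζ₂.1, (ε : ℂ) • ζ₃.1, -ζ₄.1, sirr_of_irr ζ₂.2, s₃, (sirr_of_irr ζ₄.2).neg, hne n₂.symm,
    ?_, ?_, ?_, ?_, ?_, ?_, ?_, ?_⟩
  · rw [classInner_smul_right]; exact mul_eq_zero_of_right _ (hne n₃.symm)
  · rw [classInner_neg_right, neg_eq_zero]; exact hne n₄.symm
  · rw [classInner_smul_right, hne n₂₃, mul_zero]
  · rw [classInner_neg_right, hne n₂₄, neg_zero]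
  · rw [classInner_neg_right, classInner_smul_left, hne n₃₄, mul_zero, neg_zero]
  · intro g hg
    obtain ⟨a, b, c⟩ := hev g hg
    simp [a, b, c, hee]
  · intro g hg
    have := hod g hg
    simp only [Pi.smul_apply, smul_eq_mul, Pi.neg_apply]
    linear_combination this
  · intro f g
    rw [blockPart_apply, hB, sum_ind_four n₂ n₃ n₄ n₂₃ n₂₄ n₃₄, classInner_smul_right,
      classInner_neg_right]
    simp only [irrOne_coe, Pi.smul_apply, smul_eq_mul, Pi.neg_apply, map_intCast]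
    linear_combination (-(classInner f ζ₃.1 * ζ₃.1 g)) * hee

/-- the principal `2`-block of `PSL₂(q)`: `Q = εq`, `ρ = (Q+1)/2`. -/
structure LC {L : Type*} [Group L] [Fintype L] (M : Ideal AlgInt) (e₂ e₃ e₄ : L → ℂ) (Q ρ : ℤ) :
    Prop extends LB M e₂ e₃ e₄ where
  d₂ : e₂ 1 = -ρ
  d₃ : e₃ 1 = -ρ
  d₄ : e₄ 1 = Q
  st : ∀ g s : L, g ≠ 1 → orderOf s = 2 → g * s = s * g → e₄ g = 1

namespace LH
variable {L : Type*} [Group L] {p q a b : ℕ} {ε : ℤ} (h : LH L p q a b ε)
include h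

theorem ee : ε * ε = 1 := by rcases h.eps with e | e <;> simp [e]
theorem hQ : ε * q = 2 * (ε * b) - 1 := by
  rw [h.hq, h.hb]; linear_combination (-1) * h.ee
theorem hQa : ε * q - 1 = 4 * a * ε := by
  rw [h.hq]; linear_combination h.ee

theorem pp_two [Finite L] {g : L} (hg : 2 ∣ orderOf g) : orderOf (pp 2 g) = 2 := by
  refine orderOf_eq_two (fun h1 => pp_eq_one_iff.mp h1 hg) ?_
  obtain ⟨k, hk⟩ := PElt.iff_pow.mp (pElt_pp (p := 2) g)
  exact h.sq_of_pow_four hk

theorem gam_even [Fintype L] {s : L} (hs : orderOf s = 2) {g : L} (hg : 2 ∣ orderOf g) :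
    gam s s g = 2 * a := by
  classical
  rw [gam_eq_card hs fun u hu => h.conj _ _ hs hu]
  obtain ⟨z, hz⟩ : ∃ z, z = pp 2 g := ⟨_, rfl⟩
  have hz2 : orderOf z = 2 := hz ▸ h.pp_two hg
  obtain ⟨hc, x, hx, hxa, hcase⟩ := h.exists_cyc hz2
  have hgz : g ∈ C{z} := hz ▸ mem_centralizer_singleton_iff.mpr (commute_pp (Commute.refl g))
  have hxz : x ∈ C{z} := by
    rw [← hxa]; exact mem_centralizer_singleton_iff.mpr (Commute.self_pow x a)
  have hle : zpowers x ≤ C{z} := zpowers_le.mpr hxz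
  have huniq : ∀ u ∈ zpowers x, orderOf u = 2 → u = z := by
    intro u hu hu2
    obtain ⟨k, rfl⟩ := mem_powers_iff_mem_zpowers.mpr hu
    simp only at hu2 ⊢
    have h1 : 2 * a ∣ k * 2 := by
      rw [← hx, orderOf_dvd_iff_pow_eq_one, pow_mul, ← hu2, pow_orderOf_eq_one]
    obtain ⟨m, rfl⟩ : a ∣ k := Nat.dvd_of_mul_dvd_mul_left two_pos (by rwa [mul_comm k] at h1)
    rw [pow_mul, hxa] at hu2 ⊢
    exact ((mem_zpowers_two (sq_of_two hz2)).mp (pow_mem (mem_zpowers z) m)).resolve_left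
      (ne_one_of_two hu2)
  -- `g` lies in `⟨x⟩` or is the involution `z`
  have hgx : g ∈ zpowers x := by
    rcases hcase g hgz with h1 | ⟨-, h1, -⟩
    · exact h1
    · have : g = z := by
        rw [hz, pp_of_pElt (PElt.iff_pow.mpr ⟨1, by rw [pow_one, pow_two, h1]⟩)]
      rw [this, ← hxa]; exact pow_mem (mem_zpowers x) a
  have hiff : ∀ u : L, (orderOf u = 2 ∧ orderOf (u * g) = 2) ↔ (u ∈ C{z} ∧ u ∉ zpowers x) := by
    intro u
    constructor
    · rintro ⟨h1, h2⟩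
      have hinv := inverts_of_two h1 (sq_of_two h2)
      refine ⟨?_, fun hu => ?_⟩
      · have := pp_conj (p := 2) u g
        rw [hinv, pp_inv, ← hz, inv_of_two hz2] at this
        rw [mem_centralizer_singleton_iff]
        calc u * z = u * z * u⁻¹ * u := by group
          _ = z * u := by rw [← this]
      · have e1 := huniq u hu h1
        have e2 := huniq _ (mul_mem hu hgx) h2
        rw [e1] at e2
        have : g = 1 := by simpa using e2
        rw [this] at hg; simp at hg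
    · rintro ⟨h1, h2⟩
      have h3 : u * g ∉ zpowers x := fun k => h2 (by simpa using mul_mem k (inv_mem hgx))
      refine ⟨orderOf_eq_two (fun k => h2 (k ▸ one_mem _)) ((hcase u h1).resolve_left h2).2.1,
        orderOf_eq_two (fun k => h3 (k ▸ one_mem _))
          ((hcase _ (mul_mem h1 hgz)).resolve_left h3).2.1⟩
  have hcard : Nat.card {u : L // u ∈ C{z} ∧ u ∉ zpowers x} + Nat.card (zpowers x) = ♯C{z} := by
    have e1 : Nat.card {u : L // u ∈ C{z} ∧ u ∉ zpowers x} =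
        ((C{z} : Set L) \ (zpowers x : Set L)).ncard := rfl
    have e2 : Nat.card (zpowers x) = (zpowers x : Set L).ncard := rfl
    have e3 : ♯C{z} = (C{z} : Set L).ncard := rfl
    rw [e1, e2, e3, Set.ncard_diff_add_ncard_of_subset hle]
  rw [Nat.card_congr (Equiv.subtypeEquivRight hiff)]
  rw [Nat.card_zpowers, hx, hc] at hcard
  have : Nat.card {u : L // u ∈ C{z} ∧ u ∉ zpowers x} = 2 * a := by omega
  rw [this]; push_cast; ring

theorem card_cl_two [Fintype L] {s : L} (hs : orderOf s = 2) : (cl s).card = b * q := by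
  rw [card_cl]
  have h1 := (C{s}).card_mul_index
  rw [h.card_C hs, h.card] at h1
  exact Nat.eq_of_mul_eq_mul_left (by have := h.a_pos; omega : 0 < 4 * a) (by rw [h1]; ring)

theorem inner_gam [Fintype L] {s : L} (hs : orderOf s = 2) {X : L → ℂ} (hX : SIrr X)
    (h1 : X s = 1) : classInner X (gam s s) = b * q / (4 * a) * (1 / X 1) := by
  rw [hX.inner_gam, h.card_cl_two hs, h.card, h1]
  have := h.a_pos; have := h.b_pos; have := h.three_le
  have ha : (a : ℂ) ≠ 0 := by exact_mod_cast (by omega)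
  have hb : (b : ℂ) ≠ 0 := by exact_mod_cast (by omega)
  have hq : (q : ℂ) ≠ 0 := by exact_mod_cast (by omega)
  push_cast
  field_simp

theorem LC_of_LB [Fintype L] {M : Ideal AlgInt} {e₂ e₃ e₄ : L → ℂ} (hB : LB M e₂ e₃ e₄)
    (d₄ : e₄ 1 = (ε * q : ℤ))
    (st : ∀ g s : L, g ≠ 1 → orderOf s = 2 → g * s = s * g → e₄ g = 1) :
    LC M e₂ e₃ e₄ (ε * q) (ε * b) := by
  obtain ⟨s, hs⟩ := h.exists_inv
  obtain ⟨v₂, v₃, v₄⟩ := hB.ev s (hs ▸ dvd_rfl)
  have h1 : classInner (o L + e₂ + e₃ + e₄) (gam s s) = 2 * a := by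
    rw [inner_congr_right (ψ' := fun _ => ((2 * a : ℕ) : ℂ)), inner_const_right, hB.inner_sum_one]
    · simp
    · intro g hg
      rw [h.gam_even hs (by_contra fun k => hg (hB.sum_od k))]; simp
  rw [classInner_add_left, classInner_add_left, classInner_add_left, h.inner_gam hs sirr_one rfl,
    h.inner_gam hs hB.s₂ v₂, h.inner_gam hs hB.s₃ v₃, h.inner_gam hs hB.s₄ v₄, d₄] at h1
  have h2 := hB.od 1 (by simp)
  rw [d₄] at h2
  have n₂ := hB.s₂.apply_one_ne_zero
  have n₃ := hB.s₃.apply_one_ne_zero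
  have := h.a_pos; have := h.b_pos; have := h.three_le
  have ha : (a : ℂ) ≠ 0 := by exact_mod_cast (by omega)
  have hb : (b : ℂ) ≠ 0 := by exact_mod_cast (by omega)
  have hq : (q : ℂ) ≠ 0 := by exact_mod_cast (by omega)
  have hq' : (q : ℂ) = 4 * a + ε := by exact_mod_cast h.hq
  have hb' : (b : ℂ) = 2 * a + ε := by exact_mod_cast h.hb
  have hee : (ε : ℂ) * ε = 1 := by exact_mod_cast h.ee
  have he : (ε : ℂ) ≠ 0 := fun k => by simp [k] at hee
  push_cast at h1 h2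
  have hs : e₂ 1 + e₃ 1 = -2 * (ε * b) := by
    rw [hb']; rw [hq'] at h2; linear_combination h2 + hee
  have hp : e₂ 1 * e₃ 1 = b * b := by
    have h3 : (b * q + ε * b - 8 * a ^ 2) * (e₂ 1 * e₃ 1) = -(b * q) * (e₂ 1 + e₃ 1) := by
      have e : (1 : ℂ) / (ε * q) = ε / q := by field_simp; linear_combination -hee
      rw [e] at h1
      field_simp at h1
      linear_combination h1
    rw [hs] at h3
    have h4 : (b : ℂ) * q + ε * b - 8 * a ^ 2 = 2 * ε * q := by
      rw [hb', hq']; ring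
    rw [h4] at h3
    apply mul_left_cancel₀ (mul_ne_zero (mul_ne_zero two_ne_zero he) hq)
    linear_combination h3
  refine ⟨hB, ?_, ?_, d₄, st⟩
  · have : (e₂ 1 + ε * b) ^ 2 = 0 := by
      linear_combination (e₂ 1) * hs - hp + (b : ℂ) ^ 2 * hee
    have := pow_eq_zero_iff two_ne_zero |>.mp this
    push_cast; linear_combination this
  · have : (e₃ 1 + ε * b) ^ 2 = 0 := by
      linear_combination (e₃ 1) * hs - hp + (b : ℂ) ^ 2 * hee
    have := pow_eq_zero_iff two_ne_zero |>.mp this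
    push_cast; linear_combination this

theorem exists_LC [Fintype L] (hSt : HasSt L q ε) (M : Ideal AlgInt) [PM 2 M] :
    ∃ e₂ e₃ e₄ : L → ℂ, LC M e₂ e₃ e₄ (ε * q) (ε * b) := by
  obtain ⟨P⟩ : Nonempty (Sylow 2 L) := inferInstance
  obtain ⟨e₂, e₃, e₄, hB⟩ := exists_LB M P (h.klein P) h.conj
  obtain ⟨e, he, he1, hev⟩ := hSt
  have hee : (ε : ℂ) * ε = 1 := by exact_mod_cast h.ee
  have hs : SIrr ((ε : ℂ) • e) := by
    rcases h.eps with rfl | rfl
    · simpa using sirr_of_irr he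
    · simpa using (sirr_of_irr he).neg
  have d₄ : ((ε : ℂ) • e) 1 = (ε * q : ℤ) := by simp [he1]
  have st : ∀ g s : L, g ≠ 1 → orderOf s = 2 → g * s = s * g → ((ε : ℂ) • e) g = 1 := by
    intro g s h1 h2 h3; simp [hev g s h1 h2 h3, hee]
  have hev' : ∀ g : L, 2 ∣ orderOf g → ((ε : ℂ) • e) g = 1 := fun g hg =>
    st g _ (by rintro rfl; simp at hg) (h.pp_two hg) (commute_pp (Commute.refl g))
  generalize (ε : ℂ) • e = E at *
  have h0 : classInner (o L - E) (o L + e₂ + e₃ + e₄) = 0 := by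
    refine inner_eq_zero_of_supp fun g => ?_
    by_cases hg : 2 ∣ orderOf g
    · left; simp [hev' g hg]
    · right; exact hB.sum_od hg
  have h1 : classInner E (o L) = 0 := by
    by_contra k
    have h3 := h.three_le
    rcases hs.eq_or_eq_neg sirr_one k with k | k <;> rw [k] at d₄ <;>
      simp only [Pi.neg_apply] at d₄ <;> norm_cast at d₄ <;> rcases h.eps with e | e <;>
      rw [e] at d₄ <;> omega
  simp only [classInner_sub_left, classInner_add_right, hB.o₂, hB.o₃, hB.o₄, h1,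
    classInner_one_one] at h0
  obtain ⟨s, hs2⟩ := h.exists_inv
  obtain ⟨v₂, v₃, v₄⟩ := hB.ev s (hs2 ▸ dvd_rfl)
  have v := hev' s (hs2 ▸ dvd_rfl)
  by_cases k₂ : classInner E e₂ = 0
  · by_cases k₃ : classInner E e₃ = 0
    · have k₄ : classInner E e₄ ≠ 0 := fun k => by simp [k₂, k₃, k] at h0
      obtain rfl := sirr_eq_of_apply hs hB.s₄ k₄ (v.trans v₄.symm) (by simp [v])
      exact ⟨_, _, _, h.LC_of_LB hB d₄ st⟩
    · obtain rfl := sirr_eq_of_apply hs hB.s₃ k₃ (v.trans v₃.symm) (by simp [v])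
      exact ⟨_, _, _, h.LC_of_LB hB.swap₃₄ d₄ st⟩
  · obtain rfl := sirr_eq_of_apply hs hB.s₂ k₂ (v.trans v₂.symm) (by simp [v])
    exact ⟨_, _, _, h.LC_of_LB hB.swap₂₃.swap₃₄ d₄ st⟩

end LH

end H27.JT
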