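import Mathlib
import Cfsg.Agent.H27.JTLc
import Cfsg.Agent.H17.BS8

/-! An involution `t` with `C(t) = ⟨t⟩ × L`: induction from the `2`-section of `t`. -/

set_option autoImplicit false
open Cfsg H4 H5 H17 H24 Subgroup
open scoped ComplexConjugate

namespace H27.JT

theorem blockPart_infl {H K : Type*} [Group H] [Fintype H] [Group K] [Fintype K] {π : H →* K}
    {z : H} (h : CQ π z) (M : Ideal AlgInt) [PM 2 M] {F : K → ℂ} (hF : IsClassFunction K F)
    (k : H) : blockPart (principalBlock M H) (fun g => F (π g)) k =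
      blockPart (principalBlock M K) F (π k) := by
  have e : (fun g => F (π g)) = ∑ ζ : Irr K, classInner F ζ.1 • (infl π h.surj ζ).1 := by
    ext g
    rw [hF.apply_eq_sum (π g), Finset.sum_apply]
    rfl
  rw [e, blockPart_sum, Finset.sum_apply, blockPart_apply]
  refine Finset.sum_congr rfl fun ζ _ => ?_
  rw [blockPart_smul, blockPart_irr, h.ind_infl]
  simp only [Pi.smul_apply, smul_eq_mul, infl_apply]
  ring

theorem principal_mem_ZS (G : Type*) [Group G] [Finite G] {p : ℕ} (M : Ideal AlgInt) [PM p M] :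
    ind (principalBlock M G) ∈ ZS G M := by
  rw [principalBlock_eq]; exact ind_mem_ZS (isPBlock_blockOf _)

/-- `C(t) = ⟨t⟩ × ι(L)` with projection `π` -/
structure JH {G L : Type*} [Group G] [Group L] (t : G) (ι : L →* G) (π : C{t} →* L) : Prop where
  ord : orderOf t = 2
  mem : ∀ y, ι y ∈ C{t}
  ne : ∀ y, ι y ≠ t
  πι : ∀ y (h : ι y ∈ C{t}), π ⟨ι y, h⟩ = y
  πt : ∀ h, π ⟨t, h⟩ = 1
  dec : ∀ h : C{t}, (h : G) = ι (π h) ∨ (h : G) = t * ι (π h)

section Defs
variable {G L : Type*} [Group G] [Group L] {t : G} (ι : L →* G) (π : C{t} →* L)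

open Classical in
/-- `θ` moved to the coset `t L` -/
noncomputable def Ps (θ : L → ℂ) : C{t} → ℂ := fun h => if (h : G) = ι (π h) then 0 else 2 * θ (π h)

/-- the induced class function -/
noncomputable def Th [Fintype G] (θ : L → ℂ) : G → ℂ := indFun C{t} (Ps ι π θ)

theorem Th_classFun [Fintype G] (θ : L → ℂ) : IsClassFunction G (Th ι π θ) := indFun_classFun _ _

end Defs

namespace JH
variable {G L : Type*} [Group G] [Group L] {t : G} {ι : L →* G} {π : C{t} →* L} (h : JH t ι π)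
include h

theorem sq : t * t = 1 := sq_of_two h.ord
theorem comm (y : L) : ι y * t = t * ι y := mem_centralizer_singleton_iff.mp (h.mem y)
theorem inj : Function.Injective ι := fun a b e => by
  rw [← h.πι a (h.mem a), ← h.πι b (h.mem b)]; congr 2
theorem tmem (y : L) : t * ι y ∈ C{t} := mul_mem (selfC t).2 (h.mem y)
theorem π_tι (y : L) (k : t * ι y ∈ C{t}) : π ⟨t * ι y, k⟩ = y := by
  have : (⟨t * ι y, k⟩ : C{t}) = selfC t * ⟨ι y, h.mem y⟩ := rfl
  rw [this, map_mul, h.πι, h.πt, one_mul]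
theorem tι_ne (y z : L) : t * ι y ≠ ι z := fun e =>
  h.ne (z * y⁻¹) (by rw [map_mul, map_inv, ← e]; group)
theorem cases {g : G} (hg : g ∈ C{t}) : ∃ y, g = ι y ∨ g = t * ι y := ⟨_, h.dec ⟨g, hg⟩⟩
theorem orderOf_ι (y : L) : orderOf (ι y) = orderOf y := orderOf_injective ι h.inj y

theorem cq : CQ π (selfC t) where
  surj y := ⟨⟨ι y, h.mem y⟩, h.πι _ _⟩
  two := by rw [← h.ord]; exact (Subgroup.orderOf_coe _).symm
  central := commute_self_centralizer t
  ker g := by
    constructor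
    · intro e
      rcases h.dec g with k | k <;> rw [e, map_one] at k
      · exact Or.inl (Subtype.ext k)
      · exact Or.inr (Subtype.ext (by simpa using k))
    · rintro (rfl | rfl)
      · exact map_one π
      · exact h.πt _

theorem sum_C [Fintype C{t}] [Fintype L] (F : C{t} → ℂ) :
    ∑ g, F g = ∑ y, F ⟨ι y, h.mem y⟩ + ∑ y, F ⟨t * ι y, h.tmem y⟩ := by
  let f : L ⊕ L → C{t} := Sum.elim (fun y => ⟨ι y, h.mem y⟩) fun y => ⟨t * ι y, h.tmem y⟩
  have hf : Function.Bijective f := by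
    constructor
    · rintro (a | a) (b | b) e <;> have e' := congrArg Subtype.val e <;> simp only [f,
        Sum.elim_inl, Sum.elim_inr] at e'
      · rw [h.inj e']
      · exact absurd e'.symm (h.tι_ne _ _)
      · exact absurd e' (h.tι_ne _ _)
      · rw [h.inj (mul_left_cancel e')]
    · intro g
      rcases h.dec g with k | k
      · exact ⟨Sum.inl (π g), Subtype.ext k.symm⟩
      · exact ⟨Sum.inr (π g), Subtype.ext k.symm⟩
  rw [← Fintype.sum_bijective f hf (fun x => F (f x)) F fun _ => rfl, Fintype.sum_sum_type]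
  rfl

theorem card_C [Finite G] [Finite L] : ♯C{t} = 2 * Nat.card L := by
  have := Fintype.ofFinite C{t}
  have := Fintype.ofFinite L
  exact h.cq.card

theorem Ps_ι (θ : L → ℂ) (y : L) (k : ι y ∈ C{t}) : Ps ι π θ ⟨ι y, k⟩ = 0 := by
  simp [Ps, h.πι]

theorem Ps_tι (θ : L → ℂ) (y : L) (k : t * ι y ∈ C{t}) : Ps ι π θ ⟨t * ι y, k⟩ = 2 * θ y := by
  simp [Ps, h.π_tι, h.tι_ne]

theorem Ps_ne_zero {θ : L → ℂ} {g : C{t}} (hg : Ps ι π θ g ≠ 0) :
    (g : G) = t * ι (π g) ∧ θ (π g) ≠ 0 := by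
  by_cases k : (g : G) = ι (π g)
  · simp [Ps, ← k] at hg
  · exact ⟨(h.dec g).resolve_left k, fun e => hg (by simp [Ps, e])⟩

open Classical in
/-- the sign character of `C(t)` -/
noncomputable def sg : C{t} →* ℂ where
  toFun g := if (g : G) = ι (π g) then 1 else -1
  map_one' := by simp
  map_mul' a b := by
    have hc := h.comm
    have hn : ∀ g : C{t}, (∃ y, (g : G) = t * ι y) → ¬ (g : G) = ι (π g) := fun g ⟨y, e⟩ k =>
      h.tι_ne _ _ (e.symm.trans k)
    rcases h.dec a with ha | ha <;> rcases h.dec b with hb | hb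
    · rw [if_pos ha, if_pos hb, if_pos, one_mul]
      rw [map_mul, map_mul, ← ha, ← hb]; rfl
    · rw [if_pos ha, if_neg (hn b ⟨_, hb⟩), if_neg (hn _ ⟨π a * π b, ?_⟩), one_mul]
      rw [Subgroup.coe_mul, map_mul, ← mul_assoc, ← hc, mul_assoc, ← ha, ← hb]
    · rw [if_neg (hn a ⟨_, ha⟩), if_pos hb, if_neg (hn _ ⟨π a * π b, ?_⟩), mul_one]
      rw [Subgroup.coe_mul, map_mul, ← mul_assoc, ← ha, ← hb]
    · rw [if_neg (hn a ⟨_, ha⟩), if_neg (hn b ⟨_, hb⟩), if_pos]
      · simp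
      · rw [map_mul, map_mul, Subgroup.coe_mul]
        generalize π a = y at *
        generalize π b = z at *
        rw [ha, hb, mul_assoc, ← mul_assoc (ι y), hc, ← mul_assoc, ← mul_assoc, h.sq, one_mul]

theorem Ps_eq (θ : L → ℂ) : Ps ι π θ = (fun g => θ (π g)) - h.sg * fun g => θ (π g) := by
  ext g
  simp only [Ps, sg, Pi.sub_apply, Pi.mul_apply, MonoidHom.coe_mk, OneHom.coe_mk]
  split_ifs <;> ring

theorem Ps_gen {θ : L → ℂ} (hθ : IsGeneralizedCharacter L θ) :
    IsGeneralizedCharacter C{t} (Ps ι π θ) := by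
  rw [h.Ps_eq]
  exact (hθ.comp π).sub ((isIrrCharacter_monoidHom h.sg).isGen.mul (hθ.comp π))

theorem Ps_classFun {θ : L → ℂ} (hθ : IsClassFunction L θ) :
    IsClassFunction C{t} (Ps ι π θ) := by
  rw [h.Ps_eq]
  exact (hθ.comp π).sub ((isIrrCharacter_monoidHom h.sg).classFun.mul (hθ.comp π))

theorem F_classFun {χ : G → ℂ} (hχ : IsClassFunction G χ) :
    IsClassFunction L fun y => χ (t * ι y) := by
  intro y k
  simp only [map_mul, map_inv]
  rw [← hχ (t * ι y) (ι k), ← mul_assoc, ← mul_assoc, ← h.comm, mul_assoc (ι k) t]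

theorem even_tι [Finite G] (y : L) : 2 ∣ orderOf (t * ι y) := by
  by_contra k
  obtain ⟨m, hm⟩ := Nat.odd_iff.mpr (Nat.two_dvd_ne_zero.mp k)
  have h1 := pow_orderOf_eq_one (t * ι y)
  rw [Commute.mul_pow (h.comm y).symm, hm, pow_succ t, pow_mul, pow_two, h.sq, one_pow, one_mul,
    ← map_pow] at h1
  exact h.tι_ne _ 1 (h1.trans (map_one ι).symm)

theorem pp_tι [Finite G] {y : L} (hy : ¬ 2 ∣ orderOf y) : pp 2 (t * ι y) = t :=
  pp_mul (PElt.of_two h.ord) (by rwa [h.orderOf_ι]) (h.comm y).symm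

theorem eq_of_pp [Finite G] [Finite L] {g : C{t}} (hg : pp 2 (g : G) = t) :
    (g : G) = t * ι (π g) := by
  refine (h.dec g).resolve_left fun k => ?_
  rw [k, pp_map] at hg
  exact h.ne _ hg

variable [Fintype G]

theorem Th_gen {θ : L → ℂ} (hθ : IsGeneralizedCharacter L θ) :
    IsGeneralizedCharacter G (Th ι π θ) := (h.Ps_gen hθ).indFun

theorem Th_odd (θ : L → ℂ) {g : G} (hg : ¬ 2 ∣ orderOf g) : Th ι π θ g = 0 := by
  refine indFun_eq_zero _ _ fun x hx => by_contra fun k => hg ?_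
  rw [orderOf_eq_of_isConj hx, (h.Ps_ne_zero k).1]
  exact h.even_tι _

theorem Th_apply {θ : L → ℂ} (hθ : IsClassFunction L θ) (h0 : ∀ y, 2 ∣ orderOf y → θ y = 0)
    {y : L} (hy : ¬ 2 ∣ orderOf y) : Th ι π θ (t * ι y) = 2 * θ y := by
  rw [← h.Ps_tι θ y (h.tmem y)]
  refine indFun_apply_of_TI C{t} {g | pp 2 g = t} ?_ (h.Ps_classFun hθ) ?_ ⟨_, h.tmem y⟩
    (h.pp_tι hy) ?_
  · intro g hg u hu hu'
    rw [Set.mem_setOf_eq, pp_conj, hu] at hu'
    exact absurd (mem_centralizer_singleton_iff.mpr (mul_inv_eq_iff_eq_mul.mp hu')) hg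
  · intro x hx
    by_contra k
    obtain ⟨k1, k2⟩ := h.Ps_ne_zero k
    exact hx (by rw [Set.mem_setOf_eq, k1]; exact h.pp_tι fun e => k2 (h0 _ e))
  · intro e
    exact h.tι_ne y 1 (by simpa using congrArg Subtype.val e)

variable [Fintype L]

theorem Th_inner (θ : L → ℂ) {χ : G → ℂ} (hχ : IsClassFunction G χ) :
    classInner (Th ι π θ) χ = classInner θ fun y => χ (t * ι y) := by
  have := Fintype.ofFinite C{t}
  rw [Th, H4.classInner_indFun_left _ _ hχ, classInner_def, classInner_def, h.sum_C, h.card_C]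
  simp only [h.Ps_ι, h.Ps_tι, zero_mul, Finset.sum_const_zero, zero_add, mul_assoc,
    ← Finset.mul_sum]
  have := H4.card_ne_zero L
  push_cast
  field_simp

theorem inner_Th (θ : L → ℂ) {χ : G → ℂ} (hχ : IsClassFunction G χ) :
    classInner χ (Th ι π θ) = classInner (fun y => χ (t * ι y)) θ := by
  rw [← conj_classInner, h.Th_inner θ hχ, conj_classInner]

theorem Th_Th {θ θ' : L → ℂ} (h0 : ∀ y, 2 ∣ orderOf y → θ y = 0) (hθ : IsClassFunction L θ')
    (h0' : ∀ y, 2 ∣ orderOf y → θ' y = 0) :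
    classInner (Th ι π θ) (Th ι π θ') = 2 * classInner θ θ' := by
  rw [h.Th_inner θ (Th_classFun _ _ _), inner_congr_right (ψ' := (2 : ℂ) • θ'),
    classInner_smul_right, map_ofNat]
  intro y hy
  rw [h.Th_apply hθ h0' fun k => hy (h0 y k)]; rfl

theorem blockPart_tι (M : Ideal AlgInt) [PM 2 M] {ϑ : G → ℂ} (hϑ : IsClassFunction G ϑ) {y : L}
    (hy : ¬ 2 ∣ orderOf y) : blockPart (principalBlock M G) ϑ (t * ι y) =
      blockPart (principalBlock M L) (fun y => ϑ (t * ι y)) y := by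
  have := Fintype.ofFinite C{t}
  have e := second_main_principal (M := M) (h := ⟨t * ι y, h.tmem y⟩) (h.pp_tι hy) hϑ
  rw [e, blockPart_congr (principal_mem_ZS _ M) (ϑ' := fun g => ϑ (t * ι (π g))),
    blockPart_infl h.cq M (h.F_classFun hϑ), h.π_tι]
  intro g hg
  rw [← h.eq_of_pp (pp_eq_of_isConj (h.pp_tι hy) hg)]

/-- products of two involutions in the section of `t` -/
theorem gam_tι (hG : ∀ u : G, orderOf u = 2 → IsConj t u) {s : L} (hs : orderOf s = 2)
    (hL : ∀ u : L, orderOf u = 2 → IsConj s u) {y : L} (hy : ¬ 2 ∣ orderOf y) :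
    gam t t (t * ι y) = 2 * gam s s y := by
  rw [gam_eq_card h.ord hG, gam_eq_card hs hL]
  have ho : ∀ z : L, z * z = 1 → orderOf (t * ι z) = 2 := fun z hz =>
    orderOf_eq_two (fun k => h.tι_ne z 1 (by simpa using k)) (by
      rw [mul_assoc, ← mul_assoc (ι z), h.comm, ← mul_assoc, ← mul_assoc, h.sq, one_mul, ← map_mul,
        hz, map_one])
  have ho' : ∀ z : L, orderOf (t * ι z) = 2 → z * z = 1 := fun z hz => by
    have := sq_of_two hz
    rw [mul_assoc, ← mul_assoc (ι z), h.comm, ← mul_assoc, ← mul_assoc, h.sq, one_mul,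
      ← map_mul] at this
    exact h.inj (by simpa using this)
  have e1 : ∀ z : L, ι z * (t * ι y) = t * ι (z * y) := fun z => by
    rw [← mul_assoc, h.comm, map_mul, mul_assoc]
  have e2 : ∀ z : L, t * ι z * (t * ι y) = ι (z * y) := fun z => by
    rw [mul_assoc, e1, ← mul_assoc, h.sq, one_mul]
  have hodd : ∀ z : L, orderOf z = 2 → z * y ≠ 1 := fun z hz k => hy (by
    rw [eq_inv_of_mul_eq_one_right k, orderOf_inv, hz])
  let f : {u : L // orderOf u = 2 ∧ orderOf (u * y) = 2} ⊕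
      {u : L // orderOf u = 2 ∧ orderOf (u * y) = 2} →
      {u : G // orderOf u = 2 ∧ orderOf (u * (t * ι y)) = 2} :=
    Sum.elim (fun u => ⟨ι u.1, by rw [h.orderOf_ι, u.2.1], by rw [e1, ho _ (sq_of_two u.2.2)]⟩)
      fun u => ⟨t * ι u.1, ho _ (sq_of_two u.2.1), by rw [e2, h.orderOf_ι, u.2.2]⟩
  have hf : Function.Bijective f := by
    constructor
    · rintro (a | a) (b | b) e <;> have e' := congrArg Subtype.val e <;> simp only [f,
        Sum.elim_inl, Sum.elim_inr] at e'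
      · rw [Subtype.ext (h.inj e')]
      · exact absurd e'.symm (h.tι_ne _ _)
      · exact absurd e' (h.tι_ne _ _)
      · rw [Subtype.ext (h.inj (mul_left_cancel e'))]
    · rintro ⟨u, h1, h2⟩
      have hu : u ∈ C{t} := by
        have := pp_conj (p := 2) u (t * ι y)
        rw [inverts_of_two h1 (sq_of_two h2), pp_inv, h.pp_tι hy, inv_of_two h.ord] at this
        exact mem_centralizer_singleton_iff.mpr (mul_inv_eq_iff_eq_mul.mp this.symm)
      obtain ⟨z, rfl | rfl⟩ := h.cases hu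
      · rw [h.orderOf_ι] at h1
        rw [e1] at h2
        exact ⟨Sum.inl ⟨z, h1, orderOf_eq_two (hodd z h1) (ho' _ h2)⟩, rfl⟩
      · rw [e2, h.orderOf_ι] at h2
        refine ⟨Sum.inr ⟨z, orderOf_eq_two ?_ (ho' _ h1), h2⟩, rfl⟩
        rintro rfl
        exact hy (by rw [← h2, one_mul])
  rw [← Nat.card_eq_of_bijective f hf, Nat.card_sum]
  push_cast; ring

end JH

end H27.JT
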