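import Mathlib
import Cfsg.Agent.H27.JTLc

/-! Three generalized characters with Gram matrix `(4; 2)`. -/

set_option autoImplicit false
open Cfsg H4 H5 H17 H24 Subgroup
open scoped ComplexConjugate

namespace H27.JT

variable {G : Type*} [Group G] [Fintype G]

theorem sirr_inner_ne {X Y η : G → ℂ} (hX : SIrr X) (hY : SIrr Y) (h0 : classInner X η = 0)
    (h1 : classInner Y η ≠ 0) : classInner X Y = 0 := by
  by_contra k
  rcases hX.eq_or_eq_neg hY k with rfl | rfl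
  · exact h1 h0
  · rw [classInner_neg_left, neg_eq_zero] at h0; exact h1 h0

theorem sirr_eq_of_inner {X Y η : G → ℂ} (hX : SIrr X) (hY : SIrr Y) (h0 : classInner X η = 1)
    (h1 : classInner Y η = 1) (k : classInner X Y ≠ 0) : X = Y := by
  rcases hX.eq_or_eq_neg hY k with rfl | rfl
  · rfl
  · rw [classInner_neg_left, h1] at h0; norm_num at h0

theorem split_two {η X Y : G → ℂ} (hη : IsGeneralizedCharacter G η) (h3 : classInner η η = 3)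
    (hX : SIrr X) (hY : SIrr Y) (h1 : classInner X η = 1) (h2 : classInner Y η = 1)
    (hXY : classInner X Y = 0) :
    ∃ Z, SIrr Z ∧ η = X + Y + Z ∧ classInner Z η = 1 ∧ classInner Z X = 0 ∧ classInner Z Y = 0 := by
  have hYX := classInner_comm_of_eq_zero hXY
  have h1' := (hX.inner_comm hη).symm.trans h1
  have h2' := (hY.inner_comm hη).symm.trans h2
  refine ⟨η - X - Y, ⟨(hη.sub hX.gen).sub hY.gen, ?_⟩, by abel, ?_, ?_, ?_⟩ <;>
    simp only [classInner_sub_left, classInner_sub_right, h3, h1, h2, h1', h2', hXY, hYX, hX.norm,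
      hY.norm] <;> norm_num

theorem split_one {η X : G → ℂ} (hη : IsGeneralizedCharacter G η) (h3 : classInner η η = 3)
    (hX : SIrr X) (h1 : classInner X η = 1) :
    ∃ Y Z, SIrr Y ∧ SIrr Z ∧ η = X + Y + Z ∧ classInner Y η = 1 ∧ classInner Z η = 1 ∧
      classInner Y X = 0 ∧ classInner Z X = 0 ∧ classInner Z Y = 0 := by
  have h1' := (hX.inner_comm hη).symm.trans h1
  have h2 : classInner (η - X) (η - X) = 2 := by rw [hX.norm_sub hη h1', h3]; norm_num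
  obtain ⟨Y, hY, hY1⟩ := exists_sirr_inner_eq_one (hη.sub hX.gen) (n := 1) (by norm_num)
    (by rw [h2]; norm_num)
  have hXY : classInner X Y = 0 := by
    refine sirr_inner_ne hX hY (η := η - X) ?_ ?_
    · exact classInner_comm_of_eq_zero (hX.inner_sub h1')
    · rw [hY.inner_comm (hη.sub hX.gen), hY1]; exact one_ne_zero
  have hY2 : classInner Y η = 1 := by
    rw [classInner_sub_left, hXY, sub_zero] at hY1
    rw [hY.inner_comm hη, hY1]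
  obtain ⟨Z, hZ, e, z1, z2, z3⟩ := split_two hη h3 hX hY h1 hY2 hXY
  exact ⟨Y, Z, hY, hZ, e, hY2, z1, classInner_comm_of_eq_zero hXY, z2, z3⟩

theorem common_aux {η' A B C : G → ℂ} (hB : SIrr B) (hC : SIrr C) (b : classInner B η' = 0)
    (c : classInner C η' = 0) (W : G → ℂ) (hW : SIrr W) (h : classInner W A = 0) :
    classInner W (A + B + C) = 0 ∨ classInner W η' = 0 := by
  by_cases k : classInner W η' = 0
  · exact Or.inr k
  · left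
    rw [classInner_add_right, classInner_add_right, h,
      classInner_comm_of_eq_zero (sirr_inner_ne hB hW b k),
      classInner_comm_of_eq_zero (sirr_inner_ne hC hW c k)]
    simp

theorem common_aux' {η' A B C : G → ℂ} (hη : IsGeneralizedCharacter G η')
    (h3 : classInner η' η' = 3) (hA : SIrr A) (hB : SIrr B) (hC : SIrr C)
    (hBA : classInner B A = 0) (hCA : classInner C A = 0) (hCB : classInner C B = 0)
    (a : classInner A η' = 1) (b : classInner B η' = 1) (c : classInner C η' = -1)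
    (h1 : (A + B + C) 1 = η' 1) : False := by
  obtain ⟨Z, hZ, e, z1, -, -⟩ := split_two hη h3 hA hB a b (classInner_comm_of_eq_zero hBA)
  have h2 : classInner (-C) Z = 1 := by
    rw [e, classInner_add_right, classInner_add_right, hCA, hCB] at c
    rw [classInner_neg_left]; linear_combination -c
  rw [e, ← hC.neg.eq_of_inner_eq_one hZ h2] at h1
  simp only [Pi.add_apply, Pi.neg_apply] at h1
  exact hC.apply_one_ne_zero (by linear_combination h1 / 2)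

theorem common {η η' : G → ℂ} (hη : IsGeneralizedCharacter G η) (h3 : classInner η η = 3)
    (hη' : IsGeneralizedCharacter G η') (h3' : classInner η' η' = 3) (h : classInner η η' = 1)
    (h1 : η 1 = η' 1) : ∃ X, SIrr X ∧ classInner X η = 1 ∧ classInner X η' = 1 ∧
      ∀ W, SIrr W → classInner W X = 0 → classInner W η = 0 ∨ classInner W η' = 0 := by
  obtain ⟨A, hA, a1⟩ := exists_sirr_inner_eq_one hη (n := 2) le_rfl (by rw [h3]; norm_num)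
  rw [← hA.inner_comm hη] at a1
  obtain ⟨B, C, hB, hC, e, b1, c1, hBA, hCA, hCB⟩ := split_one hη h3 hA a1
  have hAB := classInner_comm_of_eq_zero hBA
  have hAC := classInner_comm_of_eq_zero hCA
  have hBC := classInner_comm_of_eq_zero hCB
  have hs : classInner A η' + classInner B η' + classInner C η' = 1 := by
    rw [← h, e, classInner_add_left, classInner_add_left]
  have ca := hA.inner_cases hη' (n := 3) le_rfl (by rw [h3']; norm_num)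
  have cb := hB.inner_cases hη' (n := 3) le_rfl (by rw [h3']; norm_num)
  have cc := hC.inner_cases hη' (n := 3) le_rfl (by rw [h3']; norm_num)
  rw [← hA.inner_comm hη'] at ca
  rw [← hB.inner_comm hη'] at cb
  rw [← hC.inner_comm hη'] at cc
  rcases ca with ca | ca | ca <;> rcases cb with cb | cb | cb <;> rcases cc with cc | cc | cc <;>
    rw [ca, cb, cc] at hs <;> norm_num at hs
  · refine ⟨C, hC, c1, cc, fun W hW k => ?_⟩
    rw [e, show A + B + C = C + A + B by abel]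
    exact common_aux hA hB ca cb W hW k
  · refine ⟨B, hB, b1, cb, fun W hW k => ?_⟩
    rw [e, show A + B + C = B + A + C by abel]
    exact common_aux hA hC ca cc W hW k
  · refine ⟨A, hA, a1, ca, fun W hW k => ?_⟩
    rw [e]
    exact common_aux hB hC cb cc W hW k
  · exact (common_aux' hη' h3' hA hB hC hBA hCA hCB ca cb cc (e ▸ h1)).elim
  · exact (common_aux' hη' h3' hA hC hB hCA hBA hBC ca cc cb
      (by rw [← h1, e]; simp only [Pi.add_apply]; ring)).elim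
  · exact (common_aux' hη' h3' hB hC hA hCB hAB hAC cb cc ca
      (by rw [← h1, e]; simp only [Pi.add_apply]; ring)).elim

/-- a signed irreducible character, not `± 1`, with its multiplicities -/
structure Row (Θ₂ Θ₃ Θ₄ W : G → ℂ) (c₂ c₃ c₄ : ℤ) : Prop where
  s : SIrr W
  o : classInner W (o G) = 0
  c₂ : classInner W Θ₂ = c₂
  c₃ : classInner W Θ₃ = c₃
  c₄ : classInner W Θ₄ = c₄

theorem Row.neg {Θ₂ Θ₃ Θ₄ W : G → ℂ} {c₂ c₃ c₄ : ℤ} (h : Row Θ₂ Θ₃ Θ₄ W c₂ c₃ c₄) :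
    Row Θ₂ Θ₃ Θ₄ (-W) (-c₂) (-c₃) (-c₄) :=
  ⟨h.s.neg, by simp [classInner_neg_left, h.o], by simp [classInner_neg_left, h.c₂],
    by simp [classInner_neg_left, h.c₃], by simp [classInner_neg_left, h.c₄]⟩

theorem Row.eq {Θ₂ Θ₃ Θ₄ W : G → ℂ} {c₂ c₃ c₄ d₂ d₃ d₄ : ℤ} (h : Row Θ₂ Θ₃ Θ₄ W c₂ c₃ c₄)
    (h' : Row Θ₂ Θ₃ Θ₄ W d₂ d₃ d₄) : c₂ = d₂ ∧ c₃ = d₃ ∧ c₄ = d₄ :=
  ⟨by exact_mod_cast h.c₂.symm.trans h'.c₂, by exact_mod_cast h.c₃.symm.trans h'.c₃,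
    by exact_mod_cast h.c₄.symm.trans h'.c₄⟩

theorem eq_of_inner_one {W A B C Θ : G → ℂ} (hW : SIrr W) (hA : SIrr A) (hB : SIrr B)
    (hC : SIrr C) (e : Θ = o G + A + B + C) (h0 : classInner W (o G) = 0)
    (h1 : classInner W Θ = 1) (a : classInner A Θ = 1) (b : classInner B Θ = 1)
    (c : classInner C Θ = 1) : W = A ∨ W = B ∨ W = C := by
  by_contra k
  push Not at k
  have ha : classInner W A = 0 := by_contra fun x => k.1 (sirr_eq_of_inner hW hA h1 a x)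
  have hb : classInner W B = 0 := by_contra fun x => k.2.1 (sirr_eq_of_inner hW hB h1 b x)
  have hc : classInner W C = 0 := by_contra fun x => k.2.2 (sirr_eq_of_inner hW hC h1 c x)
  rw [e] at h1
  simp [classInner_add_right, h0, ha, hb, hc] at h1

theorem gram_cases {Θ₂ Θ₃ Θ₄ : G → ℂ} (g₂ : IsGeneralizedCharacter G Θ₂)
    (g₃ : IsGeneralizedCharacter G Θ₃) (g₄ : IsGeneralizedCharacter G Θ₄)
    (n₂ : classInner Θ₂ Θ₂ = 4) (n₃ : classInner Θ₃ Θ₃ = 4) (n₄ : classInner Θ₄ Θ₄ = 4)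
    (n₂₃ : classInner Θ₂ Θ₃ = 2) (n₂₄ : classInner Θ₂ Θ₄ = 2) (n₃₄ : classInner Θ₃ Θ₄ = 2)
    (o₂ : classInner Θ₂ (o G) = 1) (o₃ : classInner Θ₃ (o G) = 1) (o₄ : classInner Θ₄ (o G) = 1)
    (d₂ : Θ₂ 1 = 0) (d₃ : Θ₃ 1 = 0) (d₄ : Θ₄ 1 = 0) :
    (∃ X Y₂ Z₂ Y₃ Z₃ Y₄ Z₄, Θ₂ = o G + X + Y₂ + Z₂ ∧ Θ₃ = o G + X + Y₃ + Z₃ ∧
      Θ₄ = o G + X + Y₄ + Z₄ ∧ Row Θ₂ Θ₃ Θ₄ X 1 1 1 ∧ Row Θ₂ Θ₃ Θ₄ Y₂ 1 0 0 ∧
      Row Θ₂ Θ₃ Θ₄ Z₂ 1 0 0 ∧ Row Θ₂ Θ₃ Θ₄ Y₃ 0 1 0 ∧ Row Θ₂ Θ₃ Θ₄ Z₃ 0 1 0 ∧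
      Row Θ₂ Θ₃ Θ₄ Y₄ 0 0 1 ∧ Row Θ₂ Θ₃ Θ₄ Z₄ 0 0 1) ∨
    (∃ X A B Y₂ Y₃ Y₄, Θ₂ = o G + X + A + Y₂ ∧ Θ₃ = o G + X + B + Y₃ ∧
      Θ₄ = o G + A + B + Y₄ ∧ Row Θ₂ Θ₃ Θ₄ X 1 1 0 ∧ Row Θ₂ Θ₃ Θ₄ A 1 0 1 ∧
      Row Θ₂ Θ₃ Θ₄ B 0 1 1 ∧ Row Θ₂ Θ₃ Θ₄ Y₂ 1 0 0 ∧ Row Θ₂ Θ₃ Θ₄ Y₃ 0 1 0 ∧
      Row Θ₂ Θ₃ Θ₄ Y₄ 0 0 1) := by
  have go : IsGeneralizedCharacter G (o G) := sirr_one.gen
  have o₂' := (go.inner_comm g₂).trans o₂
  have o₃' := (go.inner_comm g₃).trans o₃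
  have o₄' := (go.inner_comm g₄).trans o₄
  have oo : classInner (o G) (o G) = 1 := classInner_one_one
  obtain ⟨η₂, rfl⟩ : ∃ η, Θ₂ = o G + η := ⟨Θ₂ - o G, by abel⟩
  obtain ⟨η₃, rfl⟩ : ∃ η, Θ₃ = o G + η := ⟨Θ₃ - o G, by abel⟩
  obtain ⟨η₄, rfl⟩ : ∃ η, Θ₄ = o G + η := ⟨Θ₄ - o G, by abel⟩
  replace g₂ : IsGeneralizedCharacter G η₂ := by simpa using g₂.sub go
  replace g₃ : IsGeneralizedCharacter G η₃ := by simpa using g₃.sub go
  replace g₄ : IsGeneralizedCharacter G η₄ := by simpa using g₄.sub go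
  simp only [classInner_add_left, classInner_add_right, oo, add_eq_left] at o₂ o₃ o₄ o₂' o₃' o₄'
  simp only [classInner_add_left, classInner_add_right, oo, o₂, o₃, o₄, o₂', o₃', o₄', add_zero,
    zero_add] at n₂ n₃ n₄ n₂₃ n₂₄ n₃₄
  replace n₂ : classInner η₂ η₂ = 3 := by linear_combination n₂
  replace n₃ : classInner η₃ η₃ = 3 := by linear_combination n₃
  replace n₄ : classInner η₄ η₄ = 3 := by linear_combination n₄
  simp only [Pi.add_apply] at d₂ d₃ d₄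
  obtain ⟨X, hX, x₂, x₃, hx⟩ := common g₂ n₂ g₃ n₃ (by linear_combination n₂₃)
    (by linear_combination d₂ - d₃)
  obtain ⟨A, hA, a₂, a₄, ha⟩ := common g₂ n₂ g₄ n₄ (by linear_combination n₂₄)
    (by linear_combination d₂ - d₄)
  obtain ⟨B, hB, b₃, b₄, hb⟩ := common g₃ n₃ g₄ n₄ (by linear_combination n₃₄)
    (by linear_combination d₃ - d₄)
  have mk : ∀ {W : G → ℂ} {c₂ c₃ c₄ : ℤ}, SIrr W → classInner W η₂ = c₂ → classInner W η₃ = c₃ →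
      classInner W η₄ = c₄ → (c₂ = 1 ∨ c₃ = 1 ∨ c₄ = 1) →
      Row (o G + η₂) (o G + η₃) (o G + η₄) W c₂ c₃ c₄ := by
    intro W c₂ c₃ c₄ hW w₂ w₃ w₄ hc
    have : classInner W (o G) = 0 := by
      apply classInner_comm_of_eq_zero
      rcases hc with rfl | rfl | rfl
      · exact sirr_inner_ne sirr_one hW o₂' (by simp [w₂])
      · exact sirr_inner_ne sirr_one hW o₃' (by simp [w₃])
      · exact sirr_inner_ne sirr_one hW o₄' (by simp [w₄])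
    exact ⟨hW, this, by simp [classInner_add_right, this, w₂],
      by simp [classInner_add_right, this, w₃], by simp [classInner_add_right, this, w₄]⟩
  have l : ∀ {x y : ℂ}, x = 0 ∨ y = 0 → x = 1 → y = (0 : ℤ) := fun k e => by
    simpa using k.resolve_left (by simp [e])
  have r : ∀ {x y : ℂ}, x = 0 ∨ y = 0 → y = 1 → x = (0 : ℤ) := fun k e => l k.symm e
  have c1 : ∀ {x : ℂ}, x = 1 → x = (1 : ℤ) := fun k => by simpa using k
  by_cases x₄ : classInner X η₄ = 0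
  · right
    have hXA := sirr_inner_ne hX hA x₄ (by simp [a₄])
    have hXB := sirr_inner_ne hX hB x₄ (by simp [b₄])
    have a₃ := l (hx A hA (classInner_comm_of_eq_zero hXA)) a₂
    have b₂ := r (hx B hB (classInner_comm_of_eq_zero hXB)) b₃
    have hAB := sirr_inner_ne hA hB (by simpa using a₃) (by simp [b₃])
    obtain ⟨Y₂, hY₂, e₂, y₂, y₂X, y₂A⟩ := split_two g₂ n₂ hX hA x₂ a₂ hXA
    obtain ⟨Y₃, hY₃, e₃, y₃, y₃X, y₃B⟩ := split_two g₃ n₃ hX hB x₃ b₃ hXB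
    obtain ⟨Y₄, hY₄, e₄, y₄, y₄A, y₄B⟩ := split_two g₄ n₄ hA hB a₄ b₄ hAB
    refine ⟨X, A, B, Y₂, Y₃, Y₄, by rw [e₂]; abel, by rw [e₃]; abel, by rw [e₄]; abel,
      mk hX (c1 x₂) (c1 x₃) (by simpa using x₄) (by simp), mk hA (c1 a₂) a₃ (c1 a₄) (by simp),
      mk hB b₂ (c1 b₃) (c1 b₄) (by simp),
      mk hY₂ (c1 y₂) (l (hx _ hY₂ y₂X) y₂) (l (ha _ hY₂ y₂A) y₂) (by simp),
      mk hY₃ (r (hx _ hY₃ y₃X) y₃) (c1 y₃) (l (hb _ hY₃ y₃B) y₃) (by simp),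
      mk hY₄ (r (ha _ hY₄ y₄A) y₄) (r (hb _ hY₄ y₄B) y₄) (c1 y₄) (by simp)⟩
  · left
    obtain rfl : X = A := sirr_eq_of_inner hX hA x₂ a₂ fun k =>
      x₄ ((ha X hX k).resolve_left (by simp [x₂]))
    obtain rfl : X = B := sirr_eq_of_inner hX hB x₃ b₃ fun k =>
      x₄ ((hb X hX k).resolve_left (by simp [x₃]))
    obtain ⟨Y₂, Z₂, hY₂, hZ₂, e₂, y₂, z₂, y₂X, z₂X, -⟩ := split_one g₂ n₂ hX x₂
    obtain ⟨Y₃, Z₃, hY₃, hZ₃, e₃, y₃, z₃, y₃X, z₃X, -⟩ := split_one g₃ n₃ hX x₃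
    obtain ⟨Y₄, Z₄, hY₄, hZ₄, e₄, y₄, z₄, y₄X, z₄X, -⟩ := split_one g₄ n₄ hX a₄
    refine ⟨X, Y₂, Z₂, Y₃, Z₃, Y₄, Z₄, by rw [e₂]; abel, by rw [e₃]; abel, by rw [e₄]; abel,
      mk hX (c1 x₂) (c1 x₃) (c1 a₄) (by simp),
      mk hY₂ (c1 y₂) (l (hx _ hY₂ y₂X) y₂) (l (ha _ hY₂ y₂X) y₂) (by simp),
      mk hZ₂ (c1 z₂) (l (hx _ hZ₂ z₂X) z₂) (l (ha _ hZ₂ z₂X) z₂) (by simp),
      mk hY₃ (r (hx _ hY₃ y₃X) y₃) (c1 y₃) (l (hb _ hY₃ y₃X) y₃) (by simp),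
      mk hZ₃ (r (hx _ hZ₃ z₃X) z₃) (c1 z₃) (l (hb _ hZ₃ z₃X) z₃) (by simp),
      mk hY₄ (r (ha _ hY₄ y₄X) y₄) (r (hb _ hY₄ y₄X) y₄) (c1 y₄) (by simp),
      mk hZ₄ (r (ha _ hZ₄ z₄X) z₄) (r (hb _ hZ₄ z₄X) z₄) (c1 z₄) (by simp)⟩

end H27.JT
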