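import Mathlib
import Cfsg.Agent.H27.JTH
import Cfsg.Agent.H27.JTRow
import Cfsg.Agent.H27.JTArith
import Cfsg.Agent.H27.JTArith2
import Cfsg.Agent.H4.Central

/-! The principal `2`-block of `G` on the section of `t`. -/

set_option autoImplicit false
open Cfsg H4 H5 H17 H24 Subgroup
open scoped ComplexConjugate

namespace H27.JT

section Defs
variable {G L : Type*} [Group G] [Fintype G] [Group L] {t : G} (ι : L →* G) (π : C{t} →* L)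

/-- the generalized character induced from `(1 - σ)(1 - e)` -/
noncomputable def TT (e : L → ℂ) : G → ℂ := Th ι π (o L - e)

/-- the values on the section of `t` are determined by the multiplicities -/
def Star (e₂ e₃ e₄ : L → ℂ) (W : G → ℂ) : Prop :=
  ∀ y, ¬ 2 ∣ orderOf y → W (t * ι y) = -(classInner W (TT ι π e₂) * e₂ y +
    classInner W (TT ι π e₃) * e₃ y + classInner W (TT ι π e₄) * e₄ y)

/-- the normalised class multiplication functional -/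
noncomputable def Phi (t : G) (f : G → ℂ) : ℂ :=
  classInner f (gam t t) * (Nat.card G / ((C{t}).index : ℂ) ^ 2)

theorem index_ne_zero' (H : Subgroup G) : (H.index : ℂ) ≠ 0 := by
  exact_mod_cast H.index_ne_zero_of_finite

theorem Phi_sirr (t : G) {W : G → ℂ} (hW : SIrr W) : Phi t W = W t ^ 2 / W 1 := by
  rw [Phi, hW.inner_gam, card_cl]
  have := index_ne_zero' C{t}
  have := H4.card_ne_zero G
  field_simp

theorem Phi_add (t : G) (f f' : G → ℂ) : Phi t (f + f') = Phi t f + Phi t f' := by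
  simp only [Phi, classInner_add_left, add_mul]
theorem Phi_sub (t : G) (f f' : G → ℂ) : Phi t (f - f') = Phi t f - Phi t f' := by
  simp only [Phi, classInner_sub_left, sub_mul]
theorem Phi_neg (t : G) (f : G → ℂ) : Phi t (-f) = -Phi t f := by
  simp only [Phi, classInner_neg_left, neg_mul]
theorem Phi_o (t : G) : Phi t (o G) = 1 := by rw [Phi_sirr t sirr_one]; simp

end Defs

/-- the standing hypotheses -/
structure SH {G L : Type*} [Group G] [Fintype G] [Group L] [Fintype L] {t : G} (ι : L →* G)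
    (π : C{t} →* L) (M : Ideal AlgInt) (p q a b : ℕ) (ε Q ρ : ℤ) (e₂ e₃ e₄ : L → ℂ) : Prop where
  jh : JH t ι π
  lh : LH L p q a b ε
  hQ : Q = ε * q
  hρ : ρ = ε * b
  lc : LC M e₂ e₃ e₄ Q ρ
  cnj : ∀ u : G, orderOf u = 2 → IsConj t u
  E8 : ∃ P : Subgroup G, Nat.card P = 8 ∧ ∀ g ∈ P, g * g = 1
  lin : ∀ χ : G → ℂ, IsIrrCharacter G χ → χ 1 = 1 → χ = o G

namespace SH
variable {G L : Type*} [Group G] [Fintype G] [Group L] [Fintype L] {t : G} {ι : L →* G}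
  {π : C{t} →* L} {M : Ideal AlgInt} {p q a b : ℕ} {ε Q ρ : ℤ} {e₂ e₃ e₄ : L → ℂ}
  (h : SH ι π M p q a b ε Q ρ e₂ e₃ e₄)
include h

theorem Qρ : Q = 2 * ρ - 1 := by rw [h.hQ, h.hρ, h.lh.hQ]
theorem odd_ρ : Odd ρ := by
  rw [h.hρ]
  exact Odd.mul (by rcases h.lh.eps with e | e <;> simp [e]) (by exact_mod_cast h.lh.odd_b)
theorem ρ_ne : ρ ≠ 0 := by have := h.odd_ρ; rintro rfl; simp at this
theorem Q_ne : Q ≠ 0 := by have := h.Qρ; omega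
theorem card_G : Nat.card G = (C{t}).index * (8 * a * b * q) := by
  rw [← (C{t}).index_mul_card, h.jh.card_C, h.lh.card]; ring

theorem van₂ (y : L) (hy : 2 ∣ orderOf y) : (o L - e₂) y = 0 := by simp [(h.lc.ev y hy).1]
theorem van₃ (y : L) (hy : 2 ∣ orderOf y) : (o L - e₃) y = 0 := by simp [(h.lc.ev y hy).2.1]
theorem van₄ (y : L) (hy : 2 ∣ orderOf y) : (o L - e₄) y = 0 := by simp [(h.lc.ev y hy).2.2]

theorem T_gen {e : L → ℂ} (he : SIrr e) : IsGeneralizedCharacter G (TT ι π e) :=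
  h.jh.Th_gen (sirr_one.gen.sub he.gen)
theorem g₂ : IsGeneralizedCharacter G (TT ι π e₂) := h.T_gen h.lc.s₂
theorem g₃ : IsGeneralizedCharacter G (TT ι π e₃) := h.T_gen h.lc.s₃
theorem g₄ : IsGeneralizedCharacter G (TT ι π e₄) := h.T_gen h.lc.s₄

theorem T_T {e e' : L → ℂ} (he' : SIrr e') (h0 : ∀ y, 2 ∣ orderOf y → (o L - e) y = 0)
    (h0' : ∀ y, 2 ∣ orderOf y → (o L - e') y = 0) (k : classInner e (o L) = 0)
    (k' : classInner (o L) e' = 0) :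
    classInner (TT ι π e) (TT ι π e') = 2 + 2 * classInner e e' := by
  rw [TT, TT, h.jh.Th_Th h0 (sirr_one.gen.sub he'.gen).classFun h0', classInner_sub_left,
    classInner_sub_right, classInner_sub_right, k, k', classInner_one_one]
  ring

theorem n₂ : classInner (TT ι π e₂) (TT ι π e₂) = 4 := by
  rw [h.T_T h.lc.s₂ h.van₂ h.van₂ h.lc.o₂' h.lc.o₂, h.lc.s₂.norm]; norm_num
theorem n₃ : classInner (TT ι π e₃) (TT ι π e₃) = 4 := by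
  rw [h.T_T h.lc.s₃ h.van₃ h.van₃ h.lc.o₃' h.lc.o₃, h.lc.s₃.norm]; norm_num
theorem n₄ : classInner (TT ι π e₄) (TT ι π e₄) = 4 := by
  rw [h.T_T h.lc.s₄ h.van₄ h.van₄ h.lc.o₄' h.lc.o₄, h.lc.s₄.norm]; norm_num
theorem n₂₃ : classInner (TT ι π e₂) (TT ι π e₃) = 2 := by
  rw [h.T_T h.lc.s₃ h.van₂ h.van₃ h.lc.o₂' h.lc.o₃, h.lc.o₂₃]; norm_num
theorem n₂₄ : classInner (TT ι π e₂) (TT ι π e₄) = 2 := by
  rw [h.T_T h.lc.s₄ h.van₂ h.van₄ h.lc.o₂' h.lc.o₄, h.lc.o₂₄]; norm_num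
theorem n₃₄ : classInner (TT ι π e₃) (TT ι π e₄) = 2 := by
  rw [h.T_T h.lc.s₄ h.van₃ h.van₄ h.lc.o₃' h.lc.o₄, h.lc.o₃₄]; norm_num
theorem n₃₂ : classInner (TT ι π e₃) (TT ι π e₂) = 2 := (h.g₃.inner_comm h.g₂).trans h.n₂₃
theorem n₄₂ : classInner (TT ι π e₄) (TT ι π e₂) = 2 := (h.g₄.inner_comm h.g₂).trans h.n₂₄
theorem n₄₃ : classInner (TT ι π e₄) (TT ι π e₃) = 2 := (h.g₄.inner_comm h.g₃).trans h.n₃₄

theorem T_o {e : L → ℂ} (k : classInner e (o L) = 0) : classInner (TT ι π e) (o G) = 1 := by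
  rw [TT, h.jh.Th_inner _ (isClassFunction_const 1), classInner_sub_left, k, classInner_one_one,
    sub_zero]
theorem o₂ : classInner (o G) (TT ι π e₂) = 1 := (sirr_one.inner_comm h.g₂).trans (h.T_o h.lc.o₂')
theorem o₃ : classInner (o G) (TT ι π e₃) = 1 := (sirr_one.inner_comm h.g₃).trans (h.T_o h.lc.o₃')
theorem o₄ : classInner (o G) (TT ι π e₄) = 1 := (sirr_one.inner_comm h.g₄).trans (h.T_o h.lc.o₄')

theorem T_odd (e : L → ℂ) {g : G} (hg : ¬ 2 ∣ orderOf g) : TT ι π e g = 0 := h.jh.Th_odd _ hg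

theorem T_t {e : L → ℂ} (he : SIrr e) (h0 : ∀ y, 2 ∣ orderOf y → (o L - e) y = 0) :
    TT ι π e t = 2 * (1 - e 1) := by
  have := h.jh.Th_apply (sirr_one.gen.sub he.gen).classFun h0 (y := 1) (by simp)
  simpa [TT] using this

theorem t₂ : TT ι π e₂ t = 2 * (1 + ρ) := by rw [h.T_t h.lc.s₂ h.van₂, h.lc.d₂]; ring
theorem t₃ : TT ι π e₃ t = 2 * (1 + ρ) := by rw [h.T_t h.lc.s₃ h.van₃, h.lc.d₃]; ring
theorem t₄ : TT ι π e₄ t = 2 * (1 - Q) := by rw [h.T_t h.lc.s₄ h.van₄, h.lc.d₄]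

theorem Phi_T {e : L → ℂ} (he : SIrr e) (h0 : ∀ y, 2 ∣ orderOf y → (o L - e) y = 0) :
    Phi t (TT ι π e) = 4 * ρ ^ 2 * Q ^ 2 * (1 - 1 / e 1) / (C{t}).index := by
  obtain ⟨s, hs⟩ := h.lh.exists_inv
  have h1 : e s = 1 := by have := h0 s (hs ▸ dvd_rfl); simp at this; linear_combination -this
  rw [Phi, TT, h.jh.Th_inner _ (gam_classFun t t), inner_congr_right (ψ' := (2 : ℂ) • gam s s),
    classInner_smul_right, classInner_sub_left, h.lh.inner_gam hs sirr_one rfl,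
    h.lh.inner_gam hs he h1, h.card_G, map_ofNat, h.hQ, h.hρ]
  · have := index_ne_zero' C{t}
    have ha : (a : ℂ) ≠ 0 := by exact_mod_cast h.lh.a_pos.ne'
    have hee : (ε : ℂ) ^ 4 = 1 := by rcases h.lh.eps with e | e <;> norm_num [e]
    push_cast
    field_simp
    rw [hee]; ring
  · intro y hy
    exact h.jh.gam_tι h.cnj hs (fun u hu => h.lh.conj _ _ hs hu) fun k => hy (h0 y k)

theorem Phi₂ : Phi t (TT ι π e₂) = 4 * ρ * (ρ + 1) * Q ^ 2 / ((C{t}).index : ℤ) := by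
  rw [h.Phi_T h.lc.s₂ h.van₂, h.lc.d₂]
  have : (ρ : ℂ) ≠ 0 := by exact_mod_cast h.ρ_ne
  push_cast; field_simp; ring
theorem Phi₃ : Phi t (TT ι π e₃) = 4 * ρ * (ρ + 1) * Q ^ 2 / ((C{t}).index : ℤ) := by
  rw [h.Phi_T h.lc.s₃ h.van₃, h.lc.d₃]
  have : (ρ : ℂ) ≠ 0 := by exact_mod_cast h.ρ_ne
  push_cast; field_simp; ring
theorem Phi₄ : Phi t (TT ι π e₄) = 4 * ρ ^ 2 * Q * (Q - 1) / ((C{t}).index : ℤ) := by
  rw [h.Phi_T h.lc.s₄ h.van₄, h.lc.d₄]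
  have : (Q : ℂ) ≠ 0 := by exact_mod_cast h.Q_ne
  push_cast; field_simp

theorem star_o : Star ι π e₂ e₃ e₄ (o G) := by
  intro y hy
  rw [h.o₂, h.o₃, h.o₄]
  linear_combination h.lc.od y hy

variable [PM 2 M]

theorem blockPart_eq {ϑ : G → ℂ} (hϑ : IsClassFunction G ϑ) {y : L} (hy : ¬ 2 ∣ orderOf y) :
    blockPart (principalBlock M G) ϑ (t * ι y) = -(classInner ϑ (TT ι π e₂) * e₂ y +
      classInner ϑ (TT ι π e₃) * e₃ y + classInner ϑ (TT ι π e₄) * e₄ y) := by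
  rw [h.jh.blockPart_tι M hϑ hy, h.lc.blk]
  simp only [TT, h.jh.inner_Th _ hϑ, classInner_sub_right]
  linear_combination (classInner (fun y => ϑ (t * ι y)) (o L)) * h.lc.od y hy

theorem dich_irr {χ : G → ℂ} (hχ : IsIrrCharacter G χ) :
    (classInner χ (TT ι π e₂) = 0 ∧ classInner χ (TT ι π e₃) = 0 ∧
      classInner χ (TT ι π e₄) = 0) ∨ Star ι π e₂ e₃ e₄ χ := by
  have key := fun y hy => h.blockPart_eq hχ.classFun (y := y) hy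
  have e := blockPart_irr (principalBlock M G) ⟨χ, hχ⟩
  simp only at e
  rw [e] at key
  by_cases k : (⟨χ, hχ⟩ : Irr G) ∈ principalBlock M G
  · right
    intro y hy
    simpa [ind_of_mem k] using key y hy
  · left
    refine h.lc.indep fun y hy => ?_
    have := key y hy
    rw [ind_of_notMem k, zero_smul] at this
    simp only [Pi.zero_apply] at this
    linear_combination this

theorem dich {W : G → ℂ} (hW : SIrr W) :
    (classInner W (TT ι π e₂) = 0 ∧ classInner W (TT ι π e₃) = 0 ∧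
      classInner W (TT ι π e₄) = 0) ∨ Star ι π e₂ e₃ e₄ W := by
  rcases hW.irr_or with k | k
  · exact h.dich_irr k
  · rcases h.dich_irr k with k | k
    · left; simpa only [classInner_neg_left, neg_eq_zero] using k
    · right
      intro y hy
      have := k y hy
      simp only [classInner_neg_left, Pi.neg_apply] at this
      linear_combination -this

theorem star_row {W : G → ℂ} {c₂ c₃ c₄ : ℤ}
    (hW : Row (TT ι π e₂) (TT ι π e₃) (TT ι π e₄) W c₂ c₃ c₄) (hc : ¬ (c₂ = 0 ∧ c₃ = 0 ∧ c₄ = 0)) :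
    Star ι π e₂ e₃ e₄ W := by
  refine (h.dich hW.s).resolve_left ?_
  rw [hW.c₂, hW.c₃, hW.c₄]
  exact_mod_cast hc

theorem orth_of_star {Γ : G → ℂ} (hΓ : IsClassFunction G Γ)
    (h0 : ∀ W, SIrr W → Star ι π e₂ e₃ e₄ W → classInner Γ W = 0) :
    classInner Γ (TT ι π e₂) = 0 ∧ classInner Γ (TT ι π e₃) = 0 ∧ classInner Γ (TT ι π e₄) = 0 := by
  refine ⟨?_, ?_, ?_⟩ <;> rw [hΓ.inner_eq_sum] <;> refine Finset.sum_eq_zero fun χ _ => ?_ <;>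
    rcases h.dich_irr χ.2 with k | k
  · rw [conj_classInner, k.1, mul_zero]
  · rw [h0 _ (sirr_of_irr χ.2) k, zero_mul]
  · rw [conj_classInner, k.2.1, mul_zero]
  · rw [h0 _ (sirr_of_irr χ.2) k, zero_mul]
  · rw [conj_classInner, k.2.2, mul_zero]
  · rw [h0 _ (sirr_of_irr χ.2) k, zero_mul]

theorem row_t {W : G → ℂ} {c₂ c₃ c₄ : ℤ}
    (hW : Row (TT ι π e₂) (TT ι π e₃) (TT ι π e₄) W c₂ c₃ c₄) (hc : ¬ (c₂ = 0 ∧ c₃ = 0 ∧ c₄ = 0)) :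
    W t = (ρ * (c₂ + c₃) - Q * c₄ : ℤ) := by
  have := h.star_row hW hc 1 (by simp)
  rw [map_one, mul_one, hW.c₂, hW.c₃, hW.c₄, h.lc.d₂, h.lc.d₃, h.lc.d₄] at this
  rw [this]; push_cast; ring

omit [PM 2 M] in
theorem irr_data {χ : G → ℂ} (hχ : IsIrrCharacter G χ) (ho : classInner χ (o G) = 0) {v : ℤ}
    (hv : χ t = v) : ∃ w : ℤ, χ 1 = w ∧ 1 < w ∧ 8 ∣ w - v ∧ w ∣ ((C{t}).index : ℤ) * v := by
  obtain ⟨P, hP, hP2⟩ := h.E8
  have h8 := card_dvd_deg_sub P (χ := ⟨χ, hχ⟩) (c := v) fun g hg h1 => by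
    rw [← hv]; exact (hχ.classFun.apply_of_isConj (h.cnj g (orderOf_eq_two h1 (hP2 g hg)))).symm
  have hd := deg_eq (⟨χ, hχ⟩ : Irr G)
  have h0 := deg_ne_zero (⟨χ, hχ⟩ : Irr G)
  generalize deg (⟨χ, hχ⟩ : Irr G) = n at *
  simp only at hd
  rw [hP] at h8
  refine ⟨n, by simp [hd], ?_, h8, ?_⟩
  · have : n ≠ 1 := by
      rintro rfl
      rw [h.lin χ hχ (by simpa using hd.symm), classInner_one_one] at ho
      exact one_ne_zero ho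
    omega
  · refine int_dvd_of_isIntegral_div (by exact_mod_cast h0) ?_
    have := hχ.isIntegral_centralChar t
    rw [hv, ← hd] at this
    simpa using this

/-- the numerical data of a row -/
theorem row_data {W : G → ℂ} {c₂ c₃ c₄ : ℤ}
    (hW : Row (TT ι π e₂) (TT ι π e₃) (TT ι π e₄) W c₂ c₃ c₄) (hc : ¬ (c₂ = 0 ∧ c₃ = 0 ∧ c₄ = 0))
    {v : ℤ} (hv : v = ρ * (c₂ + c₃) - Q * c₄) :
    ∃ w : ℤ, W 1 = w ∧ W t = v ∧ Phi t W = v ^ 2 / w ∧ w ≠ 0 ∧ w ≠ 1 ∧ w ≠ -1 ∧ 8 ∣ w - v ∧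
      w ∣ ((C{t}).index : ℤ) * v := by
  have ht := h.row_t hW hc
  rw [← hv] at ht
  rcases hW.s.irr_or with k | k
  · obtain ⟨w, h1, h2, h3, h4⟩ := h.irr_data k hW.o ht
    exact ⟨w, h1, ht, by rw [Phi_sirr t hW.s, ht, h1], by omega, by omega, by omega, h3, h4⟩
  · obtain ⟨w, h1, h2, h3, h4⟩ := h.irr_data k hW.neg.o (v := -v) (by simp [ht])
    have h1' : W 1 = (-w : ℤ) := by simp only [Pi.neg_apply] at h1; push_cast; linear_combination -h1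
    refine ⟨-w, h1', ht, by rw [Phi_sirr t hW.s, ht, h1'], by omega, by omega, by omega,
      by omega, ?_⟩
    rw [neg_dvd, ← dvd_neg]; simpa using h4

theorem cases :
    (∃ X Y₂ Z₂ Y₃ Z₃ Y₄ Z₄, TT ι π e₂ = o G + X + Y₂ + Z₂ ∧ TT ι π e₃ = o G + X + Y₃ + Z₃ ∧
      TT ι π e₄ = o G + X + Y₄ + Z₄ ∧ Row (TT ι π e₂) (TT ι π e₃) (TT ι π e₄) X 1 1 1 ∧
      Row (TT ι π e₂) (TT ι π e₃) (TT ι π e₄) Y₂ 1 0 0 ∧
      Row (TT ι π e₂) (TT ι π e₃) (TT ι π e₄) Z₂ 1 0 0 ∧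
      Row (TT ι π e₂) (TT ι π e₃) (TT ι π e₄) Y₃ 0 1 0 ∧
      Row (TT ι π e₂) (TT ι π e₃) (TT ι π e₄) Z₃ 0 1 0 ∧
      Row (TT ι π e₂) (TT ι π e₃) (TT ι π e₄) Y₄ 0 0 1 ∧
      Row (TT ι π e₂) (TT ι π e₃) (TT ι π e₄) Z₄ 0 0 1) ∨
    (∃ X A B Y₂ Y₃ Y₄, TT ι π e₂ = o G + X + A + Y₂ ∧ TT ι π e₃ = o G + X + B + Y₃ ∧
      TT ι π e₄ = o G + A + B + Y₄ ∧ Row (TT ι π e₂) (TT ι π e₃) (TT ι π e₄) X 1 1 0 ∧
      Row (TT ι π e₂) (TT ι π e₃) (TT ι π e₄) A 1 0 1 ∧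
      Row (TT ι π e₂) (TT ι π e₃) (TT ι π e₄) B 0 1 1 ∧
      Row (TT ι π e₂) (TT ι π e₃) (TT ι π e₄) Y₂ 1 0 0 ∧
      Row (TT ι π e₂) (TT ι π e₃) (TT ι π e₄) Y₃ 0 1 0 ∧
      Row (TT ι π e₂) (TT ι π e₃) (TT ι π e₄) Y₄ 0 0 1) :=
  gram_cases h.g₂ h.g₃ h.g₄ h.n₂ h.n₃ h.n₄ h.n₂₃ h.n₂₄ h.n₃₄ (h.T_o h.lc.o₂') (h.T_o h.lc.o₃')
    (h.T_o h.lc.o₄') (h.T_odd _ (by simp)) (h.T_odd _ (by simp)) (h.T_odd _ (by simp))

omit [PM 2 M] in
/-- degree and class multiplication equations of a decomposition -/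
theorem eqs {e : L → ℂ} {A B C : G → ℂ} (k : TT ι π e = o G + A + B + C) {x y z : ℤ}
    (hx : A 1 = x) (hy : B 1 = y) (hz : C 1 = z) :
    1 + x + y + z = 0 ∧ 1 + Phi t A + Phi t B + Phi t C = Phi t (TT ι π e) := by
  constructor
  · have := h.T_odd e (g := 1) (by simp)
    rw [k] at this
    simp only [Pi.add_apply, hx, hy, hz, o] at this
    exact_mod_cast this
  · rw [k, Phi_add, Phi_add, Phi_add, Phi_o]

/-- `q = 3` is impossible -/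
theorem not_three (hQ : Q = -3) : False := by
  have hρ : ρ = -1 := by have := h.Qρ; omega
  have hN : ((C{t}).index : ℤ) ≠ 0 := by exact_mod_cast (C{t}).index_ne_zero_of_finite
  rcases h.cases with ⟨X, Y₂, Z₂, Y₃, Z₃, Y₄, Z₄, k₂, k₃, k₄, rX, rY₂, rZ₂, -⟩ |
    ⟨X, A, B, Y₂, Y₃, Y₄, k₂, k₃, k₄, rX, rA, rB, rY₂, rY₃, rY₄⟩
  · obtain ⟨x, x1, -, xP, x0, -, x2, -⟩ := h.row_data rX (by simp) (v := 1) (by rw [hQ, hρ]; ring)
    obtain ⟨y, y1, -, yP, y0, -, y2, -⟩ := h.row_data rY₂ (by simp) (v := -1) (by rw [hρ]; ring)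
    obtain ⟨z, z1, -, zP, z0, -, z2, -⟩ := h.row_data rZ₂ (by simp) (v := -1) (by rw [hρ]; ring)
    obtain ⟨d, F⟩ := h.eqs k₂ x1 y1 z1
    rw [xP, yP, zP, h.Phi₂, hρ] at F
    exact three_i x0 y0 z0 x2 y2 z2 d (by simpa using F)
  · obtain ⟨x, x1, -, xP, x0, -, -, x8, -⟩ := h.row_data rX (by simp) (v := -2) (by rw [hρ]; ring)
    obtain ⟨d, d1, -, dP, d0, -, -, d8, -⟩ := h.row_data rA (by simp) (v := 2)
      (by rw [hQ, hρ]; ring)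
    obtain ⟨d', d1', -, dP', d0', -, -, d8', -⟩ := h.row_data rB (by simp) (v := 2)
      (by rw [hQ, hρ]; ring)
    obtain ⟨y, y1, -, yP, y0, -, y2, -, yi⟩ := h.row_data rY₂ (by simp) (v := -1) (by rw [hρ]; ring)
    obtain ⟨y', y1', -, yP', y0', -, y2', -⟩ := h.row_data rY₃ (by simp) (v := -1)
      (by rw [hρ]; ring)
    obtain ⟨z, z1, -, zP, -⟩ := h.row_data rY₄ (by simp) (v := 3) (by rw [hQ]; ring)
    obtain ⟨E₂, F₂⟩ := h.eqs k₂ x1 d1 y1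
    obtain ⟨E₃, F₃⟩ := h.eqs k₃ x1 d1' y1'
    obtain ⟨E₄, F₄⟩ := h.eqs k₄ d1 d1' z1
    rw [xP, dP, yP, h.Phi₂, hρ] at F₂
    rw [xP, dP', yP', h.Phi₃, hρ] at F₃
    rw [dP, dP', zP, h.Phi₄, hρ, hQ] at F₄
    exact three_ii hN x0 d0 d0' y0 y0' y2 y2' (by omega) d8 d8' E₂ E₃ E₄ (by simpa using yi)
      (by push_cast at F₂; linear_combination F₂) (by push_cast at F₃; linear_combination F₃)
      (by push_cast at F₄ ⊢; linear_combination F₄)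

theorem finI (hq : 27 ≤ |Q|) {X Y₂ Z₂ Y₄ Z₄ : G → ℂ} (k₂ : TT ι π e₂ = o G + X + Y₂ + Z₂)
    (k₄ : TT ι π e₄ = o G + X + Y₄ + Z₄) (rX : Row (TT ι π e₂) (TT ι π e₃) (TT ι π e₄) X 1 1 1)
    (rY₂ : Row (TT ι π e₂) (TT ι π e₃) (TT ι π e₄) Y₂ 1 0 0)
    (rZ₂ : Row (TT ι π e₂) (TT ι π e₃) (TT ι π e₄) Z₂ 1 0 0)
    (rY₄ : Row (TT ι π e₂) (TT ι π e₃) (TT ι π e₄) Y₄ 0 0 1)
    (rZ₄ : Row (TT ι π e₂) (TT ι π e₃) (TT ι π e₄) Z₄ 0 0 1)
    (dX : X 1 * Q ^ 2 = -X t * (C{t}).index) (dZ : Z₄ 1 * Q ^ 2 = -Z₄ t * (C{t}).index) :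
    ∃ m : ℕ, 1 ≤ m ∧ q = 3 ^ (2 * m + 1) ∧ Nat.card G = q ^ 3 * (q ^ 3 + 1) * (q - 1) := by
  have hQρ := h.Qρ
  have hQ0 := h.Q_ne
  obtain ⟨x, x1, xt, xP, x0, -⟩ := h.row_data rX (by simp) (v := 1) (by rw [hQρ]; ring)
  obtain ⟨y, y1, -, yP, y0, -⟩ := h.row_data rY₂ (by simp) (v := ρ) (by ring)
  obtain ⟨z, z1, -, zP, z0, -⟩ := h.row_data rZ₂ (by simp) (v := ρ) (by ring)
  obtain ⟨y₄, y41, -, y4P, y40, -⟩ := h.row_data rY₄ (by simp) (v := -Q) (by ring)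
  obtain ⟨z₄, z41, z4t, z4P, z40, -⟩ := h.row_data rZ₄ (by simp) (v := -Q) (by ring)
  obtain ⟨E₂, F₂⟩ := h.eqs k₂ x1 y1 z1
  obtain ⟨E₄, F₄⟩ := h.eqs k₄ x1 y41 z41
  rw [xP, yP, zP, h.Phi₂] at F₂
  rw [xP, y4P, z4P, h.Phi₄] at F₄
  rw [x1, xt] at dX
  rw [z41, z4t] at dZ
  have dX' : x * Q ^ 2 = -1 * ((C{t}).index : ℤ) := by exact_mod_cast dX
  have dZ' : z₄ * Q ^ 2 = - -Q * ((C{t}).index : ℤ) := by exact_mod_cast dZ
  have hz₄ : z₄ = -Q * x := mul_right_cancel₀ (pow_ne_zero 2 hQ0)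
    (by linear_combination dZ' + Q * dX')
  obtain ⟨hN, hsq⟩ := caseI (N := (C{t}).index) hQρ (by rcases abs_cases Q with k | k <;> omega)
    x0 y40 y0 z0 (by linear_combination dX') hz₄ E₄ E₂
    (by push_cast at F₄ ⊢; linear_combination F₄) (by push_cast at F₂ ⊢; linear_combination F₂)
  have hk : 2 * ρ * (Q - 1) ≠ 0 := mul_ne_zero (mul_ne_zero two_ne_zero h.ρ_ne) (by
    rcases abs_cases Q with k | k <;> omega)
  have he : ε = -1 := by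
    refine h.lh.eps.resolve_left fun e => ?_
    have h1 : 0 < Q := by have := h.lh.three_le; rw [h.hQ, e]; omega
    have h2 : 0 < Q * (2 * ρ * (Q - 1)) ^ 2 := by positivity
    nlinarith [sq_nonneg (y - z)]
  have hQ : Q = -q := by rw [h.hQ, he]; ring
  obtain ⟨n, hn⟩ := h.lh.pow
  obtain ⟨rfl, m, rfl⟩ := three_pow_of_sq (n := n) h.lh.prime hk (m := y - z)
    (by rw [← hn, hsq, hQ]; ring)
  refine ⟨m, ?_, hn, ?_⟩
  · rcases m with _ | m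
    · rw [hQ, hn] at hq; norm_num at hq
    · omega
  · have h3 := h.lh.three_le
    have ha := h.lh.hq
    have hb := h.lh.hb
    rw [he] at ha hb
    zify [(by omega : 1 ≤ q)]
    rw [h.card_G]
    push_cast
    rw [hN, hQ, hb, ha]; ring

theorem finII (hq : 27 ≤ |Q|) {X Y₂ Z₂ Y₄ Z₄ : G → ℂ} (k₂ : TT ι π e₂ = o G + X + Y₂ + Z₂)
    (k₄ : TT ι π e₄ = o G + X + Y₄ + Z₄) (rX : Row (TT ι π e₂) (TT ι π e₃) (TT ι π e₄) X 1 1 1)
    (rY₂ : Row (TT ι π e₂) (TT ι π e₃) (TT ι π e₄) Y₂ 1 0 0)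
    (rZ₂ : Row (TT ι π e₂) (TT ι π e₃) (TT ι π e₄) Z₂ 1 0 0)
    (rY₄ : Row (TT ι π e₂) (TT ι π e₃) (TT ι π e₄) Y₄ 0 0 1)
    (rZ₄ : Row (TT ι π e₂) (TT ι π e₃) (TT ι π e₄) Z₄ 0 0 1)
    (dY : Y₂ 1 * Q ^ 2 = -Y₂ t * (C{t}).index) : False := by
  have hQρ := h.Qρ
  obtain ⟨x, x1, xt, xP, x0, xn, -, x8, xi⟩ := h.row_data rX (by simp) (v := 1) (by rw [hQρ]; ring)
  obtain ⟨y, y1, yt, yP, y0, -, -, y8, -⟩ := h.row_data rY₂ (by simp) (v := ρ) (by ring)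
  obtain ⟨z, z1, -, zP, z0, -, -, -, zi⟩ := h.row_data rZ₂ (by simp) (v := ρ) (by ring)
  obtain ⟨y₄, y41, -, y4P, y40, -, -, -, y4i⟩ := h.row_data rY₄ (by simp) (v := -Q) (by ring)
  obtain ⟨z₄, z41, -, z4P, z40, -, -, -, z4i⟩ := h.row_data rZ₄ (by simp) (v := -Q) (by ring)
  obtain ⟨E₂, F₂⟩ := h.eqs k₂ x1 y1 z1
  obtain ⟨E₄, F₄⟩ := h.eqs k₄ x1 y41 z41
  rw [xP, yP, zP, h.Phi₂] at F₂
  rw [xP, y4P, z4P, h.Phi₄] at F₄
  rw [y1, yt] at dY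
  have dY' : y * Q ^ 2 = -ρ * ((C{t}).index : ℤ) := by exact_mod_cast dY
  exact caseII (N := (C{t}).index) hQρ h.odd_ρ hq
    (by exact_mod_cast Nat.pos_of_ne_zero (C{t}).index_ne_zero_of_finite) x0 y0 z0 y40 z40
    (by linear_combination dY') E₂ x8 y8 xn (by simpa using xi) zi (by simpa using y4i)
    (by simpa using z4i) (by push_cast at F₄ ⊢; linear_combination F₄)
    (by push_cast at F₂ ⊢; linear_combination F₂)

theorem final (hq : 27 ≤ |Q|) {W₁ W₂ : G → ℂ} {u : ℤ}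
    (r₁ : Row (TT ι π e₂) (TT ι π e₃) (TT ι π e₄) W₁ 1 u u)
    (r₂ : Row (TT ι π e₂) (TT ι π e₃) (TT ι π e₄) W₂ 0 (1 - u) (-u))
    (d₁ : W₁ 1 * Q ^ 2 = -W₁ t * (C{t}).index) (d₂ : W₂ 1 * Q ^ 2 = -W₂ t * (C{t}).index) :
    ∃ m : ℕ, 1 ≤ m ∧ q = 3 ^ (2 * m + 1) ∧ Nat.card G = q ^ 3 * (q ^ 3 + 1) * (q - 1) := by
  rcases h.cases with ⟨X, Y₂, Z₂, Y₃, Z₃, Y₄, Z₄, k₂, k₃, k₄, rX, rY₂, rZ₂, -, -, rY₄, rZ₄⟩ |
    ⟨X, A, B, Y₂, Y₃, Y₄, k₂, k₃, k₄, rX, rA, rB, rY₂, rY₃, rY₄⟩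
  · rcases eq_of_inner_one r₁.s rX.s rY₂.s rZ₂.s k₂ r₁.o (by simpa using r₁.c₂)
      (by simpa using rX.c₂) (by simpa using rY₂.c₂) (by simpa using rZ₂.c₂) with rfl | rfl | rfl
    · obtain rfl : u = 1 := (r₁.eq rX).2.1
      have d₂' : (-W₂) 1 * Q ^ 2 = -(-W₂) t * (C{t}).index := by
        simp only [Pi.neg_apply]; linear_combination -d₂
      rcases eq_of_inner_one r₂.neg.s rX.s rY₄.s rZ₄.s k₄ r₂.neg.o (by simpa using r₂.neg.c₄)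
        (by simpa using rX.c₄) (by simpa using rY₄.c₄) (by simpa using rZ₄.c₄) with k | k | k
      · have := (r₂.neg.eq (k ▸ rX)).1; simp at this
      · exact h.finI hq k₂ (by rw [k₄]; abel) rX rY₂ rZ₂ rZ₄ rY₄ d₁ (k ▸ d₂')
      · exact h.finI hq k₂ k₄ rX rY₂ rZ₂ rY₄ rZ₄ d₁ (k ▸ d₂')
    · exact (h.finII hq k₂ k₄ rX rY₂ rZ₂ rY₄ rZ₄ d₁).elim
    · exact (h.finII hq (by rw [k₂]; abel) k₄ rX rZ₂ rY₂ rY₄ rZ₄ d₁).elim
  · exfalso
    rcases eq_of_inner_one r₁.s rX.s rA.s rY₂.s k₂ r₁.o (by simpa using r₁.c₂)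
      (by simpa using rX.c₂) (by simpa using rA.c₂) (by simpa using rY₂.c₂) with rfl | rfl | rfl
    · have := r₁.eq rX; omega
    · have := r₁.eq rA; omega
    obtain rfl : u = 0 := (r₁.eq rY₂).2.1
    rcases eq_of_inner_one r₂.s rX.s rB.s rY₃.s k₃ r₂.o (by simpa using r₂.c₃)
      (by simpa using rX.c₃) (by simpa using rB.c₃) (by simpa using rY₃.c₃) with rfl | rfl | rfl
    · have := r₂.eq rX; omega
    · have := r₂.eq rB; omega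
    have hQρ := h.Qρ
    obtain ⟨x, x1, -, xP, x0, -⟩ := h.row_data rX (by simp) (v := 2 * ρ) (by ring)
    obtain ⟨d, d1, -, dP, d0, -⟩ := h.row_data rA (by simp) (v := 1 - ρ) (by rw [hQρ]; ring)
    obtain ⟨d', d1', -, dP', d0', -⟩ := h.row_data rB (by simp) (v := 1 - ρ) (by rw [hQρ]; ring)
    obtain ⟨y, y1, yt, yP, y0, -⟩ := h.row_data rY₂ (by simp) (v := ρ) (by ring)
    obtain ⟨y', y1', yt', yP', y0', -⟩ := h.row_data rY₃ (by simp) (v := ρ) (by ring)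
    obtain ⟨z, z1, -, zP, z0, -⟩ := h.row_data rY₄ (by simp) (v := -Q) (by ring)
    obtain ⟨E₂, F₂⟩ := h.eqs k₂ x1 d1 y1
    obtain ⟨E₃, -⟩ := h.eqs k₃ x1 d1' y1'
    obtain ⟨E₄, F₄⟩ := h.eqs k₄ d1 d1' z1
    rw [xP, dP, yP, h.Phi₂] at F₂
    rw [dP, dP', zP, h.Phi₄] at F₄
    rw [y1, yt] at d₁
    rw [y1', yt'] at d₂
    have d₁' : y * Q ^ 2 = -ρ * ((C{t}).index : ℤ) := by exact_mod_cast d₁
    have d₂' : y' * Q ^ 2 = -ρ * ((C{t}).index : ℤ) := by exact_mod_cast d₂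
    obtain rfl : y = y' := mul_right_cancel₀ (pow_ne_zero 2 h.Q_ne) (d₁'.trans d₂'.symm)
    obtain rfl : d = d' := by omega
    exact case43 (N := (C{t}).index) hQρ (by rcases abs_cases Q with k | k <;> omega)
      (by exact_mod_cast (C{t}).index_ne_zero_of_finite) x0 d0 y0 z0 (by linear_combination d₁')
      E₂ E₄ (by push_cast at F₂ ⊢; linear_combination F₂)
      (by push_cast at F₄ ⊢; linear_combination F₄)

end SH

end H27.JT
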