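import Mathlib
import Cfsg.Agent.H27.JTSec

/-! The characters induced from the trivial intersection set: abstract part. -/

set_option autoImplicit false
open Cfsg H4 H5 H17 H24 Subgroup
open scoped ComplexConjugate

namespace H27.JT

/-- properties of `β₁ = Ind (1 - λ)` and `β = Ind (μ - μ λ)` -/
structure BP {G L : Type*} [Group G] [Fintype G] [Group L] {t : G} (ι : L →* G) (π : C{t} →* L)
    (e₂ e₃ e₄ : L → ℂ) (β₁ β : G → ℂ) : Prop where
  g₁ : IsGeneralizedCharacter G β₁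
  g : IsGeneralizedCharacter G β
  n₁ : classInner β₁ β₁ = 7
  n : classInner β β = 3
  orth : classInner β₁ β = 0
  o : classInner β (o G) = 0
  d₁ : β₁ 1 = 0
  d : β 1 = 0
  t₁ : β₁ t = 0
  t₀ : β t = 0
  phi : Phi t β = 0
  kap : ∃ κ₂ κ₃ : ℂ, κ₂ + κ₃ = -2 ∧ ∀ W, SIrr W → Star ι π e₂ e₃ e₄ W →
    classInner W (β₁ - β) = -(classInner W (TT ι π e₂) * κ₂ + classInner W (TT ι π e₃) * κ₃ +
      classInner W (TT ι π e₄))
  disj : ∀ W, SIrr W → classInner W β₁ = 0 ∨ classInner W β = 0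

namespace SH
variable {G L : Type*} [Group G] [Fintype G] [Group L] [Fintype L] {t : G} {ι : L →* G}
  {π : C{t} →* L} {M : Ideal AlgInt} {p q a b : ℕ} {ε Q ρ : ℤ} {e₂ e₃ e₄ : L → ℂ}
  (h : SH ι π M p q a b ε Q ρ e₂ e₃ e₄) [PM 2 M]
include h

theorem exists_row : ∃ Y, Row (TT ι π e₂) (TT ι π e₃) (TT ι π e₄) Y 1 0 0 := by
  rcases h.cases with ⟨X, Y₂, Z₂, Y₃, Z₃, Y₄, Z₄, -, -, -, -, r, -⟩ |
    ⟨X, A, B, Y₂, Y₃, Y₄, -, -, -, -, -, -, r, -⟩
  exacts [⟨_, r⟩, ⟨_, r⟩]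

theorem D_star {β₁ β : G → ℂ} (hβ : BP ι π e₂ e₃ e₄ β₁ β) {W : G → ℂ} (hW : SIrr W)
    (hs : Star ι π e₂ e₃ e₄ W) :
    classInner W (β₁ - β - (TT ι π e₂ + TT ι π e₃ - TT ι π e₄)) = 0 := by
  obtain ⟨κ₂, κ₃, hκ, hk⟩ := hβ.kap
  obtain ⟨Y, rY⟩ := h.exists_row
  have gD := hβ.g₁.sub hβ.g
  obtain ⟨k, hk'⟩ := rY.s.gen.inner_int gD
  have e := hk Y rY.s (h.star_row rY (by simp))
  rw [rY.c₂, rY.c₃, rY.c₄, hk'] at e
  obtain rfl : κ₂ = -k := by push_cast at e; linear_combination e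
  obtain rfl : κ₃ = k - 2 := by linear_combination hκ
  have nD : classInner (β₁ - β) (β₁ - β) = 10 := by
    rw [classInner_sub_left, classInner_sub_right, classInner_sub_right, hβ.n₁, hβ.n, hβ.orth,
      classInner_comm_of_eq_zero hβ.orth]
    norm_num
  generalize β₁ - β = D at *
  suffices hk1 : k = 1 by
    subst hk1
    rw [classInner_sub_right, classInner_sub_right, classInner_add_right, hk W hW hs]
    push_cast; ring
  have gE : IsGeneralizedCharacter G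
      ((k : ℂ) • TT ι π e₂ + ((2 - k : ℤ) : ℂ) • TT ι π e₃ - TT ι π e₄) :=
    ((h.g₂.intCast_smul k).add (h.g₃.intCast_smul _)).sub h.g₄
  obtain ⟨o₂, o₃, o₄⟩ := h.orth_of_star (gD.sub gE).classFun fun W hW hs => by
    apply classInner_comm_of_eq_zero
    simp only [classInner_sub_right, classInner_add_right, classInner_smul_right, hk W hW hs,
      map_intCast]
    push_cast; ring
  obtain ⟨m, hm⟩ := (gD.sub gE).inner_self_nat
  simp only [classInner_sub_left, classInner_add_left, classInner_smul_left, h.n₂, h.n₃, h.n₄,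
    h.n₂₃, h.n₂₄, h.n₃₄, h.n₃₂, h.n₄₂, h.n₄₃] at o₂ o₃ o₄
  simp only [classInner_sub_left, classInner_add_left, classInner_smul_left, classInner_sub_right,
    classInner_add_right, classInner_smul_right, h.n₂, h.n₃, h.n₄, h.n₂₃, h.n₂₄, h.n₃₄, h.n₃₂,
    h.n₄₂, h.n₄₃, map_intCast, h.g₂.inner_comm gD, h.g₃.inner_comm gD, h.g₄.inner_comm gD, nD,
    sub_eq_zero.mp o₂, sub_eq_zero.mp o₃, sub_eq_zero.mp o₄] at hm
  have : (2 : ℤ) - 4 * (k - 1) ^ 2 = m := by
    have : (2 : ℂ) - 4 * (k - 1) ^ 2 = m := by push_cast at hm; linear_combination hm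
    exact_mod_cast this
  nlinarith [sq_nonneg (k - 1), Int.natCast_nonneg m]

theorem D_T {β₁ β : G → ℂ} (hβ : BP ι π e₂ e₃ e₄ β₁ β) :
    classInner (β₁ - β) (TT ι π e₂) = 4 ∧ classInner (β₁ - β) (TT ι π e₃) = 4 ∧
      classInner (β₁ - β) (TT ι π e₄) = 0 := by
  obtain ⟨o₂, o₃, o₄⟩ := h.orth_of_star ((hβ.g₁.sub hβ.g).sub ((h.g₂.add h.g₃).sub h.g₄)).classFun
    fun W hW hs => classInner_comm_of_eq_zero (h.D_star hβ hW hs)
  generalize β₁ - β = D at *
  simp only [classInner_sub_left, classInner_add_left, h.n₂, h.n₃, h.n₄,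
    h.n₂₃, h.n₂₄, h.n₃₄, h.n₃₂, h.n₄₂, h.n₄₃] at o₂ o₃ o₄
  exact ⟨by linear_combination o₂, by linear_combination o₃, by linear_combination o₄⟩

theorem β_T {β₁ β β' β'' : G → ℂ} (hβ : BP ι π e₂ e₃ e₄ β₁ β) (hβ' : BP ι π e₂ e₃ e₄ β₁ β')
    (hβ'' : BP ι π e₂ e₃ e₄ β₁ β'') (hs : ∀ g, 2 ∣ orderOf g → (β₁ + β + β' + β'') g = 0) :
    classInner β (TT ι π e₂) = -1 ∧ classInner β (TT ι π e₃) = -1 ∧
      classInner β (TT ι π e₄) = 0 := by
  have k : ∀ e, classInner (β₁ + β + β' + β'') (TT ι π e) = 0 := fun e =>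
    inner_eq_zero_of_supp fun g => by
      by_cases hg : 2 ∣ orderOf g
      · exact Or.inl (hs g hg)
      · exact Or.inr (h.T_odd e hg)
  obtain ⟨a₂, a₃, a₄⟩ := h.D_T hβ
  obtain ⟨b₂, b₃, b₄⟩ := h.D_T hβ'
  obtain ⟨c₂, c₃, c₄⟩ := h.D_T hβ''
  have k₂ := k e₂
  have k₃ := k e₃
  have k₄ := k e₄
  simp only [classInner_sub_left, classInner_add_left] at *
  exact ⟨by linear_combination (k₂ - 3 * a₂ + b₂ + c₂) / 4,
    by linear_combination (k₃ - 3 * a₃ + b₃ + c₃) / 4,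
    by linear_combination (k₄ - 3 * a₄ + b₄ + c₄) / 4⟩

theorem ti_abs {β₁ β : G → ℂ} (hβ : BP ι π e₂ e₃ e₄ β₁ β)
    (hT : classInner β (TT ι π e₂) = -1 ∧ classInner β (TT ι π e₃) = -1 ∧
      classInner β (TT ι π e₄) = 0)
    (hphi : Phi t β₁ = 32 * a ^ 2 * b * q / (C{t}).index) :
    ∃ (W₁ W₂ : G → ℂ) (u : ℤ), Row (TT ι π e₂) (TT ι π e₃) (TT ι π e₄) W₁ 1 u u ∧
      Row (TT ι π e₂) (TT ι π e₃) (TT ι π e₄) W₂ 0 (1 - u) (-u) ∧
      W₁ 1 * Q ^ 2 = -W₁ t * (C{t}).index ∧ W₂ 1 * Q ^ 2 = -W₂ t * (C{t}).index := by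
  obtain ⟨b₂, b₃, b₄⟩ := hT
  obtain ⟨a₂, a₃, a₄⟩ := h.D_T hβ
  have gD := hβ.g₁.sub hβ.g
  have gΓ := gD.sub ((h.g₂.add h.g₃).sub h.g₄)
  have hst := fun W => h.D_star hβ (W := W)
  have nD : classInner (β₁ - β) (β₁ - β) = 10 := by
    rw [classInner_sub_left, classInner_sub_right, classInner_sub_right, hβ.n₁, hβ.n, hβ.orth,
      classInner_comm_of_eq_zero hβ.orth]
    norm_num
  have βD : classInner β (β₁ - β) = -3 := by
    rw [classInner_sub_right, hβ.n, classInner_comm_of_eq_zero hβ.orth]; norm_num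
  obtain ⟨Γ, hΓ⟩ : ∃ Γ, Γ = β₁ - β - (TT ι π e₂ + TT ι π e₃ - TT ι π e₄) := ⟨_, rfl⟩
  have nΓ : classInner Γ Γ = 2 := by
    rw [hΓ]
    generalize β₁ - β = D at *
    simp only [classInner_sub_left, classInner_add_left, classInner_sub_right,
      classInner_add_right, h.n₂, h.n₃, h.n₄, h.n₂₃, h.n₂₄, h.n₃₄, h.n₃₂,
      h.n₄₂, h.n₄₃, h.g₂.inner_comm gD, h.g₃.inner_comm gD, h.g₄.inner_comm gD, nD, a₂, a₃, a₄]
    norm_num
  have βΓ : classInner β Γ = -1 := by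
    rw [hΓ, classInner_sub_right, βD, classInner_sub_right, classInner_add_right, b₂, b₃, b₄]
    norm_num
  have Γ1 : Γ 1 = 0 := by
    simp [hΓ, hβ.d₁, hβ.d, h.T_odd _ (g := 1) (by simp)]
  have Γt : Γ t = -8 * ρ := by
    have : (Q : ℂ) = 2 * ρ - 1 := by exact_mod_cast h.Qρ
    simp only [hΓ, Pi.sub_apply, Pi.add_apply, hβ.t₁, hβ.t₀, h.t₂, h.t₃, h.t₄, this]
    ring
  have hN := index_ne_zero' C{t}
  have ΓP : Phi t Γ = -16 * ρ * Q ^ 2 / (C{t}).index := by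
    have e1 : (Q : ℂ) = 2 * ρ - 1 := by exact_mod_cast h.Qρ
    have e2 : (32 * a ^ 2 * b * q : ℂ) = 8 * (ρ - 1) ^ 2 * ρ * Q := by
      have k1 := h.hQ
      have k2 := h.hρ
      have k3 := h.lh.hb
      have : (32 * a ^ 2 * b * q : ℤ) = 8 * (ρ - 1) ^ 2 * ρ * Q := by
        rw [k1, k2, k3]; rcases h.lh.eps with e | e <;> rw [e] <;> ring
      exact_mod_cast this
    rw [hΓ, Phi_sub, Phi_sub, Phi_sub, Phi_add, hphi, hβ.phi, h.Phi₂, h.Phi₃, h.Phi₄, e2, e1]
    push_cast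
    field_simp
    ring
  rw [← hΓ] at gΓ hst
  obtain ⟨γ₁, γ₂, s₁, s₂, eΓ, o₁₂, β1, β2⟩ : ∃ γ₁ γ₂, SIrr γ₁ ∧ SIrr γ₂ ∧ Γ = γ₁ + γ₂ ∧
      classInner γ₁ γ₂ = 0 ∧ classInner β γ₁ = -1 ∧ classInner β γ₂ = 0 := by
    obtain ⟨X, hX, x1⟩ := exists_sirr_inner_eq_one gΓ (n := 1) (by norm_num) (by rw [nΓ]; norm_num)
    have hY := sirr_sub_of_norm_two hX gΓ nΓ x1
    have hYX := hX.inner_sub x1
    have hs : classInner β X + classInner β (Γ - X) = -1 := by
      rw [classInner_sub_right, βΓ]; ring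
    rcases hX.inner_cases hβ.g (n := 3) le_rfl (by rw [hβ.n]; norm_num) with k | k | k <;>
      rcases hY.inner_cases hβ.g (n := 3) le_rfl (by rw [hβ.n]; norm_num) with k' | k' | k' <;>
      rw [k, k'] at hs <;> norm_num at hs
    · exact ⟨_, _, hY, hX, by abel, hYX, k', k⟩
    · exact ⟨_, _, hX, hY, by abel, classInner_comm_of_eq_zero hYX, k, k'⟩
  have γΓ : classInner γ₁ Γ = 1 := by rw [eΓ, classInner_add_right, s₁.norm, o₁₂, add_zero]
  obtain ⟨z₂, z₃, z₄⟩ := (h.dich s₁).resolve_right fun k => by simpa [γΓ] using hst γ₁ s₁ k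
  have γo : classInner γ₁ (o G) = 0 := sirr_inner_ne s₁ sirr_one z₂ (by simp [h.o₂])
  obtain ⟨W, W', sW, sW', eβ, w1, w1', wγ, wγ', ww⟩ := split_one hβ.g.neg
    (by rw [classInner_neg_left, classInner_neg_right, hβ.n]; ring) s₁
    (by rw [classInner_neg_right, s₁.inner_comm hβ.g, β1]; ring)
  have key : ∀ W W', SIrr W → SIrr W' → -β = γ₁ + W + W' → classInner W (-β) = 1 →
      classInner W' (-β) = 1 → classInner W (TT ι π e₂) = 1 →
      ∃ (W₁ W₂ : G → ℂ) (u : ℤ), Row (TT ι π e₂) (TT ι π e₃) (TT ι π e₄) W₁ 1 u u ∧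
      Row (TT ι π e₂) (TT ι π e₃) (TT ι π e₄) W₂ 0 (1 - u) (-u) ∧
      W₁ 1 * Q ^ 2 = -W₁ t * (C{t}).index ∧ W₂ 1 * Q ^ 2 = -W₂ t * (C{t}).index := by
    intro W W' sW sW' eβ w1 w1' c₂
    have oβ : classInner (o G) (-β) = 0 := by
      rw [classInner_neg_right, classInner_comm_of_eq_zero hβ.o, neg_zero]
    have wo := classInner_comm_of_eq_zero (sirr_inner_ne sirr_one sW oβ (by simp [w1]))
    have wo' := classInner_comm_of_eq_zero (sirr_inner_ne sirr_one sW' oβ (by simp [w1']))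
    obtain ⟨u, c₃⟩ := sW.gen.inner_int h.g₃
    have hs : Star ι π e₂ e₃ e₄ W := (h.dich sW).resolve_left fun k => by simp [c₂] at k
    have c₄ : classInner W (TT ι π e₄) = u := by
      have k := hst W sW hs
      have k1 : classInner W β = -1 := by rw [classInner_neg_right] at w1; linear_combination -w1
      have k2 := (hβ.disj W sW).resolve_right (by simp [k1])
      rw [hΓ] at k
      simp only [classInner_sub_right, classInner_add_right, k1, k2, c₂, c₃] at k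
      linear_combination k
    have f : ∀ e, classInner γ₁ (TT ι π e) + classInner W (TT ι π e) + classInner W' (TT ι π e) =
        -classInner β (TT ι π e) := fun e => by
      rw [← classInner_neg_left, eβ, classInner_add_left, classInner_add_left]
    have r₁ : Row (TT ι π e₂) (TT ι π e₃) (TT ι π e₄) W 1 u u := ⟨sW, wo, by simp [c₂], c₃, c₄⟩
    have r₂ : Row (TT ι π e₂) (TT ι π e₃) (TT ι π e₄) W' 0 (1 - u) (-u) := by
      refine ⟨sW', wo', ?_, ?_, ?_⟩
      · have := f e₂; rw [z₂, c₂, b₂] at this; push_cast; linear_combination this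
      · have := f e₃; rw [z₃, c₃, b₃] at this; push_cast; linear_combination this
      · have := f e₄; rw [z₄, c₄, b₄] at this; push_cast; linear_combination this
    have v₁ := h.row_t r₁ (by simp)
    have v₂ := h.row_t r₂ (by omega)
    have et : γ₁ t + W t + W' t = 0 := by
      have := congrFun eβ t; simp only [Pi.neg_apply, Pi.add_apply, hβ.t₀] at this
      linear_combination -this
    have e1 : γ₁ 1 + W 1 + W' 1 = 0 := by
      have := congrFun eβ 1; simp only [Pi.neg_apply, Pi.add_apply, hβ.d] at this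
      linear_combination -this
    have eP : γ₁ t ^ 2 / γ₁ 1 + W t ^ 2 / W 1 + W' t ^ 2 / W' 1 = 0 := by
      rw [← Phi_sirr t s₁, ← Phi_sirr t sW, ← Phi_sirr t sW', ← Phi_add, ← Phi_add, ← eβ, Phi_neg,
        hβ.phi, neg_zero]
    have γt : γ₁ t = -2 * ρ := by push_cast at v₁ v₂; linear_combination et - v₁ - v₂
    have γt' : γ₂ t = -6 * ρ := by
      rw [eΓ, Pi.add_apply] at Γt; linear_combination Γt - γt
    have γ1' : γ₂ 1 = -γ₁ 1 := by rw [eΓ, Pi.add_apply] at Γ1; linear_combination Γ1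
    have n₁ := s₁.apply_one_ne_zero
    have hρ : (ρ : ℂ) ≠ 0 := by exact_mod_cast h.ρ_ne
    have γ1 : γ₁ 1 * Q ^ 2 = 2 * ρ * (C{t}).index := by
      rw [eΓ, Phi_add, Phi_sirr t s₁, Phi_sirr t s₂, γt, γt', γ1'] at ΓP
      field_simp at ΓP
      linear_combination (1 / 16 : ℂ) * ΓP
    have p₁ := prop3 n₁ sW.apply_one_ne_zero sW'.apply_one_ne_zero e1 et eP
    have p₂ := prop3 (v₁ := γ₁ t) (v₂ := W' t) (v₃ := W t) n₁ sW'.apply_one_ne_zero
      sW.apply_one_ne_zero (by linear_combination e1)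
      (by linear_combination et) (by linear_combination eP)
    rw [γt] at p₁ p₂
    refine ⟨W, W', u, r₁, r₂, mul_left_cancel₀ (mul_ne_zero two_ne_zero hρ) ?_,
      mul_left_cancel₀ (mul_ne_zero two_ne_zero hρ) ?_⟩
    · linear_combination -(Q : ℂ) ^ 2 * p₁ - W t * γ1
    · linear_combination -(Q : ℂ) ^ 2 * p₂ - W' t * γ1
  have oβ : classInner (o G) (-β) = 0 := by
    rw [classInner_neg_right, classInner_comm_of_eq_zero hβ.o, neg_zero]
  have wo := classInner_comm_of_eq_zero (sirr_inner_ne sirr_one sW oβ (by simp [w1]))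
  have wo' := classInner_comm_of_eq_zero (sirr_inner_ne sirr_one sW' oβ (by simp [w1']))
  have g3 := h.g₂.sub sirr_one.gen
  have n3 : classInner (TT ι π e₂ - o G) (TT ι π e₂ - o G) = (3 : ℕ) := by
    rw [sirr_one.norm_sub h.g₂ (h.T_o h.lc.o₂'), h.n₂]; norm_num
  have k := sW.inner_cases g3 le_rfl n3
  have k' := sW'.inner_cases g3 le_rfl n3
  rw [← sW.inner_comm g3, classInner_sub_right, wo, sub_zero] at k
  rw [← sW'.inner_comm g3, classInner_sub_right, wo', sub_zero] at k'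
  have hs : classInner W (TT ι π e₂) + classInner W' (TT ι π e₂) = 1 := by
    have := congrArg (fun f => classInner f (TT ι π e₂)) eβ
    simp only [classInner_neg_left, classInner_add_left, b₂, z₂] at this
    linear_combination -this
  rcases k with k | k | k <;> rcases k' with k' | k' | k' <;> rw [k, k'] at hs <;> norm_num at hs
  · exact key W' W sW' sW (by rw [eβ]; abel) w1' w1 k'
  · exact key W W' sW sW' eβ w1 w1' k

end SH

end H27.JT
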