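import Mathlib
import Cfsg.Agent.H27.JTCfg
import Cfsg.Agent.H27.JTLc

/-! The trivial intersection set in `V × A`. -/

set_option autoImplicit false
open Cfsg H4 H5 H17 H24 Subgroup
open scoped ComplexConjugate

namespace H27.JT

theorem mem_zpowers_of_dvd {G : Type*} [Group G] [Finite G] {x y z : G} (hy : y ∈ zpowers x)
    (hz : z ∈ zpowers x) (h : orderOf y ∣ orderOf z) : y ∈ zpowers z := by
  obtain ⟨m, rfl⟩ := mem_powers_iff_mem_zpowers.mpr hy
  obtain ⟨k, rfl⟩ := mem_powers_iff_mem_zpowers.mpr hz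
  simp only at h ⊢
  rw [orderOf_pow, orderOf_pow] at h
  have h' : (orderOf x).gcd k ∣ (orderOf x).gcd m := by
    obtain ⟨c, hc⟩ := h
    have h1 := Nat.mul_div_cancel' (Nat.gcd_dvd_left (orderOf x) m)
    have h2 := Nat.mul_div_cancel' (Nat.gcd_dvd_left (orderOf x) k)
    have h0 : 0 < orderOf x / (orderOf x).gcd m :=
      Nat.pos_of_ne_zero fun e => (orderOf_pos x).ne' (by rw [← h1, e, mul_zero])
    exact ⟨c, Nat.eq_of_mul_eq_mul_right h0 (by rw [h1]; nth_rewrite 1 [← h2]; rw [hc]; ring)⟩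
  obtain ⟨c, hc⟩ := h'.trans (Nat.gcd_dvd_right _ _)
  rw [hc, pow_mul]
  refine pow_mem (mem_zpowers_iff.mpr ⟨Nat.gcdB (orderOf x) k, ?_⟩) c
  rw [← zpow_natCast x (Nat.gcd _ _), Nat.gcd_eq_gcd_ab, zpow_add, zpow_mul, zpow_mul,
    zpow_natCast, zpow_natCast, pow_orderOf_eq_one, one_zpow, one_mul]

section Ab
variable {A : Type*} [Group A]

/-- a linear character as a function -/
def ch (φ : A →* ℂˣ) : A → ℂ := fun g => φ g

theorem ch_irr (φ : A →* ℂˣ) : IsIrrCharacter A (ch φ) := isIrrCharacter_linear φ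
theorem ch_inj {φ ψ : A →* ℂˣ} (h : ch φ = ch ψ) : φ = ψ :=
  MonoidHom.ext fun g => Units.ext (congrFun h g)
theorem ch_one : ch (1 : A →* ℂˣ) = o A := rfl
theorem ch_mul (φ ψ : A →* ℂˣ) (g : A) : ch (φ * ψ) g = ch φ g * ch ψ g := rfl
theorem ch_apply_one (φ : A →* ℂˣ) : ch φ 1 = 1 := by simp [ch]

open Classical in
theorem inner_ch [Fintype A] (φ ψ : A →* ℂˣ) :
    classInner (ch φ) (ch ψ) = if φ = ψ then 1 else 0 := by
  rw [(ch_irr φ).inner_eq_ite (ch_irr ψ)]
  exact if_congr ⟨ch_inj, fun h => h ▸ rfl⟩ rfl rfl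

theorem exists_hom_pow [Finite A] (hc : ∀ a b : A, a * b = b * a) (n : ℕ) {g : A}
    (hg : ∀ u, u ^ n ≠ g) : ∃ φ : A →* ℂˣ, φ ^ n = 1 ∧ φ g ≠ 1 := by
  let f : A →* A := MonoidHom.mk' (fun u => u ^ n) fun a b => Commute.mul_pow (hc a b) n
  have hN : f.range.Normal := ⟨fun a ha b => by rwa [hc b, mul_inv_cancel_right]⟩
  have h1 : (QuotientGroup.mk g : A ⧸ f.range) ≠ 1 := by
    rw [Ne, QuotientGroup.eq_one_iff]
    rintro ⟨u, hu⟩
    exact hg u hu
  by_contra k
  push Not at k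
  refine h1 (eq_one_of_forall_irr fun χ hχ => ?_)
  have hχ1 := hχ.apply_one_of_comm fun a b => by
    obtain ⟨a, rfl⟩ := QuotientGroup.mk_surjective a
    obtain ⟨b, rfl⟩ := QuotientGroup.mk_surjective b
    rw [← QuotientGroup.mk_mul, hc, QuotientGroup.mk_mul]
  obtain ⟨lam, rfl⟩ := hχ.isCharacter.exists_linear hχ1
  have := k (lam.comp (QuotientGroup.mk' _)) (MonoidHom.ext fun u => by
    rw [MonoidHom.pow_apply, ← map_pow, MonoidHom.comp_apply, QuotientGroup.mk'_apply,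
      (QuotientGroup.eq_one_iff (N := f.range) (u ^ n)).mpr ⟨u, rfl⟩, map_one, MonoidHom.one_apply])
  simpa using this

end Ab

/-- the configuration with an element `y` of prime order such that `C(y) = V A` -/
structure TC {G : Type*} [Group G] (t : G) (V : Subgroup G) (x r : G) (a : ℕ) (y : G) : Prop
    extends Cfg t V x r a where
  ymem : y ∈ zpowers x
  prime : (orderOf y).Prime
  seven : 7 ≤ orderOf y
  Cy : ∀ g, g * y = y * g → ∃ w ∈ V, ∃ z ∈ zpowers x, g = w * z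

namespace Cfg
variable {G : Type*} [Group G] {t : G} {V : Subgroup G} {x r : G} {a : ℕ} (h : Cfg t V x r a)
include h

theorem Vsq {v : G} (hv : v ∈ V) : v * v = 1 := by
  have := h.klein
  exact congrArg Subtype.val (IsKleinFour.mul_self (⟨v, hv⟩ : V))
theorem tt : t * t = 1 := sq_of_two h.ordt
theorem V_le {v : G} (hv : v ∈ V) : v ∈ C[V] :=
  (h.CV v).mpr ⟨v, hv, 1, one_mem _, Or.inl (mul_one v).symm⟩
theorem A_le {z : G} (hz : z ∈ zpowers x) : z ∈ C[V] :=
  (h.CV z).mpr ⟨1, one_mem _, z, hz, Or.inl (one_mul z).symm⟩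
theorem t_mem : t ∈ C[V] := (h.CV t).mpr ⟨1, one_mem _, 1, one_mem _, Or.inr (by simp)⟩
theorem VA {v z : G} (hv : v ∈ V) (hz : z ∈ zpowers x) : v * z = z * v := h.A_le hz v hv
theorem Vt {v : G} (hv : v ∈ V) : v * t = t * v := h.t_mem v hv
theorem VV {v w : G} (hv : v ∈ V) (hw : w ∈ V) : v * w = w * v := h.V_le hw v hv
theorem tA {z : G} (hz : z ∈ zpowers x) : t * z * t⁻¹ = z⁻¹ := by
  obtain ⟨k, rfl⟩ := hz
  simp only
  rw [← conj_zpow, h.inv, inv_zpow]
theorem pow_a {z : G} (hz : z ∈ zpowers x) : z ^ a = 1 := by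
  rw [← orderOf_dvd_iff_pow_eq_one, ← h.ordx]; exact orderOf_dvd_of_mem_zpowers hz
theorem odd_A {z : G} (hz : z ∈ zpowers x) : ¬ 2 ∣ orderOf z := fun k =>
  (Nat.not_even_iff_odd.mpr h.odd_a) (even_iff_two_dvd.mpr
    (k.trans (orderOf_dvd_of_pow_eq_one (h.pow_a hz))))
theorem V_pow {v : G} (hv : v ∈ V) {n : ℕ} (hn : Odd n) : v ^ n = v := by
  obtain ⟨m, rfl⟩ := hn
  rw [pow_succ, pow_mul, pow_two, h.Vsq hv, one_pow, one_mul]
theorem A_eq_one {z : G} (hz : z ∈ zpowers x) (h2 : z * z = 1) : z = 1 := by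
  by_contra k
  exact h.odd_A hz (orderOf_eq_two k h2 ▸ dvd_rfl)
theorem VA_pow {v z : G} (hv : v ∈ V) (hz : z ∈ zpowers x) : (v * z) ^ a = v := by
  rw [Commute.mul_pow (h.VA hv hz), h.pow_a hz, mul_one, h.V_pow hv h.odd_a]
theorem VA_sq {v z : G} (hv : v ∈ V) (hz : z ∈ zpowers x) : v * z * (v * z) = z * z := by
  rw [mul_assoc, ← mul_assoc z, ← h.VA hv hz, ← mul_assoc, ← mul_assoc, h.Vsq hv, one_mul]
theorem VAt_sq {v z : G} (hv : v ∈ V) (hz : z ∈ zpowers x) : v * z * t * (v * z * t) = 1 := by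
  have e : t * z * t = z⁻¹ := by rw [← h.tA hz, inv_of_two h.ordt]
  calc v * z * t * (v * z * t) = v * z * (t * v) * z * t := by group
    _ = v * (z * v) * (t * z * t) := by rw [← h.Vt hv]; group
    _ = 1 := by rw [e, ← h.VA hv hz, ← mul_assoc, h.Vsq hv]; group
theorem rr : r * r = r⁻¹ := eq_inv_of_mul_eq_one_left (by
  have := pow_orderOf_eq_one r; rw [h.ordr] at this; rw [← this, pow_three'])
theorem conj_mem {n v : G} (hn : n ∈ N[V]) (hv : v ∈ V) : n * v * n⁻¹ ∈ V :=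
  (mem_normalizer_iff.mp hn v).mp hv

theorem conj_A {n z : G} (hn : n ∈ N[V]) (hz : z ∈ zpowers x) : n * z * n⁻¹ ∈ zpowers x := by
  have h1 : n * z * n⁻¹ ∈ C[V] := fun v hv => by
    have := h.VA (h.conj_mem (inv_mem hn) hv) hz
    calc v * (n * z * n⁻¹) = n * (n⁻¹ * v * n⁻¹⁻¹ * z) * n⁻¹ := by group
      _ = n * z * n⁻¹ * v := by rw [this]; group
  obtain ⟨v, hv, w, hw, e | e⟩ := (h.CV _).mp h1
  · have := h.VA_pow hv hw
    rw [← e, conj_pow, h.pow_a hz] at this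
    rw [e, ← this]; simpa using hw
  · have := h.VAt_sq hv hw
    rw [← e] at this
    rw [h.A_eq_one hz (by
      calc z * z = n⁻¹ * (n * z * n⁻¹ * (n * z * n⁻¹)) * n := by group
        _ = 1 := by rw [this]; group)]
    simp

theorem klein_third {u v w : G} (hu : u ∈ V) (hv : v ∈ V) (hw : w ∈ V) (u1 : u ≠ 1) (v1 : v ≠ 1)
    (uv : u ≠ v) (w1 : w ≠ 1) (wu : w ≠ u) (wv : w ≠ v) : w = u * v := by
  have := h.klein
  exact congrArg Subtype.val (IsKleinFour.eq_mul_of_ne_all (x := (⟨u, hu⟩ : V)) (y := ⟨v, hv⟩)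
    (z := ⟨w, hw⟩) (by simpa using u1) (by simpa using v1) (by simpa using uv) (by simpa using w1)
    (by simpa using wu) (by simpa using wv))

theorem fpf {v : G} (hv : v ∈ V) (e : r * v * r⁻¹ = v) : v = 1 := by
  by_contra v1
  refine h.rC fun w hw => ?_
  by_contra k
  have hw' := h.conj_mem h.rN hw
  have w1 : w ≠ 1 := by rintro rfl; simp at k
  have wv : w ≠ v := by rintro rfl; exact k (mul_inv_eq_iff_eq_mul.mp e).symm
  have e1 : r * w * r⁻¹ = v * w := h.klein_third hv hw hw' v1 w1 wv.symm (by simpa using w1)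
    (fun k' => wv (by rw [← e] at k'; simpa using k'))
    (fun k' => k (mul_inv_eq_iff_eq_mul.mp k').symm)
  have e2 : r⁻¹ * w * r = w := by
    calc r⁻¹ * w * r = (r * r) * w * (r * r)⁻¹ := by rw [h.rr, inv_inv]
      _ = r * (v * w) * r⁻¹ := by rw [← e1]; group
      _ = (r * v * r⁻¹) * (r * w * r⁻¹) := by group
      _ = w := by rw [e, e1, ← mul_assoc, h.Vsq hv, one_mul]
  exact k (by calc w * r = r * (r⁻¹ * w * r) := by group
    _ = r * w := by rw [e2])

theorem exists_V : ∃ v ∈ V, v ≠ 1 := by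
  by_contra k
  push Not at k
  exact h.rC fun v hv => by rw [k v hv]; simp

theorem w_mem (i : ℕ) : (t * r) ^ i ∈ N[V] :=
  pow_mem (mul_mem (centralizer_le_normalizer _ h.t_mem) h.rN) i
theorem w_two : (t * r) ^ 2 = r⁻¹ := by
  rw [Commute.mul_pow h.rt.symm, pow_two, pow_two, h.tt, h.rr, one_mul]
theorem w_three : (t * r) ^ 3 = t := by
  rw [pow_succ', h.w_two]; group
theorem w_four : (t * r) ^ 4 = r := by
  rw [show 4 = 2 * 2 from rfl, pow_mul, h.w_two, pow_two, ← mul_inv_rev, h.rr, inv_inv]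
theorem w_five : (t * r) ^ 5 = t * r⁻¹ := by
  rw [show 5 = 3 + 2 from rfl, pow_add, h.w_two, h.w_three]

end Cfg

namespace TC
variable {G : Type*} [Group G] {t : G} {V : Subgroup G} {x r : G} {a : ℕ} {y : G}
  (h : TC t V x r a y)
include h

theorem memT {g : G} : g ∈ C{y} ↔ ∃ w ∈ V, ∃ z ∈ zpowers x, g = w * z := by
  rw [mem_centralizer_singleton_iff]
  refine ⟨h.Cy g, ?_⟩
  rintro ⟨w, hw, z, hz, rfl⟩
  rw [mul_assoc, (abl_zpowers x).comm hz h.ymem, ← mul_assoc, h.VA hw h.ymem, mul_assoc]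

theorem V_T {v : G} (hv : v ∈ V) : v ∈ C{y} := h.memT.mpr ⟨v, hv, 1, one_mem _, by simp⟩
theorem A_T {z : G} (hz : z ∈ zpowers x) : z ∈ C{y} := h.memT.mpr ⟨1, one_mem _, z, hz, by simp⟩
theorem T_le {g : G} (hg : g ∈ C{y}) : g ∈ C[V] := by
  obtain ⟨w, hw, z, hz, rfl⟩ := h.memT.mp hg
  exact mul_mem (h.V_le hw) (h.A_le hz)
theorem comm {g k : G} (hg : g ∈ C{y}) (hk : k ∈ C{y}) : g * k = k * g := by
  obtain ⟨w, hw, z, hz, rfl⟩ := h.memT.mp hk
  obtain ⟨w', hw', z', hz', e⟩ := h.memT.mp hg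
  have h1 : Commute g w := (h.T_le hg w hw).symm
  have h2 : Commute g z := by
    rw [e]; exact Commute.mul_left (h.VA hw' hz) ((abl_zpowers x).comm hz' hz)
  exact h1.mul_right h2
theorem commT (g k : C{y}) : g * k = k * g := Subtype.ext (h.comm g.2 k.2)
theorem odd_l : Odd (orderOf y) := h.prime.odd_of_ne_two (by have := h.seven; omega)
theorem mem_V {g : G} (hg : g ∈ C{y}) (h2 : g * g = 1) : g ∈ V := by
  obtain ⟨w, hw, z, hz, rfl⟩ := h.memT.mp hg
  rw [h.VA_sq hw hz] at h2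
  rwa [h.A_eq_one hz h2, mul_one]
theorem sq_ne {u : G} (hl : orderOf y ∣ orderOf u) : u * u ≠ 1 := fun k => by
  have := Nat.le_of_dvd two_pos (hl.trans (orderOf_dvd_of_pow_eq_one (by rw [pow_two, k])))
  have := h.seven
  omega
theorem t_notMem : t ∉ C{y} := fun k => h.tV (h.mem_V k h.tt)
theorem conjT {n u : G} (hn : n ∈ N[V]) (hu : u ∈ C{y}) : n * u * n⁻¹ ∈ C{y} := by
  obtain ⟨w, hw, z, hz, rfl⟩ := h.memT.mp hu
  exact h.memT.mpr ⟨_, h.conj_mem hn hw, _, h.conj_A hn hz, by group⟩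

theorem w_notMem {i : ℕ} (h0 : 0 < i) (h6 : i < 6) : (t * r) ^ i ∉ C{y} := by
  have h4 : (t * r) ^ 4 ∉ C{y} := by rw [h.w_four]; exact fun k => h.rC (h.T_le k)
  intro k
  interval_cases i
  · exact h4 (by simpa using pow_mem k 4)
  · exact h4 (by simpa [← pow_mul] using pow_mem k 2)
  · exact h.t_notMem (h.w_three ▸ k)
  · exact h4 k
  · rw [h.w_five] at k
    have := mul_mem k k
    rw [mul_assoc, ← mul_assoc r⁻¹, (Commute.inv_left h.rt).eq, ← mul_assoc, ← mul_assoc, h.tt,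
      one_mul, ← mul_inv_rev, h.rr, inv_inv] at this
    exact h.rC (h.T_le this)

theorem CV_cases {c : G} (hc : c ∈ C[V]) : c ∈ C{y} ∨ c * t ∈ C{y} := by
  obtain ⟨v, hv, z, hz, e | e⟩ := (h.CV c).mp hc
  · exact Or.inl (h.memT.mpr ⟨v, hv, z, hz, e⟩)
  · exact Or.inr (h.memT.mpr ⟨v, hv, z, hz, by rw [e, mul_assoc, h.tt, mul_one]⟩)

theorem N_dec {g : G} (hg : g ∈ N[V]) : ∃ c ∈ C{y}, ∃ i < 6, g = c * (t * r) ^ i := by
  obtain ⟨c, hc, e⟩ := h.NV g hg
  have htt : ∀ u : G, c * u = c * t * (t * u) := fun u => by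
    rw [mul_assoc, ← mul_assoc t, h.tt, one_mul]
  rcases h.CV_cases hc with k | k <;> rcases e with e | e | e
  · exact ⟨c, k, 0, by omega, by simpa using e⟩
  · exact ⟨c, k, 4, by omega, by rw [h.w_four, e]⟩
  · exact ⟨c, k, 2, by omega, by rw [h.w_two, e]⟩
  · exact ⟨_, k, 3, by omega, by rw [h.w_three, e, mul_assoc, h.tt, mul_one]⟩
  · exact ⟨_, k, 1, by omega, by rw [pow_one, e, htt]⟩
  · exact ⟨_, k, 5, by omega, by rw [h.w_five, e, htt]⟩

/-- conjugation by `(t r) ^ i` on `C(y)` -/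
def cw (i : ℕ) : C{y} →* C{y} where
  toFun u := ⟨(t * r) ^ i * u * ((t * r) ^ i)⁻¹, h.conjT (h.w_mem i) u.2⟩
  map_one' := by ext; simp
  map_mul' u v := by ext; simp only [Subgroup.coe_mul]; group

theorem cw_coe (i : ℕ) (u : C{y}) : (h.cw i u : G) = (t * r) ^ i * u * ((t * r) ^ i)⁻¹ := rfl
theorem cw_surj (i : ℕ) : Function.Surjective (h.cw i) := fun u =>
  ⟨⟨_, h.conjT (inv_mem (h.w_mem i)) u.2⟩, Subtype.ext (by rw [cw_coe]; simp only; group)⟩
theorem comp_cw_zero (φ : C{y} →* ℂˣ) : φ.comp (h.cw 0) = φ :=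
  MonoidHom.ext fun u => congrArg φ (Subtype.ext (by simp [cw_coe]))

variable [Finite G]

theorem y_mem {u : G} (hu : u ∈ C{y}) (hl : orderOf y ∣ orderOf u) : y ∈ zpowers u := by
  obtain ⟨w, hw, z, hz, rfl⟩ := h.memT.mp hu
  have h1 : z * z ∈ zpowers (w * z) := by
    rw [← h.VA_sq hw hz]; exact mul_mem (mem_zpowers _) (mem_zpowers _)
  refine zpowers_le.mpr h1 (mem_zpowers_of_dvd h.ymem (mul_mem hz hz) ?_)
  have h2 : orderOf (w * z) ∣ 2 * orderOf (z * z) := by
    rw [orderOf_dvd_iff_pow_eq_one, pow_mul, pow_two, h.VA_sq hw hz, pow_orderOf_eq_one]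
  exact (Nat.coprime_two_right.mpr h.odd_l).dvd_of_dvd_mul_left (hl.trans h2)

theorem C_eq {u : G} (hu : u ∈ C{y}) (hl : orderOf y ∣ orderOf u) : C{u} = C{y} :=
  le_antisymm (C1_le_C1_of_mem_zpowers (h.y_mem hu hl)) fun _ hg =>
    mem_centralizer_singleton_iff.mpr (h.comm hg hu)

theorem TI {u g : G} (hu : u ∈ C{y}) (hl : orderOf y ∣ orderOf u) (hg : g * u * g⁻¹ ∈ C{y}) :
    g ∈ N[V] := by
  have e := h.C_eq hg (by rwa [H17.orderOf_conj])
  refine mem_normalizer_fintype fun v hv => h.mem_V ?_ ?_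
  · rw [← e, mem_centralizer_singleton_iff]
    have := h.comm (h.V_T hv) hu
    calc g * v * g⁻¹ * (g * u * g⁻¹) = g * (v * u) * g⁻¹ := by group
      _ = g * u * g⁻¹ * (g * v * g⁻¹) := by rw [this]; group
  · calc g * v * g⁻¹ * (g * v * g⁻¹) = g * (v * v) * g⁻¹ := by group
      _ = 1 := by rw [h.Vsq hv]; group

theorem card_T : ♯C{y} = 4 * a := by
  have := h.klein
  let f : V × zpowers x → C{y} := fun u => ⟨u.1 * u.2, mul_mem (h.V_T u.1.2) (h.A_T u.2.2)⟩
  have hf : Function.Bijective f := by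
    constructor
    · rintro ⟨v, z⟩ ⟨v', z'⟩ e
      have e' : (v : G) * z = v' * z' := congrArg Subtype.val e
      have e1 : (v : G) = v' := by rw [← h.VA_pow v.2 z.2, e', h.VA_pow v'.2 z'.2]
      rw [e1] at e'
      exact Prod.ext (Subtype.ext e1) (Subtype.ext (mul_left_cancel e'))
    · intro u
      obtain ⟨w, hw, z, hz, e⟩ := h.memT.mp u.2
      exact ⟨(⟨w, hw⟩, ⟨z, hz⟩), Subtype.ext e.symm⟩
  rw [← Nat.card_eq_of_bijective f hf, Nat.card_prod, IsKleinFour.card_four, Nat.card_zpowers,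
    h.ordx]

end TC

namespace TC
variable {G : Type*} [Group G] [Fintype G] {t : G} {V : Subgroup G} {x r : G} {a : ℕ} {y : G}
  (h : TC t V x r a y)
include h

theorem ind_apply (θ : C{y} → ℂ) {u : C{y}} (hl : orderOf y ∣ orderOf (u : G)) :
    indFun C{y} θ u = ∑ i ∈ Finset.range 6, θ (h.cw i u) := by
  classical
  have := Fintype.ofFinite C{y}
  rw [indFun_apply_eq_card_centralizer, h.C_eq u.2 hl, div_self (H4.card_ne_zero _), one_mul]
  symm
  refine Finset.sum_nbij (fun i => h.cw i u) ?_ ?_ ?_ fun _ _ => rfl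
  · intro i _
    simp only [Finset.mem_filter, Finset.mem_univ, true_and]
    exact isConj_iff.mpr ⟨_, rfl⟩
  · have key : ∀ i j, i < j → j < 6 → h.cw i u ≠ h.cw j u := by
      intro i j hij hj e
      obtain ⟨k, rfl⟩ := Nat.exists_eq_add_of_le hij.le
      have e' := congrArg Subtype.val e
      rw [cw_coe, cw_coe, pow_add] at e'
      refine h.w_notMem (i := k) (by omega) (by omega) ?_
      rw [← h.C_eq u.2 hl, mem_centralizer_singleton_iff]
      calc (t * r) ^ k * u = ((t * r) ^ i)⁻¹ * ((t * r) ^ i * (t * r) ^ k * u *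
          ((t * r) ^ i * (t * r) ^ k)⁻¹) * (t * r) ^ i * (t * r) ^ k := by group
        _ = u * (t * r) ^ k := by rw [← e']; group
    intro i hi j hj e
    simp only [Finset.coe_range, Set.mem_Iio] at hi hj
    rcases lt_trichotomy i j with k | k | k
    · exact absurd e (key i j k hj)
    · exact k
    · exact absurd e.symm (key j i k hi)
  · intro v hv
    simp only [Finset.coe_filter, Finset.mem_univ, true_and, Set.mem_setOf_eq] at hv
    obtain ⟨g, hg⟩ := isConj_iff.mp hv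
    obtain ⟨c, hc, i, hi, rfl⟩ := h.N_dec (h.TI u.2 hl (hg ▸ v.2))
    refine ⟨i, by simpa using hi, Subtype.ext ?_⟩
    have := h.comm hc (h.cw i u).2
    rw [← hg]
    simp only [cw_coe] at this ⊢
    calc (t * r) ^ i * u * ((t * r) ^ i)⁻¹ = (t * r) ^ i * u * ((t * r) ^ i)⁻¹ * c * c⁻¹ := by group
      _ = _ := by rw [← this]; group

theorem gam_eq (hG : ∀ u : G, orderOf u = 2 → IsConj t u) {u : G} (hu : u ∈ C{y})
    (hl : orderOf y ∣ orderOf u) : gam t t u = (4 * a : ℕ) := by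
  rw [gam_eq_card h.ordt hG, ← h.card_T]
  have key : ∀ s, s * t ∈ C{y} → orderOf s = 2 := by
    intro s hs
    obtain ⟨w, hw, z, hz, e⟩ := h.memT.mp hs
    have e' : s = w * z * t := by rw [← e, mul_assoc, h.tt, mul_one]
    refine orderOf_eq_two ?_ (e' ▸ h.VAt_sq hw hz)
    rintro rfl
    exact h.t_notMem (by simpa using hs)
  have hiff : ∀ s : G, (orderOf s = 2 ∧ orderOf (s * u) = 2) ↔ s * t ∈ C{y} := by
    intro s
    constructor
    · rintro ⟨h1, h2⟩
      have hi := inverts_of_two h1 (sq_of_two h2)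
      have hN := h.TI hu hl (hi ▸ inv_mem hu)
      have hC : s ∈ C[V] := by
        have hs := sq_of_two h1
        have hn : ∀ n c, n ∈ N[V] → c ∈ C[V] → c * n * (c * n) = 1 → n * n ∈ C[V] := by
          intro n c hn hc e
          have : n * c * n⁻¹ ∈ C[V] := fun v hv => by
            have := hc _ (h.conj_mem (inv_mem hn) hv)
            calc v * (n * c * n⁻¹) = n * (n⁻¹ * v * n⁻¹⁻¹ * c) * n⁻¹ := by group
              _ = n * c * n⁻¹ * v := by rw [this]; group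
          have e' : n * n = (c * (n * c * n⁻¹))⁻¹ * (c * n * (c * n)) := by group
          rw [e', e, mul_one]
          exact inv_mem (mul_mem hc this)
        obtain ⟨c, hc, rfl | rfl | rfl⟩ := h.NV s hN
        · exact hc
        · have := hn _ _ h.rN hc hs
          rw [h.rr] at this
          exact absurd (by simpa using inv_mem this) h.rC
        · have := hn _ _ (inv_mem h.rN) hc hs
          rw [← mul_inv_rev, h.rr, inv_inv] at this
          exact absurd this h.rC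
      refine (h.CV_cases hC).resolve_left fun k => h.sq_ne hl ?_
      rw [h.comm k hu, mul_inv_cancel_right] at hi
      exact mul_eq_one_iff_eq_inv.mpr hi
    · intro hs
      refine ⟨key s hs, key _ ?_⟩
      have := mul_mem hs (h.conjT (centralizer_le_normalizer _ h.t_mem) hu)
      rwa [inv_of_two h.ordt, ← mul_assoc, ← mul_assoc, mul_assoc s, h.tt, mul_one] at this
  rw [Nat.card_congr (Equiv.subtypeEquivRight hiff)]
  congr 1
  exact Nat.card_congr ((Equiv.mulRight t).subtypeEquiv fun s => Iff.rfl)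

end TC

end H27.JT
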