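import Mathlib
import Cfsg.Agent.H27.JTTI
import Cfsg.Agent.H27.JTAbs

/-! The characters induced from the trivial intersection set: construction. -/

set_option autoImplicit false
open Cfsg H4 H5 H17 H24 Subgroup
open scoped ComplexConjugate

namespace H27.JT

theorem eq_of_sq_eq {A : Type*} [Group A] {φ ψ : A} {n : ℕ} (hn : Odd n) (h1 : φ ^ n = 1)
    (h2 : ψ ^ n = 1) (h : φ ^ 2 = ψ ^ 2) : φ = ψ := by
  obtain ⟨m, rfl⟩ := hn
  rw [pow_succ, pow_mul] at h1 h2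
  rw [h] at h1
  exact mul_left_cancel (h1.trans h2.symm)

theorem pow_odd_of_sq {A : Type*} [Group A] {φ : A} {n : ℕ} (hn : Odd n) (h : φ ^ 2 = 1) :
    φ ^ n = φ := by
  obtain ⟨m, rfl⟩ := hn
  rw [pow_succ, pow_mul, h, one_pow, one_mul]

theorem pow_comp' {A : Type*} [Group A] (φ : A →* ℂˣ) (f : A →* A) (n : ℕ) :
    (φ ^ n).comp f = φ.comp f ^ n := MonoidHom.ext fun _ => rfl

theorem hone_pow {A : Type*} [Group A] (n : ℕ) : (1 : A →* ℂˣ) ^ n = 1 :=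
  MonoidHom.ext fun _ => one_pow n
theorem hmul_pow {A : Type*} [Group A] (φ ψ : A →* ℂˣ) (n : ℕ) : (φ * ψ) ^ n = φ ^ n * ψ ^ n :=
  MonoidHom.ext fun _ => mul_pow _ _ n
theorem hpow_two {A : Type*} [Group A] (φ : A →* ℂˣ) : φ ^ 2 = φ * φ :=
  MonoidHom.ext fun _ => pow_two _

theorem hmul_one {A : Type*} [Group A] (φ : A →* ℂˣ) : φ * 1 = φ :=
  MonoidHom.ext fun _ => mul_one _
theorem hone_mul {A : Type*} [Group A] (φ : A →* ℂˣ) : 1 * φ = φ :=
  MonoidHom.ext fun _ => one_mul _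
theorem hpow_odd {A : Type*} [Group A] {φ : A →* ℂˣ} {n : ℕ} (hn : Odd n) (h : φ ^ 2 = 1) :
    φ ^ n = φ := pow_odd_of_sq hn h
theorem hsq_ne {A : Type*} [Group A] {φ : A →* ℂˣ} {n : ℕ} (hn : Odd n) (h : φ ^ n = 1)
    (h1 : φ ≠ 1) : φ ^ 2 ≠ 1 := fun e => h1 ((hpow_odd hn e).symm.trans h)
theorem heq_of_sq {A : Type*} [Group A] {φ ψ : A →* ℂˣ} {n : ℕ} (hn : Odd n) (h1 : φ ^ n = 1)
    (h2 : ψ ^ n = 1) (h : φ ^ 2 = ψ ^ 2) : φ = ψ := eq_of_sq_eq hn h1 h2 h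

theorem JH.exists_y {G L : Type*} [Group G] [Finite G] [Group L] {t : G} {ι : L →* G}
    {π : C{t} →* L} (h : JH t ι π) (hG : ∀ u : G, orderOf u = 2 → IsConj t u) {v v' z : G}
    (hv : orderOf v = 2) (hv' : orderOf v' = 2) (hvv : v' ≠ v) (c₁ : v' * v = v * v')
    (c₂ : z * v = v * z) (c₃ : z * v' = v' * z) (hz : ¬ 2 ∣ orderOf z) (z1 : z ≠ 1) :
    ∃ Y : L, ¬ 2 ∣ orderOf Y ∧ IsConj (v * z) (t * ι Y) ∧ Y ≠ 1 ∧
      ∃ s, orderOf s = 2 ∧ Y * s = s * Y := by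
  obtain ⟨g, hg⟩ := isConj_iff.mp (hG v hv).symm
  have hc : ∀ a b : G, a * b = b * a → g * a * g⁻¹ * (g * b * g⁻¹) = g * b * g⁻¹ * (g * a * g⁻¹) :=
    fun a b e => by
      calc g * a * g⁻¹ * (g * b * g⁻¹) = g * (a * b) * g⁻¹ := by group
        _ = _ := by rw [e]; group
  obtain ⟨Y, e | e⟩ := h.cases (g := g * z * g⁻¹)
    (mem_centralizer_singleton_iff.mpr (hg ▸ hc _ _ c₂))
  swap
  · exact absurd (by rw [← H17.orderOf_conj g z, e]; exact h.even_tι Y) hz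
  refine ⟨Y, by rwa [← h.orderOf_ι, ← e, H17.orderOf_conj], isConj_iff.mpr ⟨g, ?_⟩, ?_, ?_⟩
  · rw [← e, ← hg]; group
  · rintro rfl
    exact z1 (by simpa using e)
  · have c := hc _ _ c₃
    have o2 := H17.orderOf_conj g v'
    obtain ⟨s, e' | e'⟩ := h.cases (g := g * v' * g⁻¹)
      (mem_centralizer_singleton_iff.mpr (hg ▸ hc _ _ c₁))
    · rw [e', h.orderOf_ι, hv'] at o2
      rw [e, e', ← map_mul, ← map_mul] at c
      exact ⟨s, o2, h.inj c⟩
    · rw [e, e', ← mul_assoc, h.comm, mul_assoc, mul_assoc, ← map_mul, ← map_mul] at c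
      refine ⟨s, orderOf_eq_two ?_ ?_, h.inj (mul_left_cancel c)⟩
      · rintro rfl
        rw [map_one, mul_one, ← hg] at e'
        exact hvv (by simpa using e')
      · rw [e', hv'] at o2
        have := sq_of_two o2
        rw [mul_assoc, ← mul_assoc (ι s), h.comm, ← mul_assoc, ← mul_assoc, h.sq, one_mul,
          ← map_mul] at this
        exact h.inj (by simpa using this)

namespace TC
section Chars
variable {G : Type*} [Group G] {t : G} {V : Subgroup G} {x r : G} {a : ℕ} {y : G}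
  (h : TC t V x r a y)
include h

theorem exists_lam [Finite G] :
    ∃ lam : C{y} →* ℂˣ, lam ^ orderOf y = 1 ∧ lam ⟨x, h.A_T (mem_zpowers x)⟩ ≠ 1 := by
  refine exists_hom_pow h.commT _ fun u hu => ?_
  obtain ⟨w, hw, z, hz, e⟩ := h.memT.mp u.2
  have e1 : (u : G) ^ orderOf y = x := congrArg Subtype.val hu
  rw [e, Commute.mul_pow (h.VA hw hz), h.V_pow hw h.odd_l] at e1
  have e2 := h.VA_pow hw (pow_mem hz (orderOf y))
  rw [e1, h.pow_a (mem_zpowers x)] at e2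
  rw [← e2, one_mul] at e1
  obtain ⟨k, rfl⟩ := hz
  obtain ⟨m, hm⟩ := h.ymem
  simp only at e1 hm
  have : y = 1 := by
    calc y = ((x ^ k) ^ orderOf y) ^ m := by rw [e1, hm]
      _ = ((x ^ m) ^ orderOf y) ^ k := by
          simp only [← zpow_natCast, ← zpow_mul]; congr 1; ring
      _ = 1 := by rw [hm, pow_orderOf_eq_one, one_zpow]
  have h7 := h.seven
  rw [this, orderOf_one] at h7
  omega

theorem lam_supp {lam : C{y} →* ℂˣ} (hl : lam ^ orderOf y = 1) {u : C{y}} (hu : lam u ≠ 1) :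
    orderOf y ∣ orderOf (u : G) := by
  have h1 : orderOf (lam u) ∣ orderOf y := orderOf_dvd_of_pow_eq_one (DFunLike.congr_fun hl u)
  rcases (Nat.dvd_prime h.prime).mp h1 with e | e
  · exact absurd (orderOf_eq_one_iff.mp e) hu
  · rw [← e, Subgroup.orderOf_coe]; exact orderOf_map_dvd lam u

theorem lam_ne {lam : C{y} →* ℂˣ} (hl : lam ^ orderOf y = 1)
    (hx : lam ⟨x, h.A_T (mem_zpowers x)⟩ ≠ 1) {i : ℕ} (h0 : 0 < i) (h6 : i < 6) :
    lam ≠ lam.comp (h.cw i) := by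
  intro e
  obtain ⟨k, hk⟩ := h.conj_A (h.w_mem i) (mem_zpowers x)
  simp only at hk
  have e1 := DFunLike.congr_fun e ⟨x, h.A_T (mem_zpowers x)⟩
  have e2 : h.cw i ⟨x, h.A_T (mem_zpowers x)⟩ = ⟨x, h.A_T (mem_zpowers x)⟩ ^ k :=
    Subtype.ext hk.symm
  rw [MonoidHom.comp_apply, e2, map_zpow] at e1
  have h1 : orderOf (lam ⟨x, h.A_T (mem_zpowers x)⟩) = orderOf y :=
    ((Nat.dvd_prime h.prime).mp (orderOf_dvd_of_pow_eq_one (DFunLike.congr_fun hl _))).resolve_left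
      fun e => hx (orderOf_eq_one_iff.mp e)
  have h2 : (orderOf y : ℤ) ∣ k - 1 := by
    rw [← h1, orderOf_dvd_iff_zpow_eq_one, zpow_sub, ← e1, zpow_one, mul_inv_cancel]
  rw [orderOf_dvd_iff_zpow_eq_one, zpow_sub, zpow_one, mul_inv_eq_one] at h2
  refine h.w_notMem h0 h6 (mem_centralizer_singleton_iff.mpr (mul_inv_eq_iff_eq_mul.mp ?_))
  obtain ⟨m, hm⟩ := h.ymem
  simp only at hm
  calc (t * r) ^ i * y * ((t * r) ^ i)⁻¹ = ((t * r) ^ i * x * ((t * r) ^ i)⁻¹) ^ m := by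
        rw [conj_zpow, hm]
    _ = y ^ k := by rw [← hk, ← hm, ← zpow_mul, ← zpow_mul, mul_comm]
    _ = y := h2

theorem mu_A {μ : C{y} →* ℂˣ} (hμ : μ ^ 2 = 1) {z : G} (hz : z ∈ zpowers x) :
    μ ⟨z, h.A_T hz⟩ = 1 := by
  have h1 : μ ⟨z, h.A_T hz⟩ ^ 2 = 1 := DFunLike.congr_fun hμ _
  rw [← pow_odd_of_sq h.odd_a h1, ← map_pow]
  exact (congrArg μ (Subtype.ext (h.pow_a hz))).trans (map_one μ)

theorem mu_apply {μ : C{y} →* ℂˣ} (hμ : μ ^ 2 = 1) {v z : G} (hv : v ∈ V) (hz : z ∈ zpowers x)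
    (k : v * z ∈ C{y}) : μ ⟨v * z, k⟩ = μ ⟨v, h.V_T hv⟩ := by
  have : (⟨v * z, k⟩ : C{y}) = ⟨v, h.V_T hv⟩ * ⟨z, h.A_T hz⟩ := rfl
  rw [this, map_mul, h.mu_A hμ hz, mul_one]

theorem mu_ext {μ μ' : C{y} →* ℂˣ} (hμ : μ ^ 2 = 1) (hμ' : μ' ^ 2 = 1)
    (e : ∀ v (hv : v ∈ V), μ ⟨v, h.V_T hv⟩ = μ' ⟨v, h.V_T hv⟩) : μ = μ' := by
  ext1 ⟨u, hu⟩
  obtain ⟨w, hw, z, hz, rfl⟩ := h.memT.mp hu
  rw [h.mu_apply hμ hw hz, h.mu_apply hμ' hw hz, e w hw]

theorem mu_comp_sq {μ : C{y} →* ℂˣ} (hμ : μ ^ 2 = 1) (i : ℕ) : μ.comp (h.cw i) ^ 2 = 1 := by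
  rw [← pow_comp', hμ, MonoidHom.one_comp]

theorem mu_three {μ : C{y} →* ℂˣ} (hμ : μ ^ 2 = 1) : μ = μ.comp (h.cw 3) :=
  h.mu_ext hμ (h.mu_comp_sq hμ 3) fun v hv => congrArg μ (Subtype.ext (by
    simp only [cw_coe, h.w_three]; rw [← h.Vt hv, mul_inv_cancel_right]))

theorem fpf_w {i : ℕ} (hi : ¬ 3 ∣ i) {v : G} (hv : v ∈ V)
    (e : (t * r) ^ i * v * ((t * r) ^ i)⁻¹ = v) : v = 1 := by
  have h1 : (t * r) ^ i ∈ C{v} := mem_centralizer_singleton_iff.mpr (mul_inv_eq_iff_eq_mul.mp e)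
  have h3 : (t * r) ^ 3 ∈ C{v} := by
    rw [h.w_three]; exact mem_centralizer_singleton_iff.mpr (h.Vt hv).symm
  have h4 : (t * r) ^ 4 ∈ C{v} := by
    rw [← Nat.div_add_mod i 3, pow_add, pow_mul] at h1
    have h2 := (mul_mem_cancel_left (pow_mem h3 _)).mp h1
    have : i % 3 = 1 ∨ i % 3 = 2 := by omega
    rcases this with k | k <;> rw [k] at h2
    · simpa using pow_mem h2 4
    · simpa [← pow_mul] using pow_mem h2 2
  rw [h.w_four, mem_centralizer_singleton_iff] at h4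
  exact h.fpf hv (mul_inv_eq_iff_eq_mul.mpr h4)

theorem mu_ne {μ : C{y} →* ℂˣ} (hμ : μ ^ 2 = 1) (h1 : μ ≠ 1) {i : ℕ} (hi : ¬ 3 ∣ i) :
    μ ≠ μ.comp (h.cw i) := by
  intro e
  refine h1 (h.mu_ext hμ (hone_pow 2) fun v hv => ?_)
  by_cases v1 : v = 1
  · subst v1; exact map_one μ
  have hn := h.w_mem i
  have hv' := h.conj_mem hn hv
  have hv'' := h.conj_mem hn hv'
  have e1 : ∀ w (hw : w ∈ V), μ ⟨_, h.V_T (h.conj_mem hn hw)⟩ = μ ⟨w, h.V_T hw⟩ := fun w hw =>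
    (DFunLike.congr_fun e ⟨w, h.V_T hw⟩).symm
  have n1 : (t * r) ^ i * v * ((t * r) ^ i)⁻¹ ≠ 1 := by simpa using v1
  have e2 := h.klein_third hv hv' hv'' v1 n1 (fun k => v1 (h.fpf_w hi hv k.symm))
    (by simpa using v1) (fun k => v1 (h.fpf_w (i := i * 2) (by omega) hv (by
      rw [pow_mul, pow_two]; nth_rewrite 2 [← k]; group))) fun k => n1 (h.fpf_w hi hv' k)
  have e3 := e1 _ hv'
  have e4 : (⟨_, h.V_T hv''⟩ : C{y}) = ⟨v, h.V_T hv⟩ * ⟨_, h.V_T hv'⟩ := Subtype.ext e2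
  rw [e4, map_mul, e1 v hv] at e3
  simpa using e3

theorem comp_ne_one {φ : C{y} →* ℂˣ} (h1 : φ ≠ 1) (i : ℕ) : φ.comp (h.cw i) ≠ 1 := fun e =>
  h1 (MonoidHom.ext fun u => by
    obtain ⟨w, rfl⟩ := h.cw_surj i u
    exact DFunLike.congr_fun e w)

theorem exists_mu [Finite G] : ∃ μ μ' : C{y} →* ℂˣ, μ ^ 2 = 1 ∧ μ' ^ 2 = 1 ∧ μ ≠ 1 ∧ μ' ≠ 1 ∧
    μ * μ' ≠ 1 ∧ ∀ u : C{y}, 2 ∣ orderOf (u : G) → (1 + ch μ u) * (1 + ch μ' u) = 0 := by
  obtain ⟨v, hv, v1⟩ := h.exists_V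
  obtain ⟨μ, hμ, hμv⟩ := exists_hom_pow h.commT 2 (g := ⟨v, h.V_T hv⟩) fun u hu => by
    obtain ⟨w, hw, z, hz, e⟩ := h.memT.mp u.2
    have e1 : (u : G) ^ 2 = v := congrArg Subtype.val hu
    rw [e, pow_two, h.VA_sq hw hz] at e1
    exact v1 (h.A_eq_one (e1 ▸ mul_mem hz hz) (h.Vsq hv))
  have h1 : μ ≠ 1 := fun e => hμv (by rw [e]; rfl)
  have hμ' := h.mu_comp_sq hμ 1
  have h1' := h.comp_ne_one h1 1
  have hne := h.mu_ne hμ h1 (i := 1) (by omega)
  generalize μ.comp (h.cw 1) = μ' at *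
  have val : ∀ {φ : C{y} →* ℂˣ}, φ ^ 2 = 1 → ∀ u, φ u = 1 ∨ φ u = -1 := fun {φ} hφ u =>
    by
      have e : φ u ^ 2 = 1 := DFunLike.congr_fun hφ u
      have e' : (φ u : ℂ) ^ 2 = 1 := by rw [← Units.val_pow_eq_pow_val, e, Units.val_one]
      rcases sq_eq_one_iff.mp e' with k | k
      · exact Or.inl (Units.ext k)
      · exact Or.inr (Units.ext k)
  refine ⟨μ, μ', hμ, hμ', h1, h1', fun e => hne ?_, ?_⟩
  · rw [hpow_two] at hμ
    exact mul_left_cancel (hμ.trans e.symm)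
  · rintro ⟨u, hu⟩ h2
    obtain ⟨w, hw, z, hz, rfl⟩ := h.memT.mp hu
    simp only [ch, h.mu_apply hμ hw hz, h.mu_apply hμ' hw hz]
    have w1 : w ≠ 1 := by rintro rfl; exact h.odd_A hz (by simpa using h2)
    rcases val hμ ⟨w, h.V_T hw⟩ with k | k
    swap
    · simp [k]
    rcases val hμ' ⟨w, h.V_T hw⟩ with k' | k'
    swap
    · simp [k']
    exfalso
    have key : ∀ {φ : C{y} →* ℂˣ}, φ ^ 2 = 1 → φ ≠ 1 → φ ⟨w, h.V_T hw⟩ = 1 →
        ∀ u (hu : u ∈ V), u ≠ 1 → u ≠ w → φ ⟨u, h.V_T hu⟩ = -1 := by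
      intro φ hφ φ1 φw u hu u1 uw
      refine (val hφ _).resolve_left fun φu => φ1 (h.mu_ext hφ (hone_pow 2) fun s hs => ?_)
      by_cases s1 : s = 1
      · subst s1; exact map_one φ
      by_cases sw : s = w
      · subst sw; exact φw
      by_cases su : s = u
      · subst su; exact φu
      have : (⟨s, h.V_T hs⟩ : C{y}) = ⟨w, h.V_T hw⟩ * ⟨u, h.V_T hu⟩ :=
        Subtype.ext (h.klein_third hw hu hs w1 u1 uw.symm s1 sw su)
      rw [this, map_mul, φw, φu]; simp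
    refine hne (h.mu_ext hμ hμ' fun s hs => ?_)
    by_cases s1 : s = 1
    · subst s1; exact (map_one μ).trans (map_one μ').symm
    by_cases sw : s = w
    · subst sw; rw [k, k']
    rw [key hμ h1 k s hs s1 sw, key hμ' h1' k' s hs s1 sw]

open Classical in
/-- the number of conjugates of `ψ` equal to `φ` -/
noncomputable def dl (φ ψ : C{y} →* ℂˣ) : ℂ :=
  ∑ i ∈ Finset.range 6, if φ = ψ.comp (h.cw i) then 1 else 0

theorem dl_zero {φ ψ : C{y} →* ℂˣ} (e : ∀ i, φ ≠ ψ.comp (h.cw i)) : h.dl φ ψ = 0 :=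
  Finset.sum_eq_zero fun i _ => if_neg (e i)

theorem dl_one_one : h.dl 1 1 = 6 := by simp [dl]

theorem dl_self {φ : C{y} →* ℂˣ} (e : ∀ i, 0 < i → i < 6 → φ ≠ φ.comp (h.cw i)) :
    h.dl φ φ = 1 := by
  simp only [dl, Finset.sum_range_succ, h.comp_cw_zero, if_neg (e 1 (by omega) (by omega)),
    if_neg (e 2 (by omega) (by omega)), if_neg (e 3 (by omega) (by omega)),
    if_neg (e 4 (by omega) (by omega)), if_neg (e 5 (by omega) (by omega))]
  norm_num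

theorem dl_mu {μ : C{y} →* ℂˣ} (hμ : μ ^ 2 = 1) (h1 : μ ≠ 1) : h.dl μ μ = 2 := by
  simp only [dl, Finset.sum_range_succ, h.comp_cw_zero, ← h.mu_three hμ,
    if_neg (h.mu_ne hμ h1 (i := 1) (by omega)), if_neg (h.mu_ne hμ h1 (i := 2) (by omega)),
    if_neg (h.mu_ne hμ h1 (i := 4) (by omega)), if_neg (h.mu_ne hμ h1 (i := 5) (by omega))]
  norm_num

end Chars

variable {G : Type*} [Group G] [Fintype G] {t : G} {V : Subgroup G} {x r : G} {a : ℕ} {y : G}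
  (h : TC t V x r a y)
include h

theorem inner_ind {φ₁ φ₂ : C{y} →* ℂˣ} (φ₃ φ₄ : C{y} →* ℂˣ)
    (hs : ∀ u, (ch φ₁ - ch φ₂) u ≠ 0 → orderOf y ∣ orderOf (u : G)) :
    classInner (indFun C{y} (ch φ₁ - ch φ₂)) (indFun C{y} (ch φ₃ - ch φ₄)) =
      h.dl φ₁ φ₃ - h.dl φ₁ φ₄ - h.dl φ₂ φ₃ + h.dl φ₂ φ₄ := by
  have := Fintype.ofFinite C{y}
  rw [H4.classInner_indFun_left _ _ (indFun_classFun _ _), inner_congr_right
    (ψ' := ∑ i ∈ Finset.range 6, (ch (φ₃.comp (h.cw i)) - ch (φ₄.comp (h.cw i)))),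
    classInner_sum_right]
  · simp only [classInner_sub_left, classInner_sub_right, inner_ch, dl, Finset.sum_sub_distrib]
    ring_nf
  · intro u hu
    rw [h.ind_apply _ (hs u hu), Finset.sum_apply]; rfl

theorem Phi_ind (hG : ∀ u : G, orderOf u = 2 → IsConj t u) [Fintype C{y}] {ψ : C{y} → ℂ}
    (hs : ∀ u, ψ u ≠ 0 → orderOf y ∣ orderOf (u : G)) :
    Phi t (indFun C{y} ψ) =
      4 * a * classInner ψ (o _) * (Nat.card G / ((C{t}).index : ℂ) ^ 2) := by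
  rw [Phi, H4.classInner_indFun_left _ _ (gam_classFun t t), inner_congr_right
    (ψ' := fun _ => ((4 * a : ℕ) : ℂ)) fun u hu => h.gam_eq hG u.2 (hs u hu), inner_const_right]
  push_cast; rfl

theorem ind_t {ψ : C{y} → ℂ} (hs : ∀ u, ψ u ≠ 0 → orderOf y ∣ orderOf (u : G)) :
    indFun C{y} ψ t = 0 := by
  refine indFun_eq_zero _ _ fun u hu => by_contra fun k => h.sq_ne (hs u k) ?_
  exact sq_of_two (by rw [← orderOf_eq_of_isConj hu, h.ordt])

theorem block_res {M : Ideal AlgInt} [Fact (orderOf y).Prime] [PM (orderOf y) M] (χ : Irr G)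
    {u : C{y}} (hu : orderOf y ∣ orderOf (u : G)) :
    blockPart (principalBlock M C{y}) (fun k => χ.1 k) u = ind (principalBlock M G) χ * χ.1 u := by
  have hy : PElt (orderOf y) y := PElt.iff_pow.mpr ⟨1, by rw [pow_one, pow_orderOf_eq_one]⟩
  have hall := exists_indRel_centralizer M hy
  have e := second_main (M := M) (C{y}).subtype_injective hall (h := u) (by
    rw [Subgroup.range_subtype, Subgroup.coe_subtype, h.C_eq (pp_mem u.2)
      ((pElt_pp _).dvd_orderOf fun k => pp_eq_one_iff.mp k hu)]) (principal_mem_ZS G M)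
    χ.2.classFun
  rw [indSet_principal (C{y}).subtype_injective hall, blockPart_irr] at e
  exact e.symm

theorem disj {lam μ : C{y} →* ℂˣ} (hl : lam ^ orderOf y = 1) (hμ : μ ^ 2 = 1) (h1 : μ ≠ 1)
    {χ : G → ℂ} (hχ : IsIrrCharacter G χ) :
    classInner χ (indFun C{y} (ch 1 - ch lam)) = 0 ∨
      classInner χ (indFun C{y} (ch μ - ch (μ * lam))) = 0 := by
  have := Fintype.ofFinite C{y}
  have : Fact (orderOf y).Prime := ⟨h.prime⟩
  obtain ⟨M, hM⟩ := exists_PM (orderOf y)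
  rw [H4.classInner_indFun_right _ _ hχ.classFun, H4.classInner_indFun_right _ _ hχ.classFun]
  have key := fun u hu => h.block_res (M := M) ⟨χ, hχ⟩ (u := u) hu
  have ib := fun φ : C{y} →* ℂˣ =>
    inner_blockPart (principalBlock M C{y}) (fun k => χ k) ⟨ch φ, ch_irr φ⟩
  simp only at key ib
  by_cases k : (⟨χ, hχ⟩ : Irr G) ∈ principalBlock M G
  · right
    have hV : (V.subgroupOf C{y}).Normal := ⟨fun a ha b => by rwa [h.commT b, mul_inv_cancel_right]⟩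
    have hcard : ¬ orderOf y ∣ Nat.card (V.subgroupOf C{y}) := by
      have := h.klein
      rw [Nat.card_congr (subgroupOfEquivOfLe fun v hv => h.V_T hv).toEquiv, IsKleinFour.card_four]
      intro k
      have := Nat.le_of_dvd (by norm_num) k
      have := h.seven
      omega
    have nb : ∀ φ : C{y} →* ℂˣ, φ ^ orderOf y = μ →
        (⟨ch φ, ch_irr φ⟩ : Irr C{y}) ∉ principalBlock M C{y} := by
      intro φ hφ hb
      rw [principalBlock_eq, mem_blockOf] at hb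
      have := hb.ker hcard fun _ _ => rfl
      refine h1 (h.mu_ext hμ (hone_pow 2) fun v hv => ?_)
      have e := this ⟨v, h.V_T hv⟩ hv
      simp only [ch, map_one] at e
      rw [← hφ, MonoidHom.pow_apply, Units.ext e, one_pow]; rfl
    rw [inner_congr_left (φ' := blockPart (principalBlock M C{y}) fun k => χ k),
      classInner_sub_right, ib, ib, ind_of_notMem (nb _ (pow_odd_of_sq h.odd_l hμ)),
      ind_of_notMem (nb _ (by rw [hmul_pow, hl, hmul_one, hpow_odd h.odd_l hμ]))]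
    · simp
    · intro u hu
      rw [key u (h.lam_supp hl fun e => hu (by simp [ch, e])), ind_of_mem k, one_mul]
  · left
    have yb : ∀ φ : C{y} →* ℂˣ, φ ^ orderOf y = 1 →
        (⟨ch φ, ch_irr φ⟩ : Irr C{y}) ∈ principalBlock M C{y} := by
      intro φ hφ
      rw [principalBlock_eq, mem_blockOf]
      refine sb_of_ker (N := φ.ker) (fun g hg => ?_) fun n hn => by
        simp [ch, MonoidHom.mem_ker.mp hn]
      by_contra k
      exact hg (by rw [← Subgroup.orderOf_coe]; exact h.lam_supp hφ k)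
    have e : classInner (fun k : C{y} => χ k) (ch 1 - ch lam) =
        classInner (blockPart (principalBlock M C{y}) fun k => χ k) (ch 1 - ch lam) := by
      rw [classInner_sub_right, classInner_sub_right, ib, ib, ind_of_mem (yb _ (hone_pow _)),
        ind_of_mem (yb _ hl), one_mul, one_mul]
    rw [e]
    refine inner_eq_zero_of_supp fun u => ?_
    by_cases hu : lam u = 1
    · right; simp [ch, hu]
    · left; rw [key u (h.lam_supp hl hu), ind_of_notMem k, zero_mul]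

theorem bp {L : Type*} [Group L] [Fintype L] {ι : L →* G} {π : C{t} →* L} {M : Ideal AlgInt}
    {p q a' b : ℕ} {ε Q ρ : ℤ} {e₂ e₃ e₄ : L → ℂ} (s : SH ι π M p q a' b ε Q ρ e₂ e₃ e₄)
    {lam μ : C{y} →* ℂˣ} (hl : lam ^ orderOf y = 1) (hx : lam ⟨x, h.A_T (mem_zpowers x)⟩ ≠ 1)
    (hμ : μ ^ 2 = 1) (h1 : μ ≠ 1) :
    BP ι π e₂ e₃ e₄ (indFun C{y} (ch 1 - ch lam)) (indFun C{y} (ch μ - ch (μ * lam))) := by
  have := Fintype.ofFinite C{y}
  have l1 : lam ≠ 1 := fun e => hx (by rw [e]; rfl)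
  have l2 := hsq_ne h.odd_l hl l1
  have s1 : ∀ u : C{y}, (ch (1 : C{y} →* ℂˣ) - ch lam) u ≠ 0 → orderOf y ∣ orderOf (u : G) := fun u hu =>
    h.lam_supp hl fun e => hu (by simp [ch, e])
  have s2 : ∀ u : C{y}, (ch μ - ch (μ * lam)) u ≠ 0 → orderOf y ∣ orderOf (u : G) := fun u hu =>
    h.lam_supp hl fun e => hu (by simp [ch, e])
  have sq : (μ * lam) ^ 2 = lam ^ 2 := by rw [hmul_pow, hμ, hone_mul]
  have pl : (μ * lam) ^ orderOf y = μ := by rw [hmul_pow, hl, hmul_one, hpow_odd h.odd_l hμ]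
  have ml1 : μ * lam ≠ 1 := fun e => h1 (by rw [← pl, e, hone_pow])
  have d1 : ∀ {φ}, φ ≠ 1 → h.dl 1 φ = 0 := fun k => h.dl_zero fun i => (h.comp_ne_one k i).symm
  have dsq : ∀ {φ ψ}, φ ^ 2 = 1 → ψ ^ 2 ≠ 1 → h.dl φ ψ = 0 ∧ h.dl ψ φ = 0 := fun {φ ψ} k k' =>
    ⟨h.dl_zero fun i e => h.comp_ne_one k' i (by rw [pow_comp', ← e, k]),
      h.dl_zero fun i e => k' (by rw [e, h.mu_comp_sq k])⟩
  have g1 : IsGeneralizedCharacter C{y} (ch 1 - ch lam) := (ch_irr _).isGen.sub (ch_irr _).isGen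
  have g2 : IsGeneralizedCharacter C{y} (ch μ - ch (μ * lam)) :=
    (ch_irr _).isGen.sub (ch_irr _).isGen
  have o2 : classInner (ch μ - ch (μ * lam)) (o C{y}) = 0 := by
    rw [← ch_one, classInner_sub_left, inner_ch, inner_ch, if_neg h1, if_neg ml1, sub_zero]
  refine ⟨g1.indFun, g2.indFun, ?_, ?_, ?_, ?_, ?_, ?_, h.ind_t s1, h.ind_t s2, ?_, ?_, ?_⟩
  · rw [h.inner_ind _ _ s1, h.dl_one_one, d1 l1, (dsq (hone_pow 2) l2).2,
      h.dl_self fun i h0 h6 => h.lam_ne hl hx h0 h6]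
    norm_num
  · rw [h.inner_ind _ _ s2, h.dl_mu hμ h1, (dsq hμ (sq ▸ l2)).1, (dsq hμ (sq ▸ l2)).2, h.dl_self]
    · norm_num
    · intro i h0 h6 e
      refine h.lam_ne hl hx h0 h6 (heq_of_sq h.odd_l hl ?_ ?_)
      · rw [← pow_comp', hl, MonoidHom.one_comp]
      · rw [← pow_comp', ← sq, pow_comp', ← e]
  · rw [h.inner_ind _ _ s1, d1 h1, d1 ml1, (dsq hμ l2).2, h.dl_zero]
    · norm_num
    · intro i e
      exact h.comp_ne_one h1 i (by rw [← pl, pow_comp', ← e, hl])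
  · rw [H4.classInner_indFun_left _ _ (isClassFunction_const 1)]; exact o2
  · rw [indFun_apply_one]; simp [ch]
  · rw [indFun_apply_one]; simp [ch]
  · rw [h.Phi_ind s.cnj s2, o2]; simp
  · have hY : ∀ u : C{y}, ∃ Y : L, (ch (1 : C{y} →* ℂˣ) - ch lam - (ch μ - ch (μ * lam))) u ≠ 0 →
        ¬ 2 ∣ orderOf Y ∧ IsConj (u : G) (t * ι Y) ∧ e₄ Y = 1 := by
      rintro ⟨u, hu⟩
      obtain ⟨w, hw, z, hz, rfl⟩ := h.memT.mp hu
      by_cases k : (ch (1 : C{y} →* ℂˣ) - ch lam - (ch μ - ch (μ * lam))) ⟨_, hu⟩ = 0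
      · exact ⟨1, fun k' => absurd k k'⟩
      have w1 : w ≠ 1 := by
        rintro rfl
        refine k ?_
        have : μ ⟨1 * z, hu⟩ = 1 := (h.mu_apply hμ hw hz hu).trans (map_one μ)
        simp only [Pi.sub_apply, ch, MonoidHom.mul_apply, this]
        simp
      have z1 : z ≠ 1 := by
        rintro rfl
        refine k ?_
        have : lam ⟨w * 1, hu⟩ = 1 := by_contra fun e =>
          h.sq_ne (h.lam_supp hl e) (by simpa using h.Vsq hw)
        simp only [Pi.sub_apply, ch, MonoidHom.mul_apply, this]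
        simp
      have hw' := h.conj_mem h.rN hw
      obtain ⟨Y, y1, y2, y3, s', y4, y5⟩ := s.jh.exists_y s.cnj (orderOf_eq_two w1 (h.Vsq hw))
        (orderOf_eq_two (by simpa using w1) (h.Vsq hw')) (fun e => w1 (h.fpf hw e)) (h.VV hw' hw)
        (h.VA hw hz).symm (h.VA hw' hz).symm (h.odd_A hz) z1
      exact ⟨Y, fun _ => ⟨y1, y2, s.lc.st Y s' y3 y4 y5⟩⟩
    choose Y hY using hY
    have o1 : classInner (o C{y}) (ch 1 - ch lam - (ch μ - ch (μ * lam))) = 1 := by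
      rw [classInner_sub_right, classInner_comm_of_eq_zero o2, ← ch_one, classInner_sub_right,
        inner_ch, inner_ch, if_pos rfl, if_neg l1.symm]
      simp
    rw [← H4.indFun_sub]
    generalize ch 1 - ch lam - (ch μ - ch (μ * lam)) = ψ at *
    refine ⟨classInner (fun u => e₂ (Y u)) ψ, classInner (fun u => e₃ (Y u)) ψ, ?_, ?_⟩
    · rw [← classInner_add_left, inner_congr_left (φ' := (-2 : ℂ) • o C{y}), classInner_smul_left,
        o1, mul_one]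
      intro u hu
      obtain ⟨y1, -, y3⟩ := hY u hu
      have := s.lc.od _ y1
      simp only [Pi.add_apply, Pi.smul_apply, smul_eq_mul]
      linear_combination this - y3
    · intro W hW hs
      rw [H4.classInner_indFun_right _ _ hW.classFun, inner_congr_left
        (φ' := -(classInner W (TT ι π e₂) • (fun u => e₂ (Y u)) +
          classInner W (TT ι π e₃) • (fun u => e₃ (Y u)) + classInner W (TT ι π e₄) • o C{y})),
        classInner_neg_left, classInner_add_left, classInner_add_left, classInner_smul_left,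
        classInner_smul_left, classInner_smul_left, o1, mul_one]
      intro u hu
      obtain ⟨y1, y2, y3⟩ := hY u hu
      rw [hW.classFun.apply_of_isConj y2, hs _ y1, y3]
      simp
  · intro W hW
    rcases hW.irr_or with k | k
    · exact h.disj hl hμ h1 k
    · simpa only [classInner_neg_left, neg_eq_zero] using h.disj hl hμ h1 k

theorem ti {L : Type*} [Group L] [Fintype L] {ι : L →* G} {π : C{t} →* L} {M : Ideal AlgInt}
    [PM 2 M] {p q b : ℕ} {ε Q ρ : ℤ} {e₂ e₃ e₄ : L → ℂ} (s : SH ι π M p q a b ε Q ρ e₂ e₃ e₄) :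
    ∃ m : ℕ, 1 ≤ m ∧ q = 3 ^ (2 * m + 1) ∧ Nat.card G = q ^ 3 * (q ^ 3 + 1) * (q - 1) := by
  have := Fintype.ofFinite C{y}
  obtain ⟨lam, hl, hx⟩ := h.exists_lam
  obtain ⟨μ, μ', hμ, hμ', m1, m1', mm, hsum⟩ := h.exists_mu
  have b₁ := h.bp s hl hx hμ m1
  have b₂ := h.bp s hl hx hμ' m1'
  have b₃ := h.bp s hl hx (μ := μ * μ') (by rw [hmul_pow, hμ, hμ', hmul_one]) mm
  have l1 : lam ≠ 1 := fun e => hx (by rw [e]; rfl)
  have hT := s.β_T b₁ b₂ b₃ fun g hg => by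
    rw [← H4.indFun_add, ← H4.indFun_add, ← H4.indFun_add]
    refine indFun_eq_zero _ _ fun u hu => ?_
    have := hsum u (by rwa [← orderOf_eq_of_isConj hu])
    simp only [Pi.add_apply, Pi.sub_apply, ch_mul, ch_one]
    linear_combination (1 - ch lam u) * this
  obtain ⟨W₁, W₂, u, r₁, r₂, d₁, d₂⟩ := s.ti_abs b₁ hT (by
    rw [h.Phi_ind s.cnj fun u hu => h.lam_supp hl fun e => hu (by simp [ch, e]), ← ch_one,
      classInner_sub_left, inner_ch, inner_ch, if_pos rfl, if_neg l1, s.card_G]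
    have := index_ne_zero' C{t}
    push_cast
    field_simp
    ring)
  refine s.final ?_ r₁ r₂ d₁ d₂
  have h7 : 7 ≤ a := h.seven.trans (Nat.le_of_dvd s.lh.a_pos
    (h.ordx ▸ orderOf_dvd_of_mem_zpowers h.ymem))
  have hq := s.lh.hq
  rw [s.hQ]
  rcases s.lh.eps with e | e <;> rw [e] at hq ⊢ <;> simp <;> omega

end TC

end H27.JT
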