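import Mathlib
import Cfsg.Agent.H27.JTTI2
import Cfsg.Agent.H27.JTLocal
import Cfsg.Agent.H6.RankThree

/-! The group-theoretic set-up of the Janko–Thompson–Ward theorem. -/

set_option autoImplicit false
open Cfsg H4 H5 H17 H24 Subgroup

namespace H27.JT

section Klein
variable {G : Type*} [Group G] {V : Subgroup G} (hV : IsKleinFour V)
include hV

theorem kl_sq {v : G} (hv : v ∈ V) : v * v = 1 :=
  congrArg Subtype.val (IsKleinFour.mul_self (⟨v, hv⟩ : V))

theorem kl_third {u v w : G} (hu : u ∈ V) (hv : v ∈ V) (hw : w ∈ V) (u1 : u ≠ 1) (v1 : v ≠ 1)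
    (uv : u ≠ v) (w1 : w ≠ 1) (wu : w ≠ u) (wv : w ≠ v) : w = u * v :=
  congrArg Subtype.val (IsKleinFour.eq_mul_of_ne_all (x := (⟨u, hu⟩ : V)) (y := ⟨v, hv⟩)
    (z := ⟨w, hw⟩) (by simpa using u1) (by simpa using v1) (by simpa using uv) (by simpa using w1)
    (by simpa using wu) (by simpa using wv))

theorem kl_comm {u v : G} (hu : u ∈ V) (hv : v ∈ V) : u * v = v * u := by
  have := kl_sq hV (mul_mem hu hv)
  rw [← inv_inj, mul_inv_rev, mul_inv_rev, inv_eq_of_mul_eq_one_right (kl_sq hV hu),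
    inv_eq_of_mul_eq_one_right (kl_sq hV hv)]
  calc v * u = (u * u) * v * u * (v * v) := by rw [kl_sq hV hu, kl_sq hV hv]; group
    _ = u * (u * v * (u * v)) * v := by group
    _ = u * v := by rw [this, mul_one]

theorem kl_two : ∃ u ∈ V, ∃ v ∈ V, u ≠ 1 ∧ v ≠ 1 ∧ u ≠ v := by
  have h4 : Nat.card V = 4 := IsKleinFour.card_four
  have : Finite V := Nat.finite_of_card_ne_zero (by omega)
  have := Fintype.ofFinite V
  obtain ⟨a, b, c, ab, ac, bc⟩ := Fintype.two_lt_card_iff.mp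
    (by rw [← Nat.card_eq_fintype_card]; omega : 2 < Fintype.card V)
  refine ⟨(a : G)⁻¹ * b, (a⁻¹ * b).2, (a : G)⁻¹ * c, (a⁻¹ * c).2, ?_, ?_, ?_⟩
  · rw [Ne, inv_mul_eq_one]; exact fun k => ab (Subtype.ext k)
  · rw [Ne, inv_mul_eq_one]; exact fun k => ac (Subtype.ext k)
  · exact fun k => bc (Subtype.ext (mul_left_cancel k))

theorem kl_fix {n v : G} (hn : n ∈ N[V]) (hv : v ∈ V) (v1 : v ≠ 1) (e : n * v * n⁻¹ = v) :
    n * n ∈ C[V] := by
  intro w hw
  by_cases k : n * w * n⁻¹ = w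
  · have := mul_inv_eq_iff_eq_mul.mp k
    rw [mul_assoc, this, ← mul_assoc, ← mul_assoc, this]
  have hw' := (mem_normalizer_iff.mp hn w).mp hw
  have w1 : w ≠ 1 := by rintro rfl; simp at k
  have wv : w ≠ v := by rintro rfl; exact k e
  have e1 : n * w * n⁻¹ = v * w := kl_third hV hv hw hw' v1 w1 wv.symm (by simpa using w1)
    (fun k' => wv (by rw [← e] at k'; simpa using k')) k
  symm
  rw [← mul_inv_eq_iff_eq_mul]
  calc n * n * w * (n * n)⁻¹ = n * (v * w) * n⁻¹ := by rw [← e1]; group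
    _ = (n * v * n⁻¹) * (n * w * n⁻¹) := by group
    _ = w := by rw [e, e1, ← mul_assoc, kl_sq hV hv, one_mul]

theorem kl_fix' [Finite G] (h2 : ∀ P : Subgroup G, IsPGroup 2 P → ∀ g ∈ P, ∀ k ∈ P, g * k = k * g)
    {n v : G} (hn : n ∈ N[V]) (hv : v ∈ V) (v1 : v ≠ 1) (e : n * v * n⁻¹ = v) : n ∈ C[V] := by
  rw [← pp_mul_pr (p := 2) n]
  refine mul_mem (fun w hw => ?_) ?_
  · have hV2 : IsPGroup 2 V := IsPGroup.of_card (n := 2) IsKleinFour.card_four
    exact h2 _ (hV2.to_sup_of_normal_left' (pElt_pp n).isPGroup_zpowers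
      (zpowers_le.mpr (pp_mem hn))) _ (mem_sup_left hw) _ (mem_sup_right (mem_zpowers _))
  · have c : Commute v (pr 2 n) := commute_pr (mul_inv_eq_iff_eq_mul.mp e).symm
    have := kl_fix hV (pr_mem (p := 2) hn) hv v1 (mul_inv_eq_iff_eq_mul.mpr c.symm)
    obtain ⟨m, hm⟩ := Nat.odd_iff.mpr (Nat.two_dvd_ne_zero.mp (reg_pr (p := 2) n))
    have e' : pr 2 n = ((pr 2 n * pr 2 n) ^ m)⁻¹ := by
      rw [eq_inv_iff_mul_eq_one, ← pow_two, ← pow_mul, ← pow_succ', ← hm, pow_orderOf_eq_one]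
    rw [e']
    exact inv_mem (pow_mem this m)

theorem kl_cube {n : G} (hn : n ∈ N[V]) (hf : ∀ v ∈ V, n * v * n⁻¹ = v → v = 1)
    (hf' : ∀ v ∈ V, n * (n * v * n⁻¹) * n⁻¹ = v → v = 1) : n ^ 3 ∈ C[V] := by
  intro v hv
  by_cases v1 : v = 1
  · simp [v1]
  have c := fun w hw => (mem_normalizer_iff.mp hn w).mp hw
  have n1 : n * v * n⁻¹ ≠ 1 := by simpa using v1
  have n2 : n * (n * v * n⁻¹) * n⁻¹ ≠ 1 := by simpa using v1
  have a1 := kl_third hV (c v hv) (c _ (c v hv)) hv n1 n2 (fun k => n1 (hf _ (c v hv) k.symm)) v1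
    (fun k => v1 (hf v hv k.symm)) fun k => v1 (hf' v hv k.symm)
  have a2 := kl_third hV (c v hv) (c _ (c v hv)) (c _ (c _ (c v hv))) n1 n2
    (fun k => n1 (hf _ (c v hv) k.symm)) (by simpa using v1) (fun k => n1 (hf' _ (c v hv) k))
    fun k => n2 (hf _ (c _ (c v hv)) k)
  rw [← a1] at a2
  nth_rewrite 1 [← a2]
  rw [pow_three]; group

end Klein

namespace LH
variable {L : Type*} [Group L] [Finite L] {p q a b : ℕ} {ε : ℤ} (h : LH L p q a b ε)
include h

theorem two (P : Subgroup L) (hP : IsPGroup 2 P) : ∀ g ∈ P, ∀ k ∈ P, g * k = k * g := by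
  obtain ⟨Q, hQ⟩ := hP.exists_le_sylow
  exact fun g hg k hk => kl_comm (h.klein Q) (hQ hg) (hQ hk)

theorem exists_r (P : Sylow 2 L) : ∃ r, orderOf r = 3 ∧ r ∈ N[(P : Subgroup L)] ∧
    r ∉ C[(P : Subgroup L)] := by
  have hP := h.klein P
  obtain ⟨u, hu, v, hv, u1, v1, uv⟩ := kl_two hP
  obtain ⟨g, hg⟩ := isConj_iff.mp (h.conj u v (orderOf_eq_two u1 (kl_sq hP hu))
    (orderOf_eq_two v1 (kl_sq hP hv)))
  have : IsMulCommutative (P : Subgroup L) := ⟨⟨fun a b => Subtype.ext (kl_comm hP a.2 b.2)⟩⟩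
  obtain ⟨n, hn, e⟩ := P.conj_eq_normalizer_conj_of_mem u g⁻¹ hu (by rw [inv_inv, hg]; exact hv)
  have nC : n ∉ C[(P : Subgroup L)] := fun k => uv (by
    rw [inv_inv, hg, mul_assoc, k u hu] at e; simpa using e.symm)
  have hf : ∀ v ∈ (P : Subgroup L), n * v * n⁻¹ = v → v = 1 := fun v hv e =>
    by_contra fun v1 => nC (kl_fix' hP h.two hn hv v1 e)
  have n2 : n * n ∉ C[(P : Subgroup L)] := by
    intro k
    have hu' := (mem_normalizer_iff.mp hn u).mp hu
    have := hf _ (mul_mem hu hu') (by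
      calc n * (u * (n * u * n⁻¹)) * n⁻¹ = (n * u * n⁻¹) * (n * n * u * (n * n)⁻¹) := by group
        _ = _ := by rw [← k u hu, mul_inv_cancel_right, kl_comm hP hu' hu])
    refine u1 (hf u hu ?_)
    rw [← mul_left_cancel_iff (a := u), this, kl_sq hP hu]
  have h3 := kl_cube hP hn hf fun v hv e => by_contra fun v1 =>
    n2 (kl_fix' hP h.two (mul_mem hn hn) hv v1 (Eq.trans (by group) e))
  have h6 : n ^ 3 * n ^ 3 = 1 := by_contra fun k => nC fun v hv =>
    h.comm _ _ _ k (h3 v hv) (Commute.self_pow n 3)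
  refine ⟨n * n, orderOf_eq_prime (hp := ⟨Nat.prime_three⟩) ?_ ?_, mul_mem hn hn, n2⟩
  · rw [← h6, ← pow_two, ← pow_mul, ← pow_add]
  · exact fun k => n2 (k ▸ one_mem _)

theorem conj3 (h3 : 3 ∣ a) {y z : L} (hy : orderOf y = 3) (hz : orderOf z = 3) : IsConj y z := by
  have : Fact (Nat.Prime 3) := ⟨Nat.prime_three⟩
  obtain ⟨x, s, hx, -, hs, -⟩ := h.tor
  obtain ⟨D, hD⟩ := exists_sylIn 3 (zpowers x)
  have hD' : SylIn 3 D ⊤ := by
    refine sylIn_of_card le_top ?_
    have n1 : ¬ 3 ∣ 2 * b * q := by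
      intro k
      rcases (Nat.Prime.dvd_mul Nat.prime_three).mp k with k | k
      · rcases (Nat.Prime.dvd_mul Nat.prime_three).mp k with k | k
        · omega
        · have := Nat.eq_one_of_dvd_coprimes h.cop_ab h3 k; omega
      · have := Nat.eq_one_of_dvd_coprimes h.cop_aq h3 k; omega
    rw [hD.card, Nat.card_zpowers, hx, Subgroup.card_top, h.card,
      show 4 * a * b * q = 2 * a * (2 * b * q) by ring,
      Nat.factorization_mul (a := 2 * a) (by have := h.a_pos; omega)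
        (fun k => n1 (by rw [k]; exact dvd_zero 3)),
      Finsupp.add_apply, Nat.factorization_eq_zero_of_not_dvd n1, add_zero]
  have key : ∀ y : L, orderOf y = 3 → ∃ w ∈ zpowers x, IsConj y w := fun y hy => by
    obtain ⟨k, -, hk⟩ := hD'.exists_cj_le (Q := zpowers y)
      (IsPGroup.of_card (n := 1) (by rw [Nat.card_zpowers, hy, pow_one])) le_top
    exact ⟨_, hD.le (hk (H17.conj_mem_cj.mpr (mem_zpowers y))), isConj_iff.mpr ⟨k, rfl⟩⟩
  obtain ⟨y', hy', cy⟩ := key y hy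
  obtain ⟨z', hz', cz⟩ := key z hz
  refine cy.trans (IsConj.trans ?_ cz.symm)
  have o1 : orderOf y' = 3 := by rw [← orderOf_eq_of_isConj cy, hy]
  have o2 : orderOf z' = 3 := by rw [← orderOf_eq_of_isConj cz, hz]
  obtain ⟨k, hk⟩ := mem_powers_iff_mem_zpowers.mpr (mem_zpowers_of_dvd hz' hy' (by rw [o1, o2]))
  simp only at hk
  rw [← pow_mod_orderOf, o1] at hk
  have : k % 3 = 0 ∨ k % 3 = 1 ∨ k % 3 = 2 := by omega
  rcases this with e | e | e <;> rw [e] at hk
  · rw [← hk] at o2; simp at o2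
  · rw [← hk, pow_one]
  · refine isConj_iff.mpr ⟨s, ?_⟩
    obtain ⟨m, rfl⟩ := hy'
    simp only at hk o1 ⊢
    rw [← conj_zpow, hs, inv_zpow, ← hk, inv_eq_iff_mul_eq_one, ← pow_succ']
    have := pow_orderOf_eq_one (x ^ m)
    rwa [o1] at this

end LH

namespace JH
variable {G L : Type*} [Group G] [Group L] {t : G} {ι : L →* G} {π : C{t} →* L} (h : JH t ι π)
include h

theorem of_conj (g : G) {v : G} (hg : g * t * g⁻¹ = v) : ∃ π' : C{v} →* L,
    JH v ((MulAut.conj g).toMonoidHom.comp ι) π' := by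
  subst hg
  have hm : ∀ u : C{g * t * g⁻¹}, g⁻¹ * u * g ∈ C{t} := fun u => by
    have := mem_centralizer_singleton_iff.mp u.2
    rw [mem_centralizer_singleton_iff]
    calc g⁻¹ * u * g * t = g⁻¹ * (u * (g * t * g⁻¹)) * g := by group
      _ = _ := by rw [this]; group
  let f : C{g * t * g⁻¹} →* C{t} := MonoidHom.mk' (fun u => ⟨_, hm u⟩) fun a b =>
    Subtype.ext (by simp only [Subgroup.coe_mul]; group)
  refine ⟨π.comp f, by rw [H17.orderOf_conj, h.ord], fun y => ?_, fun y e => h.ne y ?_,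
    fun y k => ?_, fun k => ?_, fun u => ?_⟩
  · rw [mem_centralizer_singleton_iff]
    calc g * ι y * g⁻¹ * (g * t * g⁻¹) = g * (ι y * t) * g⁻¹ := by group
      _ = g * t * g⁻¹ * (g * ι y * g⁻¹) := by rw [h.comm]; group
  · simpa using e
  · exact (congrArg π (Subtype.ext (by simp [f, mul_assoc]))).trans (h.πι y (h.mem y))
  · exact (congrArg π (Subtype.ext (by simp [f, mul_assoc]))).trans (h.πt (selfC t).2)
  · rcases h.dec (f u) with k | k
    · left
      change (u : G) = g * ι (π (f u)) * g⁻¹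
      rw [← k]; simp [f, mul_assoc]
    · right
      change (u : G) = g * t * g⁻¹ * (g * ι (π (f u)) * g⁻¹)
      have : (u : G) = g * (f u : G) * g⁻¹ := by simp [f, mul_assoc]
      rw [this]; nth_rewrite 1 [k]; group

theorem comm_iff {c d : G} {y z : L} (hc : c = ι y ∨ c = t * ι y) (hd : d = ι z ∨ d = t * ι z) :
    c * d = d * c ↔ y * z = z * y := by
  have e : ∀ y z : L, ι y * (t * ι z) = t * ι (y * z) := fun y z => by
    rw [← mul_assoc, h.comm, mul_assoc, map_mul]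
  rcases hc with rfl | rfl <;> rcases hd with rfl | rfl
  · rw [← map_mul, ← map_mul, h.inj.eq_iff]
  · rw [e, mul_assoc, ← map_mul, mul_right_inj, h.inj.eq_iff]
  · rw [e, mul_assoc, ← map_mul, mul_right_inj, h.inj.eq_iff]
  · rw [mul_assoc, mul_assoc, e, e, mul_right_inj, mul_right_inj, h.inj.eq_iff]

theorem sq_eq {c : G} {y : L} (hc : c = ι y ∨ c = t * ι y) : c * c = ι (y * y) := by
  rcases hc with rfl | rfl
  · rw [map_mul]
  · rw [mul_assoc, ← mul_assoc (ι y), h.comm, ← mul_assoc, ← mul_assoc, h.sq, one_mul, map_mul]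

variable {p q a b : ℕ} {ε : ℤ} (hL : LH L p q a b ε)
include hL

theorem abel {y c d : G} (hy : y * y ≠ 1) (h1 : y ∈ C{t}) (h2 : c ∈ C{t}) (h3 : d ∈ C{t})
    (hc : c * y = y * c) (hd : d * y = y * d) : c * d = d * c := by
  obtain ⟨y', ey⟩ := h.cases h1
  obtain ⟨c', ec⟩ := h.cases h2
  obtain ⟨d', ed⟩ := h.cases h3
  exact (h.comm_iff ec ed).mpr (hL.comm y' _ _ (fun k => hy (by rw [h.sq_eq ey, k, map_one]))
    ((h.comm_iff ec ey).mp hc) ((h.comm_iff ed ey).mp hd))

/-- the centraliser of a Klein four group through `t` -/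
theorem CV [Finite L] {V : Subgroup G} (hV : IsKleinFour V) (ht : t ∈ V) {w : G} (hw : w ∈ C[V])
    (hw2 : w * w = 1) (hwV : w ∉ V) : ∃ x, orderOf x = a ∧ w * x * w⁻¹ = x⁻¹ ∧
      ∀ g, g ∈ C[V] ↔ ∃ v ∈ V, ∃ y ∈ zpowers x, g = v * y ∨ g = v * y * w := by
  have t1 := ne_one_of_two h.ord
  obtain ⟨u, hu, u1, ut⟩ : ∃ u ∈ V, u ≠ 1 ∧ u ≠ t := by
    obtain ⟨u, hu, v, hv, u1, v1, uv⟩ := kl_two hV
    by_cases k : u = t
    · exact ⟨v, hv, v1, k ▸ uv.symm⟩
    · exact ⟨u, hu, u1, k⟩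
  obtain ⟨s, es⟩ := h.cases (mem_centralizer_singleton_iff.mpr (kl_comm hV hu ht))
  have hsV : ι s ∈ V := by
    rcases es with e | e
    · exact e ▸ hu
    · exact (mul_mem_cancel_left ht).mp (e ▸ hu)
  have hs : orderOf s = 2 := by
    refine orderOf_eq_two ?_ (h.inj (by rw [← h.sq_eq es, kl_sq hV hu, map_one]))
    rintro rfl
    simp [u1, ut] at es
  have hC : ∀ {g : G} {c : L}, (g = ι c ∨ g = t * ι c) → (g ∈ C[V] ↔ c ∈ C{s}) := by
    intro g c e
    rw [mem_centralizer_singleton_iff, ← h.comm_iff e es]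
    refine ⟨fun k => (k u hu).symm, fun k v hv => ?_⟩
    have k' : g * t = t * g := (h.comm_iff e (z := 1) (Or.inr (by simp))).mpr (by simp)
    by_cases v1 : v = 1
    · simp [v1]
    by_cases vt : v = t
    · rw [vt, k']
    by_cases vu : v = u
    · rw [vu, k]
    rw [kl_third hV ht hu hv t1 u1 ut.symm v1 vt vu, mul_assoc, ← k, ← mul_assoc, ← k', mul_assoc]
  obtain ⟨hc, x, hx, hxa, hcase⟩ := hL.exists_cyc hs
  have hxs : x ∈ C{s} := by
    rw [← hxa]; exact mem_centralizer_singleton_iff.mpr (Commute.self_pow x a)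
  have hdec : ∀ {g : G} {c : L}, (g = ι c ∨ g = t * ι c) → c ∈ zpowers x →
      ∃ v ∈ V, ∃ y ∈ zpowers (ι (x ^ 2)), g = v * y := by
    intro g c e hc
    obtain ⟨k, rfl⟩ := mem_powers_iff_mem_zpowers.mpr hc
    obtain ⟨m, hm⟩ := hL.odd_a
    have e1 : ι (x ^ k) = ι s ^ k * ι (x ^ 2) ^ ((m + 1) * k) := by
      rw [← map_pow, ← map_pow, ← map_mul, ← hxa, ← pow_mul, ← pow_mul, ← pow_add,
        show a * k + 2 * ((m + 1) * k) = 2 * a * k + k by rw [hm]; ring, pow_add, pow_mul, ← hx,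
        pow_orderOf_eq_one, one_pow, one_mul]
    simp only [e1] at e
    rcases e with e | e
    · exact ⟨_, pow_mem hsV k, _, pow_mem (mem_zpowers _) _, e⟩
    · exact ⟨_, mul_mem ht (pow_mem hsV k), _, pow_mem (mem_zpowers _) _, by rw [e, mul_assoc]⟩
  have hox : orderOf (ι (x ^ 2)) = a := by
    rw [h.orderOf_ι, orderOf_pow_of_dvd two_ne_zero (hx ▸ dvd_mul_right 2 a), hx]; simp
  have hxC : ι (x ^ 2) ∈ C[V] := (hC (Or.inl rfl)).mpr (pow_mem hxs 2)
  obtain ⟨c, ec⟩ := h.cases (mem_centralizer_singleton_iff.mpr (hw t ht).symm)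
  have hcs := (hC ec).mp hw
  have hcx : c ∉ zpowers x := by
    intro k
    obtain ⟨v, hv, y, hy, e⟩ := hdec ec k
    have c1 : v * y = y * v := zpowers_le.mpr hxC hy v hv
    have : y * y = 1 := by
      rw [e, mul_assoc, ← mul_assoc y, ← c1, ← mul_assoc, ← mul_assoc, kl_sq hV hv, one_mul] at hw2
      exact hw2
    have y1 : y = 1 := by_contra fun y1 => (Nat.not_even_iff_odd.mpr hL.odd_a)
      (even_iff_two_dvd.mpr (by
        rw [← orderOf_eq_two y1 this, ← hox]; exact orderOf_dvd_of_mem_zpowers hy))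
    exact hwV (by rw [e, y1, mul_one]; exact hv)
  refine ⟨ι (x ^ 2), hox, ?_, fun g => ⟨fun hg => ?_, ?_⟩⟩
  · have e : c * x ^ 2 * c⁻¹ = (x ^ 2)⁻¹ := by
      rw [← conj_pow, ((hcase c hcs).resolve_left hcx).2.2, inv_pow]
    rcases ec with rfl | rfl
    · rw [← map_inv, ← map_mul, ← map_mul, e, map_inv]
    · calc t * ι c * ι (x ^ 2) * (t * ι c)⁻¹ = t * ι (c * x ^ 2 * c⁻¹) * t⁻¹ := by
            simp only [map_mul, map_inv]; group
        _ = _ := by rw [← h.comm, e, map_inv]; group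
  · obtain ⟨d, ed⟩ := h.cases (mem_centralizer_singleton_iff.mpr (hg t ht).symm)
    by_cases k : d ∈ zpowers x
    · obtain ⟨v, hv, y, hy, e⟩ := hdec ed k
      exact ⟨v, hv, y, hy, Or.inl e⟩
    · have hi : ((zpowers x).subgroupOf C{s}).index = 2 := by
        have := ((zpowers x).subgroupOf C{s}).index_mul_card
        rw [Nat.card_congr (subgroupOfEquivOfLe (zpowers_le.mpr hxs)).toEquiv, Nat.card_zpowers,
          hx, hc] at this
        exact Nat.eq_of_mul_eq_mul_right (by have := hL.a_pos; omega : 0 < 2 * a)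
          (by rw [this]; ring)
      have hdc : d * c ∈ zpowers x := (mul_mem_iff_of_index_two hi (a := ⟨d, (hC ed).mp hg⟩)
        (b := ⟨c, hcs⟩)).mpr (iff_of_false k hcx)
      have e : g * w = ι (d * c) ∨ g * w = t * ι (d * c) := by
        rcases ed with rfl | rfl <;> rcases ec with rfl | rfl
        · left; rw [map_mul]
        · right; rw [← mul_assoc, h.comm, map_mul, mul_assoc]
        · right; rw [map_mul, mul_assoc]
        · left; rw [mul_assoc, ← mul_assoc (ι d), h.comm, ← mul_assoc, ← mul_assoc, h.sq, one_mul,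
            map_mul]
      obtain ⟨v, hv, y, hy, e'⟩ := hdec e hdc
      exact ⟨v, hv, y, hy, Or.inr (by rw [← e', mul_assoc, hw2, mul_one])⟩
  · have hVC : V ≤ C[V] := fun v hv u hu => kl_comm hV hu hv
    rintro ⟨v, hv, y, hy, rfl | rfl⟩
    · exact mul_mem (hVC hv) (zpowers_le.mpr hxC hy)
    · exact mul_mem (mul_mem (hVC hv) (zpowers_le.mpr hxC hy)) hw

variable [Finite G] [Finite L]

omit hL in
theorem card_inf (r : L) : ♯(C{t} ⊓ C{ι r}) = 2 * ♯C{r} := by
  have e : (C{t} ⊓ C{ι r}).subgroupOf C{t} = (C{r}).comap π := by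
    ext g
    rw [mem_subgroupOf, mem_inf, mem_comap, mem_centralizer_singleton_iff (g := ι r),
      mem_centralizer_singleton_iff (g := r), h.comm_iff (h.dec g) (Or.inl rfl)]
    simp
  have h1 := ((C{r}).comap π).index_mul_card
  rw [index_comap_of_surjective _ h.cq.surj, h.card_C, ← (C{r}).index_mul_card, ← e,
    Nat.card_congr (subgroupOfEquivOfLe inf_le_left).toEquiv] at h1
  exact Nat.eq_of_mul_eq_mul_left (Nat.pos_of_ne_zero (C{r}).index_ne_zero_of_finite)
    (by rw [h1]; ring)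

theorem card_sylow (h2 : ∀ P : Subgroup G, IsPGroup 2 P → ∀ g ∈ P, ∀ k ∈ P, g * k = k * g) :
    ∃ m, Odd m ∧ Nat.card G = 8 * m := by
  obtain ⟨S, hS⟩ := (PElt.of_two h.ord).isPGroup_zpowers.exists_le_sylow
  have hle : (S : Subgroup G) ≤ C{t} := fun g hg =>
    mem_centralizer_singleton_iff.mpr (h2 _ S.2 g hg t (hS (mem_zpowers t)))
  have := not_dvd_index_of_sylow_le S hle
  refine ⟨(C{t}).index * (a * b * q), ?_, ?_⟩
  · exact (Nat.odd_iff.mpr (by omega)).mul ((hL.odd_a.mul hL.odd_b).mul hL.odd_q)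
  · rw [← (C{t}).index_mul_card, h.card_C, hL.card]; ring

theorem klein_map (P : Sylow 2 L) : IsKleinFour ((P : Subgroup L).map ι) := by
  have := hL.klein P
  have e := (P : Subgroup L).equivMapOfInjective ι h.inj
  exact ⟨by rw [← Nat.card_congr e.toEquiv, IsKleinFour.card_four],
    by rw [← Monoid.exponent_eq_of_mulEquiv e, IsKleinFour.exponent_two]⟩

theorem all_conj (h2 : ∀ P : Subgroup G, IsPGroup 2 P → ∀ g ∈ P, ∀ k ∈ P, g * k = k * g)
    (hi : ∀ H : Subgroup G, H.index ≠ 2) (u : G) (hu : orderOf u = 2) : IsConj t u := by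
  obtain ⟨P⟩ : Nonempty (Sylow 2 L) := inferInstance
  obtain ⟨m, hm, hc⟩ := h.card_sylow hL h2
  have hV := h.klein_map hL P
  have hR : ((P : Subgroup L).map ι).index = 2 * m := by
    have := ((P : Subgroup L).map ι).index_mul_card
    rw [IsKleinFour.card_four, hc] at this
    omega
  have key : ∀ u : G, orderOf u = 2 → ∃ s, orderOf s = 2 ∧ IsConj u (ι s) := by
    intro u hu
    by_contra k
    obtain ⟨H, hH, -⟩ := H6.thompson_transfer hm hR (sq_of_two hu) fun g ⟨s, _, e⟩ =>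
      k ⟨s, by rw [← h.orderOf_ι, e, H17.orderOf_conj, hu], isConj_iff.mpr ⟨g, e.symm⟩⟩
    exact hi H hH
  obtain ⟨s, hs, c⟩ := key t h.ord
  obtain ⟨s', hs', c'⟩ := key u hu
  exact (c.trans (ι.map_isConj (hL.conj s s' hs hs'))).trans c'.symm

theorem E8 : ∃ P : Subgroup G, Nat.card P = 8 ∧ ∀ g ∈ P, g * g = 1 := by
  obtain ⟨P⟩ : Nonempty (Sylow 2 L) := inferInstance
  have hP := hL.klein P
  refine ⟨((P : Subgroup L).comap π).map (C{t}).subtype, ?_, ?_⟩
  · rw [card_map_of_injective (C{t}).subtype_injective]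
    have h1 := ((P : Subgroup L).comap π).index_mul_card
    rw [index_comap_of_surjective _ h.cq.surj, h.card_C, ← (P : Subgroup L).index_mul_card,
      IsKleinFour.card_four (G := (P : Subgroup L))] at h1
    exact Nat.eq_of_mul_eq_mul_left
      (Nat.pos_of_ne_zero (P : Subgroup L).index_ne_zero_of_finite) (by rw [h1]; ring)
  · rintro _ ⟨g, hg, rfl⟩
    rw [Subgroup.coe_subtype, h.sq_eq (h.dec g), kl_sq hP hg, map_one]

theorem exists_Cfg (h2 : ∀ P : Subgroup G, IsPGroup 2 P → ∀ g ∈ P, ∀ k ∈ P, g * k = k * g)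
    (hG : ∀ u : G, orderOf u = 2 → IsConj t u) : ∃ V x r, Cfg t V x r a := by
  obtain ⟨P⟩ : Nonempty (Sylow 2 L) := inferInstance
  have hV := h.klein_map hL P
  obtain ⟨r, hr, rN, rC⟩ := hL.exists_r P
  have rN' : ι r ∈ N[(P : Subgroup L).map ι] := le_normalizer_map ι ⟨r, rN, rfl⟩
  have rC' : ι r ∉ C[(P : Subgroup L).map ι] := fun k => rC fun v hv =>
    h.inj (by rw [map_mul, map_mul]; exact k _ ⟨v, hv, rfl⟩)
  have tC : t ∈ C[(P : Subgroup L).map ι] := by rintro _ ⟨v, -, rfl⟩; exact h.comm v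
  have tV : t ∉ (P : Subgroup L).map ι := fun ⟨v, _, e⟩ => h.ne v e
  generalize (P : Subgroup L).map ι = V at *
  have hJ : ∀ v : G, orderOf v = 2 → ∃ (g : G) (π' : C{v} →* L),
      JH v ((MulAut.conj g).toMonoidHom.comp ι) π' := fun v hv => by
    obtain ⟨g, hg⟩ := isConj_iff.mp (hG v hv)
    exact ⟨g, h.of_conj g hg⟩
  obtain ⟨v, hv, -, -, v1, -⟩ := kl_two hV
  obtain ⟨g, π', J⟩ := hJ v (orderOf_eq_two v1 (kl_sq hV hv))
  obtain ⟨x, hx, hinv, hCV⟩ := J.CV hL hV hv tC h.sq tV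
  have xC : zpowers x ≤ C[V] :=
    zpowers_le.mpr ((hCV x).mpr ⟨1, one_mem _, x, mem_zpowers x, Or.inl (by simp)⟩)
  have hodd : ∀ y ∈ zpowers x, ¬ 2 ∣ orderOf y := fun y hy k =>
    (Nat.not_even_iff_odd.mpr hL.odd_a) (even_iff_two_dvd.mpr
      (k.trans (hx ▸ orderOf_dvd_of_mem_zpowers hy)))
  have hsq : ∀ y ∈ zpowers x, y ≠ 1 → y * y ≠ 1 := fun y hy y1 k =>
    hodd y hy (orderOf_eq_two y1 k ▸ dvd_rfl)
  refine ⟨V, x, ι r, hV, h.ord, tV, hx, hL.odd_a, hinv, hCV, by rw [h.orderOf_ι, hr], h.comm r, rN',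
    rC', ?_, ?_, ?_, h2, ?_, ?_⟩
  · intro n hn
    have c := fun n (hn : n ∈ N[V]) w hw => (mem_normalizer_iff.mp hn w).mp hw
    have f := fun n hn w hw w1 e => kl_fix' hV h2 (n := n) (v := w) hn hw w1 e
    by_cases e1 : n * v * n⁻¹ = v
    · exact ⟨n, f n hn v hv v1 e1, Or.inl rfl⟩
    by_cases e2 : n * v * n⁻¹ = ι r * v * (ι r)⁻¹
    · exact ⟨n * (ι r)⁻¹, f _ (mul_mem hn (inv_mem rN')) _ (c _ rN' v hv) (by simpa using v1)
        (Eq.trans (by group) e2), Or.inr (Or.inl (by group))⟩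
    have n1 : v ≠ ι r * v * (ι r)⁻¹ := fun k => rC' (f _ rN' v hv v1 k.symm)
    have e3 := kl_third hV hv (c _ rN' v hv) (c _ hn v hv) v1 (by simpa using v1) n1
      (by simpa using v1) e1 e2
    have hr' : ι r * ι r = (ι r)⁻¹ := eq_inv_of_mul_eq_one_left (by
      rw [← map_mul, ← map_mul, ← pow_three', ← hr, pow_orderOf_eq_one, map_one])
    have n2 : (ι r)⁻¹ * v * (ι r)⁻¹⁻¹ ≠ 1 := fun k => v1 (conj_eq_one_iff.mp k)
    have e4 := kl_third hV hv (c _ rN' v hv) (c _ (inv_mem rN') v hv) v1 (by simpa using v1) n1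
      n2 (fun k => rC' (by simpa using inv_mem (f _ (inv_mem rN') v hv v1 k)))
      fun k => rC' (by
        have := f _ (mul_mem rN' rN') v hv v1 (by
          calc ι r * ι r * v * (ι r * ι r)⁻¹ = ι r * (ι r * v * (ι r)⁻¹) * (ι r)⁻¹ := by group
            _ = v := by rw [← k]; group)
        rw [hr'] at this
        simpa using inv_mem this)
    exact ⟨n * ι r, f _ (mul_mem hn rN') _ (c _ (inv_mem rN') v hv) n2
      (Eq.trans (by group) (e3.trans e4.symm)), Or.inr (Or.inr (by group))⟩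
  · intro w hw w1 y hy y1 n c1 c2
    obtain ⟨g', π'', J'⟩ := hJ w (orderOf_eq_two w1 (kl_sq hV hw))
    have m := fun {u : G} (k : u * w = w * u) => mem_centralizer_singleton_iff.mpr k
    have nC : n ∈ C[V] := fun u hu => J'.abel hL (hsq y hy y1) (m (xC hy w hw).symm)
      (m (kl_comm hV hu hw)) (m c1) (xC hy u hu) c2
    obtain ⟨u, hu, z, hz, e | e⟩ := (hCV n).mp nC
    · exact ⟨u, hu, z, hz, e⟩
    · exfalso
      have ct : Commute y t := by
        have : t = z⁻¹ * u⁻¹ * n := by rw [e]; group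
        rw [this]
        exact ((Commute.inv_right ((abl_zpowers x).comm hy hz)).mul_right
          (Commute.inv_right (xC hy u hu).symm)).mul_right c2.symm
      obtain ⟨k, rfl⟩ := hy
      refine hsq _ ⟨k, rfl⟩ y1 (mul_eq_one_iff_eq_inv.mpr ?_)
      simp only at ct ⊢
      rw [← inv_zpow, ← hinv, conj_zpow, ← ct.eq, mul_inv_cancel_right]
  · intro n hn
    by_cases k : n ^ 2 = 1
    · exact k
    have o2 : orderOf (n * n) = 2 := orderOf_eq_two (by rwa [← pow_two])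
      (by rw [← hn, show 4 = 2 + 2 from rfl, pow_add, pow_two])
    obtain ⟨g', π'', J'⟩ := hJ _ o2
    obtain ⟨y, e⟩ := J'.cases (g := n) (mem_centralizer_singleton_iff.mpr (by group))
    have := J'.sq_eq e
    exact absurd this.symm (J'.ne _)
  · intro h3
    refine ⟨♯C{r}, h.card_inf r, ?_⟩
    have ee := hL.ee
    rcases hL.card_C_three hr h3 with e | e <;> rw [e]
    · exact ⟨hL.odd_q, 16 * a + 8 * ε, by rw [hL.hq]; linear_combination ee⟩
    · exact ⟨hL.odd_b, 4 * a + 4 * ε, by rw [hL.hb]; linear_combination ee⟩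
  · intro y hy h3
    obtain ⟨y', e | e⟩ := J.cases (mem_centralizer_singleton_iff.mpr (xC hy v hv).symm)
    · have o3 : orderOf y' = 3 := by rw [← J.orderOf_ι, ← e, h3]
      have := ι.map_isConj (hL.conj3 (by rw [← h3, ← hx]; exact orderOf_dvd_of_mem_zpowers hy) o3 hr)
      exact (isConj_iff.mpr ⟨g, e.symm⟩).symm.trans this
    · exact absurd (e ▸ J.even_tι y') (hodd y hy)

end JH

section Main
variable {G L : Type*} [Group G] [Group L] {t : G}

/-- the embedding of the second factor -/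
def emb (e : C{t} ≃* Multiplicative (ZMod 2) × L) : L →* G :=
  (C{t}).subtype.comp (e.symm.toMonoidHom.comp (MonoidHom.inr _ _))

theorem emb_inj (e : C{t} ≃* Multiplicative (ZMod 2) × L) : Function.Injective (emb e) :=
  (C{t}).subtype_injective.comp (e.symm.injective.comp fun _ _ k => (Prod.ext_iff.mp k).2)

theorem exists_JH (ht : orderOf t = 2) (e : C{t} ≃* Multiplicative (ZMod 2) × L)
    (hc : ∀ s : L, orderOf s = 2 → ∃ g, g * s ≠ s * g) : ∃ π, JH t (emb e) π := by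
  have h1 : (e (selfC t)).2 = 1 := by
    by_contra k
    obtain ⟨g, hg⟩ := hc _ (orderOf_eq_two k (by
      rw [← Prod.snd_mul, ← map_mul, show selfC t * selfC t = 1 from Subtype.ext (sq_of_two ht),
        map_one, Prod.snd_one]))
    have := congrArg (fun u => (e u).2) (commute_self_centralizer t (e.symm (1, g))).eq
    simp only [map_mul, MulEquiv.apply_symm_apply, Prod.snd_mul] at this
    exact hg this.symm
  have h2 : (e (selfC t)).1 ≠ 1 := fun k => ne_one_of_two ht (by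
    have : e (selfC t) = e 1 := by rw [map_one]; exact Prod.ext k h1
    exact congrArg Subtype.val (e.injective this))
  refine ⟨(MonoidHom.snd _ _).comp e.toMonoidHom, ht, fun y => (e.symm (1, y)).2, fun y k => h2 ?_,
    fun y k => ?_, fun _ => h1, fun g => ?_⟩
  · rw [show selfC t = e.symm (1, y) from Subtype.ext k.symm, MulEquiv.apply_symm_apply]
  · exact congrArg Prod.snd (e.apply_symm_apply (1, y))
  · by_cases k : (e g).1 = 1
    · left
      exact congrArg Subtype.val (e.symm_apply_eq.mpr (Prod.ext k.symm rfl) :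
        e.symm (1, (e g).2) = g).symm
    · right
      have : ∀ a b : Multiplicative (ZMod 2), a ≠ 1 → b ≠ 1 → a = b := by decide
      have : g = selfC t * e.symm (1, (e g).2) := e.injective (by
        rw [map_mul, MulEquiv.apply_symm_apply]
        exact Prod.ext (by simpa using this _ _ k h2) (by simp [h1]))
      exact congrArg Subtype.val this

theorem odd_case [Finite G] [IsSimpleGroup G] [Finite L]
    (hab : ∀ P : Sylow 2 G, ∀ a b : P, a * b = b * a) (ht : orderOf t = 2)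
    (e : C{t} ≃* Multiplicative (ZMod 2) × L) {p q a b : ℕ} {ε : ℤ} (hL : LH L p q a b ε)
    (hSt : HasSt L q ε) : q = 5 ∨
      ∃ m : ℕ, 1 ≤ m ∧ q = 3 ^ (2 * m + 1) ∧ Nat.card G = q ^ 3 * (q ^ 3 + 1) * (q - 1) := by
  have := Fintype.ofFinite G
  have := Fintype.ofFinite L
  obtain ⟨π, J⟩ := exists_JH ht e fun s hs => hL.not_central hs
  have h2 : ∀ P : Subgroup G, IsPGroup 2 P → ∀ g ∈ P, ∀ k ∈ P, g * k = k * g := by
    intro P hP g hg k hk
    obtain ⟨Q, hQ⟩ := hP.exists_le_sylow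
    exact congrArg Subtype.val (hab Q ⟨g, hQ hg⟩ ⟨k, hQ hk⟩)
  have hker : ∀ N : Subgroup G, N.Normal → (∀ a b : G, a * b * a⁻¹ * b⁻¹ ∈ N) → N = ⊤ := by
    intro N hN k
    refine (IsSimpleGroup.eq_bot_or_eq_top_of_normal N hN).resolve_left ?_
    rintro rfl
    obtain ⟨s, hs⟩ := hL.exists_inv
    obtain ⟨g, hg⟩ := hL.not_central hs
    refine hg (J.inj ?_)
    have := mem_bot.mp (k (emb e g) (emb e s))
    rwa [mul_inv_eq_one, mul_inv_eq_iff_eq_mul, ← map_mul, ← map_mul] at this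
  have hG := J.all_conj hL h2 fun H hH => by
    have := hker H (normal_of_index_eq_two hH) fun a b => by
      simp only [mul_mem_iff_of_index_two hH, inv_mem_iff]; tauto
    rw [this, index_top] at hH
    omega
  obtain ⟨M, hM⟩ := exists_PM 2
  obtain ⟨e₂, e₃, e₄, hC⟩ := hL.exists_LC hSt M
  have s : SH (emb e) π M p q a b ε (ε * q) (ε * b) e₂ e₃ e₄ := by
    refine ⟨J, hL, rfl, rfl, hC, hG, J.E8 hL, fun χ hχ h1 => ?_⟩
    obtain ⟨lam, rfl⟩ := hχ.isCharacter.exists_linear h1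
    have := hker lam.ker inferInstance fun a b => by simp [MonoidHom.mem_ker]
    ext g
    have : lam g = 1 := MonoidHom.mem_ker.mp (this ▸ mem_top g)
    simp [this]
  by_cases ha : a = 1
  · left
    have hq := hL.hq
    rcases hL.eps with k | k
    · omega
    · exact (s.not_three (by rw [k, hq, ha, k]; norm_num)).elim
  · right
    obtain ⟨V, x, r, c⟩ := J.exists_Cfg hL h2 hG
    obtain ⟨y, h1, h3, h4, h5⟩ := c.local ha
    exact TC.ti ⟨c, h1, h3, h4, h5⟩ s

end Main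

end H27.JT
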