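import Mathlib
import Cfsg.Agent.H26.GBase
import Cfsg.Agent.H5.DCH
import Cfsg.Agent.H3.Transfer

/-! Counting involutions in a perfect group with Klein four Sylow subgroup. -/

set_option autoImplicit false
set_option linter.unusedSectionVars false

namespace H27.R2c

open Cfsg H24 H26.Gold Subgroup

universe u

section Count
variable {G : Type*} [Group G] [Finite G]

/-- double counting -/
theorem dc_le {s t : Set G} (r : G → G → Prop) {m n : ℕ}
    (hm : ∀ a ∈ s, m ≤ {b | b ∈ t ∧ r a b}.ncard) (hn : ∀ b ∈ t, {a | a ∈ s ∧ r a b}.ncard ≤ n) :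
    s.ncard * m ≤ t.ncard * n := by
  classical
  have := Finset.card_mul_le_card_mul (s := (Set.toFinite s).toFinset)
    (t := (Set.toFinite t).toFinset) r (m := m) (n := n) (fun a ha => by
      refine (hm a (by simpa using ha)).trans_eq ?_
      rw [← Set.ncard_coe_finset]; congr 1; ext b; simp [Finset.bipartiteAbove])
    (fun b hb => by
      refine le_of_eq_of_le ?_ (hn b (by simpa using hb))
      rw [← Set.ncard_coe_finset]; congr 1; ext b; simp [Finset.bipartiteBelow])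
  rwa [← Set.ncard_eq_toFinset_card, ← Set.ncard_eq_toFinset_card] at this

theorem dc_eq {s t : Set G} (r : G → G → Prop) {m n : ℕ}
    (hm : ∀ a ∈ s, {b | b ∈ t ∧ r a b}.ncard = m) (hn : ∀ b ∈ t, {a | a ∈ s ∧ r a b}.ncard = n) :
    s.ncard * m = t.ncard * n :=
  le_antisymm (dc_le r (fun a ha => (hm a ha).ge) fun b hb => (hn b hb).le)
    (dc_le (fun b a => r a b) (fun b hb => (hn b hb).ge) fun a ha => (hm a ha).le)

theorem nc_eq (g k : G) {s t : Set G} (h : ∀ x, x ∈ s ↔ g * x * k ∈ t) : s.ncard = t.ncard :=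
  Set.ncard_congr (fun x _ => g * x * k) (fun x hx => (h x).1 hx)
    (fun x y _ _ e => mul_left_cancel (mul_right_cancel e))
    fun y hy => ⟨g⁻¹ * y * k⁻¹, (h _).2 (by simpa [mul_assoc] using hy), by group⟩

theorem nc_sub (H : Subgroup G) : (H : Set G).ncard = ♯H := (Nat.card_coe_set_eq _).symm

theorem nc_class (H : Subgroup G) (x : G) :
    {y | ∃ h ∈ H, y = h * x * h⁻¹}.ncard = C{x}.relIndex H := by
  have h1 := dc_eq (s := (H : Set G)) (t := {y | ∃ h ∈ H, y = h * x * h⁻¹})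
    (fun h y => y = h * x * h⁻¹) (m := 1) (n := ♯(C{x} ⊓ H)) (fun h hh => by
      rw [Set.ncard_eq_one]
      exact ⟨h * x * h⁻¹, by ext y; simp only [Set.mem_setOf_eq, Set.mem_singleton_iff]
                             exact ⟨fun k => k.2, fun k => ⟨⟨h, hh, k⟩, k⟩⟩⟩) (by
      rintro _ ⟨g, hg, rfl⟩
      rw [← nc_sub]
      refine (nc_eq g 1 fun y => ?_).symm
      simp only [mul_one, SetLike.mem_coe, Set.mem_setOf_eq, mem_inf, mem_C1_iff_conj,
        mul_mem_cancel_left hg, and_comm]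
      refine and_congr_left fun _ => ⟨fun e => ?_, fun e => ?_⟩
      · conv_lhs => rw [← e]
        group
      · have : g * (y * x * y⁻¹) * g⁻¹ = g * x * g⁻¹ := by rw [e]; group
        simpa using this)
  rw [mul_one, nc_sub, ← card_inf_mul_relIndex C{x} H, mul_comm] at h1
  exact (Nat.eq_of_mul_eq_mul_right (card_pos _) h1).symm

/-- two involutions with product of odd order are conjugate -/
theorem conj_of_odd {x y : G} (hx : x * x = 1) (hy : y * y = 1) {m : ℕ} (hm : Odd m) :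
    ∃ g ∈ zpowers (x * y), x * (x * y) ^ m = g * y * g⁻¹ := by
  obtain ⟨j, rfl⟩ := hm
  have e : ∀ j : ℕ, x * (x * y) ^ j = ((x * y) ^ j)⁻¹ * x := fun j => by
    have : x * (x * y) * x⁻¹ = (x * y)⁻¹ := by
      rw [← mul_assoc, hx, mul_inv_rev, inv_eq_of_mul_eq_one_right hy, one_mul]
    rw [← inv_pow, ← this, conj_pow]; group
  refine ⟨((x * y) ^ j)⁻¹, inv_mem (pow_mem (mem_zpowers _) j), ?_⟩
  rw [two_mul, add_assoc, pow_add, ← mul_assoc, e, pow_succ', inv_inv, mul_assoc, mul_assoc,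
    ← mul_assoc x, hx, one_mul, mul_assoc]

theorem inv_uniq {w x y : G} (hx : x ∈ zpowers w) (hy : y ∈ zpowers w) (x2 : x * x = 1)
    (y2 : y * y = 1) (x1 : x ≠ 1) (y1 : y ≠ 1) : x = y := by
  classical
  have := Fintype.ofFinite (zpowers w)
  by_contra ne
  have h := IsCyclic.card_pow_eq_one_le (α := zpowers w) two_pos
  have : ({1, ⟨x, hx⟩, ⟨y, hy⟩} : Finset (zpowers w)).card = 3 :=
    Finset.card_eq_three.2 ⟨_, _, _, fun k => x1 (congrArg Subtype.val k).symm,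
      fun k => y1 (congrArg Subtype.val k).symm, fun k => ne (congrArg Subtype.val k), rfl⟩
  refine absurd (this.ge.trans ((Finset.card_le_card fun z hz => ?_).trans h)) (by norm_num)
  simp only [Finset.mem_insert, Finset.mem_singleton] at hz
  rcases hz with rfl | rfl | rfl <;> simp [pow_two, Subtype.ext_iff, x2, y2]

end Count

section Klein
variable {G : Type u} [Group G] [Finite G] {A : Subgroup G}

theorem klein (hA : EA A) (h4 : ♯A = 4) : IsKleinFour A := by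
  refine ⟨h4, ((Nat.dvd_prime Nat.prime_two).1 (Monoid.exponent_dvd_of_forall_pow_eq_one
    fun g => Subtype.ext (by simpa [pow_two] using hA.sq g.2))).resolve_left fun h => ?_⟩
  have := Monoid.exp_eq_one_iff.1 h
  have := Nat.card_of_subsingleton (1 : A)
  omega

theorem third (hA : EA A) (h4 : ♯A = 4) {u v w : G} (hu : u ∈ A) (hv : v ∈ A) (hw : w ∈ A)
    (u1 : u ≠ 1) (v1 : v ≠ 1) (uv : u ≠ v) : w = 1 ∨ w = u ∨ w = v ∨ w = u * v := by
  have := klein hA h4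
  by_contra! k
  exact k.2.2.2 (congrArg Subtype.val (IsKleinFour.eq_mul_of_ne_all (x := (⟨u, hu⟩ : A))
    (y := ⟨v, hv⟩) (z := ⟨w, hw⟩) (by simpa using u1) (by simpa using v1) (by simpa using uv)
    (by simpa using k.1) (by simpa using k.2.1) (by simpa using k.2.2.1)))

theorem other (h4 : ♯A = 4) (a : G) : ∃ b ∈ A, b ≠ 1 ∧ b ≠ a := by
  by_contra! k
  have : (A : Set G) ⊆ {1, a} := fun b hb => by
    by_cases e : b = 1
    · exact Or.inl e
    · exact Or.inr (k b hb e)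
  have h := (Set.ncard_le_ncard this).trans (Set.ncard_insert_le _ _)
  rw [nc_sub, Set.ncard_singleton] at h
  omega

theorem C_two (hA : EA A) (h4 : ♯A = 4) {u v : G} (hu : u ∈ A) (hv : v ∈ A)
    (u1 : u ≠ 1) (v1 : v ≠ 1) (uv : u ≠ v) : C{u} ⊓ C{v} = C[A] := by
  refine le_antisymm (fun g hg => mem_C'.2 fun w hw => ?_) (le_inf (C_le_C1 hu) (C_le_C1 hv))
  have h1 := mem_C1.1 hg.1
  have h2 := mem_C1.1 hg.2
  rcases third hA h4 hu hv hw u1 v1 uv with rfl | rfl | rfl | rfl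
  · simp
  · exact h1
  · exact h2
  · rw [← mul_assoc, h1, mul_assoc, h2, mul_assoc]

theorem conj_top (hG : commutator G = ⊤) (h4 : ♯A = 4) (hS : Syl 2 ⊤ A) {a u : G}
    (ha : a ∈ A) (a2 : orderOf a = 2) (u2 : orderOf u = 2) : IsConj a u := by
  have hu : u * u = 1 := by rw [← pow_two, ← u2, pow_orderOf_eq_one]
  obtain ⟨g, -, hg⟩ := Sylow_Jsub Nat.prime_two hS (twoE_of_sq hu).isPi le_top
  have hv := hg (conj_mem_cj g (mem_zpowers u))
  have key : ∀ v, orderOf v = 2 → v ∈ zpowers a → v = a := fun v hv h =>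
    inv_uniq h (mem_zpowers a) (by rw [← pow_two, ← hv, pow_orderOf_eq_one])
      (by rw [← pow_two, ← a2, pow_orderOf_eq_one]) (by rintro rfl; simp at hv)
      (by rintro rfl; simp at a2)
  by_cases h : g * u * g⁻¹ ∈ zpowers a
  · exact (isConj_iff.2 ⟨g, key _ (by rw [orderOf_conj, u2]) h⟩).symm
  have hi : (zpowers a).relIndex A = 2 := by
    have := card_mul_relIndex (zpowers_le.2 ha)
    rw [card_zpowers', a2, h4] at this
    omega
  rcases H3.thompson_transfer A (zpowers a) (by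
      have := hS.not_dvd Nat.prime_two
      rw [relIndex_top_right] at this
      exact Nat.odd_iff.2 (by omega)) hi _
    (by rw [conj_mul, hu]; group) hv h with ⟨M, -, hM, hu⟩ | ⟨k, hk⟩
  · refine absurd ((?_ : commutator G ≤ M) (hG ▸ mem_top _)) hu
    refine commutator_le.2 fun x _ y _ => ?_
    simp only [commutatorElement_def, mul_mem_iff_of_index_two hM, inv_mem_iff]
    tauto
  · exact (isConj_iff.2 ⟨k * g, by
      rw [← key _ (by rw [orderOf_conj, orderOf_conj, u2]) hk]; group⟩).symm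

theorem arith {i k a b c : ℤ} (hi : 0 < i) (h : i * ((1 + a) * (1 + b) * (1 + c)) = 8 * k * k * (a * b * c))
    (ha : a ≡ 1 [ZMOD 4]) (hb : b ≡ 1 [ZMOD 4]) (hc : c ≡ 1 [ZMOD 4]) (a1 : a ≠ 1) (b1 : b ≠ 1)
    (c1 : c ≠ 1) : 3 * k ^ 2 < i := by
  have key : ∀ x : ℤ, x ≡ 1 [ZMOD 4] → x ≠ 1 →
      (x : ℚ) ≠ 0 ∧ 0 ≤ (1 + x : ℚ) / x ∧ (1 + x : ℚ) / x ≤ 6 / 5 := fun x hx x1 => by
    have : x ≤ -3 ∨ 5 ≤ x := by unfold Int.ModEq at hx; omega
    rcases this with h | h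
    · have h' : (x : ℚ) ≤ -3 := by exact_mod_cast h
      refine ⟨by linarith, div_nonneg_of_nonpos (by linarith) (by linarith), ?_⟩
      rw [div_le_iff_of_neg (by linarith)]; linarith
    · have h' : (5 : ℚ) ≤ x := by exact_mod_cast h
      refine ⟨by linarith, by positivity, ?_⟩
      rw [div_le_iff₀ (by linarith)]; linarith
  obtain ⟨a0, a2, a3⟩ := key a ha a1
  obtain ⟨b0, b2, b3⟩ := key b hb b1
  obtain ⟨c0, c2, c3⟩ := key c hc c1
  have h' : (i : ℚ) * ((1 + a) * (1 + b) * (1 + c)) = 8 * k * k * (a * b * c) := by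
    exact_mod_cast h
  have e : (i : ℚ) * ((1 + a) / a * ((1 + b) / b) * ((1 + c) / c)) = 8 * k ^ 2 := by
    field_simp; linarith
  have l : (1 + a : ℚ) / a * ((1 + b) / b) * ((1 + c) / c) ≤ 6 / 5 * (6 / 5) * (6 / 5) := by
    gcongr
  have hi' : (0 : ℚ) < i := by exact_mod_cast hi
  have : (3 : ℚ) * k ^ 2 < i := by nlinarith
  exact_mod_cast this

theorem count_top (hG : commutator G = ⊤) (hA : EA A) (h4 : ♯A = 4) (hS : Syl 2 ⊤ A) {a : G}
    (ha : a ∈ A) (h1 : a ≠ 1) : 3 * (C[A].relIndex C{a}) ^ 2 < C{a}.index := by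
  classical
  have := Fintype.ofFinite G
  obtain ⟨S, rfl⟩ := hS.exists_sylow_top Nat.prime_two
  have := klein hA h4
  obtain ⟨e⟩ := IsKleinFour.nonempty_mulEquiv (G₁ := (S : Subgroup G)) (G₂ := DihedralGroup 2)
  obtain ⟨x, hx, x1, xa⟩ := other h4 a
  have a2 : orderOf a = 2 := orderOf_eq_prime (by rw [pow_two, hA.sq ha]) h1
  have hz : ∀ g, g ∈ zpowers a ↔ g = 1 ∨ g = a := fun g =>
    ⟨fun hg => by
      by_contra! k
      exact k.2 (inv_uniq hg (mem_zpowers a) (hA.sq (zpowers_le.2 ha hg)) (hA.sq ha) k.1 h1),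
    by rintro (rfl | rfl); exacts [one_mem _, mem_zpowers _]⟩
  have hD : H5.DData (S : Subgroup G) 2 a x := by
    refine ⟨a2, by rw [hA.comm hx ha, hA.inv ha]; group, hA.sq hx, by simp [hz, x1, xa],
      fun g => ⟨fun hg => ?_, ?_⟩⟩
    · rcases third hA h4 hx ha hg x1 h1 xa with rfl | rfl | rfl | rfl <;> simp
    · rintro (h | h)
      · exact zpowers_le.2 ha h
      · exact (mul_mem_cancel_left (inv_mem hx)).1 (zpowers_le.2 ha h)
  have xa1 : x * a ≠ 1 := fun k => xa (by rw [eq_inv_of_mul_eq_one_left k, hA.inv ha])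
  have r : ∀ y ∈ (S : Subgroup G), y ≠ 1 → y ≠ a →
      C{y}.relIndex C{a} = C[(S : Subgroup G)].relIndex C{a} := fun y hy y1 ya => by
    rw [← C_two hA h4 hy ha y1 h1 ya, inf_relIndex_right]
  obtain ⟨X₁, X₂, X₃, a₁, a₂, a₃, s1, s2, s3, o1, o2, o3, -, -, -, e1, e2, e3, -, -, -, -, hf, m1,
    m2, -⟩ := H5.dch S le_rfl e hD a2 (mem_zpowers a)
    (fun u hu => conj_top hG h4 hS ha a2 hu) rfl
    (k₁ := C[(S : Subgroup G)].relIndex C{a}) (k₂ := C[(S : Subgroup G)].relIndex C{a})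
    (congrArg _ (r x hx x1 xa).symm) (congrArg _ (r _ (mul_mem hx ha) xa1 (by simpa)).symm)
  have ne : ∀ {X : G → ℂ} {c : ℤ}, H5.SIrr X → classInner X (fun _ => 1) = 0 → X 1 = c → c ≠ 1 := by
    rintro X c s o e rfl
    obtain ⟨lam, hl, -⟩ := s.exists_linear o (by simpa using e)
    exact hl (MonoidHom.ext fun g =>
      Abelianization.commutator_subset_ker lam (hG ▸ mem_top g))
  have := arith (by exact_mod_cast Nat.pos_of_ne_zero index_ne_zero_of_finite) hf m1 (m2 rfl).1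
    (m2 rfl).2 (ne s1 o1 e1) (ne s2 o2 e2) (ne s3 o3 e3)
  exact_mod_cast this

variable {H : Subgroup G} (hH : ⁅H, H⁆ = H) (hA : EA A) (h4 : ♯A = 4) (hS : Syl 2 H A)
include hH in
theorem perf_sub : commutator H = ⊤ := by
  apply map_injective H.subtype_injective
  rw [map_subtype_commutator, hH, ← MonoidHom.range_eq_map, range_subtype]

include hA in
theorem ea_sub : EA (A.subgroupOf H) := ea_of_sq fun _ h => Subtype.ext (hA.sq h)

include hH hA h4 hS

theorem count {a : G} (ha : a ∈ A) (h1 : a ≠ 1) :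
    3 * (C[A].relIndex (H ⊓ C{a})) ^ 2 < C{a}.relIndex H := by
  have := count_top (A := A.subgroupOf H) (perf_sub hH) (ea_sub hA)
    (by rw [card_subgroupOf_of_le hS.le, h4]) ((hall_subgroupOf_top hS.le).2 hS)
    (a := ⟨a, hS.le ha⟩) ha (by simpa using h1)
  have e1 : C{(⟨a, hS.le ha⟩ : H)} = C{a}.subgroupOf H := by
    ext g; simp [mem_C1, mem_subgroupOf, Subtype.ext_iff]
  have e2 : C[A.subgroupOf H] = C[A].subgroupOf H := by
    ext g
    simp only [mem_C, mem_subgroupOf, Subtype.ext_iff]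
    exact ⟨fun k x hx => k ⟨x, hS.le hx⟩ hx, fun k x hx => k x hx⟩
  rwa [e1, e2, subgroupOf, relIndex_comap, subgroupOf_map_subtype, inf_comm] at this

theorem conj_sub {a u : G} (ha : a ∈ A) (h1 : a ≠ 1) (hu : u ∈ H) (u2 : u * u = 1) (u1 : u ≠ 1) :
    ∃ g ∈ H, u = g * a * g⁻¹ := by
  obtain ⟨g, hg⟩ := isConj_iff.1 (conj_top (A := A.subgroupOf H) (perf_sub hH)
    (by rw [card_subgroupOf_of_le hS.le, h4]) ((hall_subgroupOf_top hS.le).2 hS)
    (a := ⟨a, hS.le ha⟩) (u := ⟨u, hu⟩) ha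
    (orderOf_eq_prime (Subtype.ext (by simpa [pow_two] using hA.sq ha)) (by simpa using h1))
    (orderOf_eq_prime (Subtype.ext (by simpa [pow_two] using u2)) (by simpa using u1)))
  exact ⟨g, g.2, (congrArg Subtype.val hg).symm⟩

theorem mu_eq {a x y : G} (ha : a ∈ A) (h1 : a ≠ 1) (hx : x ∈ H) (hy : y ∈ H) (x2 : x * x = 1)
    (y2 : y * y = 1) (x1 : x ≠ 1) (y1 : y ≠ 1) (xy : x ≠ y) (c : x * y = y * x) :
    C{y}.relIndex (H ⊓ C{x}) = C[A].relIndex (H ⊓ C{a}) := by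
  obtain ⟨g, hg, hgA⟩ := Sylow_Jsub Nat.prime_two hS (Q := zpowers x ⊔ zpowers y)
    ((twoE_of_sq x2).isPi.sup (twoE_of_sq y2).isPi
      (norm_zpowers_of_cent (zpowers_le.2 (mem_C1.2 c.symm))))
    (sup_le (zpowers_le.2 hx) (zpowers_le.2 hy))
  have hx' := hgA (conj_mem_cj g (mem_sup_left (mem_zpowers x)))
  have hy' := hgA (conj_mem_cj g (mem_sup_right (mem_zpowers y)))
  obtain ⟨k, hk, e⟩ := conj_sub hH hA h4 hS ha h1 hx x2 x1
  have c1 : ♯(H ⊓ C{x}) = ♯(H ⊓ C{a}) := by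
    rw [← card_cj k (H ⊓ C{a}), cj_inf, cj_C1, cj_of_mem hk, e]
  have c2 : ♯(C{y} ⊓ (H ⊓ C{x})) = ♯(C[A] ⊓ (H ⊓ C{a})) := by
    rw [← card_cj g, cj_inf, cj_inf, cj_C1, cj_C1, cj_of_mem hg, inf_left_comm,
      C_two hA h4 hy' hx' (by simpa) (by simpa) (by simpa using xy.symm), inf_left_comm,
      inf_eq_left.2 (C_le_C1 ha)]
  have := card_inf_mul_relIndex C{y} (H ⊓ C{x})
  rw [c1, c2, ← card_inf_mul_relIndex C[A] (H ⊓ C{a})] at this
  exact Nat.eq_of_mul_eq_mul_left (card_pos _) this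

/-- more than a third of the involutions `d` have `d a` of odd order -/
theorem odd_count {D : Set G} (hD : SC D) (hAD : ∀ a ∈ A, a = 1 ∨ a ∈ D) {a : G} (ha : a ∈ A)
    (h1 : a ≠ 1) :
    {d | d ∈ D ∧ d ∈ H}.ncard < 3 * {d | (d ∈ D ∧ d ∈ H) ∧ OddE (d * a)}.ncard := by
  have aD := (hAD a ha).resolve_left h1
  have aH := hS.le ha
  have e1 : {d | d ∈ D ∧ d ∈ H}.ncard = C{a}.relIndex H := by
    rw [← nc_class]; congr 1; ext d
    refine ⟨fun h => conj_sub hH hA h4 hS ha h1 h.2 (hD.sq d h.1) (hD.ne d h.1), ?_⟩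
    rintro ⟨g, hg, rfl⟩
    exact ⟨hD.conj a aD g, mul_mem (mul_mem hg aH) (inv_mem hg)⟩
  set μ := C[A].relIndex (H ⊓ C{a}) with hμ
  have e2 : {c | c ∈ D ∧ c ∈ H ⊓ C{a} ∧ c ≠ a}.ncard ≤ 2 * μ := by
    obtain ⟨b, hb, b1, ba⟩ := other h4 a
    have ab1 : a * b ≠ 1 := fun k => ba (by rw [eq_inv_of_mul_eq_one_right k, hA.inv ha])
    have m1 := mu_eq hH hA h4 hS ha h1 aH (hS.le hb) (hA.sq ha) (hA.sq hb) h1 b1 ba.symm
      (hA.comm ha hb)
    have m2 := mu_eq hH hA h4 hS ha h1 aH (hS.le (mul_mem ha hb)) (hA.sq ha)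
      (hA.sq (mul_mem ha hb)) h1 ab1 (by simpa using b1) (hA.comm ha (mul_mem ha hb))
    rw [two_mul, hμ]
    nth_rewrite 1 [← m1]
    rw [← m2, ← nc_class, ← nc_class]
    refine (Set.ncard_le_ncard ?_).trans (Set.ncard_union_le _ _)
    rintro c ⟨cD, cH, ca⟩
    obtain ⟨g, hg, hc⟩ := Sylow_subJ Nat.prime_two
      (hS.of_le (le_inf hS.le (hA.le_C.trans (C_le_C1 ha))) inf_le_left) (hD.two cD).isPi
      (zpowers_le.2 cH)
    obtain ⟨w, hw, rfl⟩ := mem_cj'.1 (hc (mem_zpowers c))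
    rcases third hA h4 ha hb hw h1 b1 ba.symm with rfl | rfl | rfl | rfl
    · exact absurd (by simp) (hD.ne _ cD)
    · exact absurd (mem_C1_iff_conj.1 hg.2) ca
    · exact Or.inl ⟨g, hg, rfl⟩
    · exact Or.inr ⟨g, hg, rfl⟩
  have e3 := dc_le (s := {d | (d ∈ D ∧ d ∈ H) ∧ ¬ OddE (d * a)})
    (t := {c | c ∈ D ∧ c ∈ H ⊓ C{a} ∧ c ≠ a}) (fun d c => ∃ g ∈ H ⊓ C{c}, d = g * (a * c) * g⁻¹)
    (m := 1) (n := μ) (by
      rintro d ⟨⟨dD, dH⟩, ho⟩
      obtain ⟨m, hm, om, cD, cd, ca⟩ := hD.even dD aD ho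
      refine (Set.ncard_pos (Set.toFinite _)).2 ⟨(d * a) ^ m, ⟨cD, ⟨pow_mem (mul_mem dH aH) m, mem_C1.2 ca⟩,
        fun k => ?_⟩, ?_⟩
      · rw [k] at cd
        have : (d * a) ^ 2 = 1 := by
          rw [pow_two, mul_assoc, ← mul_assoc a, cd, mul_assoc, hD.sq a aD, mul_one, hD.sq d dD]
        have h2 := orderOf_dvd_of_pow_eq_one this
        rw [om] at h2
        obtain rfl : m = 1 := by
          have := Nat.le_of_dvd two_pos h2
          obtain ⟨j, rfl⟩ := hm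
          omega
        exact hD.ne d dD (by simpa using k)
      · obtain ⟨g, hg, e⟩ := conj_of_odd (hD.sq d dD) (y := a * (d * a) ^ m) (by
          rw [mul_assoc, ← mul_assoc _ a, ca, mul_assoc, hD.sq _ cD, mul_one, hD.sq a aD]) hm
        refine ⟨g, (zpowers_le.2 ?_ : zpowers _ ≤ H ⊓ C{(d * a) ^ m}) hg, ?_⟩
        · exact mul_mem ⟨dH, mem_C1.2 cd.symm⟩ (mul_mem ⟨aH, mem_C1.2 ca.symm⟩
            ⟨pow_mem (mul_mem dH aH) m, self_mem_C1 _⟩)
        · rw [← e, ← mul_assoc d a, ← pow_succ', ← pow_mul]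
          obtain ⟨j, hj⟩ := hm
          rw [show (m + 1) * m = 2 * m * (j + 1) by rw [hj]; ring, pow_mul, ← om,
            pow_orderOf_eq_one, one_pow, mul_one]) (by
      rintro c ⟨cD, ⟨cH, ca⟩, ne⟩
      have ca := mem_C1.1 ca
      rw [hμ, ← mu_eq hH hA h4 hS ha h1 cH (mul_mem aH cH) (hD.sq c cD)
        (by rw [mul_assoc, ← mul_assoc c, ca, mul_assoc, hD.sq _ cD, mul_one, hD.sq a aD])
        (hD.ne c cD) (fun k => ne (by rw [eq_inv_of_mul_eq_one_right k, hA.inv ha]))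
        (by simpa using h1) (by rw [← mul_assoc, ca]), ← nc_class]
      exact Set.ncard_le_ncard fun d hd => hd.2)
  have e4 : {d | d ∈ D ∧ d ∈ H}.ncard ≤ {d | (d ∈ D ∧ d ∈ H) ∧ OddE (d * a)}.ncard +
      {d | (d ∈ D ∧ d ∈ H) ∧ ¬ OddE (d * a)}.ncard :=
    (Set.ncard_le_ncard fun d hd => (em _).imp (fun k => ⟨hd, k⟩) fun k => ⟨hd, k⟩).trans
      (Set.ncard_union_le _ _)
  have e5 := count hH hA h4 hS ha h1
  rw [← hμ, ← e1] at e5
  nlinarith [Nat.mul_le_mul_right μ e2]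

end Klein

end H27.R2c
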