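import Mathlib
import Cfsg.Agent.H23.Rel

/-! Odd cores of involution centralisers in `L₃(q)`, `U₃(q)`: the abstract part. -/

set_option autoImplicit false

namespace H27
namespace PR

open Subgroup Matrix
open scoped MatrixGroups

section SL2

variable {K : Type*} [Field K]

/-- upper transvection -/
def up (s : K) : SL(2, K) := ⟨!![1, s; 0, 1], by simp [det_fin_two]⟩

/-- lower transvection -/
def lo (s : K) : SL(2, K) := ⟨!![1, 0; s, 1], by simp [det_fin_two]⟩

/-- the Weyl element -/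
def wy : SL(2, K) := ⟨!![0, 1; -1, 0], by simp [det_fin_two]⟩

theorem smul2 (g : SL(2, K)) (a b : K) :
    g • (![a, b] : Fin 2 → K) = ![g.1 0 0 * a + g.1 0 1 * b, g.1 1 0 * a + g.1 1 1 * b] := by
  change g.1 *ᵥ _ = _
  ext i
  fin_cases i <;> simp [mulVec, dotProduct, Fin.sum_univ_two]

theorem no_neg (h2 : (2 : K) ≠ 0) {y : SL(2, K)} (ho : Odd (orderOf y))
    (h : y • (![1, 0] : Fin 2 → K) = -![1, 0]) : False := by
  have h1 : ∀ k : ℕ, y ^ (2 * k + 1) • (![1, 0] : Fin 2 → K) = -![1, 0] := by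
    intro k
    induction k with
    | zero => simpa using h
    | succ k ih =>
      rw [show 2 * (k + 1) + 1 = 2 * k + 1 + 1 + 1 by ring, pow_succ, pow_succ, mul_smul, mul_smul,
        h, smul_neg, h, neg_neg, ih]
  obtain ⟨k, hk⟩ := ho
  have h3 := h1 k
  rw [← hk, pow_orderOf_eq_one, one_smul] at h3
  have h4 := congrFun h3 0
  simp at h4
  exact h2 (by linear_combination h4)

theorem low_zero (h2 : (2 : K) ≠ 0) (N : Subgroup SL(2, K)) [hN : N.Normal]
    (ho : ∀ x ∈ N, Odd (orderOf x)) {x : SL(2, K)} (hx : x ∈ N) : x.1 1 0 = 0 := by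
  by_contra hc
  have key : ∀ a : K, ∃ y ∈ N, y • (![1, 0] : Fin 2 → K) = ![a, x.1 1 0] := fun a => by
    refine ⟨up ((a - x.1 0 0) / x.1 1 0) * x * (up ((a - x.1 0 0) / x.1 1 0))⁻¹,
      hN.conj_mem _ hx _, ?_⟩
    have h1 : (up ((a - x.1 0 0) / x.1 1 0))⁻¹ • (![1, 0] : Fin 2 → K) = ![1, 0] := by
      rw [inv_smul_eq_iff, smul2]; simp [up]
    rw [mul_smul, mul_smul, h1, smul2, smul2]
    simp [up, hc]
  obtain ⟨x1, h1, e1⟩ := key 0
  obtain ⟨x2, h3, e2⟩ := key (-1)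
  refine no_neg h2 (ho _ (N.mul_mem (hN.conj_mem _ (N.mul_mem h3 (N.inv_mem h1)) (lo (x.1 1 0)))
    h1)) ?_
  have h4 : (lo (x.1 1 0))⁻¹ • (![0, x.1 1 0] : Fin 2 → K) = ![0, x.1 1 0] := by
    rw [inv_smul_eq_iff, smul2]; simp [lo]
  have h5 : x1⁻¹ • (![0, x.1 1 0] : Fin 2 → K) = ![1, 0] := by rw [inv_smul_eq_iff, e1]
  rw [mul_smul, mul_smul, mul_smul, mul_smul, e1, h4, h5, e2, smul2]
  simp [lo]

/-- `SL₂` in odd characteristic has no non-trivial normal subgroup of odd order -/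
theorem sl2_odd (h2 : (2 : K) ≠ 0) (N : Subgroup SL(2, K)) [hN : N.Normal]
    (ho : ∀ x ∈ N, Odd (orderOf x)) : N = ⊥ := by
  refine eq_bot_iff.2 fun x hx => ?_
  have h1 := low_zero h2 N ho hx
  have h3 := low_zero h2 N ho (hN.conj_mem _ hx wy)
  have h4 := low_zero h2 N ho (hN.conj_mem _ hx (lo 1))
  have h5 := x.2
  rw [det_fin_two, h1] at h5
  change ((wy : SL(2, K)).1 * x.1 * adjugate (wy : SL(2, K)).1 : Matrix _ _ K) 1 0 = 0 at h3
  change ((lo (1 : K)).1 * x.1 * adjugate (lo (1 : K)).1 : Matrix _ _ K) 1 0 = 0 at h4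
  simp [wy, adjugate_fin_two, mul_apply, Fin.sum_univ_two, vecMul, dotProduct] at h3
  simp [lo, adjugate_fin_two, mul_apply, Fin.sum_univ_two, vecMul, dotProduct, h1, h3] at h4
  have h6 : x.1 1 1 = x.1 0 0 := by linear_combination -h4
  have h7 : (x.1 0 0 - 1) * (x.1 0 0 + 1) = 0 := by rw [h6] at h5; linear_combination h5
  rcases mul_eq_zero.1 h7 with h | h
  · refine Subtype.ext ?_
    have h8 : x.1 0 0 = 1 := by linear_combination h
    ext i j
    fin_cases i <;> fin_cases j <;> simp [h1, h3, h6, h8]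
  · exfalso
    refine no_neg h2 (ho _ hx) ?_
    have h8 : x.1 0 0 = -1 := by linear_combination h
    rw [smul2]
    simp [h1, h8]

end SL2

section Abs

variable {G H L : Type*} [Group G] [Group H] [Group L]

/-- the kernel of `π` is central of exponent `3` -/
def K3 (π : H →* G) : Prop := ∀ x, π x = 1 → (∀ y, y * x = x * y) ∧ x ^ 3 = 1

theorem K3.lift {π : H →* G} (hk : K3 π) (hπ : Function.Surjective π) {t : G} (ht : t * t = 1) :
    ∃ T : H, T * T = 1 ∧ π T = t := by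
  obtain ⟨T, rfl⟩ := hπ t
  refine ⟨T ^ 3, ?_, ?_⟩
  · rw [← (hk (T * T) (by rw [map_mul, ht])).2, ← sq, ← sq, ← pow_mul, ← pow_mul]
  · rw [map_pow, pow_succ, sq, ht, one_mul]

theorem K3.comm {π : H →* G} (hk : K3 π) {z x : H} (hz : z * z = 1)
    (h : π x * π z = π z * π x) : x * z = z * x := by
  obtain ⟨h1, h2⟩ := hk (x * z * x⁻¹ * z⁻¹) (by
    simp only [map_mul, map_inv, h]; group)
  generalize hk' : x * z * x⁻¹ * z⁻¹ = k at h1 h2
  have h3 : x * z * x⁻¹ = k * z := by rw [← hk']; group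
  have h4 : k * k = 1 := by
    have : (k * z) * (k * z) = 1 := by
      rw [← h3, show x * z * x⁻¹ * (x * z * x⁻¹) = x * (z * z) * x⁻¹ by group, hz]; group
    rw [show k * z * (k * z) = k * (z * k) * z by group, h1 z,
      show k * (k * z) * z = k * k * (z * z) by group, hz, mul_one] at this
    exact this
  rw [pow_succ, sq, h4, one_mul] at h2
  rw [h2, one_mul] at h3
  rw [← h3]; nth_rewrite 2 [← h3]; group

theorem K3.conj {π : H →* G} (hk : K3 π) (g : H) :
    K3 (π.comp (MulAut.conj g).toMonoidHom) := fun x hx => by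
  obtain ⟨h1, h2⟩ := hk _ hx
  change ∀ y, y * (g * x * g⁻¹) = g * x * g⁻¹ * y at h1
  change (g * x * g⁻¹) ^ 3 = 1 at h2
  have h3 : g * x * g⁻¹ = x := by
    have := h1 g⁻¹
    calc g * x * g⁻¹ = g⁻¹ * (g * (g * x * g⁻¹)) := by group
      _ = x := by rw [h1 g]; group
  rw [h3] at h1 h2
  exact ⟨h1, h2⟩

theorem core_abs [Finite G] {π : H →* G} (hπ : Function.Surjective π) (hk : K3 π) {z : H}
    (hz : z * z = 1) (B : L →* H) (hBi : Function.Injective B) (hB1 : ∀ y, B y * z = z * B y)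
    (hB2 : ∀ x y, x * z = z * x → ∃ y', x * B y * x⁻¹ * (B y)⁻¹ = B y')
    (hL : ∀ N : Subgroup L, N.Normal → (∀ y ∈ N, Odd (orderOf y)) → N = ⊥)
    (hB3 : ∀ x, x * z = z * x → (∀ y, x * B y = B y * x) → ∀ u, u * z = z * u → x * u = u * x)
    {u : G} (hc : u * π z = π z * u) :
    Cfsg.centralizerPPrimeCore 2 (π z) ≤ centralizer {u} := by
  intro x hx
  obtain ⟨x, rfl⟩ := hπ x
  obtain ⟨u, rfl⟩ := hπ u
  have hn : ∀ a : H, a * z = z * a → ∀ b ∈ Cfsg.centralizerPPrimeCore 2 (π z),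
      π a * b * (π a)⁻¹ ∈ Cfsg.centralizerPPrimeCore 2 (π z) := fun a ha b hb =>
    (mem_normalizer_iff.1 (H23.centralizer_le_normalizer_cpp 2 (π z)
      (mem_centralizer_singleton_iff.2 (by rw [← map_mul, ha, map_mul]))) b).1 hb
  have hN : ((Cfsg.centralizerPPrimeCore 2 (π z)).comap (π.comp B)) = ⊥ := by
    refine hL _ ⟨fun a ha g => ?_⟩ fun y hy => ?_
    · simp only [mem_comap, MonoidHom.comp_apply, map_mul, map_inv] at ha ⊢
      exact hn _ (hB1 g) _ ha
    · have h1 := (H23.cpp_cop 2 (π z)).coprime_dvd_left 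
        (Subgroup.orderOf_dvd_natCard _ (mem_comap.1 hy))
      rw [Nat.coprime_two_right] at h1
      have h2 := (hk (B (y ^ orderOf ((π.comp B) y))) (by
        rw [← MonoidHom.comp_apply, map_pow, pow_orderOf_eq_one])).2
      rw [← map_pow, ← pow_mul, ← map_one B, hBi.eq_iff] at h2
      exact Odd.of_dvd_nat (h1.mul (by decide)) (orderOf_dvd_of_pow_eq_one h2)
  have hxz : x * z = z * x := hk.comm hz (mem_centralizer_singleton_iff.1 (H23.cpp_le _ _ hx))
  have h3 := hB3 x hxz (fun y => by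
    obtain ⟨y', hy'⟩ := hB2 x y hxz
    have h4 : y' ∈ (Cfsg.centralizerPPrimeCore 2 (π z)).comap (π.comp B) := by
      rw [mem_comap, MonoidHom.comp_apply, ← hy']
      simp only [map_mul, map_inv, mul_assoc]
      refine mul_mem hx ?_
      simpa only [mul_assoc] using hn _ (hB1 y) _ (inv_mem hx)
    rw [hN, mem_bot] at h4
    rw [h4, map_one, mul_inv_eq_one, mul_inv_eq_iff_eq_mul] at hy'
    exact hy') u (hk.comm hz hc)
  exact mem_centralizer_singleton_iff.2 (by rw [← map_mul, h3, map_mul])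

/-- `M` contains `u, v` and every `g` conjugating `u, v` into `M` -/
structure Cl (M : Subgroup H) (u v : H) : Prop where
  hu : u ∈ M
  hv : v ∈ M
  r : ∀ g, g⁻¹ * u * g ∈ M → g⁻¹ * v * g ∈ M → g ∈ M

theorem Cl.comap {M : Subgroup H} (f : L →* H) {u v : L} (h : Cl M (f u) (f v)) :
    Cl (M.comap f) u v :=
  ⟨h.hu, h.hv, fun g h1 h2 => h.r (f g) (by simpa using h1) (by simpa using h2)⟩

theorem Cl.r' {M : Subgroup H} {u v : H} (h : Cl M u v) {g a b : H} (ha : a ∈ M) (hb : b ∈ M)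
    (h1 : u * g = g * a) (h2 : v * g = g * b) : g ∈ M :=
  h.r g (by rw [mul_assoc, h1]; simpa using ha) (by rw [mul_assoc, h2]; simpa using hb)

end Abs

end PR
end H27
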