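import Mathlib
import Cfsg.Agent.H27.PRA
import Cfsg.Agent.H7.SL
import Cfsg.Agent.H16.PSL3Inv
import Cfsg.Prelude.Def_Classical

/-! The `2`-generated core of `SL₃(q)`, `q` odd. -/

set_option autoImplicit false
set_option linter.unusedSimpArgs false

namespace H27
namespace PR

open Subgroup Matrix
open scoped MatrixGroups

variable {F : Type*} [Field F]

/-- first diagonal involution -/
def U3 (F : Type*) [Field F] : Matrix (Fin 3) (Fin 3) F := !![-1, 0, 0; 0, -1, 0; 0, 0, 1]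

/-- second diagonal involution -/
def V3 (F : Type*) [Field F] : Matrix (Fin 3) (Fin 3) F := !![1, 0, 0; 0, -1, 0; 0, 0, -1]

/-- a multiplicatively closed set `In` of matrices which contains the two involutions and every
matrix of `X` conjugating them into `In` -/
structure MCl (X In : Matrix (Fin 3) (Fin 3) F → Prop) : Prop where
  mul : ∀ {A B}, In A → In B → In (A * B)
  hu : In (U3 F)
  hv : In (V3 F)
  r : ∀ {A B C}, X A → In B → In C → U3 F * A = A * B → V3 F * A = A * C → In A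

theorem mcl_of_cl {H : Type*} [Group H] (μ : H →* Matrix (Fin 3) (Fin 3) F)
    (hμ : Function.Injective μ) {M : Subgroup H} {u v : H} (hu : μ u = U3 F) (hv : μ v = V3 F)
    (h : Cl M u v) : MCl (fun A => ∃ g, μ g = A) (fun A => ∃ g ∈ M, μ g = A) := by
  refine ⟨?_, ⟨u, h.hu, hu⟩, ⟨v, h.hv, hv⟩, ?_⟩
  · rintro _ _ ⟨a, ha, rfl⟩ ⟨b, hb, rfl⟩
    exact ⟨a * b, M.mul_mem ha hb, map_mul _ _ _⟩
  · rintro _ _ _ ⟨g, rfl⟩ ⟨a, ha, rfl⟩ ⟨b, hb, rfl⟩ h1 h2
    refine ⟨g, h.r' ha hb (hμ ?_) (hμ ?_), rfl⟩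
    · rw [map_mul, map_mul, hu, h1]
    · rw [map_mul, map_mul, hv, h2]

namespace MCl

variable {X In : Matrix (Fin 3) (Fin 3) F → Prop} (h : MCl X In)
include h

theorem hw : In !![-1, 0, 0; 0, 1, 0; 0, 0, -1] := by
  convert h.mul h.hu h.hv using 1; simp [U3, V3]

theorem dg {a b c : F} (hX : X !![a, 0, 0; 0, b, 0; 0, 0, c]) : In !![a, 0, 0; 0, b, 0; 0, 0, c] :=
  h.r hX h.hu h.hv (by simp [U3, V3]) (by simp [U3, V3])

theorem m01 {a b c : F} (hX : X !![0, a, 0; b, 0, 0; 0, 0, c]) : In !![0, a, 0; b, 0, 0; 0, 0, c] :=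
  h.r hX h.hu h.hw (by simp [U3, V3]) (by simp [U3, V3])

theorem m12 {a b c : F} (hX : X !![a, 0, 0; 0, 0, b; 0, c, 0]) : In !![a, 0, 0; 0, 0, b; 0, c, 0] :=
  h.r hX h.hw h.hv (by simp [U3, V3]) (by simp [U3, V3])

theorem m02 {a b c : F} (hX : X !![0, 0, a; 0, b, 0; c, 0, 0]) : In !![0, 0, a; 0, b, 0; c, 0, 0] :=
  h.r hX h.hv h.hu (by simp [U3, V3]) (by simp [U3, V3])

theorem cy {a b c : F} (hX : X !![0, 0, a; b, 0, 0; 0, c, 0]) : In !![0, 0, a; b, 0, 0; 0, c, 0] :=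
  h.r hX h.hw h.hu (by simp [U3, V3]) (by simp [U3, V3])

theorem cy' {a b c : F} (hX : X !![0, a, 0; 0, 0, b; c, 0, 0]) : In !![0, a, 0; 0, 0, b; c, 0, 0] :=
  h.r hX h.hv h.hw (by simp [U3, V3]) (by simp [U3, V3])

theorem hh {c d : F} (hX : X !![c, c, 0; c, -c, 0; 0, 0, d])
    (hX' : X !![0, 1, 0; 1, 0, 0; 0, 0, -1]) : In !![c, c, 0; c, -c, 0; 0, 0, d] :=
  h.r hX h.hu (h.m01 hX') (by simp [U3, V3]) (by simp [U3, V3])

omit h [Field F] in
theorem cast {A B : Matrix (Fin 3) (Fin 3) F} (hA : In A) (e : B = A) : In B := e ▸ hA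

theorem mono {X' : Matrix (Fin 3) (Fin 3) F → Prop} (hX : ∀ A, X' A → X A) : MCl X' In :=
  ⟨h.mul, h.hu, h.hv, fun hA => h.r (hX _ hA)⟩

end MCl

theorem MCl.comap {In : Matrix (Fin 3) (Fin 3) F → Prop} (h : MCl (fun A => A.det = 1) In)
    {K : Type*} [Field K] (f : K →+* F) :
    MCl (fun A => A.det = 1) (fun A : Matrix (Fin 3) (Fin 3) K => In (A.map f)) := by
  have hU : (U3 K).map f = U3 F := by
    ext i j; fin_cases i <;> fin_cases j <;> simp [U3]
  have hV : (V3 K).map f = V3 F := by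
    ext i j; fin_cases i <;> fin_cases j <;> simp [V3]
  refine ⟨fun ha hb => ?_, ?_, ?_, fun {A B C} hA hB hC h1 h2 => h.r ?_ hB hC ?_ ?_⟩
  · rw [Matrix.map_mul]; exact h.mul ha hb
  · rw [hU]; exact h.hu
  · rw [hV]; exact h.hv
  · rw [← RingHom.mapMatrix_apply, ← RingHom.map_det, hA, map_one]
  · rw [← hU, ← Matrix.map_mul, h1, Matrix.map_mul]
  · rw [← hV, ← Matrix.map_mul, h2, Matrix.map_mul]

instance factFive : Fact (Nat.Prime 5) := ⟨by norm_num⟩

theorem word3 {In : Matrix (Fin 3) (Fin 3) (ZMod 3) → Prop}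
    (h : MCl (fun A => A.det = 1) In) : In !![1, 1, 0; 0, 1, 0; 0, 0, 1] := by
  have t := h.hh (c := 1) (d := 1) (by decide) (by decide)
  have s0 := h.m12 (a := 1) (b := 1) (c := 2) (by decide)
  have s1 : In !![1, 0, 1; 0, 2, 0; 2, 0, 1] :=
    MCl.cast (h.mul (h.mul s0 t) (h.m12 (a := 1) (b := 1) (c := 2) (by decide))) (by decide)
  have s2 : In !![1, 2, 1; 2, 0, 1; 2, 2, 2] :=
    MCl.cast (h.mul (h.mul s1 t) (h.m12 (a := 1) (b := 1) (c := 2) (by decide))) (by decide)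
  have s3 : In !![2, 1, 0; 2, 1, 2; 0, 2, 1] :=
    MCl.cast (h.mul (h.mul s2 t) (h.cy (a := 1) (b := 1) (c := 1) (by decide))) (by decide)
  have s4 : In !![0, 0, 1; 0, 1, 1; 2, 2, 1] :=
    MCl.cast (h.mul (h.mul s3 t) (h.m12 (a := 1) (b := 1) (c := 2) (by decide))) (by decide)
  have s5 : In !![0, 1, 0; 2, 1, 1; 0, 1, 1] :=
    MCl.cast (h.mul (h.mul s4 t) (h.cy (a := 1) (b := 1) (c := 1) (by decide))) (by decide)
  have s6 : In !![2, 0, 1; 1, 1, 0; 2, 1, 1] :=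
    MCl.cast (h.mul (h.mul s5 t) (h.cy (a := 1) (b := 1) (c := 1) (by decide))) (by decide)
  have s7 : In !![2, 1, 2; 0, 0, 2; 1, 1, 0] :=
    MCl.cast (h.mul (h.mul s6 t) (h.cy (a := 1) (b := 1) (c := 1) (by decide))) (by decide)
  have s8 : In !![1, 1, 0; 0, 1, 0; 0, 0, 1] :=
    MCl.cast (h.mul (h.mul s7 t) (h.cy (a := 2) (b := 1) (c := 2) (by decide))) (by decide)
  exact s8

theorem word5 {In : Matrix (Fin 3) (Fin 3) (ZMod 5) → Prop}
    (h : MCl (fun A => A.det = 1) In) : In !![1, 1, 0; 0, 1, 0; 0, 0, 1] := by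
  have t := h.hh (c := 1) (d := 2) (by decide) (by decide)
  have s0 := h.m12 (a := 1) (b := 1) (c := 4) (by decide)
  have s1 : In !![1, 0, 1; 0, 3, 0; 4, 0, 1] :=
    MCl.cast (h.mul (h.mul s0 t) (h.m12 (a := 1) (b := 1) (c := 4) (by decide))) (by decide)
  have s2 : In !![1, 1, 2; 2, 0, 1; 4, 1, 3] :=
    MCl.cast (h.mul (h.mul s1 t) (h.cy (a := 2) (b := 1) (c := 3) (by decide))) (by decide)
  have s3 : In !![2, 3, 0; 2, 4, 4; 0, 2, 1] :=
    MCl.cast (h.mul (h.mul s2 t) (h.m12 (a := 1) (b := 2) (c := 2) (by decide))) (by decide)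
  have s4 : In !![4, 0, 0; 3, 4, 2; 3, 1, 4] :=
    MCl.cast (h.mul (h.mul s3 t) (h.cy (a := 2) (b := 1) (c := 3) (by decide))) (by decide)
  have s5 : In !![4, 0, 3; 2, 3, 3; 4, 1, 4] :=
    MCl.cast (h.mul (h.mul s4 t) (h.m12 (a := 1) (b := 2) (c := 2) (by decide))) (by decide)
  have s6 : In !![4, 1, 4; 4, 1, 0; 3, 3, 0] :=
    MCl.cast (h.mul (h.mul s5 t) (h.cy (a := 1) (b := 1) (c := 1) (by decide))) (by decide)
  have s7 : In !![1, 1, 0; 0, 1, 0; 0, 0, 1] :=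
    MCl.cast (h.mul (h.mul s6 t) (h.m02 (a := 1) (b := 2) (c := 2) (by decide))) (by decide)
  exact s7


section Lin

variable {In : Matrix (Fin 3) (Fin 3) F → Prop} (h : MCl (fun A => A.det = 1) In)
include h

theorem tv_big (h2 : (2 : F) ≠ 0) {x : F} (hx : x ≠ 0) (h4 : x ^ 4 ≠ 1) :
    ∃ u : F, u ≠ 0 ∧ In !![1, u, 0; 0, 1, 0; 0, 0, 1] := by
  have h5 : x + 1 ≠ 0 := fun e => h4 (by rw [eq_neg_of_add_eq_zero_left e]; ring)
  have h6 : x - 1 ≠ 0 := fun e => h4 (by rw [sub_eq_zero.1 e]; ring)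
  have h7 : 1 + x ^ 2 ≠ 0 := fun e => h4 (by linear_combination (x ^ 2 - 1) * e)
  have h8 : 1 - x ^ 2 ≠ 0 := fun e => h4 (by linear_combination (-x ^ 2 - 1) * e)
  have h9 : (4 : F) ≠ 0 := by rw [show (4 : F) = 2 * 2 by norm_num]; exact mul_ne_zero h2 h2
  have t := h.hh (c := 1) (d := -1 / 2) (by simp [det_fin_three]; field_simp; ring)
    (by simp [det_fin_three])
  have d1 := h.dg (a := (x + 1) / 2) (b := (x - 1) / 2) (c := 4 / ((x + 1) * (x - 1)))
    (by simp [det_fin_three]; field_simp; ring)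
  have d2 := h.dg (a := x⁻¹) (b := 1) (c := x) (by simp [det_fin_three, hx])
  have d3 := h.dg (a := 1) (b := 2 * x / (1 - x ^ 2)) (c := (1 - x ^ 2) / (2 * x))
    (by simp [det_fin_three]; field_simp)
  have d4 := h.dg (a := 1 / 2) (b := 1 / 2) (c := 4) (by simp [det_fin_three]; field_simp; ring)
  have s1 : In !![x, 1, 0; 1, x, 0; 0, 0, -1 / (1 - x ^ 2)] :=
    MCl.cast (h.mul (h.mul t d1) t) (by
      simp; refine ⟨⟨?_, ?_⟩, ⟨?_, ?_⟩, ?_⟩ <;> field_simp <;> ring)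
  have s2 : In !![1, 2 / (1 - x ^ 2), 0; 1, 2 * x ^ 2 / (1 - x ^ 2), 0; 0, 0, -1 / 2] :=
    MCl.cast (h.mul (h.mul d2 s1) d3) (by
      simp [hx]; refine ⟨?_, ?_, ?_⟩ <;> field_simp)
  exact ⟨(1 + x ^ 2) / (1 - x ^ 2), div_ne_zero h7 h8, MCl.cast (h.mul (h.mul d4 t) s2) (by
    simp; refine ⟨⟨?_, ?_⟩, ?_, ?_⟩ <;> field_simp <;> ring)⟩

theorem tv_small {p : ℕ} [Fact p.Prime] (hp : (p : F) = 0)
    (hw : ∀ In : Matrix (Fin 3) (Fin 3) (ZMod p) → Prop, MCl (fun A => A.det = 1) In →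
      In !![1, 1, 0; 0, 1, 0; 0, 0, 1]) : In !![1, 1, 0; 0, 1, 0; 0, 0, 1] := by
  have := (CharP.charP_iff_prime_eq_zero (R := F) Fact.out).2 hp
  refine MCl.cast (hw _ (h.comap (ZMod.castHom (dvd_refl p) F))) ?_
  ext i j; fin_cases i <;> fin_cases j <;> simp

theorem tv_ex [Fintype F] (hF : Odd (Fintype.card F)) (h2 : (2 : F) ≠ 0) :
    ∃ u : F, u ≠ 0 ∧ In !![1, u, 0; 0, 1, 0; 0, 0, 1] := by
  obtain ⟨g, hg⟩ := IsCyclic.exists_ofOrder_eq_natCard (α := Fˣ)
  rw [Nat.card_units, Nat.card_eq_fintype_card] at hg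
  by_cases h4 : (g : F) ^ 4 = 1
  · rw [← Units.val_pow_eq_pow_val, Units.val_eq_one, ← orderOf_dvd_iff_pow_eq_one, hg] at h4
    have h5 := Nat.le_of_dvd (by norm_num) h4
    have h6 : 1 < Fintype.card F := Fintype.one_lt_card
    have h7 := FiniteField.cast_card_eq_zero F
    obtain ⟨k, hk⟩ := hF
    have h8 : Fintype.card F = 3 ∨ Fintype.card F = 5 := by omega
    rcases h8 with h8 | h8 <;> rw [h8] at h7
    · exact ⟨1, one_ne_zero, tv_small h h7 fun _ => word3⟩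
    · exact ⟨1, one_ne_zero, tv_small h h7 fun _ => word5⟩
  · exact tv_big h h2 g.ne_zero h4

theorem tv_all [Fintype F] (hF : Odd (Fintype.card F)) (h2 : (2 : F) ≠ 0) (i j : Fin 3)
    (hij : i ≠ j) (c : F) : In (transvection i j c) := by
  obtain ⟨u, hu, t⟩ := tv_ex h hF h2
  have t01 : In !![1, c, 0; 0, 1, 0; 0, 0, 1] := by
    by_cases hc : c = 0
    · rw [hc]; exact h.dg (by simp [det_fin_three])
    · exact MCl.cast (h.mul (h.mul (h.dg (a := c / u) (b := 1) (c := u / c)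
        (by simp [det_fin_three, hc, hu])) t) (h.dg (a := u / c) (b := 1) (c := c / u)
        (by simp [det_fin_three, hc, hu]))) (by simp [hc, hu])
  have w := h.m01 (a := 1) (b := 1) (c := -1) (by simp [det_fin_three])
  have p := h.cy (a := 1) (b := 1) (c := 1) (by simp [det_fin_three])
  have p' := h.cy' (a := 1) (b := 1) (c := 1) (by simp [det_fin_three])
  have t10 : In !![1, 0, 0; c, 1, 0; 0, 0, 1] := MCl.cast (h.mul (h.mul w t01) w) (by simp)
  fin_cases i <;> fin_cases j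
  · exact absurd rfl hij
  · refine MCl.cast t01 ?_
    ext i j; fin_cases i <;> fin_cases j <;> simp [transvection]
  · refine MCl.cast (h.mul (h.mul p' t10) p) ?_
    ext i j; fin_cases i <;> fin_cases j <;> simp [transvection]
  · refine MCl.cast t10 ?_
    ext i j; fin_cases i <;> fin_cases j <;> simp [transvection]
  · exact absurd rfl hij
  · refine MCl.cast (h.mul (h.mul p t01) p') ?_
    ext i j; fin_cases i <;> fin_cases j <;> simp [transvection]
  · refine MCl.cast (h.mul (h.mul p' t01) p) ?_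
    ext i j; fin_cases i <;> fin_cases j <;> simp [transvection]
  · refine MCl.cast (h.mul (h.mul p t10) p') ?_
    ext i j; fin_cases i <;> fin_cases j <;> simp [transvection]
  · exact absurd rfl hij

end Lin

/-- the first involution in `SL₃` -/
def u3 (F : Type*) [Field F] : SL(3, F) := ⟨U3 F, by simp [U3, det_fin_three]⟩

/-- the second involution in `SL₃` -/
def v3 (F : Type*) [Field F] : SL(3, F) := ⟨V3 F, by simp [V3, det_fin_three]⟩

theorem sl3_top [Fintype F] (hF : Odd (Fintype.card F)) (h2 : (2 : F) ≠ 0) {M : Subgroup SL(3, F)}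
    (h : Cl M (u3 F) (v3 F)) : M = ⊤ := by
  have h1 := (mcl_of_cl (Cfsg.slToMat 3 F) (fun _ _ e => Subtype.ext e) rfl rfl h).mono
    (X' := fun A => A.det = 1) fun A hA => ⟨⟨A, hA⟩, rfl⟩
  refine H7.sl_eq_top_of_transvection_mem _ fun i j hij c => ?_
  obtain ⟨g, hg, e⟩ := tv_all h1 hF h2 i j hij c
  exact (Subtype.ext e : g = SpecialLinearGroup.transvection hij c) ▸ hg

/-- block embedding of matrices -/
def bk (A : Matrix (Fin 2) (Fin 2) F) : Matrix (Fin 3) (Fin 3) F :=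
  !![A 0 0, A 0 1, 0; A 1 0, A 1 1, 0; 0, 0, 1]

theorem bk_mul (A B : Matrix (Fin 2) (Fin 2) F) : bk (A * B) = bk A * bk B := by
  simp [bk, mul_apply, Fin.sum_univ_two]

theorem bk_det (A : Matrix (Fin 2) (Fin 2) F) : (bk A).det = A.det := by
  simp [bk, det_fin_three, det_fin_two]

theorem bk_one : bk (1 : Matrix (Fin 2) (Fin 2) F) = 1 := by
  ext i j; fin_cases i <;> fin_cases j <;> simp [bk]

theorem bk_inj {A B : Matrix (Fin 2) (Fin 2) F} (h : bk A = bk B) : A = B := by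
  ext i j
  have := congrFun (congrFun h i.castSucc) j.castSucc
  fin_cases i <;> fin_cases j <;> simpa [bk] using this

theorem block_of_comm (h2 : (2 : F) ≠ 0) {A : Matrix (Fin 3) (Fin 3) F} (h : A * U3 F = U3 F * A) :
    A = !![A 0 0, A 0 1, 0; A 1 0, A 1 1, 0; 0, 0, A 2 2] := by
  have hz : ∀ x : F, -x = x → x = 0 := fun x hx =>
    (mul_eq_zero.1 (show 2 * x = 0 by linear_combination -hx)).resolve_left h2
  have h1 := fun i j => congrFun (congrFun h i) j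
  have a := h1 0 2
  have b := h1 1 2
  have c := h1 2 0
  have d := h1 2 1
  simp [U3, mul_apply, Fin.sum_univ_three] at a b c d
  ext i j
  fin_cases i <;> fin_cases j <;> simp [hz _ a.symm, hz _ b.symm, hz _ c, hz _ d]

theorem core_mat {G H L : Type*} [Group G] [Finite G] [Group H] [Group L] (h2 : (2 : F) ≠ 0)
    (μ : H →* Matrix (Fin 3) (Fin 3) F) (hμ : Function.Injective μ) (hd : ∀ g, (μ g).det = 1)
    {z : H} (hz : μ z = U3 F) (B : L →* H) (ν : L → Matrix (Fin 2) (Fin 2) F)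
    (hν : Function.Injective ν) (hB : ∀ y, μ (B y) = bk (ν y))
    (hr : ∀ g A, μ g = bk A → ∃ y, ν y = A) {w y₀ : L} (hw : ν w = !![0, 1; -1, 0])
    (hy : ν y₀ 0 0 ≠ ν y₀ 1 1 ∨ ν y₀ 0 1 ≠ -ν y₀ 1 0)
    (hL : ∀ N : Subgroup L, N.Normal → (∀ y ∈ N, Odd (orderOf y)) → N = ⊥)
    {π : H →* G} (hπ : Function.Surjective π) (hk : K3 π) {u : G} (hc : u * π z = π z * u) :
    Cfsg.centralizerPPrimeCore 2 (π z) ≤ centralizer {u} := by
  have hb : ∀ x, x * z = z * x →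
      μ x = !![μ x 0 0, μ x 0 1, 0; μ x 1 0, μ x 1 1, 0; 0, 0, μ x 2 2] := fun x hx =>
    block_of_comm h2 (by rw [← hz, ← map_mul, hx, map_mul])
  have hB1 : ∀ y, B y * z = z * B y := fun y => hμ (by
    rw [map_mul, map_mul, hz, hB]; simp [bk, U3])
  refine core_abs hπ hk (hμ ?_) B (fun a b e => hν (bk_inj ?_)) hB1 (fun x y hx => ?_) hL
    (fun x hx hxB u hu => hμ ?_) hc
  · rw [map_mul, hz, map_one, one_fin_three]; simp [U3]
  · rw [← hB, ← hB, e]
  · have hg : x * B y * x⁻¹ * (B y)⁻¹ * z = z * (x * B y * x⁻¹ * (B y)⁻¹) :=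
      (((show Commute x z from hx).mul_left (hB1 y)).mul_left
        (show Commute x z from hx).inv_left).mul_left (show Commute (B y) z from hB1 y).inv_left
    have h1 : μ (x * B y * x⁻¹ * (B y)⁻¹) * (μ (B y) * μ x) = μ x * μ (B y) := by
      rw [← map_mul, ← map_mul, ← map_mul]; congr 1; group
    generalize x * B y * x⁻¹ * (B y)⁻¹ = g at hg h1
    have h3 := congrFun (congrFun h1 2) 2
    have h4 := hd x
    rw [hb x hx] at h4
    rw [hb g hg, hb x hx, hB] at h3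
    simp [bk, det_fin_three] at h3 h4
    have h5 : μ x 2 2 ≠ 0 := fun e => by simp [e] at h4
    have h6 : μ g = bk !![μ g 0 0, μ g 0 1; μ g 1 0, μ g 1 1] := by
      rw [hb g hg]; simp [bk, (mul_eq_right₀ h5).1 h3]
    obtain ⟨y', hy'⟩ := hr _ _ h6
    exact ⟨y', hμ (by rw [hB, hy', ← h6])⟩
  · have h1 := congrArg μ (hxB w)
    have h3 := congrArg μ (hxB y₀)
    rw [map_mul, map_mul, hB, hb x hx] at h1 h3
    rw [hw] at h1
    simp [bk] at h1 h3
    obtain ⟨⟨e1, e2⟩, -⟩ := h1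
    obtain ⟨⟨e3, e4⟩, -⟩ := h3
    have e5 : μ x 0 1 = 0 := by
      by_contra e
      rcases hy with hy | hy
      · exact hy (mul_left_cancel₀ e (by linear_combination -e4 + ν y₀ 0 1 * e2))
      · exact hy (mul_left_cancel₀ e (by linear_combination e3 - ν y₀ 0 1 * e1))
    have e6 : μ x 1 0 = 0 := by rw [← e1, e5, neg_zero]
    rw [map_mul, map_mul, hb x hx, hb u hu, e5, e6, e2]
    simp [mul_comm]

/-- the block embedding of `SL₂` in `SL₃` -/
def bkSL (F : Type*) [Field F] : SL(2, F) →* SL(3, F) where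
  toFun g := ⟨bk g.1, (bk_det _).trans g.2⟩
  map_one' := Subtype.ext bk_one
  map_mul' _ _ := Subtype.ext (bk_mul _ _)

theorem core_sl3 {G : Type*} [Group G] [Finite G] (h2 : (2 : F) ≠ 0) {π : SL(3, F) →* G}
    (hπ : Function.Surjective π) (hk : K3 π) {t u : G} (ht : t ≠ 1) (ht' : t * t = 1)
    (hc : u * t = t * u) : Cfsg.centralizerPPrimeCore 2 t ≤ centralizer {u} := by
  obtain ⟨T, hT, rfl⟩ := hk.lift hπ ht'
  obtain ⟨g, hg⟩ := isConj_iff.1 (H16.sl3_isConj_inv3 h2 T hT fun e => ht (by rw [e, map_one]))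
  subst hg
  exact core_mat h2 (Cfsg.slToMat 3 F) (fun _ _ e => Subtype.ext e) (fun g => g.2)
    (z := H16.inv3) rfl (bkSL F) Subtype.val Subtype.val_injective (fun _ => rfl)
    (fun g A e => ⟨⟨A, by rw [← bk_det, ← e]; exact g.2⟩, rfl⟩) (w := wy) (y₀ := up 1) rfl
    (Or.inr (by simp [up])) (fun N _ => sl2_odd h2 N)
    (π := π.comp (MulAut.conj g).toMonoidHom) (hπ.comp (MulAut.conj g).surjective) (hk.conj g) hc

end PR
end H27
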