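import Mathlib
import Cfsg.Agent.H0.PCDefs
import Cfsg.Agent.H27.PRA

/-! Point stabilisers in a group with a proper `2`-generated core. -/

set_option autoImplicit false

namespace H27
namespace PR

open H24 H3.B71 H6.ZD H0.PC Subgroup MulAction

variable {G Ω H : Type*} [Group G] [Finite G] [MulAction G Ω] [Group H]

theorem four_fix (h : PC G Ω) {u v : G} (hu : Inv u) (hv : Inv v) (hc : u * v = v * u) :
    ∃ a : Ω, u • a = a ∧ v • a = a := by
  obtain ⟨a, ha⟩ := h.ex (zpowers u ⊔ zpowers v) (hu.two.sup hv.two (by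
    rw [zpowers_le]
    exact centralizer_le_normalizer _ (mem_centralizer_iff.2 fun x hx => by
      obtain ⟨k, rfl⟩ := hx
      exact (show Commute u v from hc).zpow_left k)))
  exact ⟨a, ha _ (mem_sup_left (mem_zpowers u)), ha _ (mem_sup_right (mem_zpowers v))⟩

omit [Finite G] in
theorem cl_stab (h : PC G Ω) {u v : G} (hu : Inv u) (hv : Inv v) (hne : u ≠ v)
    (hc : u * v = v * u) {a : Ω} (ha : u • a = a) (hb : v • a = a) : Cl (stabilizer G a) u v :=
  ⟨ha, hb, fun g h1 h2 => by
    rw [mem_stabilizer_iff, mul_smul, mul_smul, inv_smul_eq_iff] at h1 h2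
    exact h.uniq u v hu hv hne hc _ _ h1 h2 ha hb⟩

omit [Finite G] in
theorem nar_of_top (h : PC G Ω) {π : H →* G} (hπ : Function.Surjective π) {a : Ω}
    (hM : (stabilizer G a).comap π = ⊤) (t : G) : Nar Ω t := by
  have h1 : ∀ b, b = a := fun b => by
    obtain ⟨g, rfl⟩ := h.tr a b
    obtain ⟨g, rfl⟩ := hπ g
    exact mem_comap.1 (hM ▸ mem_top g)
  exact fun b c _ _ => (h1 b).trans (h1 c).symm

omit [Finite G] in
theorem K3.inv {π : H →* G} (hk : K3 π) {x : H} (hx : x * x = 1) (h1 : x ≠ 1) : Inv (π x) :=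
  ⟨fun e => h1 (by
    have := (hk x e).2
    rwa [pow_succ, sq, hx, one_mul] at this), by rw [← map_mul, hx, map_one]⟩

theorem nar_of_cl (h : PC G Ω) {π : H →* G} (hπ : Function.Surjective π) (hk : K3 π) {u v : H}
    (hu : u * u = 1) (hv : v * v = 1) (hc : u * v = v * u) (hu1 : u ≠ 1) (hv1 : v ≠ 1)
    (hne : u * v ≠ 1) (hM : ∀ M : Subgroup H, Cl M u v → M = ⊤) (t : G) : Nar Ω t := by
  have hc' : π u * π v = π v * π u := by rw [← map_mul, hc, map_mul]
  obtain ⟨a, ha, hb⟩ := four_fix h (hk.inv hu hu1) (hk.inv hv hv1) hc'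
  refine nar_of_top h hπ (hM _ (Cl.comap π (cl_stab h (hk.inv hu hu1) (hk.inv hv hv1) (fun e => ?_)
    hc' ha hb))) t
  refine (hk.inv (x := u * v) ?_ hne).1 (by rw [map_mul, e, ← map_mul, hv, map_one])
  rw [mul_assoc, ← mul_assoc v, ← hc, mul_assoc, hv, mul_one, hu]

omit [Finite G] in
theorem k3_quot (e : G ≃* H ⧸ center H) (h : ∀ x ∈ center H, x ^ 3 = 1) :
    K3 (e.symm.toMonoidHom.comp (QuotientGroup.mk' (center H))) := fun x hx => by
  have h1 : x ∈ center H := (QuotientGroup.eq_one_iff x).1 (by simpa using hx)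
  exact ⟨mem_center_iff.1 h1, h x h1⟩

omit [Finite G] in
theorem surj_quot (e : G ≃* H ⧸ center H) :
    Function.Surjective (e.symm.toMonoidHom.comp (QuotientGroup.mk' (center H))) :=
  e.symm.surjective.comp (QuotientGroup.mk'_surjective _)

open Equiv in
theorem nar_a7 (h : PC G Ω) (e : G ≃* alternatingGroup (Fin 7)) (t : G) : Nar Ω t := by
  have hk : K3 e.symm.toMonoidHom := fun x hx => by
    have : x = 1 := by simpa using hx
    simp [this]
  let u : alternatingGroup (Fin 7) := ⟨swap 0 1 * swap 2 3, Perm.mem_alternatingGroup.2 (by decide)⟩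
  let v : alternatingGroup (Fin 7) := ⟨swap 0 2 * swap 1 3, Perm.mem_alternatingGroup.2 (by decide)⟩
  let w : alternatingGroup (Fin 7) := ⟨swap 0 1 * swap 4 5, Perm.mem_alternatingGroup.2 (by decide)⟩
  have hu := hk.inv (x := u) (by decide) (by decide)
  have hv := hk.inv (x := v) (by decide) (by decide)
  have hw := hk.inv (x := w) (by decide) (by decide)
  have huv : e.symm u * e.symm v = e.symm v * e.symm u := by
    rw [← map_mul, ← map_mul, show u * v = v * u by decide]
  have huw : e.symm u * e.symm w = e.symm w * e.symm u := by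
    rw [← map_mul, ← map_mul, show u * w = w * u by decide]
  obtain ⟨a, ha, hb⟩ := four_fix h hu hv huv
  have h1 := Cl.comap e.symm.toMonoidHom (cl_stab h hu hv
    (fun e' => absurd (e.symm.injective e') (by decide)) huv ha hb)
  have hwM := h1.r' (g := w) h1.hu (mul_mem h1.hu h1.hv) (by decide) (by decide)
  have h2 := Cl.comap e.symm.toMonoidHom (cl_stab h hu hw
    (fun e' => absurd (e.symm.injective e') (by decide)) huw ha hwM)
  refine nar_of_top h (π := e.symm.toMonoidHom) e.symm.surjective (a := a) ?_ t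
  generalize (stabilizer G a).comap e.symm.toMonoidHom = M at h1 h2
  have h3 := h1.r' (g := ⟨swap 4 5 * swap 5 6, Perm.mem_alternatingGroup.2 (by decide)⟩)
    h1.hu h1.hv (by decide) (by decide)
  have h4 := h2.r'
    (g := ⟨swap 0 2 * swap 2 4 * swap 1 3 * swap 3 5, Perm.mem_alternatingGroup.2 (by decide)⟩)
    h2.hv (mul_mem h2.hu h2.hv) (by decide) (by decide)
  have h5 : ∀ b : Fin 7, ∃ g ∈ M, g.1 4 = b := fun b => by
    fin_cases b
    · exact ⟨_, h4, by decide⟩
    · exact ⟨_, mul_mem h1.hu h4, by decide⟩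
    · exact ⟨_, mul_mem h4 h4, by decide⟩
    · exact ⟨_, mul_mem h1.hu (mul_mem h4 h4), by decide⟩
    · exact ⟨_, one_mem _, by decide⟩
    · exact ⟨_, h3, by decide⟩
    · exact ⟨_, mul_mem h3 h3, by decide⟩
  have h6 : IsPretransitive (M.map (alternatingGroup (Fin 7)).subtype) (Fin 7) :=
    (isPretransitive_iff_base 4).2 fun b => by
      obtain ⟨g, hg, rfl⟩ := h5 b
      exact ⟨⟨g.1, g, hg, rfl⟩, rfl⟩
  have h7 := Perm.alternatingGroup_le_of_isPreprimitive_of_isThreeCycle_mem
    (G := M.map (alternatingGroup (Fin 7)).subtype)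
    (IsPreprimitive.of_prime_card (by rw [Nat.card_eq_fintype_card, Fintype.card_fin]; norm_num))
    (g := swap 4 5 * swap 5 6) (card_support_eq_three_iff.1 (by decide)) ⟨_, h3, rfl⟩
  refine eq_top_iff.2 fun g _ => ?_
  obtain ⟨g', hg', e'⟩ := h7 g.2
  exact (Subtype.ext e' : g' = g) ▸ hg'

theorem gl23_odd (N : Subgroup (GL (Fin 2) (ZMod 3))) [N.Normal]
    (ho : ∀ x ∈ N, Odd (orderOf x)) : N = ⊥ := by
  have h1 := sl2_odd (K := ZMod 3) (by decide) (N.comap Matrix.SpecialLinearGroup.toGL)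
    fun x hx => by
      rw [← orderOf_injective _ Matrix.SpecialLinearGroup.toGL_injective]; exact ho _ hx
  refine eq_bot_iff.2 fun x hx => ?_
  obtain ⟨k, hk⟩ := ho x hx
  have h2 : Matrix.GeneralLinearGroup.det x = 1 := by
    have h3 : ∀ y : (ZMod 3)ˣ, y ^ 2 = 1 := by decide
    have h4 := congrArg Matrix.GeneralLinearGroup.det (pow_orderOf_eq_one x)
    rwa [hk, map_pow, map_one, pow_succ, pow_mul, h3, one_pow, one_mul] at h4
  obtain ⟨y, h5⟩ : ∃ y : Matrix.SpecialLinearGroup (Fin 2) (ZMod 3),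
      Matrix.SpecialLinearGroup.toGL y = x := ⟨⟨x.1, congrArg Units.val h2⟩, Units.ext rfl⟩
  have h6 : y ∈ N.comap Matrix.SpecialLinearGroup.toGL := by rwa [mem_comap, h5]
  rw [h1, mem_bot] at h6
  rw [← h5, h6, map_one]
  exact one_mem _

theorem core_of_gl23 {X : Type*} [Group X] (e : G ≃* X) {t : G}
    (f : centralizer ({e t} : Set X) ≃* GL (Fin 2) (ZMod 3)) :
    Cfsg.centralizerPPrimeCore 2 t = ⊥ := by
  let φ : GL (Fin 2) (ZMod 3) →* G :=
    e.symm.toMonoidHom.comp ((centralizer ({e t} : Set X)).subtype.comp f.symm.toMonoidHom)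
  have hφ : Function.Injective φ :=
    e.symm.injective.comp (Subtype.val_injective.comp f.symm.injective)
  have h1 : ∀ y, φ y ∈ centralizer ({t} : Set G) := fun y =>
    mem_centralizer_singleton_iff.2 (e.injective (by
      simpa [φ] using mem_centralizer_singleton_iff.1 (f.symm y).2))
  have : ((Cfsg.centralizerPPrimeCore 2 t).comap φ).Normal := ⟨fun a ha g => by
    simp only [mem_comap, map_mul, map_inv] at ha ⊢
    exact (mem_normalizer_iff.1 (H23.centralizer_le_normalizer_cpp 2 t (h1 g)) _).1 ha⟩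
  have h2 := gl23_odd ((Cfsg.centralizerPPrimeCore 2 t).comap φ) fun x hx => by
    rw [← orderOf_injective _ hφ, ← Nat.coprime_two_right]
    exact (H23.cpp_cop 2 t).coprime_dvd_left (Subgroup.orderOf_dvd_natCard _ (mem_comap.1 hx))
  refine eq_bot_iff.2 fun x hx => ?_
  have h3 : e x ∈ centralizer ({e t} : Set X) := mem_centralizer_singleton_iff.2 (by
    rw [← map_mul, mem_centralizer_singleton_iff.1 (H23.cpp_le 2 t hx), map_mul])
  have h4 : φ (f ⟨e x, h3⟩) = x := by simp [φ]
  have h5 : f ⟨e x, h3⟩ ∈ (Cfsg.centralizerPPrimeCore 2 t).comap φ := by rwa [mem_comap, h4]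
  rw [h2, mem_bot] at h5
  rw [← h4, h5, map_one]
  exact one_mem _

end PR
end H27
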