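import Mathlib
import Cfsg.Agent.H27.PRB
import Cfsg.Agent.H7.LowDim4
import Cfsg.Agent.H7.FormOrder
import Cfsg.Agent.S0281

/-! The `2`-generated core of `SU₃(q)`, `q` odd. -/

set_option autoImplicit false
set_option linter.unusedSimpArgs false

namespace H27
namespace PR

open Subgroup Matrix Cfsg H15
open scoped MatrixGroups

variable {F : Type*} [Field F]

section Giv

variable (σ : F →+* F)

/-- the elements of `SU₂` -/
def s2 (a b : F) : Matrix (Fin 2) (Fin 2) F := !![a, b; -σ b, σ a]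

/-- special unitary matrices -/
def XU {n : ℕ} (A : Matrix (Fin n) (Fin n) F) : Prop := A.det = 1 ∧ Aᵀ * A.map σ = 1

variable {σ}

theorem xu_s2 (hσ : ∀ a, σ (σ a) = a) {a b : F} (h : a * σ a + b * σ b = 1) : XU σ (s2 σ a b) := by
  constructor
  · simp [s2, det_fin_two]; linear_combination h
  · ext i j
    fin_cases i <;> fin_cases j <;> simp [s2, mul_apply, Fin.sum_univ_two, hσ] <;>
      first | ring1 | linear_combination h

theorem xu_bk {A : Matrix (Fin 2) (Fin 2) F} : XU σ (bk A) ↔ XU σ A := by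
  have h1 : (bk A)ᵀ * (bk A).map σ = bk (Aᵀ * A.map σ) := by
    ext i j
    fin_cases i <;> fin_cases j <;> simp [bk, mul_apply, Fin.sum_univ_three, Fin.sum_univ_two]
  rw [XU, XU, bk_det, h1, ← bk_one]
  exact and_congr_right fun _ => ⟨bk_inj, fun e => by rw [e]⟩

theorem xu_dg {a b c : F} (ha : a * σ a = 1) (hb : b * σ b = 1) (hc : c * σ c = 1)
    (h : a * b * c = 1) : XU σ !![a, 0, 0; 0, b, 0; 0, 0, c] := by
  constructor
  · simp [det_fin_three, h]
  · ext i j
    fin_cases i <;> fin_cases j <;> simp [mul_apply, Fin.sum_univ_three, ha, hb, hc]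

theorem xu_cy : XU σ !![0, 0, 1; 1, 0, 0; 0, 1, 0] := by
  constructor
  · simp [det_fin_three]
  · ext i j
    fin_cases i <;> fin_cases j <;> simp [mul_apply, Fin.sum_univ_three]

theorem xu_w : XU σ !![0, 1, 0; 1, 0, 0; 0, 0, -1] := by
  constructor
  · simp [det_fin_three]
  · ext i j
    fin_cases i <;> fin_cases j <;> simp [mul_apply, Fin.sum_univ_three]

theorem xu_fix {A : Matrix (Fin 3) (Fin 3) F} (h : XU σ A) (hA : A *ᵥ ![0, 0, 1] = ![0, 0, 1]) :
    A = bk !![A 0 0, A 0 1; A 1 0, A 1 1] := by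
  have a := congrFun hA 0
  have b := congrFun hA 1
  have c := congrFun hA 2
  simp [mulVec, dotProduct, Fin.sum_univ_three] at a b c
  have d := congrFun (congrFun h.2 0) 2
  have e := congrFun (congrFun h.2 1) 2
  simp [mul_apply, Fin.sum_univ_three, a, b, c] at d e
  ext i j
  fin_cases i <;> fin_cases j <;> simp [bk, a, b, c, d, e]

theorem givens [Finite F] (h2 : (2 : F) ≠ 0) (hσ1 : σ ≠ RingHom.id F) (hσ : ∀ a, σ (σ a) = a)
    {In : Matrix (Fin 3) (Fin 3) F → Prop} (hm : ∀ {A B}, In A → In B → In (A * B))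
    (hs : ∀ a b, a * σ a + b * σ b = 1 → In (bk (s2 σ a b)))
    (hp : In !![0, 0, 1; 1, 0, 0; 0, 1, 0]) {a b c : F} (h : a * σ a + b * σ b + c * σ c = 1) :
    ∃ A, In A ∧ A *ᵥ ![a, b, c] = ![0, 0, 1] := by
  have step : ∀ {A v w}, In A → A *ᵥ v = w → (∃ B, In B ∧ B *ᵥ w = ![0, 0, 1]) →
      ∃ B, In B ∧ B *ᵥ v = ![0, 0, 1] := by
    rintro A v _ hA rfl ⟨B, hB, e⟩
    exact ⟨B * A, hm hB hA, by rw [← mulVec_mulVec, e]⟩
  have cyc : ∀ a b c : F, !![0, 0, 1; 1, 0, 0; 0, 1, 0] *ᵥ ![a, b, c] = ![c, a, b] :=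
    fun a b c => by
      ext i; fin_cases i <;> simp [mulVec, dotProduct, Fin.sum_univ_three]
  have rot : ∀ a b c k : F, k ≠ 0 → a * σ a + b * σ b = k * σ k →
      In (bk (s2 σ (b / k) (-a / k))) ∧ bk (s2 σ (b / k) (-a / k)) *ᵥ ![a, b, c] = ![0, k, c] :=
    fun a b c k hk e => by
      have hk' : σ k ≠ 0 := (map_ne_zero σ).2 hk
      constructor
      · refine hs _ _ ?_
        simp only [map_div₀, map_neg]
        field_simp
        linear_combination e
      · ext i
        fin_cases i <;> simp [bk, s2, mulVec, dotProduct, Fin.sum_univ_three] <;> field_simp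
        · ring
        · linear_combination e
  have p1 : ∀ a b : F, a * σ a + b * σ b = 1 → ∃ A, In A ∧ A *ᵥ ![a, b, 0] = ![0, 0, 1] :=
    fun a b e => by
      obtain ⟨h1, h3⟩ := rot a b 0 1 one_ne_zero (by simpa using e)
      exact step h1 h3 ⟨_, hp, cyc _ _ _⟩
  have p2 : ∀ a b c : F, a * σ a + b * σ b ≠ 0 → a * σ a + b * σ b + c * σ c = 1 →
      ∃ A, In A ∧ A *ᵥ ![a, b, c] = ![0, 0, 1] := fun a b c e0 e => by
    obtain ⟨k, hk⟩ := norm_surj σ hσ1 hσ (a := a * σ a + b * σ b) (by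
      simp only [map_add, map_mul, hσ]; ring)
    have hk0 : k ≠ 0 := fun e1 => e0 (by rw [← hk, e1, zero_mul])
    obtain ⟨h1, h3⟩ := rot a b c k hk0 hk.symm
    exact step h1 h3 (step hp (cyc _ _ _) (step hp (cyc _ _ _) (p1 _ _ (by rw [hk, e]))))
  by_cases e1 : a * σ a + b * σ b = 0
  · by_cases e2 : c * σ c + a * σ a = 0
    · refine step hp (cyc _ _ _) (step hp (cyc _ _ _) (p2 _ _ _ (fun e3 => h2 ?_)
        (by linear_combination h)))
      linear_combination e1 + e2 + e3 - 2 * h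
    · exact step hp (cyc _ _ _) (p2 _ _ _ e2 (by linear_combination h))
  · exact p2 _ _ _ e1 h

end Giv

section SU

variable [Fintype F] {q : ℕ} (hF : Fintype.card F = q ^ 2)

/-- the matrix of an element of `SU` -/
abbrev muU (n : ℕ) (F : Type*) [Field F] (q : ℕ) : SU n F q →* Matrix (Fin n) (Fin n) F :=
  (slToMat n F).comp (SU n F q).subtype

omit [Fintype F] in
theorem muU_inj {n : ℕ} : Function.Injective (muU n F q) := fun _ _ e => Subtype.ext (Subtype.ext e)

theorem xu_mu {n : ℕ} (g : SU n F q) : XU (frob hF) (muU n F q g) :=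
  ⟨g.1.2, H7.su_transpose_mul_map hF g⟩

/-- the element of `SU` with a given matrix -/
def mkU {n : ℕ} {A : Matrix (Fin n) (Fin n) F} (h : XU (frob hF) A) : SU n F q :=
  ⟨⟨A, h.1⟩, fun u v => by
    change (A *ᵥ u) ⬝ᵥ (frob hF ∘ (A *ᵥ v)) = u ⬝ᵥ (frob hF ∘ v)
    have : frob hF ∘ (A *ᵥ v) = A.map (frob hF) *ᵥ (frob hF ∘ v) :=
      funext fun i => RingHom.map_mulVec _ _ _ _
    rw [this, ← vecMul_transpose, ← dotProduct_mulVec, mulVec_mulVec, h.2, one_mulVec]⟩

theorem mu_mkU {n : ℕ} {A : Matrix (Fin n) (Fin n) F} (h : XU (frob hF) A) :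
    muU n F q (mkU hF h) = A := rfl

/-- the block embedding of `SU₂` in `SU₃` -/
def bkSU : SU 2 F q →* SU 3 F q where
  toFun g := mkU hF (xu_bk.2 (xu_mu hF g))
  map_one' := muU_inj bk_one
  map_mul' _ _ := muU_inj (bk_mul _ _)

theorem mu_bkSU (g : SU 2 F q) : muU 3 F q (bkSU hF g) = bk (muU 2 F q g) := rfl

include hF in
theorem card_su2 : Nat.card (SU 2 F q) = q * (q ^ 2 - 1) := by
  have h := H7.card_su hF 2 (by norm_num)
  simp [Finset.prod_range_succ] at h
  refine Nat.eq_of_mul_eq_mul_left (show 0 < q + 1 by omega) ?_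
  rw [h]; ring

theorem su2_top (h2 : (2 : F) ≠ 0) (M : Subgroup (SU 2 F q))
    (hM : ∀ l m s : F, l * frob hF l = 1 → m * frob hF m = 1 → s * frob hF s = 1 →
      ∃ g ∈ M, muU 2 F q g = s2 (frob hF) (l * (s + 1) / 2) (m * (s - 1) / 2)) : M = ⊤ := by
  classical
  set U : Finset F := Finset.univ.filter fun x => x * frob hF x = 1 with hU
  have hq := two_le_of_card_sq hF
  have cU : U.card = q + 1 := by
    rw [← card_norm_eq hF 1 one_ne_zero (one_pow _), Nat.card_eq_fintype_card,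
      Fintype.card_subtype]
    simp only [hU, mul_frob]
  have cU' : q - 1 ≤ (U \ {1, -1}).card := by
    have := Finset.le_card_sdiff {1, -1} U
    have := Finset.card_le_two (a := (1 : F)) (b := -1)
    omega
  let T : Finset (F × F) := Finset.univ.image fun g : M => (muU 2 F q g 0 0, muU 2 F q g 0 1)
  have cT : T.card ≤ Nat.card M := by
    rw [Nat.card_eq_fintype_card]; exact Finset.card_image_le
  have key := Finset.card_le_mul_card_image_of_maps_to (s := U ×ˢ U ×ˢ (U \ {1, -1})) (t := T)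
    (f := fun p => (p.1 * (p.2.2 + 1) / 2, p.2.1 * (p.2.2 - 1) / 2)) (fun p hp => by
      simp only [hU, Finset.mem_product, Finset.mem_sdiff, Finset.mem_filter, Finset.mem_univ,
        true_and] at hp
      obtain ⟨g, hg, e⟩ := hM _ _ _ hp.1 hp.2.1 hp.2.2.1
      exact Finset.mem_image.2 ⟨⟨g, hg⟩, Finset.mem_univ _, by simp only [e]; rfl⟩) 2 (fun b _ => by
      rcases Finset.eq_empty_or_nonempty ((U ×ˢ U ×ˢ (U \ {1, -1})).filter fun p =>
        (p.1 * (p.2.2 + 1) / 2, p.2.1 * (p.2.2 - 1) / 2) = b) with h0 | ⟨p₀, h0⟩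
      · rw [h0]; simp
      refine le_trans (Finset.card_le_card_of_injOn (t := {p₀.2.2, frob hF p₀.2.2}) (·.2.2)
        (fun p hp => ?_) fun p hp p' hp' e => ?_) Finset.card_le_two
      · simp only [hU, Finset.coe_filter, Finset.mem_product, Finset.mem_sdiff, Finset.mem_filter,
          Finset.mem_univ, true_and, Set.mem_ofPred_eq] at hp h0
        have e1 := congrArg Prod.fst (hp.2.trans h0.2.symm)
        simp only [div_left_inj' h2] at e1
        have e2 := congrArg (frob hF) e1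
        simp only [map_mul, map_add, map_one] at e2
        have e3 : (p.2.2 - p₀.2.2) * (p.2.2 - frob hF p₀.2.2) = 0 := by
          have e4 : (p.2.2 + 1) * (frob hF p.2.2 + 1) = (p₀.2.2 + 1) * (frob hF p₀.2.2 + 1) := by
            linear_combination (frob hF p.1 * (frob hF p.2.2 + 1)) * e1 +
              p₀.1 * (p₀.2.2 + 1) * e2 - (p.2.2 + 1) * (frob hF p.2.2 + 1) * hp.1.1 +
              (p₀.2.2 + 1) * (frob hF p₀.2.2 + 1) * h0.1.1
          linear_combination p.2.2 * e4 - (p.2.2 + 1) * hp.1.2.2.1 + (p.2.2 + 1) * h0.1.2.2.1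
        simpa [sub_eq_zero] using e3
      · simp only [hU, Finset.coe_filter, Finset.mem_product, Finset.mem_sdiff, Finset.mem_filter,
          Finset.mem_univ, true_and, Set.mem_ofPred_eq, Finset.mem_insert, Finset.mem_singleton,
          not_or] at hp hp' e
        have e1 := hp.2.trans hp'.2.symm
        rw [Prod.mk.injEq, div_left_inj' h2, div_left_inj' h2, ← e,
          mul_left_inj' (fun e => hp.1.2.2.2.2 (eq_neg_of_add_eq_zero_left e)),
          mul_left_inj' (sub_ne_zero.2 hp.1.2.2.2.1)] at e1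
        exact Prod.ext e1.1 (Prod.ext e1.2 e))
  rw [Finset.card_product, Finset.card_product, cU] at key
  by_contra hne
  have h1 := M.card_mul_index
  have h3 : 2 ≤ M.index := by
    have := M.index_ne_zero_of_finite
    have := M.index_eq_one.not.2 hne
    omega
  rw [card_su2 hF] at h1
  obtain ⟨k, rfl⟩ : ∃ k, q = k + 1 := ⟨q - 1, by omega⟩
  rw [show (k + 1) ^ 2 = k * (k + 2) + 1 by ring, Nat.add_sub_cancel] at h1
  rw [Nat.add_sub_cancel] at cU'
  have h4 : Nat.card M * 2 ≤ (k + 1) * (k * (k + 2)) := h1 ▸ Nat.mul_le_mul_left _ h3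
  have h5 : (k + 2) * ((k + 2) * k) ≤ 2 * T.card :=
    le_trans (Nat.mul_le_mul_left _ (Nat.mul_le_mul_left _ cU')) key
  nlinarith

omit [Fintype F] in
theorem xu_U3 {σ : F →+* F} : XU σ (U3 F) := xu_dg (by simp) (by simp) (by simp) (by simp)

omit [Fintype F] in
theorem xu_V3 {σ : F →+* F} : XU σ (V3 F) := xu_dg (by simp) (by simp) (by simp) (by simp)

theorem in_s2 (h2 : (2 : F) ≠ 0) {In : Matrix (Fin 3) (Fin 3) F → Prop}
    (h : MCl (XU (frob hF)) In) {l m s : F} (hl : l * frob hF l = 1) (hm : m * frob hF m = 1)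
    (hs : s * frob hF s = 1) : In (bk (s2 (frob hF) (l * (s + 1) / 2) (m * (s - 1) / 2))) := by
  have hσ := frob_frob hF
  obtain ⟨c, hc⟩ := norm_surj (frob hF) (frob_ne_id hF) hσ (a := 1 / 2) (by simp [map_ofNat])
  generalize frob hF = σ at *
  have hc0 : c ≠ 0 := fun e => by rw [e, zero_mul] at hc; exact one_div_ne_zero h2 hc.symm
  have h3 : σ c = (2 * c)⁻¹ := eq_inv_of_mul_eq_one_right (by rw [mul_assoc, hc]; field_simp)
  have hl0 : l ≠ 0 := left_ne_zero_of_mul_eq_one hl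
  have hm0 : m ≠ 0 := left_ne_zero_of_mul_eq_one hm
  have hs0 : s ≠ 0 := left_ne_zero_of_mul_eq_one hs
  have el : σ l = l⁻¹ := eq_inv_of_mul_eq_one_right hl
  have em : σ m = m⁻¹ := eq_inv_of_mul_eq_one_right hm
  have es : σ s = s⁻¹ := eq_inv_of_mul_eq_one_right hs
  have t := h.hh (c := c) (d := -(2 * c ^ 2)⁻¹) (by
    constructor
    · simp [det_fin_three]; field_simp; ring
    · ext i j
      fin_cases i <;> fin_cases j <;> simp [mul_apply, Fin.sum_univ_three, map_ofNat, h3] <;>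
        field_simp <;> ring) xu_w
  have d1 := h.dg (a := s) (b := 1) (c := s⁻¹) (xu_dg hs (by simp) (by simp [es, hs0]) (by simp [hs0]))
  have d2 := h.dg (a := (2 * c ^ 2)⁻¹) (b := (2 * c ^ 2 * s * l * m)⁻¹) (c := 4 * c ^ 4 * s * l * m)
    (xu_dg (by simp [h3, map_ofNat]; field_simp)
      (by simp [h3, el, em, es, map_ofNat]; field_simp)
      (by simp [h3, el, em, es, map_ofNat]; field_simp; ring) (by field_simp; ring))
  have d3 := h.dg (a := l) (b := m) (c := (l * m)⁻¹) (xu_dg hl hm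
    (by simp [el, em]; field_simp) (by field_simp))
  refine MCl.cast (h.mul (h.mul d2 (h.mul (h.mul t d1) t)) d3) ?_
  ext i j
  fin_cases i <;> fin_cases j <;> simp [bk, s2, el, em, es, map_ofNat] <;> field_simp <;> ring

theorem su3_top (h2 : (2 : F) ≠ 0) {M : Subgroup (SU 3 F q)}
    (h : Cl M (mkU hF xu_U3) (mkU hF xu_V3)) : M = ⊤ := by
  have h1 := (mcl_of_cl (muU 3 F q) muU_inj rfl rfl h).mono
    (X' := XU (frob hF)) fun A hA => ⟨mkU hF hA, rfl⟩
  have h3 : M.comap (bkSU hF) = ⊤ := su2_top hF h2 _ fun l m s hl hm hs => by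
    obtain ⟨g, hg, e⟩ := in_s2 hF h2 h1 hl hm hs
    have e' := xu_bk.1 (e ▸ xu_mu hF g)
    exact ⟨mkU hF e', by rwa [mem_comap, show bkSU hF (mkU hF e') = g from muU_inj e.symm], rfl⟩
  have h4 : ∀ A, XU (frob hF) A → ∃ g ∈ M, muU 3 F q g = bk A := fun A hA =>
    ⟨bkSU hF (mkU hF hA), mem_comap.1 (h3 ▸ mem_top _), rfl⟩
  refine eq_top_iff.2 fun g _ => ?_
  have h5 := congrFun (congrFun (xu_mu hF g).2 2) 2
  simp only [mul_apply, Fin.sum_univ_three, transpose_apply, map_apply, one_apply_eq] at h5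
  obtain ⟨_, ⟨m, hm, rfl⟩, e⟩ := givens (In := fun A => ∃ g ∈ M, muU 3 F q g = A) h2
    (frob_ne_id hF) (frob_frob hF) h1.mul
    (fun a b e => h4 _ (xu_s2 (frob_frob hF) e)) (h1.cy xu_cy) h5
  have h6 : muU 3 F q (m * g) *ᵥ ![0, 0, 1] = ![0, 0, 1] := by
    rw [map_mul, ← mulVec_mulVec]
    refine Eq.trans ?_ e
    congr 1
    ext i; fin_cases i <;> simp [mulVec, dotProduct, Fin.sum_univ_three]
  have h7 := xu_fix (xu_mu hF _) h6
  obtain ⟨k, hk, e'⟩ := h4 _ (xu_bk.1 (h7 ▸ xu_mu hF _))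
  rw [← h7, muU_inj.eq_iff] at e'
  exact (M.mul_mem_cancel_left hm).1 (e' ▸ hk)

theorem su3_conj (h2 : (2 : F) ≠ 0) (T : SU 3 F q) (hT : T * T = 1) (h1 : T ≠ 1) :
    ∃ g, g * mkU hF xu_U3 * g⁻¹ = T := by
  have hT' : muU 3 F q T * muU 3 F q T = 1 := by rw [← map_mul, hT, map_one]
  obtain ⟨hd, hu⟩ := xu_mu hF T
  have h3 : (muU 3 F q T).map (frob hF) = (muU 3 F q T)ᵀ := by
    rw [← one_mul ((muU 3 F q T).map _), ← transpose_one, ← hT', transpose_mul, mul_assoc, hu,
      mul_one]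
  have h4 : ∀ i j, frob hF (muU 3 F q T i j) = muU 3 F q T j i := fun i j =>
    congrFun (congrFun h3 i) j
  have h5 : ∃ k, 2 + 2 * muU 3 F q T k k ≠ 0 := by
    by_contra! e
    have e' : ∀ k, muU 3 F q T k k = -1 := fun k =>
      mul_left_cancel₀ h2 (by linear_combination e k)
    have h6 : adjugate (muU 3 F q T) = muU 3 F q T := by
      rw [← one_mul (adjugate _), ← hT', mul_assoc, mul_adjugate, hd, one_smul, mul_one]
    have a := congrFun (congrFun h6 1) 1
    have b := congrFun (congrFun h6 2) 2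
    have c := congrFun (congrFun hT' 0) 0
    simp only [adjugate_fin_three, mul_apply, Fin.sum_univ_three, one_apply_eq, of_apply, cons_val,
      e'] at a b c
    exact mul_ne_zero h2 h2 (by linear_combination a + b + c)
  obtain ⟨k, hk⟩ := h5
  obtain ⟨c, hc⟩ := norm_surj (frob hF) (frob_ne_id hF) (frob_frob hF)
    (a := 2 + 2 * muU 3 F q T k k) (by simp only [map_add, map_mul, map_ofNat, h4])
  have hc0 : c ≠ 0 := fun e => hk (by rw [← hc, e, zero_mul])
  have hc1 : frob hF c ≠ 0 := (map_ne_zero _).2 hc0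
  let v : Fin 3 → F := fun i => (1 + muU 3 F q T) i k / c
  have hv : muU 3 F q T *ᵥ v = v := by
    have : muU 3 F q T * (1 + muU 3 F q T) = 1 + muU 3 F q T := by
      rw [mul_add, mul_one, hT', add_comm]
    ext i
    simp only [v, mulVec, dotProduct]
    conv_rhs => rw [← this, mul_apply, Finset.sum_div]
    simp only [mul_div_assoc]
  have hn : v 0 * frob hF (v 0) + v 1 * frob hF (v 1) + v 2 * frob hF (v 2) = 1 := by
    have a := congrFun (congrFun hT' k) k
    simp only [mul_apply, Fin.sum_univ_three, one_apply_eq] at a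
    simp only [v, map_div₀, Matrix.add_apply, map_add, h4]
    field_simp
    rw [hc]
    fin_cases k <;> simp [one_apply] at a ⊢ <;> linear_combination a
  obtain ⟨_, ⟨m, rfl⟩, e⟩ := givens (In := fun A => ∃ g, muU 3 F q g = A) h2 (frob_ne_id hF)
    (frob_frob hF) (by rintro _ _ ⟨a, rfl⟩ ⟨b, rfl⟩; exact ⟨a * b, map_mul _ _ _⟩)
    (fun a b e => ⟨mkU hF (xu_bk.2 (xu_s2 (frob_frob hF) e)), rfl⟩) ⟨mkU hF xu_cy, rfl⟩ hn
  rw [show ![v 0, v 1, v 2] = v by ext i; fin_cases i <;> rfl] at e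
  have h6 : muU 3 F q (m * T * m⁻¹) *ᵥ ![0, 0, 1] = ![0, 0, 1] := by
    conv_lhs => rw [← e, mulVec_mulVec, ← map_mul, inv_mul_cancel_right, map_mul, ← mulVec_mulVec,
      hv, e]
  have h7 := xu_fix (xu_mu hF _) h6
  have h8 : muU 3 F q (m * T * m⁻¹) * muU 3 F q (m * T * m⁻¹) = 1 := by
    rw [← map_mul, conj_mul, hT]; simp
  have h9 : muU 3 F q (m * T * m⁻¹) ≠ 1 := fun e => h1 (by
    rw [← map_one (muU 3 F q), muU_inj.eq_iff] at e; simpa using e)
  have h10 := (xu_mu hF (m * T * m⁻¹)).1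
  refine ⟨m⁻¹, ?_⟩
  suffices mkU hF xu_U3 = m * T * m⁻¹ by rw [this]; group
  refine muU_inj ?_
  rw [mu_mkU]
  generalize muU 3 F q (m * T * m⁻¹) = A at h7 h8 h9 h10
  rw [h7] at h8 h9 h10 ⊢
  generalize A 0 0 = a at *
  generalize A 0 1 = b at *
  generalize A 1 0 = c at *
  generalize A 1 1 = d at *
  rw [one_fin_three] at h8 h9
  simp [bk, det_fin_three] at h8 h9 h10
  obtain ⟨⟨e1, e2⟩, e3, e4⟩ := h8
  have hb : b = 0 := mul_left_cancel₀ h2 (by linear_combination a * e2 - b * e1 - b * h10)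
  have hc : c = 0 := mul_left_cancel₀ h2 (by linear_combination d * e3 - c * e4 - c * h10)
  subst hb hc
  have had : d = a := by linear_combination a * h10 - d * e1
  subst had
  have : d = -1 := by
    rcases mul_eq_zero.1 (show (d - 1) * (d + 1) = 0 by linear_combination h10) with e | e
    · exact absurd (sub_eq_zero.1 e) (h9 (sub_eq_zero.1 e) rfl rfl)
    · exact eq_neg_of_add_eq_zero_left e
  simp [bk, U3, this]

include hF in
theorem core_su3 {G : Type*} [Group G] [Finite G] (h2 : (2 : F) ≠ 0) {π : SU 3 F q →* G}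
    (hπ : Function.Surjective π) (hk : K3 π) {t u : G} (ht : t ≠ 1) (ht' : t * t = 1)
    (hc : u * t = t * u) : Cfsg.centralizerPPrimeCore 2 t ≤ centralizer {u} := by
  obtain ⟨T, hT, rfl⟩ := hk.lift hπ ht'
  obtain ⟨g, rfl⟩ := su3_conj hF h2 T hT fun e => ht (by rw [e, map_one])
  obtain ⟨p, k, hp, hch, hk0, rfl⟩ := exists_char_pow hF
  have := Fact.mk hp
  have := Fintype.ofFinite (GaloisField p k)
  have hK : Fintype.card (GaloisField p k) = p ^ k := by
    rw [← Nat.card_eq_fintype_card, GaloisField.card p _ hk0.ne']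
  obtain ⟨e⟩ := Cfsg.Agent.S0281.result hF hK
  have h2' : (2 : GaloisField p k) ≠ 0 := fun e => h2 (by
    have h3 : p ∣ 2 := (CharP.cast_eq_zero_iff (GaloisField p k) p 2).1 (by exact_mod_cast e)
    exact_mod_cast (CharP.cast_eq_zero_iff F p 2).2 h3)
  obtain ⟨a, ha⟩ : ∃ s : F, s * frob hF s = 1 ∧ s ≠ frob hF s := by
    obtain ⟨θ, h0, hθ⟩ := exists_trace_zero _ (frob_ne_id hF) (frob_frob hF)
    have hθ' : frob hF θ = -θ := by linear_combination hθ
    have h3 : 1 - θ ≠ 0 := fun e => h2 (by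
      rw [← sub_eq_zero.1 e, map_one] at hθ'; linear_combination hθ')
    have h4 : 1 + θ ≠ 0 := fun e => h2 (by
      rw [eq_neg_of_add_eq_zero_right e, map_neg, map_one] at hθ'; linear_combination -hθ')
    have h5 : frob hF ((1 + θ) / (1 - θ)) = (1 - θ) / (1 + θ) := by
      simp [hθ', sub_eq_add_neg]
    refine ⟨(1 + θ) / (1 - θ), by rw [h5]; field_simp, fun e => ?_⟩
    rw [h5, div_eq_div_iff h3 h4] at e
    exact mul_ne_zero h2 (mul_ne_zero h2 h0) (by linear_combination e)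
  exact core_mat h2 (muU 3 F _) muU_inj (fun g => g.1.2)
    (z := mkU hF xu_U3) rfl (bkSU hF) (muU 2 F _) muU_inj (fun _ => rfl)
    (fun g A e => ⟨mkU hF (xu_bk.1 (e ▸ xu_mu hF g)), rfl⟩)
    (w := mkU hF (xu_s2 (frob_frob hF) (a := 0) (b := 1) (by simp)))
    (y₀ := mkU hF (xu_s2 (frob_frob hF) (a := a) (b := 0) (by simpa using ha.1)))
    (by simp [mu_mkU, s2]) (Or.inl ha.2) (fun N _ hN => by
      have := sl2_odd h2' (N.comap e.symm.toMonoidHom) fun x hx => by
        simpa using hN _ hx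
      refine eq_bot_iff.2 fun x hx => ?_
      have h3 : e x ∈ N.comap e.symm.toMonoidHom := by simpa using hx
      rw [this] at h3
      simpa using h3)
    (π := π.comp (MulAut.conj g).toMonoidHom) (hπ.comp (MulAut.conj g).surjective) (hk.conj g) hc

end SU

end PR
end H27
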