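import Cfsg.Agent.H27.SU
import Cfsg.Agent.H27.SBd
import Cfsg.Agent.H0.SchBN
import Cfsg.Agent.H29.BM.G5

/-! Schreier property of the explicit Baby Monster. -/

set_option autoImplicit false
set_option maxRecDepth 100000

namespace H27.SB

open H0.Sch H27.SU H29 H15.KM H29.BM H29.BP H29.BP.Dat H29.BE Subgroup

noncomputable def wd (c : ℕ) : List ℕ := nth [] bW c
noncomputable def tm (c : ℕ) : ℕ := nth idM bM c

theorem wd_ok (c : ℕ) : chkLw km BM.cm (wd c) (tm c) = true := by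
  by_cases h : c < 18
  · exact allN_true.1 (by decide +kernel :
      (allN 18 fun c => chkLw km BM.cm (wd c) (tm c)) = true) c h
  · rw [wd, tm, nth_eq, nth_eq, List.getD_eq_default _ _ (by simp [bW]; omega),
      List.getD_eq_default _ _ (by simp [bM]; omega)]
    decide +kernel

noncomputable def xk (M x : ℕ) : ℕ :=
  Nat.rec (motive := fun _ => ℕ) 0
    (fun r ih => @Bool.rec (fun _ => ℕ) ih (Nat.xor (f32 M r) ih) (BP.tb x r)) 22

theorem xk_eq (M x : ℕ) : xk M x = xs M x 22 := by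
  rw [xk, xs, show (fun r ih => @Bool.rec (fun _ => ℕ) ih (Nat.xor (f32 M r) ih) (BP.tb x r)) =
    fun r ih => if x.testBit r then f32 M r ^^^ ih else ih from
      funext fun r => funext fun ih => by rw [rec_ite, tb_eq]; rfl]

theorem crel_neg {h : GG} {x y : ℕ} (a : CRel D h x y) : CRel D (-h) x y := by
  obtain ⟨c, a⟩ := a
  exact ⟨c, by rw [← mul_neg', ← neg_mul', a]⟩

theorem neg_KK {h : GG} (a : h ∈ D.KK) : -h ∈ D.KK := by
  simpa [← neg_mul'] using D.KK.mul_mem neg_one_mem a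

theorem sp_fix {h : GG} (hz : h * D.z = D.z * h) {x v w : ℕ} (a : CRel D h x x) (b : CRel D h v w) :
    sp (v ^^^ w) x = false := by
  obtain ⟨c, a⟩ := a
  obtain ⟨d, b⟩ := b
  have h1 : D.P x * D.P v * h =
      h * D.P (w ^^^ zb d ^^^ zb (sp (x ^^^ zb c) (w ^^^ zb d))) * D.P (x ^^^ zb c) := by
    rw [mul_assoc, b, ← mul_assoc, a, mul_assoc, mul_assoc]
    exact congrArg _ (Pu_comm _ _ _)
  have h2 : D.P x * D.P v * h = h * D.P (w ^^^ zb d ^^^ zb (sp x v)) * D.P (x ^^^ zb c) := by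
    rw [show D.P x * D.P v = D.P (v ^^^ zb (sp x v)) * D.P x from Pu_comm _ _ _, mul_assoc, a,
      ← mul_assoc, P_zb' hz b]
  rw [h1, mul_left_inj, mul_right_inj] at h2
  have h3 := zb_inj _ h2
  rw [xor_sp, zb_sp, sp_comm x, xor_sp, zb_sp, sp_comm x] at h3
  rw [xor_sp, ← h3]; simp

theorem xorL_ind {p : ℕ → Prop} (h0 : p 0) (h1 : ∀ x y, p x → p y → p (x ^^^ y)) {f : ℕ → ℕ} :
    ∀ l : List ℕ, (∀ k ∈ l, p (f k)) → p (xorL f l)
  | [], _ => h0
  | a :: l, h => h1 _ _ (h a (by simp)) (xorL_ind h0 h1 l fun k hk => h k (by simp [hk]))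

noncomputable def z : BB := ⟨D.z, z_BB⟩
noncomputable def p (x : ℕ) : BB := ⟨D.P x, P_BB x⟩
noncomputable def Q : Subgroup BB := (QQ D.cl).subgroupOf BB
noncomputable abbrev CC : Subgroup BB := centralizer {z}

theorem mem_C {x : BB} : x ∈ CC ↔ (x : GG) ∈ D.KK :=
  ⟨fun h => centZ (BB_le x.2) (congrArg Subtype.val (mem_centralizer_singleton_iff.1 h)),
    fun h => mem_centralizer_singleton_iff.2 (Subtype.ext h.comm)⟩

theorem mem_Q {x : BB} : x ∈ Q ↔ ∃ y, p y = x :=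
  ⟨fun ⟨y, h⟩ => ⟨y, Subtype.ext h⟩, fun ⟨y, h⟩ => ⟨y, congrArg Subtype.val h⟩⟩

theorem p_mem (x : ℕ) : p x ∈ Q := mem_Q.2 ⟨x, rfl⟩
theorem Q_le : Q ≤ CC := fun x h => by
  obtain ⟨y, rfl⟩ := mem_Q.1 h
  exact mem_C.2 (D_ok.P_mem y)

theorem not_neg {x : BB} {y : ℕ} (h : (x : GG) = -D.P y) : False :=
  neg_BB (by simpa [h, ← neg_mul'] using BB.mul_mem x.2 (BB.inv_mem (P_BB y)))

theorem mem_Q_of {x : BB} (h : x ∈ CC) (hc : ∀ i < 22, CRel D x (2 ^ i) (2 ^ i)) : x ∈ Q := by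
  obtain ⟨y, a | a⟩ := D_ok.of_classes tr (mem_C.1 h) hc
  · exact ⟨y, a.symm⟩
  · exact (not_neg a).elim

theorem nm_Q : Nm CC Q := SC.nm_of fun x hx q hq => by
  obtain ⟨y, rfl⟩ := mem_Q.1 hq
  obtain ⟨w, a⟩ := D_ok.norm (mem_C.1 hx) y
  exact ⟨w, (mul_inv_eq_iff_eq_mul.2 a).symm⟩

instance instN : (Q.subgroupOf CC).Normal := normal_sub nm_Q

theorem p_zb (c : Bool) : p (zb c) = 1 ∨ p (zb c) = z := by
  cases c
  · exact .inl (Subtype.ext (Pu_zero _))
  · exact .inr rfl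

theorem p_zb_mem (c : Bool) : p (zb c) ∈ zpowers z := by
  rcases p_zb c with a | a <;> rw [a]
  exacts [one_mem _, mem_zpowers _]

theorem z_sq : z * z = 1 := Subtype.ext (zz_sq _)

theorem mem_Z {x : BB} (h : x ∈ zpowers z) : ∃ c, x = p (zb c) := by
  obtain ⟨n, rfl⟩ := h
  have h2 : z ^ (2 : ℤ) = 1 := by rw [zpow_two, z_sq]
  rcases Int.even_or_odd' n with ⟨k, rfl | rfl⟩
  · exact ⟨false, by simp only [zpow_mul, h2, one_zpow]; exact Subtype.ext (Pu_zero _).symm⟩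
  · exact ⟨true, by simp only [zpow_add, zpow_mul, h2, one_zpow, one_mul, zpow_one]; rfl⟩

theorem cent {x : BB} (h : ∀ q ∈ Q, q * x = x * q) : x = 1 ∨ x = z := by
  obtain ⟨c, a | a⟩ := D_ok.centQ tr (mem_C.1 (mem_centralizer_singleton_iff.2
    (h _ (p_mem (zb true))).symm)) fun y => (congrArg Subtype.val (h _ (p_mem y))).symm
  · exact (show x = p (zb c) from Subtype.ext a) ▸ p_zb c
  · exact (not_neg a).elim

theorem exists_e (w : List ℕ) (h : inM km w = true) :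
    ∃ x : CC, ∀ u v, CRel D (ev g w) u v → CRel D (x : BB) u v := by
  have h1 := km_mem h
  rcases GP_PB (KK_GP h1) with a | a
  · exact ⟨⟨⟨_, a⟩, mem_C.2 h1⟩, fun _ _ b => b⟩
  · exact ⟨⟨⟨_, a⟩, mem_C.2 (neg_KK h1)⟩, fun _ _ b => crel_neg b⟩

theorem exists_l (c : ℕ) : ∃ x : CC, ∀ r < 22, CRel D (x : BB) (2 ^ r) (f32 (tm c) r) := by
  have h := wd_ok c
  simp only [chkLw, and2_true, allN_true] at h
  obtain ⟨x, hx⟩ := exists_e _ h.1
  refine ⟨x, fun r hr => hx _ _ ?_⟩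
  have := Ctx.crel (C := BM.C) h.1 (h.2 r hr)
  rwa [bit, shl_eq, Nat.one_shiftLeft] at this

noncomputable def e (c : ℕ) : CC := (exists_l c).choose

theorem cz (x : CC) : ((x : BB) : GG) * D.z = D.z * (x : BB) := (mem_C.1 x.2).comm

theorem crel_e (c x : ℕ) : CRel D (e c : BB) x (xk (tm c) x) :=
  xk_eq _ _ ▸ crel_xs (cz _) (exists_l c).choose_spec x

noncomputable def run (w : List ℕ) : List ℕ → List ℕ :=
  List.rec (motive := fun _ => List ℕ → List ℕ) (fun s => s)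
    (fun c _ ih s => lit (tm c) fun M => frc (mapL (xk M) s) ih) w

theorem run_spec : ∀ w : List ℕ, ∃ f : ℕ → ℕ, (∀ s, run w s = s.map f) ∧
    ∀ x, CRel D (ev e w : CC) x (f x)
  | [] => ⟨id, fun s => (List.map_id s).symm, CRel.one⟩
  | c :: w => by
    obtain ⟨f, h1, h2⟩ := run_spec w
    refine ⟨fun x => f (xk (tm c) x), fun s => ?_, fun x => (crel_e c x).mul (cz _) (h2 _)⟩
    change (lit (tm c) fun M => frc (mapL (xk M) s) (run w)) = _
    rw [lit_eq, frc_eq, mapL_eq, h1, List.map_map]; rfl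

def bs : List ℕ := [1, 2, 4, 8, 16, 32, 64, 128, 256, 512, 1024, 2048, 4096, 8192, 16384, 32768,
  65536, 131072, 262144, 524288, 1048576, 2097152]

noncomputable def ok (u v : List ℕ) : Bool := eqL (run u bs) (run v bs)

abbrev L : Type := CC ⧸ Q.subgroupOf CC
noncomputable def π : CC →* L := QuotientGroup.mk' _
noncomputable def f (c : ℕ) : L := π (e c)

theorem π_surj : Function.Surjective π := QuotientGroup.mk'_surjective _

theorem π_one {x : CC} : π x = 1 ↔ (x : BB) ∈ Q := QuotientGroup.eq_one_iff x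

theorem eqs : Eqs ok f := fun u v h => by
  obtain ⟨a, a1, a2⟩ := run_spec u
  obtain ⟨b, b1, b2⟩ := run_spec v
  have := eqL_true h
  rw [a1, b1, List.map_inj_left] at this
  have h1 : ∀ w, ev f w = π (ev e w) := fun w => (map_ev _ _ _).symm
  rw [h1, h1, ← mul_inv_eq_one, ← map_inv, ← map_mul, π_one]
  refine mem_Q_of (ev e u * (ev e v)⁻¹).2 fun i hi => (a2 _).mul (cz (ev e v)⁻¹) ?_
  rw [this _ ((by decide : ∀ i < 22, 2 ^ i ∈ bs) i hi)]
  exact (b2 _).inv (cz _)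

theorem uc : UC f bT 8 := chkU_sound eqs (A := bA) (B := bB) (E := bE) (by decide +kernel) (by
  intro n a1 a2 h
  obtain rfl : n = 1 := by change n < 2 at a1; omega
  obtain ⟨y, hy⟩ := mem_Q.1 (π_one.1 (show π (e 0) = 1 from (mul_one _).symm.trans h))
  have h1 := crel_e 0 1
  rw [← hy] at h1
  exact absurd (ceq_iff.2 (h1.uniq (CRel.P 1 y))) (by decide +kernel))

theorem trL {E : Subgroup (MulAut L)} (hE : Perf E) (hi : Inv E (gen f (lz bT 8))) :
    Tr E (gen f (lz bT 8)) ⊥ :=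
  (uc.step eqs (u := bv) (y := bY) (j := 8) (i := 6) (A := bA2) (E := bE2) (by decide +kernel)
    (uc.step eqs (u := bu) (j := 4) (i := 2) (A := bA1) (E := bE1) (by decide +kernel)
      ((by decide +kernel : lz bT 8 = bu ++ (bv ++ bY)) ▸ uc.st))).fin eqs uc.pc
    (n := 1) (F := bF) (N := bN) (by decide +kernel) hE hi

noncomputable def S : Subgroup BB := ((gen f (lz bT 8)).comap π).map CC.subtype

theorem mem_S {x : CC} : (x : BB) ∈ S ↔ π x ∈ gen f (lz bT 8) :=
  ⟨fun ⟨y, h1, h2⟩ => (show y = x from Subtype.ext h2) ▸ h1, fun h => ⟨x, h, rfl⟩⟩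

theorem S_le : S ≤ CC := map_subtype_le _

theorem Q_S : Q ≤ S := fun x h => (mem_S (x := ⟨x, Q_le h⟩)).2 (by rw [π_one.2 h]; exact one_mem _)

theorem card_Q : Nat.card Q = 2 ^ 23 := by
  rw [Q, Nat.card_congr (subgroupOfEquivOfLe (by rintro _ ⟨x, rfl⟩; exact P_BB x)).toEquiv, card_QQ]

theorem card_S : Nat.card S = 2 ^ 41 := by
  have h1 := (gen f (lz bT 8)).card_mul_index
  have h2 := ((gen f (lz bT 8)).comap π).card_mul_index
  have h3 := card_eq_card_quotient_mul_card_subgroup (Q.subgroupOf CC)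
  rw [index_comap_of_surjective _ π_surj, h3, ← h1, uc.pc.card,
    Nat.card_congr (subgroupOfEquivOfLe Q_le).toEquiv, card_Q,
    show (lz bT 8).length = 18 by decide +kernel, mul_right_comm] at h2
  rw [S, card_map_of_injective CC.subtype_injective,
    Nat.eq_of_mul_eq_mul_right (Nat.pos_of_ne_zero index_ne_zero_of_finite) h2]
  norm_num

def FY : Subgroup CC where
  carrier := {x | CRel D (x : BB) 2097152 2097152}
  one_mem' := CRel.one _
  mul_mem' := fun {_ b} ha hb => CRel.mul (cz b) ha hb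
  inv_mem' := fun {a} ha => CRel.inv (cz a) ha

theorem fixY {x : CC} (h : (x : BB) ∈ S) : CRel D (x : BB) 2097152 2097152 := by
  have h1 : gen f (lz bT 8) ≤ FY.map π := gen_le.2 fun c hc => ⟨e c, (crel_e c _).right (ceq_iff.1
    (allL_true.1 (by decide +kernel :
      (allL (lz bT 8) fun c => ceq (xk (tm c) 2097152) 2097152) = true) c hc)), rfl⟩
  obtain ⟨y, a, b⟩ := h1 (mem_S.1 h)
  obtain ⟨w, hw⟩ := mem_Q.1 (π_one.1 (show π (y⁻¹ * x) = 1 by rw [map_mul, map_inv, b, inv_mul_cancel]))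
  have : y⁻¹ * x ∈ FY := by
    change CRel D ((y⁻¹ * x : CC) : BB) _ _
    rw [← hw]; exact CRel.P _ _
  exact (mul_mem_cancel_left (inv_mem a)).1 this

theorem le_Q {R : Subgroup BB} (h1 : R ≤ S) (h2 : Nm CC R) : R ≤ Q := fun r hr => by
  have hc := S_le (h1 hr)
  have hz := cz ⟨r, hc⟩
  have h3 : ∀ k < 22, CRel D r (cw BM.cm (nth [] yW k) 2097152) (cw BM.cm (nth [] yW k) 2097152) :=
    fun k hk => by
      have a := allN_true.1 (by decide +kernel : (allN 22 fun k => inM km (nth [] yW k)) = true) k hk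
      obtain ⟨x, hx⟩ := exists_e _ a
      have b := hx _ _ (Ctx.crel (C := BM.C) a (ceq_iff.2 (ce.refl (cw BM.cm (nth [] yW k) 2097152))))
      have c := fixY (x := x * ⟨r, hc⟩ * x⁻¹) (h1 ((mem_normalizer_iff.1 (h2 x.2) r).1 hr))
      have := ((b.inv (cz x)).mul (cz _) c).mul (cz x) b
      simpa [mul_assoc] using this
  refine mem_Q_of hc fun i hi => ?_
  have a := allN_true.1 (by decide +kernel : (allN 22 fun i => and2
    (allL (nth [] yS i) fun k => Nat.blt k 22)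
    (ceq (xorL (fun k => cw BM.cm (nth [] yW k) 2097152) (nth [] yS i)) (Nat.pow 2 i))) = true) i hi
  simp only [and2_true, allL_true, Nat.blt_eq, ceq_iff] at a
  exact ((xorL_ind (p := fun x => CRel D r x x) (CRel.zero _) (fun _ _ a b => a.xor hz b) _
    fun k hk => h3 k (a.1 k hk)).left hz a.2).right a.2

theorem fix_cases {x : ℕ} (h : ∀ s ∈ S, ∃ c, s⁻¹ * (p x * s * (p x)⁻¹) = p (zb c)) :
    ce x 0 ∨ ce x 2097152 := by
  have h1 : ∀ c < 18, CRel D (e c : BB) x x := fun c hc => by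
    obtain ⟨d, a⟩ := h _ (mem_S.2 (mem_gen ((by decide +kernel : ∀ c < 18, c ∈ lz bT 8) c hc)))
    rw [inv_mul_eq_iff_eq_mul, mul_inv_eq_iff_eq_mul, mul_assoc] at a
    exact ⟨d, (congrArg Subtype.val a).trans (congrArg (((e c : BB) : GG) * ·) (Pu_zb_mul D.cl d x))⟩
  have h2 : ∀ j < 22, j ≠ 10 → sp x (2 ^ j) = false := fun j hj h10 => by
    have a := allN_true.1 (by decide +kernel : (allN 22 fun j => BM.or2 (Nat.beq j 10) (and2
      (allL (nth [] fx j) fun k => Nat.blt (k / 32) 18) (Nat.beq (xorL (fun k =>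
        Nat.xor (2 ^ (k % 32)) (xk (tm (k / 32)) (2 ^ (k % 32)))) (nth [] fx j)) (2 ^ j)))) = true) j hj
    simp only [BM.or2_true, and2_true, allL_true, Nat.blt_eq, H29.beq_true] at a
    obtain ⟨a1, a2⟩ := a.resolve_left h10
    rw [sp_comm, ← a2]
    exact xorL_ind (p := fun u => sp u x = false) (zero_sp _)
      (fun _ _ a b => by rw [xor_sp, a, b]; rfl) _
      fun k hk => sp_fix (cz _) (h1 _ (a1 k hk)) (crel_e _ _)
  have h3 : ∀ r < 21, x.testBit r = false := fun r hr => by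
    by_cases c : r < 11
    · rw [← sp_pow_hi x c]; exact h2 _ (by omega) (by omega)
    · obtain ⟨j, rfl⟩ : ∃ j, r = 11 + j := ⟨r - 11, by omega⟩
      rw [← sp_pow_lo x (by omega)]; exact h2 _ (by omega) (by omega)
  have h4 : ∀ r < 21, Nat.testBit 2097152 r = false := by decide
  rw [ce_iff, ce_iff]
  cases c : x.testBit 21
  · refine .inl fun r hr => ?_
    rcases Nat.lt_succ_iff_lt_or_eq.1 hr with a | rfl
    · rw [h3 r a, Nat.zero_testBit]
    · rw [c, Nat.zero_testBit]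
  · refine .inr fun r hr => ?_
    rcases Nat.lt_succ_iff_lt_or_eq.1 hr with a | rfl
    · rw [h3 r a, h4 r a]
    · rw [c]; rfl

theorem card_cm : Nat.card (H0.Sch.cm Q S (zpowers z)) ≤ 4 := by
  have h : (H0.Sch.cm Q S (zpowers z) : Set BB) ⊆
      {p (0 ^^^ zb false), p (0 ^^^ zb true), p (2097152 ^^^ zb false), p (2097152 ^^^ zb true)} := by
    intro a ha
    obtain ⟨x, rfl⟩ := mem_Q.1 ha.1
    rcases fix_cases fun s hs => mem_Z (ha.2.2 s hs) with b | b <;>
      obtain ⟨c, b⟩ := b.P (D := D) <;> rw [show p x = p _ from Subtype.ext b] <;> cases c <;> simp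
  refine (Set.ncard_le_ncard h).trans ?_
  refine (Set.ncard_insert_le _ _).trans (Nat.succ_le_succ ((Set.ncard_insert_le _ _).trans
    (Nat.succ_le_succ ((Set.ncard_insert_le _ _).trans ?_))))
  rw [Set.ncard_singleton]

theorem outS_BB : OutS BB := by
  have hna : ¬ IsMulCommutative BB := fun h => by
    obtain ⟨a, b, c⟩ := BB_nonab
    exact c (h.is_comm.comm a b)
  have hS : IsPGroup 2 S := IsPGroup.of_card card_S
  have hQ : IsPGroup 2 Q := IsPGroup.of_card card_Q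
  have hi : ¬ 2 ∣ S.index := fun hd => by
    have := mul_dvd_mul_left (Nat.card S) hd
    rw [S.card_mul_index, card_S, card_BB] at this
    norm_num at this
  refine outS_of_sylow hna (hS.toSylow hi) fun E hE (iS : Inv E S) => ?_
  change Tr E S ⊥
  have zQ : z ∈ Q := p_mem (zb true)
  have hz : ∀ d ∈ E, d z = z := fun d hd => by
    refine (cent fun q hq => (iS.centralizer d hd z (fun s hs =>
      mem_centralizer_singleton_iff.1 (S_le hs)) q (Q_S hq))).resolve_left fun a => ?_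
    exact zz_ne _ (congrArg Subtype.val (d.map_eq_one_iff.1 a))
  have iC := inv_centralizer_of_fix hz
  have iQ : Inv E Q := inv_of_max_normal_p iC Q_le nm_Q hQ fun R a b c =>
    le_Q (BN8.le_syl (hS.toSylow hi) c (.inr (S_le.trans b))) b
  have hk : π.ker.map CC.subtype = Q := (ker_mk_map (X := CC)).trans (inf_eq_left.2 Q_le)
  obtain ⟨F, a1, a2, a3⟩ := exists_induced hE iC π π_surj (by rw [hk]; exact iQ)
  have iF : Inv F (gen f (lz bT 8)) := fun a ha x hx => by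
    obtain ⟨d, hd, b⟩ := a3 a ha
    obtain ⟨x, rfl⟩ := π_surj x
    exact b x ▸ mem_S.1 (iS d hd x (mem_S.2 hx))
  have t1 : Tr E S Q := fun d hd x hx => by
    obtain ⟨a, ha, b⟩ := a2 d hd
    have c := tr_bot_iff.1 (trL a1 iF) a ha _ ((mem_S (x := ⟨x, S_le hx⟩)).1 hx)
    rw [b] at c
    exact (π_one (x := (⟨x, S_le hx⟩ : CC)⁻¹ * ⟨d x, iC d hd x (S_le hx)⟩)).1
      (by rw [map_mul, map_inv, c, inv_mul_cancel])
  have tZ : Tr E (zpowers z) ⊥ := tr_bot_iff.2 (by
    rintro d hd _ ⟨n, rfl⟩; simp only [map_zpow, hz d hd])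
  have iZ : Inv E (zpowers z) := fun d hd x hx => by rwa [tr_bot_iff.1 tZ d hd x hx]
  have nZ : Nm CC (zpowers z) := SC.nm_of (by
    rintro x hx _ ⟨n, rfl⟩
    exact ⟨n, by simp only [← conj_zpow, mem_centralizer_singleton_iff.1 hx, mul_inv_cancel_right]⟩)
  have cQ : ∀ c ∈ Q, ∀ a ∈ Q, a⁻¹ * (c * a * c⁻¹) ∈ zpowers z := fun c hc a ha => by
    obtain ⟨x, rfl⟩ := mem_Q.1 hc
    obtain ⟨y, rfl⟩ := mem_Q.1 ha
    rw [show p x * p y = p y * p (zb (sp x y)) * p x from Subtype.ext ((Pu_comm _ x y).trans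
      (congrArg (· * _) (Pu_mul_zb _ _ y).symm)), mul_inv_cancel_right, inv_mul_cancel_left]
    exact p_zb_mem _
  have ZQ := zpowers_le.2 zQ
  have sec : Sec E S Q Q (zpowers z) := ⟨hE, iQ, iZ, ZQ, S_le.trans nm_Q, S_le.trans nZ,
    Q_le.trans nZ, commutator_le.2 fun a ha b hb => by
      simpa [commutatorElement_def, mul_assoc] using cQ b hb a⁻¹ (inv_mem ha), t1, Q_le.trans nZ, cQ⟩
  have t2 := sec.of_fix_le_five (p := 2) (fun a ha => by
    obtain ⟨n, hn⟩ := hQ ⟨a, ha⟩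
    exact ⟨n, (show a ^ 2 ^ n = 1 from congrArg Subtype.val hn) ▸ one_mem _⟩) le_rfl hS
    ((Nat.le_of_dvd Nat.card_pos (index_dvd_card _)).trans (card_cm.trans (by norm_num)))
  exact (t1.trans hE t2 Q_S ZQ iZ (S_le.trans nm_Q) (S_le.trans nZ)).trans hE tZ (ZQ.trans Q_S)
    bot_le inv_bot (S_le.trans nZ) (H0.Sch.nm_bot _)

/-- SchBM from a surjection of the presented group onto the model. -/
theorem outS_b_of_onto (φ : Cfsg.Spor.BabyMonster →* BB) (hφ : Function.Surjective φ)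
    {K : Type*} [Group K] [IsSimpleGroup K] (hK : Cfsg.Spor.IsoB K) : OutS K := by
  obtain ⟨e⟩ := hK
  have h : Function.Surjective (φ.comp e.toMonoidHom) := hφ.comp e.surjective
  refine outS_BB.congr (MulEquiv.ofBijective _ ⟨(MonoidHom.ker_eq_bot_iff _).1 ?_, h⟩).symm
  refine (MonoidHom.normal_ker _).eq_bot_or_eq_top.resolve_right fun a => ?_
  obtain ⟨x, hx⟩ := h z
  exact zz_ne _ (congrArg Subtype.val (hx.symm.trans (MonoidHom.mem_ker.1 (a ▸ mem_top x))))

end H27.SB
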