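import Cfsg.Agent.H27.SU
import Cfsg.Agent.H27.SCd
import Cfsg.Agent.H28.Perm24
import Cfsg.Agent.H1.QTMat

/-! Schreier property of the Conway groups. -/

set_option autoImplicit false
set_option maxRecDepth 100000

namespace H27.SCo

open H0.Sch H27.SU H29 H15.KM H10 H28 Subgroup Cfsg MulAction

noncomputable def mo (p m : ℕ) : G0 :=
  if h : isM24 p = true ∧ H9.isCw m = true then
    mono ⟨pm p, pm_mem_M24 h.1⟩ ⟨H9.ofMask m, H9.mem_GC_of_isCw h.2⟩ else 1

def vec (x : ℕ) : L := if x < 32 then e8 (H9.pt x) else -e8 (H9.pt (x - 32))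

def d6 (t x : ℕ) : ℕ := Nat.land (Nat.shiftRight t (Nat.mul 6 x)) 63

noncomputable def okT (a : ℕ × ℕ × ℕ) : Bool :=
  and2 (and2 (isM24 a.1) (H9.isCw a.2.1)) (allN 24 fun i => lit (pf a.1 i) fun j =>
    and2 (Nat.beq (d6 a.2.2 i) (Nat.add j (Nat.mul 32 (H9.bit a.2.1 j))))
      (Nat.beq (d6 a.2.2 (Nat.add i 32)) (Nat.add j (Nat.mul 32 (Nat.sub 1 (H9.bit a.2.1 j))))))

def Val (x : ℕ) : Prop := x < 24 ∨ (32 ≤ x ∧ x < 56)

theorem mo_apply {p m : ℕ} (h1 : isM24 p = true) (h2 : H9.isCw m = true) (v : L) {i : ℕ} (hi : i < 24) :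
    ((mo p m • v : L) : V) (H9.pt (pf p i)) =
      if m.testBit (pf p i) = true then -(v : V) (H9.pt i) else (v : V) (H9.pt i) := by
  have := mono_apply ⟨pm p, pm_mem_M24 h1⟩ ⟨H9.ofMask m, H9.mem_GC_of_isCw h2⟩ v (H9.pt i)
  simp only [pm_pt (okP_of_isM24 h1) hi, H9.mem_ofMask,
    H9.ix_pt ((okP_spec (okP_of_isM24 h1)).1 i hi)] at this
  rw [mo, dif_pos ⟨h1, h2⟩, this]

theorem mo_e8 {p m : ℕ} (h1 : isM24 p = true) (h2 : H9.isCw m = true) {i : ℕ} (hi : i < 24) :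
    mo p m • e8 (H9.pt i) =
      if m.testBit (pf p i) = true then -e8 (H9.pt (pf p i)) else e8 (H9.pt (pf p i)) := by
  have := mono_e8 ⟨pm p, pm_mem_M24 h1⟩ ⟨H9.ofMask m, H9.mem_GC_of_isCw h2⟩ (H9.pt i)
  simp only [pm_pt (okP_of_isM24 h1) hi, H9.mem_ofMask,
    H9.ix_pt ((okP_spec (okP_of_isM24 h1)).1 i hi)] at this
  apply Subtype.ext
  rw [mo, dif_pos ⟨h1, h2⟩, this]
  split_ifs <;> simp [e8_coe, Pi.single_neg]

theorem act {a : ℕ × ℕ × ℕ} (h : okT a = true) {x : ℕ} (hx : Val x) :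
    Val (d6 a.2.2 x) ∧ mo a.1 a.2.1 • vec x = vec (d6 a.2.2 x) := by
  simp only [okT, and2_true, allN_true, lit_eq, H29.beq_true] at h
  obtain ⟨⟨h1, h2⟩, h3⟩ := h
  have h4 := (okP_spec (okP_of_isM24 h1)).1
  rcases hx with hx | hx
  · rw [(h3 x hx).1, vec, if_pos (by omega), mo_e8 h1 h2 hx, H9.bit_eq]
    have := h4 x hx
    split_ifs
    · exact ⟨.inr ⟨by simp, by simp; omega⟩, by simp [vec]⟩
    · exact ⟨.inl (by simpa), by simp [vec, show pf a.1 x < 32 by omega]⟩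
  · obtain ⟨x, rfl⟩ : ∃ y, x = y + 32 := ⟨x - 32, by omega⟩
    have hx' : x < 24 := by omega
    rw [show x + 32 = Nat.add x 32 from rfl, (h3 x hx').2, vec, if_neg (by simp), co_neg,
      show Nat.add x 32 - 32 = x by simp, mo_e8 h1 h2 hx', H9.bit_eq]
    have := h4 x hx'
    split_ifs
    · exact ⟨.inl (by simpa), by simp [vec, show pf a.1 x < 32 by omega]⟩
    · exact ⟨.inr ⟨by simp, by simp; omega⟩, by simp [vec]⟩

variable (C : List (ℕ × ℕ × ℕ))

noncomputable def lt (c : ℕ) : ℕ × ℕ × ℕ := nth (idP, 0, idT) C c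
noncomputable def e0 (c : ℕ) : G0 := mo (lt C c).1 (lt C c).2.1

noncomputable def run (w : List ℕ) : List ℕ :=
  List.rec (motive := fun _ => List ℕ)
    [0, 1, 2, 3, 4, 5, 6, 7, 8, 9, 10, 11, 12, 13, 14, 15, 16, 17, 18, 19, 20, 21, 22, 23]
    (fun c _ ih => lit (lt C c).2.2 fun t => frc (mapL (d6 t) ih) fun l => l) w

noncomputable def ok0 (u v : List ℕ) : Bool := eqL (run C u) (run C v)

variable {C}

theorem all_lt {f : ℕ × ℕ × ℕ → Bool} (h : allL ((idP, 0, idT) :: C) f = true) (c : ℕ) :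
    f (lt C c) = true := by
  refine allL_true.1 h _ ?_
  rw [lt, nth_eq, List.getD_eq_getElem?_getD]
  cases hc : C[c]? with
  | none => simp
  | some a => simpa using .inr (List.mem_of_getElem? hc)

theorem run_spec (h : ∀ c, okT (lt C c) = true) : ∀ w : List ℕ, ∃ f : ℕ → ℕ,
    run C w = (List.range 24).map f ∧ ∀ i < 24, Val (f i) ∧ ev (e0 C) w • vec i = vec (f i)
  | [] => ⟨id, by rw [List.map_id]; rfl, fun i hi => ⟨.inl hi, one_smul _ _⟩⟩
  | c :: w => by
    obtain ⟨f, h1, h2⟩ := run_spec h w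
    refine ⟨fun i => d6 (lt C c).2.2 (f i), ?_, fun i hi => ⟨(act (h c) (h2 i hi).1).1, ?_⟩⟩
    · change (lit (lt C c).2.2 fun t => frc (mapL (d6 t) (run C w)) fun l => l) = _
      rw [lit_eq, frc_eq, mapL_eq, h1, List.map_map]; rfl
    · rw [ev_cons, mul_smul, (h2 i hi).2]; exact (act (h c) (h2 i hi).1).2

theorem ext8 {g g' : G0} (h : ∀ i < 24, g • vec i = g' • vec i) : g = g' := by
  rw [← inv_mul_eq_one]
  refine eq_one_of_fix_e8 fun p => ?_
  have := h _ (H9.ix_lt p)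
  rw [vec, if_pos ((H9.ix_lt p).trans (by norm_num)), H9.pt_ix] at this
  rw [mul_smul, ← this, inv_smul_smul]

theorem eqs0 (h : ∀ c, okT (lt C c) = true) : Eqs (ok0 C) (e0 C) := fun u v huv => by
  obtain ⟨f, a1, a2⟩ := run_spec h u
  obtain ⟨g, b1, b2⟩ := run_spec h v
  have := eqL_true huv
  rw [a1, b1, List.map_inj_left] at this
  exact ext8 fun i hi => by rw [(a2 i hi).2, (b2 i hi).2, this i (List.mem_range.2 hi)]

noncomputable def fixV (n : ℕ) (a : ℕ × ℕ × ℕ) : Bool :=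
  allN 24 fun i => lit (pf a.1 i) fun j => Nat.beq (Nat.add (dg n j) (Nat.mul (H9.bit a.2.1 j) (dg n i)))
    (Nat.add (Nat.mul (H9.bit a.2.1 j) 32) (Nat.mul (Nat.sub 1 (H9.bit a.2.1 j)) (dg n i)))

theorem fix {a : ℕ × ℕ × ℕ} (h : okT a = true) {n : ℕ} (hf : fixV n a = true) {v : L}
    (hv : (v : V) = vc n) : mo a.1 a.2.1 • v = v := by
  simp only [okT, and2_true] at h
  obtain ⟨⟨h1, h2⟩, -⟩ := h
  refine Subtype.ext (funext fun p => ?_)
  obtain ⟨i, hi, e⟩ := (okP_spec (okP_of_isM24 h1)).2 _ (H9.ix_lt p)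
  have h3 := allN_true.1 hf i hi
  rw [lit_eq, H29.beq_true, H9.bit_eq] at h3
  rw [← H9.pt_ix p, ← e, mo_apply h1 h2 v hi, hv, vc_pt _ hi, vc_pt _ (e ▸ H9.ix_lt p)]
  split_ifs at h3 ⊢ <;> simp at h3 <;> omega

universe u

variable {K : Type u} [Group K] [Finite K] [IsSimpleGroup K]

theorem exists_letters (h : ∀ c, okT (lt C c) = true) {n : ℕ} (hf : ∀ c, fixV n (lt C c) = true)
    {v : L} (hv : (v : V) = vc n) (f : K ≃* stabilizer G0 v) (hz : (e0 C 0 • vec 3 : L) ≠ vec 3) :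
    ∃ e : ℕ → K, Eqs (ok0 C) e ∧ e 0 ≠ 1 := by
  let φ : K →* G0 := (stabilizer G0 v).subtype.comp f.toMonoidHom
  have hφ : Function.Injective φ := (subtype_injective _).comp f.injective
  let e : ℕ → K := fun c => f.symm ⟨e0 C c, fix (h c) (hf c) hv⟩
  have he : ∀ c, φ (e c) = e0 C c := fun c => by simp [φ, e]
  refine ⟨e, fun u v huv => hφ ?_, fun h0 => hz ?_⟩
  · rw [map_ev, map_ev, funext he, eqs0 h u v huv]
  · rw [← he, h0, map_one, one_smul]

theorem ne3 (h : ∀ c, okT (lt C c) = true) (hc : Nat.beq (d6 (lt C 0).2.2 3) 35 = true) :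
    (e0 C 0 • vec 3 : L) ≠ vec 3 := by
  rw [e0, (act (h 0) (.inl (by norm_num))).2, H29.beq_true.1 hc]
  intro e
  have := congrFun (congrArg Subtype.val e) (H9.pt 3)
  simp [vec, e8_coe] at this

theorem outS_co2 (hna : ¬ IsMulCommutative K) (h : Spor.IsoCo2 K) : OutS K := by
  obtain ⟨f⟩ := h
  obtain ⟨g⟩ := H1.QT.equiv_C2
  have h1 := all_lt (C := bC) (f := okT) (by decide +kernel)
  obtain ⟨e, a1, a2⟩ := exists_letters h1 (all_lt (f := fixV cU) (by decide +kernel)) vU_eq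
    (f.trans g) (ne3 h1 (by decide +kernel))
  exact outS_of_chk hna a1 (T := bT) (c := 8) (n := 2) (j := 4) (i := 2) (j' := 8) (i' := 6)
    (A := bA) (A1 := bA1) (E1 := bE1) (A2 := bA2) (E2 := bE2) (F := bF) (B := bB) (N := bN)
    (u := bu) (u' := bv) (y := bY) (E := bE) a2 (by decide +kernel) (by decide +kernel)
    (by rw [Nat.card_congr (f.trans g).toEquiv, card_C2]; decide +kernel) (by decide +kernel)
    (by decide +kernel) (by decide +kernel) (by decide +kernel)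

theorem outS_co3 (hna : ¬ IsMulCommutative K) (h : Spor.IsoCo3 K) : OutS K := by
  obtain ⟨f⟩ := h
  obtain ⟨g⟩ := H1.QT.equiv_C3
  have hw : (lv cW : V) = vc cW := lv_coe (by decide +kernel)
  obtain ⟨k, hk⟩ := tr_48 (lv cW) (by rw [hw, norm_vc]; decide +kernel)
  have h1 := all_lt (C := cC) (f := okT) (by decide +kernel)
  obtain ⟨e, a1, a2⟩ := exists_letters h1 (all_lt (f := fixV cW) (by decide +kernel)) hw
    ((f.trans g).trans (stabilizerEquivStabilizer hk.symm)) (ne3 h1 (by decide +kernel))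
  exact outS_of_chk hna a1 (T := cT) (c := 5) (n := 1) (j := 3) (i := 1) (j' := 5) (i' := 3)
    (A := cA) (A1 := cA1) (E1 := cE1) (A2 := cA2) (E2 := cE2) (F := cF) (B := cB) (N := cN)
    (u := cu) (u' := cv) (y := cY) (E := cE) a2 (by decide +kernel) (by decide +kernel)
    (by rw [Nat.card_congr (f.trans g).toEquiv, card_C3]; decide +kernel) (by decide +kernel)
    (by decide +kernel) (by decide +kernel) (by decide +kernel)

noncomputable def ok1 (u v : List ℕ) : Bool := orE (ok0 aC) (fun u v => ok0 aC u (21 :: v)) u v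

theorem outS_co1 (hna : ¬ IsMulCommutative K) (h : Spor.IsoCo1 K) : OutS K := by
  obtain ⟨f⟩ := h
  have h1 := all_lt (C := aC) (f := okT) (by decide +kernel)
  let φ : G0 →* K := f.symm.toMonoidHom.comp (QuotientGroup.mk' _)
  have hφ : ∀ g, φ g = 1 ↔ g ∈ center G0 := fun g =>
    f.symm.map_eq_one_iff.trans (QuotientGroup.eq_one_iff g)
  have h2 : e0 aC 21 = neg1 := ext8 fun i hi => by
    rw [e0, (act (h1 21) (.inl hi)).2, neg1_smul, H29.beq_true.1 (allN_true.1 (by decide +kernel :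
      (allN 24 fun i => Nat.beq (d6 (lt aC 21).2.2 i) (i + 32)) = true) i hi)]
    simp [vec, show i < 32 by omega]
  have a1 : Eqs ok1 fun c => φ (e0 aC c) := Eqs.or
    (fun u v huv => by rw [← map_ev, ← map_ev, eqs0 h1 u v huv]) fun u v huv => by
      rw [← map_ev, ← map_ev, eqs0 h1 u _ huv, ev_cons, map_mul, h2, (hφ _).2 neg1_mem_center,
        one_mul]
  have a2 : φ (e0 aC 0) ≠ 1 := fun h0 => by
    have h3 := ne3 h1 (by decide +kernel)
    have h4 := SC.eq_of_card_two card_center ((hφ _).1 h0) neg1_mem_center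
      (fun e => h3 (by rw [e, one_smul])) neg1_ne_one
    have h5 := (act (h1 0) (x := 0) (.inl (by norm_num))).2
    rw [show d6 (lt aC 0).2.2 0 = 0 by decide +kernel] at h5
    rw [e0] at h4
    rw [h4, neg1_smul] at h5
    have := congrFun (congrArg Subtype.val h5) (H9.pt 0)
    simp [vec, e8_coe] at this
  exact outS_of_chk hna a1 (T := aT) (c := 8) (n := 1) (j := 4) (i := 2) (j' := 5) (i' := 3)
    (A := aA) (A1 := aA1) (E1 := aE1) (A2 := aA2) (E2 := aE2) (F := aF) (B := aB) (N := aN)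
    (u := au) (u' := av) (y := aY) (E := aE) a2 (by decide +kernel) (by decide +kernel)
    (by rw [Nat.card_congr f.toEquiv, card_Co1]; decide +kernel) (by decide +kernel)
    (by decide +kernel) (by decide +kernel) (by decide +kernel)

end H27.SCo
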