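import Mathlib
import Cfsg.Agent.S0848
import Cfsg.Agent.H18.HNC0
import Cfsg.Agent.H6.Dihedral
import Cfsg.Agent.H24.Base5

/-! HN recognition: the element of order five. -/

set_option autoImplicit false
set_option linter.unusedSectionVars false

namespace H18.HNC

open H24 Subgroup

variable {G : Type*} [Group G] [Finite G] {f β s r r' : G} {Y N : Subgroup G}

omit [Finite G] in
theorem center_D (hf : f ≠ 1) (hf2 : f * f = 1) (hβ : β * β = 1) (hs : s * s = 1)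
    (hw : β * s * (β * s) = f) {z : G} (hz : z ∈ closure ({β, s} : Set G)) (h1 : β * z = z * β)
    (h2 : s * z = z * s) : z = 1 ∨ z = f := by
  have e2 : ∀ k : ℤ, (β * s) ^ (2 * k) = f ^ k := fun k => by
    rw [zpow_mul, zpow_ofNat, pow_two, hw]
  have e3 : ∀ k : ℤ, f ^ (2 * k) = 1 := fun k => by rw [zpow_mul, zpow_ofNat, pow_two, hf2, one_zpow]
  obtain ⟨k, rfl | rfl⟩ := (H6.mem_closure_pair_iff hβ hs).1 hz
  · have h3 := H6.conj_zpow_left hβ hs k
    rw [h1, mul_inv_cancel_right, zpow_neg, eq_inv_iff_mul_eq_one, ← zpow_add, ← two_mul, e2] at h3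
    obtain ⟨j, rfl | rfl⟩ := Int.even_or_odd' k
    · rw [e2]
      obtain ⟨i, rfl | rfl⟩ := Int.even_or_odd' j
      · exact Or.inl (e3 i)
      · exact Or.inr (by rw [zpow_add, e3, one_mul, zpow_one])
    · rw [zpow_add, e3, one_mul, zpow_one] at h3
      exact absurd h3 hf
  · refine absurd ?_ hf
    have h3 : (β * s) * (β * (β * s) ^ k) = (β * (β * s) ^ k) * (β * s) := by
      rw [mul_assoc, h2, ← mul_assoc, h1, mul_assoc]
    rw [mul_assoc β ((β * s) ^ k), ← zpow_add_one, add_comm, zpow_one_add, ← mul_assoc,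
      ← mul_assoc β, mul_left_inj] at h3
    rw [← hw]
    calc _ = (β * s * β) * s := by group
      _ = (β * β) * (s * s) := by rw [h3]; group
      _ = _ := by rw [hβ, hs, one_mul]

theorem sq_of_fpf {x y : G} (hx : x ∈ N[N]) (h2 : x * x = 1) (h : N ⊓ C{x} = ⊥) (hy : y ∈ N) :
    x * y * (x * y) = 1 := by
  obtain ⟨k, -, e⟩ := exists_conj_of_fpf hx h hy
  calc _ = x * ((y * x) * (y * x)) * x⁻¹ := by group
    _ = x * (k * (x * x) * k⁻¹) * x⁻¹ := by rw [← e]; group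
    _ = _ := by rw [h2]; group

/-- the local hypotheses on a group `Y` of order `168` or `360` -/
structure Hy (f β s r r' : G) (Y : Subgroup G) : Prop where
  hf : f ≠ 1
  hf2 : f * f = 1
  hβ : β * β = 1
  hs : s * s = 1
  hw : β * s * (β * s) = f
  βY : β ∈ Y
  sY : s ∈ Y
  rY : r ∈ Y
  rY' : r' ∈ Y
  hC : ∀ g ∈ Y, g * f = f * g → g ∈ closure ({β, s} : Set G)
  hr1 : r * f * r⁻¹ = β
  hr2 : r * β * r⁻¹ = β * f
  hr' : r' * f * r'⁻¹ = s

namespace Hy

variable (h : Hy f β s r r' Y)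
include h

theorem βD : β ∈ closure ({β, s} : Set G) := subset_closure (by simp)

theorem sD : s ∈ closure ({β, s} : Set G) := subset_closure (by simp)

theorem fD : f ∈ closure ({β, s} : Set G) :=
  h.hw ▸ mul_mem (mul_mem h.βD h.sD) (mul_mem h.βD h.sD)

theorem D_le {K : Subgroup G} (h1 : β ∈ K) (h2 : s ∈ K) : closure ({β, s} : Set G) ≤ K :=
  (closure_le _).2 (by rintro z (rfl | rfl) <;> assumption)

theorem fY : f ∈ Y := h.D_le h.βY h.sY h.fD

theorem ord_f : orderOf f = 2 := H6.orderOf_eq_two_of h.hf2 h.hf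

theorem ord_w : orderOf (β * s) = 4 :=
  orderOf_eq_prime_pow (p := 2) (n := 1) (by rw [pow_one, pow_two, h.hw]; exact h.hf)
    (by rw [show (β * s) ^ 2 ^ (1 + 1) = f * f by rw [← h.hw]; simp [pow_succ, mul_assoc], h.hf2])

theorem DC : closure ({β, s} : Set G) ≤ C{f} := by
  have := H6.central_involution h.hβ h.hs (by rw [h.ord_w]; decide)
  rw [h.ord_w, show 4 / 2 = 2 by rfl, pow_two, h.hw] at this
  exact h.D_le (mem_C1.2 this.2.1.eq.symm) (mem_C1.2 this.2.2.eq.symm)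

theorem iso : Nonempty (closure ({β, s} : Set G) ≃* DihedralGroup 4) := by
  rw [← h.ord_w]
  refine H6.closure_pair_dihedral β s (by rw [← h.hr1, orderOf_conj, h.ord_f])
    (by rw [← h.hr', orderOf_conj, h.ord_f]) fun e => h.hf ?_
  rw [← h.hw, ← e, h.hβ, one_mul]

theorem card_D : ♯(closure ({β, s} : Set G)) = 2 ^ 3 := by
  obtain ⟨e⟩ := h.iso
  rw [Nat.card_congr e.toEquiv, DihedralGroup.nat_card]; rfl

theorem ND : N[closure ({β, s} : Set G)] ≤ C{f} := fun g hg => by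
  have aux : ∀ z ∈ closure ({β, s} : Set G), z * (g * f * g⁻¹) = g * f * g⁻¹ * z := fun z hz => by
    calc _ = g * (g⁻¹ * z * g * f) * g⁻¹ := by group
      _ = _ := by rw [mem_C1.1 (h.DC (conj_mem' hg hz))]; group
  exact mem_C1_iff_conj.2 ((center_D h.hf h.hf2 h.hβ h.hs h.hw (conj_mem hg h.fD) (aux _ h.βD)
    (aux _ h.sD)).resolve_left (by simpa using h.hf))

theorem syl : Syl 2 Y (closure ({β, s} : Set G)) := by
  refine Sylow_subnorm Nat.prime_two (h.D_le h.βY h.sY) ?_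
  rw [le_antisymm (fun g hg => h.hC g hg.1 (mem_C1.1 (h.ND hg.2)))
    (le_inf (h.D_le h.βY h.sY) (norm_self _))]
  exact hall_self (isPi_of_card Nat.prime_two h.card_D)

theorem le_of_mem (hN : N ⊴ Y) (hf : f ∈ N) : closure ({β, s} : Set G) ≤ N :=
  h.D_le (h.hr1 ▸ hN.conj_mem h.rY hf) (h.hr' ▸ hN.conj_mem h.rY' hf)

theorem card_Y : ♯Y = 168 ∨ ♯Y = 360 := by
  have h1 : f ∈ ⁅Y, Y⁆ := by
    have := commutator_mem_commutator (inv_mem h.βY) h.rY
    rwa [commutatorElement_def, inv_inv, show β⁻¹ * r * β * r⁻¹ = β⁻¹ * (r * β * r⁻¹) by group,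
      h.hr2, inv_mul_cancel_left] at this
  have h2 := h.le_of_mem (der1_nml Y) h1
  have h3 : ⁅Y, Y⁆ = Y := by
    have := (Frattini_arg Nat.prime_two (der1_nml Y) (h.syl.of_le h2 (der1_le Y))).sup_eq
    rwa [sup_eq_left.2 fun g hg => h2 (h.hC g hg.1 (mem_C1.1 (h.ND hg.2)))] at this
  obtain ⟨e⟩ := h.iso
  refine Cfsg.Agent.S0848.result (G := Y) ?_ ⟨f, h.fY⟩ (by rw [orderOf_mk, h.ord_f])
    (((centralizer {(⟨f, h.fY⟩ : Y)}).equivMapOfInjective Y.subtype Y.subtype_injective).trans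
      ((MulEquiv.subgroupCongr ?_).trans e))
  · apply map_injective Y.subtype_injective
    rw [commutator_def, map_commutator, map_subtype_top, h3]
  · ext z
    constructor
    · rintro ⟨z, hz, rfl⟩
      exact h.hC z z.2 (congrArg Subtype.val (mem_C1.1 hz))
    · exact fun hz => ⟨⟨z, h.D_le h.βY h.sY hz⟩, mem_C1.2 (Subtype.ext (mem_C1.1 (h.DC hz))), rfl⟩

theorem eq_bot (hN : N ⊴ Y) (hs : s ∉ N) : N = ⊥ := by
  have h1 : N ⊓ C{f} = ⊥ := by
    by_contra e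
    have h2 : N ⊓ closure ({β, s} : Set G) ≠ ⊥ :=
      ne_bot_of_le e fun g hg => mem_inf.2 ⟨hg.1, h.hC g (hN.le hg.1) (mem_C1.1 hg.2)⟩
    obtain ⟨z, hz, h3⟩ := exists_ne_one ((h.syl.pi.nil Nat.prime_two).inf_C_ne_bot
      (hN.inf_right h.syl.le) h2)
    have := (center_D h.hf h.hf2 h.hβ h.hs h.hw hz.1.2 (mem_C.1 hz.2 _ h.βD)
      (mem_C.1 hz.2 _ h.sD)).resolve_left h3
    exact hs (h.le_of_mem hN (this ▸ hz.1.1) h.sD)
  have h2 : ∀ x, N ⊓ C{x} = ⊥ → N ⊓ C{r * x * r⁻¹} = ⊥ := fun x e => by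
    rw [← cj_C1, ← cj_of_mem_N (hN.norm h.rY), ← cj_inf, e, cj_bot]
  have h3 := h2 f h1
  rw [h.hr1] at h3
  have h4 := h2 β h3
  rw [h.hr2] at h4
  refine (eq_bot_iff_forall _).2 fun y hy => mem_bot.1 (h4 ▸ mem_inf.2 ⟨hy, mem_C1.2 ?_⟩)
  have e1 := sq_of_fpf (hN.norm h.fY) h.hf2 h1 hy
  have e2 := sq_of_fpf (hN.norm h.βY) h.hβ h3 hy
  calc y * (β * f) = β⁻¹ * (β * y * (β * y)) * (f * y)⁻¹ * (f * f) := by group
    _ = β⁻¹ * (f * y * (f * y)) * (f * y)⁻¹ := by rw [e1, e2, h.hf2, mul_one]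
    _ = _ := by rw [H6.inv_eq_of_mul_self h.hβ]; group

end Hy

end H18.HNC

namespace H27.HN

open H24 Subgroup H18.HNC

theorem exists_t {G : Type*} [Group G] [Finite G] {f β s r m x : G} {XP X L X7 : Subgroup G}
    (hf : f ≠ 1) (hf2 : f * f = 1) (hβ : β * β = 1) (hs : s * s = 1) (hw : β * s * (β * s) = f)
    (hX : X ≤ XP) (h7 : X7 ≤ X) (hsX : s ∈ X) (hf7 : f ∈ X7) (hβ7 : β ∈ X7) (hr7 : r ∈ X7)
    (hCP : ∀ g ∈ XP, g * f = f * g → g ∈ Subgroup.closure {β, s})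
    (hC7 : ∀ g ∈ X7, g * f = f * g → g = 1 ∨ g = f ∨ g = β ∨ g = β * f)
    (hr1 : r * f * r⁻¹ = β) (hr2 : r * β * r⁻¹ = β * f) (hr3 : r ^ 3 = 1)
    (hmX : ∀ g ∈ X, m * g * m⁻¹ ∈ X) (hmf : m * f = f * m) (hmβ : m * β * m⁻¹ = s)
    (hms : m * s * m⁻¹ = β)
    (hL : L ≤ XP) (hL60 : Nat.card L = 60) (hL7 : L ≤ X → L ≤ X7)
    (hx2 : x * x = f) (hx7 : ∀ g ∈ X7, x⁻¹ * g * x ∈ X7)
    (hxI : ∀ g ∈ X7, m⁻¹ * g * m ∈ X7 → m⁻¹ * (x⁻¹ * g * x) * m ∈ X7)
    (hmI : ∀ g ∈ X7, m⁻¹ * g * m ∈ X7 → m * g = g * m)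
    (hxr : x⁻¹ * r * x = β * s * r * (β * s)⁻¹) :
    ∃ t ∈ X7, m * t = t * m ∧ t ^ 5 = 1 ∧ x⁻¹ * t * x * t ^ 2 = 1 ∧ (s * t) ^ 3 = 1 ∧
      r ∈ Subgroup.closure {f, β, t} := by
  classical
  have hr' : (m * r * m⁻¹) * f * (m * r * m⁻¹)⁻¹ = s := by
    calc _ = m * (r * (m⁻¹ * (f * m)) * r⁻¹) * m⁻¹ := by group
      _ = _ := by rw [← hmf, inv_mul_cancel_left, hr1, hmβ]
  have hY : ∀ Y, X ≤ Y → Y ≤ XP → Hy f β s r (m * r * m⁻¹) Y := fun Y h1 h2 =>
    ⟨hf, hf2, hβ, hs, hw, h1 (h7 hβ7), h1 hsX, h1 (h7 hr7), h1 (hmX r (h7 hr7)),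
      fun g hg => hCP g (h2 hg), hr1, hr2, hr'⟩
  have h := hY X le_rfl hX
  have cP : ♯XP = 360 := (hY XP hX le_rfl).card_Y.resolve_left fun e => by
    have := card_dvd hL
    rw [e, hL60] at this
    omega
  have cX : ♯X = 360 := h.card_Y.resolve_left fun e => by
    have := card_dvd hX
    rw [e, cP] at this
    omega
  have hβf : β * f = f * β := mem_C1.1 (h.DC h.βD)
  have hs7 : s ∉ X7 := fun e => hf (by
    rw [← hw]
    rcases hC7 s e (mem_C1.1 (h.DC h.sD)) with e | e | e | e <;> rw [e]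
    · rw [mul_one, hβ]
    · calc _ = β * (f * β) * f := by group
        _ = (β * β) * (f * f) := by rw [← hβf]; group
        _ = _ := by rw [hβ, hf2, one_mul]
    · rw [hβ, one_mul]
    · rw [← mul_assoc β β, hβ, one_mul, hf2])
  -- the action on the cosets of `X7`
  have hinj : Function.Injective (MulAction.toPermHom X (X ⧸ X7.subgroupOf X)) := by
    rw [← MonoidHom.ker_eq_bot_iff, ← normalCore_eq_ker, ← map_eq_bot_iff_of_injective _
      X.subtype_injective]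
    refine h.eq_bot (nml_map_subtype _) ?_
    rintro ⟨z, hz, rfl⟩
    exact hs7 (normalCore_le (X7.subgroupOf X) hz)
  have h60 : 60 ∣ ♯X7 := hL60 ▸ card_dvd (hL7 ((eq_of_card_eq hX (cX.trans cP.symm)).symm ▸ hL))
  have hidx : X7.relIndex X = 6 := by
    have h1 := card_dvd_of_injective _ hinj
    rw [cX, Nat.card_perm] at h1
    have h2 := card_mul_relIndex h7
    obtain ⟨c, hc⟩ := h60
    rw [cX, hc] at h2
    change 360 ∣ (X7.relIndex X).factorial at h1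
    have h3 : X7.relIndex X ∣ 6 := ⟨c, by nlinarith⟩
    have h4 := Nat.le_of_dvd (by norm_num) h3
    interval_cases X7.relIndex X <;> simp_all [Nat.factorial]
  have c7 : ♯X7 = 60 := by
    have h2 := card_mul_relIndex h7
    rw [cX, hidx] at h2
    omega
  obtain ⟨φ, hφ⟩ : ∃ φ : X →* Equiv.Perm (Fin 6), Function.Injective φ :=
    ⟨(Finite.equivFinOfCardEq hidx).permCongrHom.toMonoidHom.comp _,
      (Finite.equivFinOfCardEq hidx).permCongrHom.injective.comp hinj⟩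
  -- the subgroup `I`
  obtain ⟨I, hI⟩ : ∃ I, I = X7 ⊓ cj m X7 := ⟨_, rfl⟩
  have memI : ∀ g, g ∈ I ↔ g ∈ X7 ∧ m⁻¹ * g * m ∈ X7 := fun g => by rw [hI, mem_inf, mem_cj]
  have I7 : I ≤ X7 := hI ▸ inf_le_left
  have fI : f ∈ I := (memI f).2 ⟨hf7, by rwa [mul_assoc, ← hmf, inv_mul_cancel_left]⟩
  have βI : β ∉ I := fun e => hs7 (by simpa [← hms, mul_assoc] using ((memI β).1 e).2)
  have CI : ∀ g ∈ I, g * f = f * g → g ∈ zpowers f := fun g hg e => by
    rcases hC7 g (I7 hg) e with rfl | rfl | rfl | rfl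
    exacts [one_mem _, mem_zpowers _, absurd hg βI, absurd ((mul_mem_cancel_right fI).1 hg) βI]
  have c2 : ♯(zpowers f) = 2 ^ 1 := by rw [card_zpowers', h.ord_f]; rfl
  have cI : ♯I = 10 := by
    have h1 : Syl 2 I (zpowers f) := by
      refine Sylow_subnorm Nat.prime_two (zpowers_le_of_mem fI) ?_
      rw [le_antisymm (fun g hg => CI g hg.1 ?_) (le_inf (zpowers_le_of_mem fI) (norm_self _))]
      · exact hall_self (isPi_of_card Nat.prime_two c2)
      · exact mem_C1.1 (mem_C1_iff_conj.2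
          ((center_D hf hf2 hβ hs hw (zpowers_le_of_mem h.fD (conj_mem hg.2 (mem_zpowers f)))
            (mem_C1.1 (C1_le_C1_of_mem_zpowers (conj_mem hg.2 (mem_zpowers f)) (h.DC h.βD)))
            (mem_C1.1 (C1_le_C1_of_mem_zpowers (conj_mem hg.2 (mem_zpowers f))
              (h.DC h.sD)))).resolve_left (by simpa using hf)))
    have h2 := h1.not_dvd Nat.prime_two
    have h3 := h1.card
    have h4 := card_mul_relIndex I7
    have h5 : I.relIndex X7 ≤ 6 := by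
      have e : cj m X = X := cj_of_mem_N (mem_N_of_finite hmX)
      rw [hI, inf_relIndex_left, ← hidx, ← relIndex_cj m X7 X, e]
      exact relIndex_le_of_le_right h7 (relIndex_ne_zero' _ _)
    have h6 : I.relIndex X7 ≠ 2 := fun e => βI (by
      have h7 : r * r * (r * r) ∈ I :=
        mul_self_mem_of_index_two (H := I.subgroupOf X7) e ⟨r * r, mul_mem hr7 hr7⟩
      rw [show r * r * (r * r) = r * r ^ 3 by simp [pow_succ, mul_assoc], hr3, mul_one] at h7
      exact hr1 ▸ mul_mem (mul_mem h7 fI) (inv_mem h7))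
    rw [c2] at h3
    rw [c7] at h4
    interval_cases I.relIndex X7 <;> omega
  obtain ⟨t0, ht0, o0⟩ := exists_orderOf_eq (H := I) (p := 5) (by norm_num) (by rw [cI]; norm_num)
  have iT : (zpowers t0).relIndex I = 2 := by
    have := card_mul_relIndex (zpowers_le_of_mem ht0)
    rw [card_zpowers', o0, cI] at this
    omega
  have nT : zpowers t0 ⊴ I :=
    nml_of_normal (zpowers_le_of_mem ht0) (normal_of_index_eq_two iT)
  have pT : IsPi {5} (zpowers t0) := (piElt_of_orderOf_prime (by norm_num) o0).isPi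
  have xT : x⁻¹ ∈ N[zpowers t0] :=
    (Syl.mk' (by norm_num) nT.le pT (by rw [iT]; norm_num)).norm_le_norm_of_nml nT.norm
      (mem_N_of_finite fun g hg => by
        rw [inv_inv]
        exact (memI _).2 ⟨hx7 g (I7 hg), hxI g (I7 hg) ((memI g).1 hg).2⟩)
  have inv : ∀ t ∈ zpowers t0, f * t * (f * t) = 1 := fun t ht =>
    sq_of_fpf (nT.norm fI) hf2 (eq_bot_of_le (pT.inf_eq_bot
      ((isPi_of_card Nat.prime_two c2).compl_of_ne (by norm_num)))
      fun g hg => mem_inf.2 ⟨hg.1, CI g (nT.le hg.1) (mem_C1.1 hg.2)⟩) ht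
  have br : ∀ t ∈ zpowers t0, orderOf t = 5 → ((β * t) ^ 3 = 1 ∨ (β * (t * t)) ^ 3 = 1) ∧
      ((β * t) ^ 3 = 1 → t * t * (f * (β * t)) * f = β * (t * t * (f * (β * t))) ∧
      ((s * t) ^ 3 = 1 → ¬ ((r * t) ^ 5 = 1 ↔ (β * s * (r * (β * s) ^ 3) * (t * t)) ^ 5 = 1))) :=
    fun t ht o => by
      have := brute φ hφ (t := ⟨t, h7 (I7 (nT.le ht))⟩) (f := ⟨f, h7 hf7⟩) (r := ⟨r, h7 hr7⟩)
        (β := ⟨β, h7 hβ7⟩) (by rw [orderOf_mk, o]) (fun e => hf (congrArg Subtype.val e))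
        (Subtype.ext hf2) (Subtype.ext (inv t ht)) (Subtype.ext hr1) (Subtype.ext hr2)
        (Subtype.ext hr3)
      simp only [Subtype.ext_iff, coe_mul, coe_pow, coe_one] at this
      exact ⟨this.1, fun e => ⟨(this.2 e).1, (this.2 e).2 ⟨s, hsX⟩ hs hw⟩⟩
  obtain ⟨t, ht, o, h3⟩ : ∃ t ∈ zpowers t0, orderOf t = 5 ∧ (β * t) ^ 3 = 1 :=
    (br t0 (mem_zpowers _) o0).1.elim (fun e => ⟨t0, mem_zpowers _, o0, e⟩) fun e =>
      ⟨t0 * t0, mul_mem (mem_zpowers _) (mem_zpowers _), by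
        rw [← pow_two, (by rw [o0]; norm_num : (orderOf t0).Coprime 2).orderOf_pow, o0], e⟩
  obtain ⟨h4, h5⟩ := (br t ht o).2 h3
  have tI := nT.le ht
  have hmt := hmI t (I7 tI) ((memI t).1 tI).2
  have t5 : t ^ 5 = 1 := o ▸ pow_orderOf_eq_one t
  have hst : (s * t) ^ 3 = 1 := by
    have e : s * t = m * (β * t) * m⁻¹ := by
      calc _ = m * β * m⁻¹ * (t * m) * m⁻¹ := by rw [hmβ]; group
        _ = _ := by rw [← hmt]; group
    rw [e, conj_pow, h3, mul_one, mul_inv_cancel]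
  refine ⟨t, I7 tI, hmt, t5, ?_, hst, ?_⟩
  · have e : zpowers t = zpowers t0 :=
      eq_of_card_eq (zpowers_le_of_mem ht) (by rw [card_zpowers', card_zpowers', o, o0])
    have h6 := conj_mem xT ht
    rw [← e, inv_inv, mem_zpowers_iff_mem_range_orderOf, o, Finset.mem_image] at h6
    obtain ⟨j, hj, h6⟩ := h6
    have h8 : t ^ (j * j + 1) = 1 := by
      calc _ = x⁻¹ * (x⁻¹ * t * x) * x * t := by
            rw [pow_succ, pow_mul, ← h6, show x⁻¹ * t ^ j * x = (x⁻¹ * t * x⁻¹⁻¹) ^ j by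
              rw [conj_pow, inv_inv], inv_inv, ← h6]
        _ = (x * x)⁻¹ * (x * x)⁻¹ * ((x * x) * t * ((x * x) * t)) := by group
        _ = _ := by rw [hx2, inv t ht, ← mul_inv_rev, hf2]; simp
    rw [← orderOf_dvd_iff_pow_eq_one, o] at h8
    rw [Finset.mem_range] at hj
    interval_cases j <;> try omega
    · refine absurd ?_ (h5 hst)
      have e1 : β * s * (r * (β * s) ^ 3) * (t * t) = x⁻¹ * (r * t) * x⁻¹⁻¹ := by
        have e2 : (β * s) ^ 3 = (β * s)⁻¹ := by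
          rw [eq_inv_iff_mul_eq_one, ← pow_succ, show 3 + 1 = _ from h.ord_w.symm,
            pow_orderOf_eq_one]
        rw [e2, ← mul_assoc (β * s), ← hxr, ← pow_two, h6]; group
      rw [e1, conj_pow, conj_eq_one_iff]
    · rw [← h6, ← pow_add, t5]
  · have m1 : f ∈ closure ({f, β, t} : Set G) := subset_closure (by simp)
    have m2 : β ∈ closure ({f, β, t} : Set G) := subset_closure (by simp)
    have m3 : t ∈ closure ({f, β, t} : Set G) := subset_closure (by simp)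
    have t7 := I7 tI
    refine (mul_mem_cancel_left (inv_mem (mul_mem (mul_mem m3 m3) (mul_mem m1 (mul_mem m2 m3))))).1 ?_
    rcases hC7 _ (mul_mem (inv_mem (mul_mem (mul_mem t7 t7) (mul_mem hf7 (mul_mem hβ7 t7)))) hr7)
      (by
        obtain ⟨W, hW⟩ : ∃ W, W = t * t * (f * (β * t)) := ⟨_, rfl⟩
        rw [← hW] at h4 ⊢
        calc _ = W⁻¹ * (r * f * r⁻¹ * W) * W⁻¹ * r := by group
          _ = _ := by rw [hr1, ← h4]; group) with e | e | e | e <;> rw [e]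
    exacts [one_mem _, m1, m2, mul_mem m2 m1]

end H27.HN
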