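import Mathlib
import Cfsg.Agent.H8.HNB2

/-! The endgame of the HN recognition. -/

set_option autoImplicit false

namespace H8.HNB

variable {D : Type*} [Group D] [Finite D]
variable {V : Set D} {B : D → D → Prop} {S : Set (Subgroup D)} {P R : Subgroup D}

namespace Sys
variable (h : Sys V B S)
include h

theorem odd (hP : P ∈ S) (hR : R ∈ S) (ne : P ≠ R) {u v : D} (hu : u ∈ V) (uP : u ∈ P)
    (hv : v ∈ V) (vR : v ∈ R) : Odd (orderOf (u * v)) := by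
  rw [← Nat.not_even_iff_odd]
  intro he
  obtain ⟨k, h1, h2, h3, -⟩ := h.even_case hP hR hu uP hv vR he
  exact ne (h.TI hP hR h1 h2 h3)

theorem nonempty (hP : P ∈ S) : ∃ u, u ∈ V ∧ u ∈ P :=
  Set.nonempty_of_ncard_ne_zero (s := {v | v ∈ V ∧ v ∈ P}) (by rw [(h.good P hP).h60]; norm_num)

theorem no_norm (hP : P ∈ S) (hR : R ∈ S) (ne : R ≠ P) {a : D} (aR : a ∈ R)
    (aN : a ∈ Subgroup.normalizer (P : Set D)) : a = 1 := by
  by_contra a1
  have gR := h.good R hR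
  have gP := h.good P hP
  set A := R ⊓ Subgroup.normalizer (P : Set D) with hA
  obtain ⟨u0, u0V, u0P⟩ := h.nonempty hP
  have nV : ∀ c ∈ A, c ∉ V := fun c hc cV => by
    obtain ⟨w, hw, w1, -⟩ := swap_of_odd (h.V2 u0 u0V) (h.V2 c cV)
      (h.odd hP hR ne.symm u0V u0P cV hc.1)
    have : w ∈ Subgroup.normalizer (P : Set D) := (Subgroup.closure_le _).2 (by
      rintro _ (rfl | rfl)
      · exact Subgroup.le_normalizer u0P
      · exact hc.2) hw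
    exact ne (h.uniq c cV R hR P hP hc.1 (w1 ▸ (Subgroup.mem_normalizer_iff.1 this u0).1 u0P))
  have nc : ∀ c ∈ A, c ≠ 1 → ¬ ∀ v ∈ V, v ∈ R → ∀ v' ∈ V, v' ∈ R → B v c → B v' c := by
    intro c hc c1 hv
    have e := gR.h28 c hc.1 (nV c hc) c1
    obtain ⟨v, hv1, hv2, hv3⟩ := Set.nonempty_of_ncard_ne_zero
      (s := {v | v ∈ V ∧ v ∈ R ∧ B v c}) (by rw [e]; norm_num)
    have : {v | v ∈ V ∧ v ∈ R ∧ B v c} = {v | v ∈ V ∧ v ∈ R} := by
      ext x; exact ⟨fun e => ⟨e.1, e.2.1⟩, fun e => ⟨e.1, e.2, hv v hv1 hv2 x e.1 e.2 hv3⟩⟩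
    rw [this, gR.h60] at e
    omega
  have free : ∀ c ∈ A, ∀ u ∈ V, u ∈ P → c * u = u * c → c = 1 := by
    intro c hc u uV uP e
    by_contra c1
    exact nc c hc c1 fun v hv vR v' hv' vR' hb => h.O_const hR hP uV uP hc.1 e
      ⟨hv, vR, h.odd hR hP ne hv vR uV uP⟩ ⟨hv', vR', h.odd hR hP ne hv' vR' uV uP⟩ hb
  have hd : Nat.card A ∣ 60 := by
    letI : MulAction A {v | v ∈ V ∧ v ∈ P} :=
      { smul := fun c u => ⟨c * u * (c : D)⁻¹, h.Vc _ _ u.2.1,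
          (Subgroup.mem_normalizer_iff.1 c.2.2 u).1 u.2.2⟩
        one_smul := fun u => Subtype.ext (by
          show ((1 : A) : D) * u * ((1 : A) : D)⁻¹ = u
          simp)
        mul_smul := fun c d u => Subtype.ext (by
          show ((c * d : A) : D) * u * ((c * d : A) : D)⁻¹ = c * (d * u * (d : D)⁻¹) * (c : D)⁻¹
          simp [mul_assoc]) }
    have e := MulAction.selfEquivOrbitsQuotientProd (G := A) (X := {v | v ∈ V ∧ v ∈ P}) (fun u => by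
      rw [eq_bot_iff]
      intro c hc
      have h1 : (c : D) * u * (c : D)⁻¹ = u := congrArg Subtype.val hc
      exact Subtype.ext (free c c.2 u u.2.1 u.2.2 (mul_inv_eq_iff_eq_mul.1 h1)))
    rw [← gP.h60, ← Nat.card_coe_set_eq, Nat.card_congr e, Nat.card_prod]
    exact Dvd.intro_left _ rfl
  have hd2 : Nat.card A ∣ 256 := gR.card ▸ Subgroup.card_dvd_of_le inf_le_left
  have h4 : Nat.card A ≤ 4 := Nat.le_of_dvd (by norm_num) (Nat.dvd_gcd hd hd2)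
  have B1 : ∀ v ∈ R, B v 1 := fun v hv => by
    have := gR.hBm v hv 1 R.one_mem 1 R.one_mem
    rw [one_mul] at this; exact this.2 Iff.rfl
  have aA : a ∈ A := ⟨aR, aN⟩
  obtain ⟨v, vV, vR, hv⟩ : ∃ v ∈ V, v ∈ R ∧ ∀ c ∈ A, B v c := by
    by_cases hb : ∃ b ∈ A, b ≠ 1 ∧ b ≠ a
    · obtain ⟨b, bA, b1, ba⟩ := hb
      have ab1 : a * b ≠ 1 := fun e => ba (by
        rw [eq_inv_of_mul_eq_one_right e, H6.inv_eq_of_mul_self (gR.sq a aR)])
      obtain ⟨f1, -⟩ := gR.levels aR bA.1 (nV a aA) (nV b bA) (nV _ (A.mul_mem aA bA)) a1 b1 ab1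
      obtain ⟨v, h1, h2, h3, h5⟩ := Set.nonempty_of_ncard_ne_zero
        (s := {v | v ∈ V ∧ v ∈ R ∧ B v a ∧ B v b}) (by rw [f1]; norm_num)
      refine ⟨v, h1, h2, fun c hc => ?_⟩
      have hs : ({1, a, b, a * b} : Set D) = A := by
        refine Set.eq_of_subset_of_ncard_le ?_ ?_ (Set.toFinite _)
        · rintro _ (rfl | rfl | rfl | rfl)
          exacts [A.one_mem, aA, bA, A.mul_mem aA bA]
        · rw [← Nat.card_coe_set_eq (A : Set D)]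
          refine h4.trans_eq (Set.ncard_eq_four.2 ⟨1, a, b, a * b, Ne.symm a1, b1.symm, ab1.symm,
            ba.symm, fun e => b1 (by simpa using e), fun e => a1 (by simpa using e), rfl⟩).symm
      have hc' : c ∈ ({1, a, b, a * b} : Set D) := hs ▸ hc
      rcases hc' with rfl | rfl | rfl | rfl
      · exact B1 v h2
      · exact h3
      · exact h5
      · exact (gR.hBm v h2 a aR b bA.1).2 (iff_of_true h3 h5)
    · push Not at hb
      obtain ⟨v, h1, h2, h3⟩ := Set.nonempty_of_ncard_ne_zero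
        (s := {v | v ∈ V ∧ v ∈ R ∧ B v a}) (by rw [gR.h28 a aR (nV a aA) a1]; norm_num)
      refine ⟨v, h1, h2, fun c hc => ?_⟩
      by_cases c1 : c = 1
      · exact c1 ▸ B1 v h2
      · exact hb c hc c1 ▸ h3
  refine nc a aA a1 fun _ _ _ v' hv' vR' _ => ?_
  obtain ⟨g, g1, g2, g3, -⟩ := h.odd_case hR hP vV vR hv' vR' u0V u0P
    (h.odd hR hP ne vV vR u0V u0P) (h.odd hR hP ne hv' vR' u0V u0P)
  have := h.Bc g _ _ (hv (g⁻¹ * a * g) ⟨mem_cj.1 (g2.symm ▸ aR), Subgroup.mul_mem _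
    (Subgroup.mul_mem _ (Subgroup.inv_mem _ (cj_eq_iff.1 g3)) aN) (cj_eq_iff.1 g3)⟩)
  rw [g1] at this
  simpa [mul_assoc] using this

theorem unique (hP : P ∈ S) (hR : R ∈ S) : P = R := by
  by_contra ne
  have gR := h.good R hR
  obtain ⟨u, uV, uP⟩ := h.nonempty hP
  obtain ⟨b, bR, b1, bV⟩ : ∃ b ∈ R, b ≠ 1 ∧ b ∉ V := by
    by_contra hc
    push Not at hc
    have h1 : {k | k ∈ R ∧ k ≠ 1}.ncard ≤ {v | v ∈ V ∧ v ∈ R}.ncard :=
      Set.ncard_le_ncard (fun k hk => ⟨hc k hk.1 hk.2, hk.1⟩) (Set.toFinite _)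
    have h2 := ncard_sharp R
    rw [gR.h60] at h1
    rw [gR.card] at h2
    omega
  have u2 := h.V2 u uV
  have b2 := gR.sq b bR
  have he : Even (orderOf (u * b)) := by
    rw [← Nat.not_odd_iff_even]
    exact fun ho => bV (h.Vconj uV (H6.isConj_of_odd u2 b2 ho))
  obtain ⟨k, k1, ku, kb, h1, -⟩ := cent_of_even u2 b2 he
  have kR : k ∈ Subgroup.normalizer (R : Set D) := cj_eq_iff.1
    (h.TI (h.Sc k R hR) hR (by rw [mem_cj, mul_assoc, ← kb]; simpa using bR) bR b1)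
  have kN : k ∈ Subgroup.normalizer (P : Set D) := cj_eq_iff.1
    (h.cj_eq hP hP uV uP uP (by rw [ku]; group))
  have kP : k * u ∈ P := by
    rcases h1 with h1 | h1
    · exact h.comm u uV _ (h.Vconj uV h1) P hP uP (by rw [← mul_assoc, ← ku])
    · obtain ⟨g, hg⟩ := isConj_iff.1 h1
      have m : k * u ∈ cj g R := hg ▸ conj_mem_cj.2 bR
      by_cases e : cj g R = P
      · exact e ▸ m
      · have := h.no_norm hP (h.Sc g R hR) e m
          (Subgroup.mul_mem _ kN (Subgroup.le_normalizer uP))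
        rw [this]; exact P.one_mem
  exact k1 (h.no_norm hR hP ne ((P.mul_mem_cancel_right uP).1 kP) kR)

end Sys

end H8.HNB

namespace H27.HN

open H8.HNB

theorem endgame {D : Type*} [Group D] [Finite D] (V : Set D) (Q : Subgroup D) (f : D)
    (B : D → D → Prop)
    (hV : ∀ v, v ∈ V ↔ IsConj f v) (hf2 : orderOf f = 2) (hfQ : f ∈ Q)
    (hQ2 : ∀ q ∈ Q, q * q = 1) (hQc : Nat.card Q = 256)
    (hC : ∀ g, g * f = f * g → ∀ q ∈ Q, g * q * g⁻¹ ∈ Q)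
    (hVC : ∀ v ∈ V, v * f = f * v → v ∈ Q)
    (hT : ∀ v ∈ V, v ∈ Q → ∃ g, (∀ q ∈ Q, g * q * g⁻¹ ∈ Q) ∧ g * f * g⁻¹ = v)
    (h60 : {v | v ∈ V ∧ v ∈ Q}.ncard = 60)
    (hm : ∀ k ∈ Q, k ∉ V → k ≠ 1 → {v | v ∈ V ∧ v ∈ Q ∧ v * k ∈ V}.ncard ≤ 12)
    (hBc : ∀ g a b, B a b → B (g * a * g⁻¹) (g * b * g⁻¹))
    (hBm : ∀ v ∈ Q, ∀ k ∈ Q, ∀ k' ∈ Q, B v (k * k') ↔ (B v k ↔ B v k'))
    (h28 : ∀ k ∈ Q, k ∉ V → k ≠ 1 → {v | v ∈ V ∧ v ∈ Q ∧ B v k}.ncard = 28) :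
    ∀ v ∈ V, v ∈ Q := by
  have Vc : ∀ g, ∀ v ∈ V, g * v * g⁻¹ ∈ V := fun g v hv =>
    (hV _).2 (((hV v).1 hv).trans (isConj_iff.2 ⟨g, rfl⟩))
  have nm : ∀ g, (∀ q ∈ Q, g * q * g⁻¹ ∈ Q) → cj g Q = Q := fun g hg =>
    cj_eq_iff.2 (Subgroup.mem_normalizer_fintype hg)
  have key : ∀ v ∈ V, ∀ g, v ∈ cj g Q → ∃ x, x * f * x⁻¹ = v ∧ cj x Q = cj g Q := by
    intro v hv g hg
    obtain ⟨n, h1, h2⟩ := hT _ (by simpa using Vc g⁻¹ v hv) (mem_cj.1 hg)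
    refine ⟨g * n, ?_, by rw [← cj_cj, nm n h1]⟩
    calc g * n * f * (g * n)⁻¹ = g * (n * f * n⁻¹) * g⁻¹ := by group
      _ = v := by rw [h2]; group
  have h : Sys V B (Set.range fun g => cj g Q) := by
    refine ⟨fun v hv => ?_, fun e => ?_, Vc, hBc, ?_, ?_, ?_, ?_⟩
    · exact H6.mul_self_of_orderOf_two ((H6.orderOf_of_isConj ((hV v).1 hv)).symm.trans hf2)
    · have := H6.orderOf_of_isConj ((hV 1).1 e)
      rw [hf2, orderOf_one] at this; omega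
    · rintro g _ ⟨x, rfl⟩; exact ⟨g * x, (cj_cj g x Q).symm⟩
    · rintro _ ⟨x, rfl⟩; exact Good.cj ⟨hQ2, hQc, h60, hm, hBm, h28⟩ Vc hBc x
    · rintro v hv _ ⟨g, rfl⟩ _ ⟨g', rfl⟩ h1 h2
      obtain ⟨x, x1, x2⟩ := key v hv g h1
      obtain ⟨y, y1, y2⟩ := key v hv g' h2
      simp only
      rw [← x2, ← y2, show x = y * (y⁻¹ * x) by group, ← cj_cj, nm _ (hC _ ?_)]
      calc y⁻¹ * x * f = y⁻¹ * (x * f * x⁻¹) * x := by group
        _ = _ := by rw [x1, ← y1]; group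
    · rintro v hv w hw _ ⟨g, rfl⟩ h1 h2
      obtain ⟨x, x1, x2⟩ := key v hv g h1
      simp only
      rw [← x2, mem_cj]
      refine hVC _ (by simpa using Vc x⁻¹ w hw) ?_
      calc x⁻¹ * w * x * f = x⁻¹ * (w * (x * f * x⁻¹)) * x := by group
        _ = _ := by rw [x1, h2, ← x1]; group
  intro v hv
  obtain ⟨g, rfl⟩ := isConj_iff.1 ((hV v).1 hv)
  have e : cj g Q = cj 1 Q := h.unique ⟨g, rfl⟩ ⟨1, rfl⟩
  have := conj_mem_cj (g := g).2 hfQ
  rw [e, mem_cj] at this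
  simpa using this

end H27.HN
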