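import Mathlib
import Cfsg.Agent.H6.Dihedral
import Cfsg.Agent.H24.Base1

/-! HN recognition: a pure four-group is normal. -/

set_option autoImplicit false

namespace H18.HNA

open H24 Subgroup

variable {H : Type*} [Group H]

theorem refl_conj {x y : H} (hx : x * x = 1) (hy : y * y = 1) (n : ℤ) :
    IsConj x (x * (x * y) ^ n) ∨ IsConj y (x * (x * y) ^ n) := by
  obtain ⟨j, rfl | rfl⟩ := Int.even_or_odd' n
  · obtain ⟨d, -, e⟩ := (H6.exists_conj_left_iff hx hy).2 ⟨j, rfl⟩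
    exact Or.inl (isConj_iff.2 ⟨d, e⟩)
  · obtain ⟨d, -, e⟩ := (H6.exists_conj_left_iff hy hx).2 ⟨-j, rfl⟩
    refine Or.inr (isConj_iff.2 ⟨d, e.trans ?_⟩)
    have e1 : y * x = (x * y)⁻¹ := by
      rw [mul_inv_rev, H6.inv_eq_of_mul_self hx, H6.inv_eq_of_mul_self hy]
    rw [e1, inv_zpow', add_comm, zpow_add, zpow_one, ← mul_assoc, ← mul_assoc, hx, one_mul]
    congr 2; ring

/-- the central involution of a dihedral group -/
theorem exists_central [Finite H] {x y : H} (hx : x * x = 1) (hy : y * y = 1)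
    (he : ¬ Odd (orderOf (x * y))) : ∃ k, k * k = 1 ∧ k ≠ 1 ∧ k * x = x * k ∧ k * y = y * k ∧
      (IsConj x (x * k) ∨ IsConj y (x * k)) := by
  obtain ⟨h1, h2, h3⟩ := H6.central_involution hx hy (Nat.not_odd_iff_even.1 he)
  refine ⟨_, H6.mul_self_of_orderOf_two h1, H6.ne_one_of_orderOf_two h1, h2, h3, ?_⟩
  simpa only [zpow_natCast] using refl_conj hx hy (orderOf (x * y) / 2 : ℕ)

end H18.HNA

namespace H27.HN

open H24 Subgroup H18.HNA

theorem four_normal {H : Type*} [Group H] [Finite H] (V : Set H) {a b β τ : H}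
    (hV : ∀ v, v ∈ V ↔ IsConj a v) (ha : orderOf a = 2) (hb : b ∈ V) (hab : a * b ∈ V)
    (hc : a * b = b * a)
    (hVC : ∀ v ∈ V, v * a = a * v → v = a ∨ v = b ∨ v = a * b)
    (hβa : β * a = a * β) (hβb : β * b = b * β)
    (hN : ∀ g, g * a * g⁻¹ ∈ Subgroup.closure {a, b} → g * b * g⁻¹ ∈ Subgroup.closure {a, b} →
      g * β * g⁻¹ * β⁻¹ ∈ Subgroup.closure {a, b})
    (hinv : ∀ w, w * w = 1 → w * a = a * w → w * b = b * w)
    (hF : ∀ w, w * w = 1 → w * a = a * w → w * β = β * w → w ∈ Subgroup.closure {a, b} ∨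
      β⁻¹ * w ∈ Subgroup.closure {a, b})
    (hτ2 : τ * τ = 1) (hτV : τ ∉ V) (hτa : τ * a = a * τ) (hτβ : τ * β ≠ β * τ) :
    ∀ v ∈ V, v = a ∨ v = b ∨ v = a * b := by
  obtain ⟨E, hE⟩ : ∃ E, E = closure ({a, b} : Set H) := ⟨_, rfl⟩
  rw [← hE] at hN hF
  have ord : ∀ v ∈ V, orderOf v = 2 := fun v hv => H6.orderOf_of_isConj ((hV v).1 hv) ▸ ha
  have sq : ∀ v ∈ V, v * v = 1 := fun v hv => H6.mul_self_of_orderOf_two (ord v hv)
  have ne : ∀ v ∈ V, v ≠ 1 := fun v hv => H6.ne_one_of_orderOf_two (ord v hv)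
  have haV : a ∈ V := (hV a).2 (IsConj.refl a)
  have cjV : ∀ v ∈ V, ∀ w, IsConj v w → w ∈ V := fun v hv w e => (hV w).2 (((hV v).1 hv).trans e)
  have cj' : ∀ v ∈ V, ∀ g, g * v * g⁻¹ ∈ V := fun v hv g => cjV v hv _ (isConj_iff.2 ⟨g, rfl⟩)
  have aE : a ∈ E := hE ▸ subset_closure (by simp)
  have bE : b ∈ E := hE ▸ subset_closure (by simp)
  have centE : ∀ w, w * a = a * w → w * b = b * w → w ∈ C[E] := fun w h1 h2 => by
    rw [mem_C_iff_le_C1, hE, closure_le]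
    rintro z (rfl | rfl)
    · exact mem_C1.2 h1.symm
    · exact mem_C1.2 h2.symm
  have Eab : E ≤ C[E] := by
    conv_lhs => rw [hE]
    rw [closure_le]
    rintro z (rfl | rfl)
    · exact centE _ rfl hc
    · exact centE _ hc.symm rfl
  have memE : ∀ z ∈ E, z = 1 ∨ z = a ∨ z = b ∨ z = a * b := fun z hz => by
    rw [hE] at hz
    have a2 := sq a haV
    have b2 := sq b hb
    induction hz using closure_induction'' with
    | mem x hx => rcases hx with rfl | rfl <;> simp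
    | inv_mem x hx =>
      rcases hx with rfl | rfl
      · simp [H6.inv_eq_of_mul_self a2]
      · simp [H6.inv_eq_of_mul_self b2]
    | one => simp
    | mul x y _ _ hx hy =>
      have e1 : a * (a * b) = b := by rw [← mul_assoc, a2, one_mul]
      have e2 : b * (a * b) = a := by rw [hc, ← mul_assoc, b2, one_mul]
      have e3 : a * b * a = b := by rw [hc, mul_assoc, a2, mul_one]
      have e4 : a * b * b = a := by rw [mul_assoc, b2, mul_one]
      rcases hx with rfl | rfl | rfl | rfl <;> rcases hy with rfl | rfl | rfl | rfl <;>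
        simp [a2, b2, e1, e2, e3, e4, sq _ hab, ← hc]
  have EV : ∀ z ∈ E, z ≠ 1 → z ∈ V := fun z hz h1 => by
    rcases memE z hz with rfl | rfl | rfl | rfl
    exacts [absurd rfl h1, haV, hb, hab]
  have VE : ∀ v ∈ V, v * a = a * v → v ∈ E := fun v hv e => by
    rcases hVC v hv e with rfl | rfl | rfl
    exacts [aE, bE, mul_mem aE bE]
  have pull : ∀ g w : H, w * (g * a * g⁻¹) = (g * a * g⁻¹) * w →
      (g⁻¹ * w * g⁻¹⁻¹) * a = a * (g⁻¹ * w * g⁻¹⁻¹) := fun g w e => by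
    calc _ = g⁻¹ * (w * (g * a * g⁻¹)) * g := by group
      _ = _ := by rw [e]; group
  have N1 : ∀ g, g * a * g⁻¹ ∈ E → g ∈ N[E] := fun g hg => by
    refine mem_N_of_le_cj fun z hz => mem_cj.2 ?_
    by_cases h1 : z = 1
    · simp [h1]
    · simpa using VE _ (cj' z (EV z hz h1) g⁻¹) (pull g z (mem_C'.1 (Eab hz) _ hg))
  have C1 : ∀ v ∈ V, v ∈ E → ∀ w ∈ V, w * v = v * w → w ∈ E := fun v hv hE w hw e => by
    obtain ⟨g, rfl⟩ := isConj_iff.1 ((hV v).1 hv)
    exact (conj_mem_iff (inv_mem (N1 g hE))).1 (VE _ (cj' w hw _) (pull g w e))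
  have I1 : ∀ v ∈ V, v ∈ E → ∀ w, w * w = 1 → w * v = v * w → w ∈ C[E] := fun v hv hE w hw e => by
    obtain ⟨g, rfl⟩ := isConj_iff.1 ((hV v).1 hv)
    refine (conj_mem_iff (N_le_NC E (inv_mem (N1 g hE)))).1 (centE _ (pull g w e)
      (hinv _ ?_ (pull g w e)))
    calc _ = g⁻¹ * (w * w) * g := by group
      _ = _ := by rw [hw]; group
  have odd : ∀ v ∈ V, v ∈ E → ∀ v' ∈ V, v' ∉ E → Odd (orderOf (v * v')) :=
    fun v hv hE v' hv' h' => by
      by_contra e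
      obtain ⟨k, -, h1, h2, h3, h4⟩ := exists_central (sq v hv) (sq v' hv') e
      have h5 : k ∈ E := (mul_mem_cancel_left hE).1 (C1 v hv hE _
        (h4.elim (cjV v hv _) (cjV v' hv' _)) (by rw [mul_assoc, h2]))
      exact h' (C1 k (EV k h5 h1) h5 v' hv' h3.symm)
  have two : ∀ q ∈ C[E], ∀ v' ∈ V, v' ∉ E → q * v' = v' * q → q * β = β * q :=
    fun q hq v' hv' h' e => by
      by_contra h0
      have hy := hN q ((conj_eq_of_mem_C hq aE).symm ▸ aE) ((conj_eq_of_mem_C hq bE).symm ▸ bE)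
      obtain ⟨y, hy'⟩ : ∃ y, y = q * β * q⁻¹ * β⁻¹ := ⟨_, rfl⟩
      rw [← hy'] at hy
      have hyV := EV y hy fun e => h0 (by
        calc q * β = (q * β * q⁻¹ * β⁻¹) * (β * q) := by group
          _ = _ := by rw [← hy', e, one_mul])
      obtain ⟨z, hz, hzV, hne⟩ : ∃ z ∈ E, z ∈ V ∧ z ≠ y := by
        by_cases h1 : a = y
        · exact ⟨a * b, mul_mem aE bE, hab, fun e => ne b hb (by simpa [← h1] using e)⟩
        · exact ⟨a, aE, haV, h1⟩
      have aux : ∀ v ∈ V, v ∈ E → ∃ d ∈ C{q}, d * v * d⁻¹ = v' := fun v hv hE => by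
        obtain ⟨d, hd, h1⟩ := H6.exists_conj_of_odd (sq v hv) (sq v' hv') (odd v hv hE v' hv' h')
        refine ⟨d, (closure_le _).2 ?_ hd, h1⟩
        rintro w (rfl | rfl)
        · exact mem_C1.2 (mem_C.1 hq _ hE)
        · exact mem_C1.2 e.symm
      obtain ⟨d1, hd1, e1⟩ := aux y hyV hy
      obtain ⟨d2, hd2, e2⟩ := aux z hzV hz
      obtain ⟨g, hg⟩ : ∃ g, g = d2⁻¹ * d1 := ⟨_, rfl⟩
      have hgq : g * q * g⁻¹ = q := mem_C1_iff_conj.1 (hg ▸ mul_mem (inv_mem hd2) hd1)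
      have e3 : g * y * g⁻¹ = z := by
        calc _ = d2⁻¹ * (d1 * y * d1⁻¹) * d2 := by rw [hg]; group
          _ = _ := by rw [e1, ← e2]; group
      have hgN : g ∈ N[E] := by
        obtain ⟨u, hu⟩ := isConj_iff.1 ((hV y).1 hyV)
        refine (mul_mem_cancel_right (N1 u (hu ▸ hy))).1 (N1 _ ?_)
        rw [show g * u * a * (g * u)⁻¹ = g * (u * a * u⁻¹) * g⁻¹ by group, hu, e3]
        exact hz
      have h1 := hN g (conj_mem hgN aE) (conj_mem hgN bE)
      obtain ⟨w, hw⟩ : ∃ w, w = g * β * g⁻¹ * β⁻¹ := ⟨_, rfl⟩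
      rw [← hw] at h1
      refine hne ?_
      calc z = (g * q * g⁻¹) * (w * β) * (g * q * g⁻¹)⁻¹ * (w * β)⁻¹ := by
            rw [← e3, hy', hw]; group
        _ = (q * w * q⁻¹) * y * w⁻¹ := by rw [hgq, hy']; group
        _ = _ := by rw [conj_eq_of_mem_C hq h1, conj_eq_of_mem_C (Eab h1) hy]
  have hτ := I1 a haV aE τ hτ2 hτa
  intro v hv
  by_contra h0
  have hvE : v ∉ E := fun e => h0 ((memE v e).resolve_left (ne v hv))
  obtain ⟨k, hk, h1, h2, h3, -⟩ := exists_central hτ2 (sq v hv) fun e =>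
    hτV (cjV v hv τ (H6.isConj_of_odd hτ2 (sq v hv) e).symm)
  have h4 : k * a * k⁻¹ ∈ E := by
    by_contra e
    refine hτβ (two τ hτ _ (cj' a haV k) e ?_)
    calc _ = (τ * k) * a * k⁻¹ := by group
      _ = k * (a * τ) * k⁻¹ := by rw [← h2, ← hτa]; group
      _ = k * a * k⁻¹ * (k * τ) * k⁻¹ := by group
      _ = _ := by rw [h2]; group
  have h5 : k ∈ C[E] := by
    have e1 := H6.inv_eq_of_mul_self hk
    by_cases e : a * (k * a * k⁻¹) = 1
    · refine I1 a haV aE k hk ?_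
      calc k * a = a⁻¹ * (a * (k * a * k⁻¹)) * k := by group
        _ = _ := by rw [e, H6.inv_eq_of_mul_self (sq a haV), mul_one]
    · refine I1 _ (EV _ (mul_mem aE h4) e) (mul_mem aE h4) k hk ?_
      calc _ = (k * a * k⁻¹) * ((k * k) * a) * k⁻¹ := by group
        _ = (k * a * k⁻¹) * a * k := by rw [hk, one_mul, e1]
        _ = _ := by rw [mem_C'.1 (Eab h4) a aE]
  rcases hF k hk (mem_C'.1 h5 a aE) (two k h5 v hv hvE h3) with e | e
  · exact hvE (C1 k (EV k e h1) e v hv h3.symm)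
  · refine hτβ ?_
    have e1 := mem_C'.1 hτ _ (inv_mem e)
    calc τ * β = (τ * k) * (β⁻¹ * k)⁻¹ := by group
      _ = k * (τ * (β⁻¹ * k)⁻¹) := by rw [← h2]; group
      _ = _ := by rw [e1]; group

end H27.HN
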