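import Mathlib
import Cfsg.Agent.H15.KM
import Cfsg.Agent.H27.HNB
import Cfsg.Agent.H27.HNA
import Cfsg.Agent.H18.HND3

/-! HN recognition: `G = G1` and two classes of involutions. -/

set_option autoImplicit false

namespace H18.HND.H8

open Subgroup H18.HNA

variable {G : Type*} [Group G] [Finite G]
variable {G1 : Subgroup G} {c : ℕ → G} {f e w1 w2 : G} (h : H8 G1 c f e w1 w2)
include h

theorem ce_le {g : G} (hg : g * e = e * g) : g ∈ G1 := by
  have hv := h.toHy.fV.conj hg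
  obtain ⟨k, hk, h1⟩ : ∃ k ∈ G1, k * (g * f * g⁻¹) * k⁻¹ = f := by
    rcases me_iff.1 (h.F8.Sub_conj (h.main hv) (h.RQ h.toHy.fR)) with h1 | h1
    · exact h.toHy.B0 hv.2.1 (comm_of_conj h1)
    · obtain ⟨y, hy, yV, -, vy⟩ := h.fixY hv.1 (h.toHy.Vsq hv.2.1) h1
      obtain ⟨a, ha, h2⟩ := h.toHy.B0 yV.2.1 (h.toHy.Rf hy)
      obtain ⟨b, hb, h3⟩ := h.toHy.B0 (isConj_conj a hv.2.1) (by have := comm_conj a vy; rwa [h2] at this)
      exact ⟨b * a, mul_mem hb ha, Eq.trans (by group) h3⟩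
  exact (mul_mem_cancel_left hk).1 (h.hK _ (comm_of_conj (Eq.trans (by group) h1)))

omit [Finite G] h in
theorem even_of {x y : G} (hx : x * x = 1) (hy : y * y = 1) (hxy : ¬ IsConj x y) :
    ¬ Odd (orderOf (x * y)) := fun ho => by
  obtain ⟨w, -, h1, -⟩ := H8.HNB.swap_of_odd hx hy ho
  exact hxy (isConj_iff.2 ⟨w, h1⟩)

theorem eq_top [IsSimpleGroup G] : G1 = ⊤ := by
  have A : ∀ g, g * e * g⁻¹ ∈ G1 := by
    intro g
    have h1 : g * e * g⁻¹ * (g * e * g⁻¹) = 1 := sq_of_conj h.toHy.e2 (isConj_iff.2 ⟨g, rfl⟩)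
    obtain ⟨k, k2, k1, kf, ke, -⟩ := exists_central h.toHy.f2 h1
      (even_of h.toHy.f2 h1 fun hh => h.fe (hh.trans (isConj_iff.2 ⟨g, rfl⟩).symm))
    obtain ⟨a, ha, h2⟩ := h.hcl k kf k2 k1
    have h3 : a * (g * e * g⁻¹) * a⁻¹ ∈ G1 := by
      rcases h2 with h2 | h2
      · exact h.hK _ (h2 ▸ comm_conj a ke.symm)
      · exact h.ce_le (by have := comm_conj a ke.symm; rwa [h2] at this)
    exact (mul_mem_cancel_left ha).1 ((mul_mem_cancel_right (inv_mem ha)).1 h3)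
  rcases (normalCore_normal G1).eq_bot_or_eq_top with h1 | h1
  · have : e ∈ G1.normalCore := A
    rw [h1] at this
    exact absurd this h.F.e1
  · exact eq_top_iff.2 (h1 ▸ normalCore_le G1)

theorem classes {z : G} (hz : orderOf z = 2) : IsConj z f ∨ IsConj z e := by
  by_contra hc
  rw [not_or] at hc
  have e2 := h.toHy.e2
  have z2 : z * z = 1 := by rw [← pow_two, ← hz, pow_orderOf_eq_one]
  have z1 : z ≠ 1 := by rintro rfl; simp at hz
  have cls : ∀ u v, IsConj f v → u * v = v * u → u * u = 1 → u ≠ 1 → IsConj u f ∨ IsConj u e := by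
    intro u v hv huv u2 u1
    obtain ⟨g, hg⟩ := isConj_iff.1 hv.symm
    have hu : IsConj u (g * u * g⁻¹) := isConj_iff.2 ⟨g, rfl⟩
    obtain ⟨a, -, h1 | h1⟩ := h.hcl _ (hg ▸ comm_conj g huv) (sq_of_conj u2 hu) (ne_one_of_conj u1 hu)
    · exact Or.inl (h1 ▸ isConj_conj a hu)
    · exact Or.inr (h1 ▸ isConj_conj a hu)
  have N0 : ∀ x v, IsConj z x → IsConj f v → x * v ≠ v * x := fun x v hx hv hh =>
    (cls x v hv hh (sq_of_conj z2 hx) (ne_one_of_conj z1 hx)).elim (fun h1 => hc.1 (hx.trans h1))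
      fun h1 => hc.2 (hx.trans h1)
  have N1 : ∀ x v, IsConj z x → VV f e v → x * e = e * x → x * v * x⁻¹ ≠ v * e := by
    intro x v hx hv xe hh
    obtain ⟨g, hg, h1⟩ := h.toHy.B1 hv
    obtain ⟨y, -, yV, -, h2⟩ := h.fixY (conj_comm_e hg xe) (sq_of_conj z2 (isConj_conj g hx)) (by
      calc _ = g * (x * (g⁻¹ * f * g) * x⁻¹) * g⁻¹ := by group
        _ = g * (x * v * x⁻¹) * g⁻¹ := by rw [← h1]; group
        _ = g * v * g⁻¹ * (g * e * g⁻¹) := by rw [hh]; group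
        _ = _ := by rw [h1, conj_eq hg])
    exact N0 _ y (isConj_conj g hx) yV.2.1 h2
  have N2 : ∀ x u, IsConj z x → IsConj f u → u * (x * u * x⁻¹) ≠ x * u * x⁻¹ * u := by
    intro x u hx hu hh
    have x2 := sq_of_conj z2 hx
    have u2 := h.toHy.Vsq hu
    have u'2 := h.toHy.Vsq (isConj_conj x hu)
    have ku : u * (x * u * x⁻¹) * u = u * (u * (x * u * x⁻¹)) := by rw [mul_assoc, ← hh]
    have kx : x * (u * (x * u * x⁻¹)) * x⁻¹ = u * (x * u * x⁻¹) := by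
      calc _ = x * u * x⁻¹ * ((x * x) * u * (x * x)⁻¹) := by group
        _ = _ := by rw [x2, hh]; group
    have k2 : u * (x * u * x⁻¹) * (u * (x * u * x⁻¹)) = 1 := by
      rw [← mul_assoc, ku, ← mul_assoc u u, u2, one_mul, u'2]
    have k1 : u * (x * u * x⁻¹) ≠ 1 := fun h1 => N0 x u hx hu (comm_of_conj (by
      rw [eq_inv_of_mul_eq_one_right h1, ← eq_inv_of_mul_eq_one_right u2]))
    rcases cls _ u hu ku k2 k1 with h1 | h1
    · exact N0 x _ hx h1.symm (comm_of_conj kx)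
    obtain ⟨a, ha⟩ := isConj_iff.1 h1
    have uk : u * (u * (x * u * x⁻¹)) = x * u * x⁻¹ := by rw [← mul_assoc, u2, one_mul]
    have h2 : a * u * a⁻¹ * e = a * (x * u * x⁻¹) * a⁻¹ := by
      conv_rhs => rw [← uk]
      rw [← ha]; group
    refine N1 (a * x * a⁻¹) (a * u * a⁻¹) (isConj_conj a hx) ⟨ha ▸ comm_conj a ku.symm, isConj_conj a hu,
      h2 ▸ isConj_conj a (isConj_conj x hu)⟩ (ha ▸ comm_conj a (comm_of_conj kx)) ?_
    rw [h2]; group
  obtain ⟨k, k2, k1, kz, kf, -⟩ := exists_central z2 h.toHy.f2 (even_of z2 h.toHy.f2 hc.1)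
  rcases cls k f (IsConj.refl f) kf k2 k1 with h1 | h1
  · exact N0 z k (IsConj.refl z) h1.symm kz.symm
  obtain ⟨a, ha⟩ := isConj_iff.1 h1
  obtain ⟨x, hx, xe⟩ : ∃ x, IsConj z x ∧ x * e = e * x :=
    ⟨a * z * a⁻¹, isConj_iff.2 ⟨a, rfl⟩, ha ▸ comm_conj a kz.symm⟩
  have x2 := sq_of_conj z2 hx
  have yV := h.toHy.cV (i := 0) (by norm_num)
  have fV := h.toHy.fV
  obtain ⟨y, hy⟩ : ∃ y, y = c 0 := ⟨_, rfl⟩
  have yfV := h.toHy.yfV
  rw [← hy] at yV yfV
  have nc : ∀ u v, VV f e u → VV f e v → u * v ≠ v * u → u * v = v * u * e := fun u v hu hv hh =>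
    (me_iff.1 (h.F8.Sub_comm (h.main hu) (h.main hv))).resolve_left hh
  have a1 := nc _ _ fV (fV.conj xe) (N2 x f hx fV.2.1)
  have a2 := nc _ _ yV (yV.conj xe) (N2 x y hx yV.2.1)
  obtain ⟨u, hu⟩ : ∃ u, u = x * f * x⁻¹ := ⟨_, rfl⟩
  obtain ⟨w, hw⟩ : ∃ w, w = x * y * x⁻¹ := ⟨_, rfl⟩
  have uV : VV f e u := hu ▸ fV.conj xe
  have wV : VV f e w := hw ▸ yV.conj xe
  have b1 : f * w = w * f ↔ y * u = u * y := by
    have i1 : x * u * x⁻¹ = f := by
      calc _ = (x * x) * f * (x * x)⁻¹ := by rw [hu]; group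
        _ = f := by rw [x2]; group
    have i2 : x * w * x⁻¹ = y := by
      calc _ = (x * x) * y * (x * x)⁻¹ := by rw [hw]; group
        _ = y := by rw [x2]; group
    constructor
    · intro hh
      have := comm_conj x hh
      rw [i2, ← hu] at this
      exact this.symm
    · intro hh
      have := comm_conj x hh
      rw [i1, ← hw] at this
      exact this.symm
  apply N2 x (y * f) hx yfV.2.1
  rw [show x * (y * f) * x⁻¹ = w * u by rw [hu, hw]; group]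
  rw [← hu] at a1
  rw [← hw] at a2
  have ue := uV.1
  have fe := fV.1
  by_cases b2 : f * w = w * f
  · calc y * f * (w * u) = y * (f * w) * u := by group
      _ = (y * w) * (f * u) := by rw [b2]; group
      _ = w * y * (e * u) * (f * e) := by rw [a1, a2]; group
      _ = w * (y * u) * (e * e) * f := by rw [← ue, fe]; group
      _ = _ := by rw [b1.1 b2, e2]; group
  · have b3 := nc _ _ fV wV b2
    have b4 := nc _ _ yV uV (mt b1.2 b2)
    calc y * f * (w * u) = y * (f * w) * u := by group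
      _ = (y * w) * f * (e * u) := by rw [b3]; group
      _ = (y * w) * (f * u) * e := by rw [← ue]; group
      _ = w * y * (e * u) * (f * (e * e)) := by rw [a1, a2]; group
      _ = w * (y * u) * e * f := by rw [← ue, e2]; group
      _ = w * u * y * (e * e) * f := by rw [b4]; group
      _ = _ := by rw [e2]; group

end H18.HND.H8

namespace H27.HN

open H29 H15.KM

/-- `c 0 ^ n₀ * c 1 ^ n₁ * ⋯ * c 6 ^ n₆` for the binary digits `nᵢ` of `n`. -/
noncomputable def io {G : Type*} [Group G] (c : ℕ → G) (n : ℕ) : G := ev c (mw [0, 1, 2, 3, 4, 5, 6] n)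

def D0 : ℕ := 21973901876580535896678605696022282550

open H18.HND in
theorem part4 {G : Type*} [Group G] [Finite G] [IsSimpleGroup G] {G1 R : Subgroup G} {c : ℕ → G}
    {f e w1 w2 : G} (hc6 : c 6 = f) (hf1 : f ≠ 1) (he1 : e ≠ 1) (he2 : e * e = 1)
    (hfe : ¬ IsConj f e)
    (hR : R = Subgroup.closure {c 0, c 1, c 2, c 3, c 4, c 5, f, e})
    (hc2 : ∀ i < 7, c i * c i = 1 ∧ c i * e = e * c i)
    (hcc : ∀ i < 7, ∀ j < 7, (j ≠ i ^^^ 1 → c i * c j = c j * c i) ∧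
      (j = i ^^^ 1 → c i * c j = c j * c i * e))
    (hK : ∀ g, g * f = f * g → g ∈ G1)
    (hcl : ∀ u, u * f = f * u → u * u = 1 → u ≠ 1 →
      ∃ g ∈ G1, g * u * g⁻¹ = f ∨ g * u * g⁻¹ = e)
    (hE : ∀ u, u * f = f * u → IsConj e u → IsConj f (u * f) →
      ∃ k, k * f = f * k ∧ k * u * k⁻¹ = e)
    (hV : ∀ u, u * f = f * u → u * e = e * u → IsConj f u → IsConj f (u * e) → u ∈ R)
    (hm : ∀ n < 128, (IsConj f (io c n) ∧ IsConj f (io c n * e)) ↔ D0.testBit n = true)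
    (hCR : ∀ g, (∀ i < 7, g * c i = c i * g) → g * e = e * g → g ∈ R)
    (hy : ∀ u ∈ R, IsConj f u → IsConj f (u * e) → IsConj f (u * f) →
      ∃ w, w * f = f * w ∧ w * e = e * w ∧ w * u * w⁻¹ = c 0)
    (hfix : ∀ w, w * f = f * w → w * e = e * w → w * w ∈ R →
      ∃ y ∈ R, IsConj f y ∧ IsConj f (y * e) ∧ IsConj f (y * f) ∧
        w * y * w⁻¹ * y⁻¹ ∈ Subgroup.closure {f, e})
    (hw1 : w1 * e = e * w1 ∧ ∀ i < 7, w1 * c i * w1⁻¹ * (io c ([84, 34, 40, 4, 2, 85, 64].getD i 0))⁻¹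
      ∈ Subgroup.zpowers e)
    (hw2 : w2 * e = e * w2 ∧ ∀ i < 7, w2 * c i * w2⁻¹ * (io c ([81, 2, 4, 72, 16, 34, 64].getD i 0))⁻¹
      ∈ Subgroup.zpowers e) :
    G1 = ⊤ ∧ ∀ z : G, orderOf z = 2 → IsConj z f ∨ IsConj z e := by
  have F : Fam c e 7 := ⟨he2, he1, hc2, hcc⟩
  have hio : ∀ n < 2 ^ 7, io c n = ι c n := fun n hn => ev_eq_ι c hn
  have hR' : R = F.Sub := by
    rw [hR]
    refine le_antisymm ((Subgroup.closure_le _).2 ?_) (F.Sub_le (Subgroup.subset_closure (by simp)) ?_)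
    · rw [← hc6]
      rintro _ (rfl | rfl | rfl | rfl | rfl | rfl | rfl | rfl)
      iterate 7 exact F.c_mem (by norm_num) (by norm_num)
      exact F.e_mem
    · intro i hi
      apply Subgroup.subset_closure
      rw [← hc6]
      interval_cases i <;> simp
  subst hR'
  have cfe : f * e = e * f := hc6 ▸ (hc2 6 (by norm_num)).2
  have f2 : f * f = 1 := hc6 ▸ (hc2 6 (by norm_num)).1
  have hfe' : ∀ t ∈ Subgroup.closure {f, e}, Me e t 1 ∨ Me e t f := by
    have a1 : ∀ y, Me e y 1 ∨ Me e y f → Me e (f * y) 1 ∨ Me e (f * y) f := by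
      rintro y (hy | hy)
      · exact Or.inr (by simpa using (Me.rfl' (a := f)).mul he2 (by simp) hy)
      · exact Or.inl (by simpa [f2] using (Me.rfl' (a := f)).mul he2 cfe hy)
    have a2 : ∀ y, Me e y 1 ∨ Me e y f → Me e (e * y) 1 ∨ Me e (e * y) f := by
      rintro y (hy | hy)
      · exact Or.inl (by simpa using (Me.mul_e (a := 1)).mul he2 (by simp) hy)
      · exact Or.inr (by simpa using (Me.mul_e (a := 1)).mul he2 cfe hy)
    intro t ht
    refine Subgroup.closure_induction_left (p := fun t _ => Me e t 1 ∨ Me e t f) (Or.inl Me.rfl') ?_ ?_ ht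
    · rintro x hx y - hy
      rcases hx with hx | hx <;> rw [hx]
      exacts [a1 y hy, a2 y hy]
    · rintro x hx y - hy
      rcases hx with hx | hx <;> rw [hx]
      · rw [← eq_inv_of_mul_eq_one_left f2]; exact a1 y hy
      · rw [← eq_inv_of_mul_eq_one_left he2]; exact a2 y hy
  have ht : ∀ i < 7, (t1 i < 2 ^ 7 ∧ [84, 34, 40, 4, 2, 85, 64].getD i 0 = t1 i) ∧
      (t2 i < 2 ^ 7 ∧ [81, 2, 4, 72, 16, 34, 64].getD i 0 = t2 i) := by decide
  have H : Hy G1 c f e w1 w2 := by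
    refine ⟨F, hc6, hf1, hfe, hK, hcl, hE, fun u h1 h2 => hV u h1 h2.1 h2.2.1 h2.2.2, ?_, hCR,
      fun u h1 h2 h3 => hy u h1 h2.2.1 h2.2.2 h3, ?_, ⟨hw1.1, fun i hi => ?_⟩, hw2.1, fun i hi => ?_⟩
    · intro n hn
      have := hm n hn
      rw [hio n hn] at this
      exact ⟨fun hh => this.1 hh.2, fun hh => ⟨F.ι_e hn, this.2 hh⟩⟩
    · intro w h1 h2 h3
      obtain ⟨y, hy, y1, y2, y3, y4⟩ := hfix w h1 h2 h3
      refine ⟨y, hy, ⟨F.Sub_e hy, y1, y2⟩, y3, (hfe' _ y4).imp (fun hh => ?_) fun hh => ?_⟩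
      · simpa using hh.mul he2 (F.Sub_e hy) (Me.rfl' (a := y))
      · simpa using hh.mul he2 (F.Sub_e hy) (Me.rfl' (a := y))
    · have := hw1.2 i hi
      rw [(ht i hi).1.2, hio _ (ht i hi).1.1] at this
      exact Me.of_zpowers he2 (F.ι_e (ht i hi).1.1) this
    · have := hw2.2 i hi
      rw [(ht i hi).2.2, hio _ (ht i hi).2.1] at this
      exact Me.of_zpowers he2 (F.ι_e (ht i hi).2.1) this
  obtain ⟨c', H'⟩ := H.exists_H8
  exact ⟨H'.eq_top, fun z hz => H'.classes hz⟩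

end H27.HN
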