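import Mathlib
import Cfsg.Agent.H18.HND2

/-! HN recognition: the subgroup `L ≅ A5`. -/

set_option autoImplicit false

namespace H27.HN

open Subgroup H18.HND

theorem exists_L {G : Type*} [Group G] [Finite G] {f β r ρ ρ1 κ v1 v3 j : G} {A5 : Subgroup G}
    (hf1 : f ≠ 1) (hβ1 : β ≠ 1) (hfβ : f ≠ β) (hf2 : f * f = 1) (hβ2 : β * β = 1)
    (cfβ : f * β = β * f) (hr1 : r * f * r⁻¹ = β) (hr2 : r * β * r⁻¹ = β * f)
    (hc : ∀ u ∈ [f, β, r], ∀ v ∈ [ρ, ρ1, κ, v1, v3], u * v = v * u)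
    (hc5 : ∀ u ∈ [f, β, r, ρ, j], ∀ l ∈ A5, u * l = l * u)
    (hD : ∀ u ∈ [v1, v3, v1 * v3], IsConj f u) (c13 : v1 * v3 = v3 * v1)
    (hρ1 : ∀ u ∈ [v1, v3, ρ], u * ρ1 = ρ1 * u) (h11 : ρ1 ≠ 1) (h13 : ρ1 ^ 3 = 1) (h3 : ρ ^ 3 = 1)
    (hρ3 : ρ * v3 * ρ⁻¹ = v1) (hρv : ρ * v1 * ρ⁻¹ = v1 * v3)
    (hκ3 : κ * v3 * κ⁻¹ = v3) (hκ1 : κ * v1 * κ⁻¹ = v1 * v3) (hκρ : κ * ρ1 * κ⁻¹ = ρ1⁻¹)
    (hj1 : j * f * j⁻¹ = f) (hj2 : j * β * j⁻¹ = β * f) (hj3 : j * ρ * j⁻¹ = ρ⁻¹)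
    (hβ : ∀ u, u * f = f * u → IsConj f u → IsConj f (u * f) →
      ∃ k, k * f = f * k ∧ k * u * k⁻¹ = β)
    (hP : ∀ u, u * f = f * u → u * β = β * u → u ^ 3 = 1 → u ≠ 1 →
      ∃ k, k * f = f * k ∧ k * β = β * k ∧ (k * u * k⁻¹ = ρ ∨ k * u * k⁻¹ = ρ1 * ρ))
    (h33 : ∀ g h, (∀ u ∈ [f, β, ρ1 * ρ], g * u = u * g ∧ h * u = u * h) →
      (g * h * g⁻¹ * h⁻¹) ^ 3 = 1)
    (hY : ∀ y, (∀ u ∈ [f, β, ρ], y * u = u * y) →
      ∃ z ∈ Subgroup.closure {f, β, ρ}, ∃ c ∈ A5, y = z * c)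
    (hA : ∀ F ∈ A5, ∀ B ∈ A5, ∀ c ∈ A5, F * F = 1 → B * B = 1 → F ≠ 1 → B ≠ 1 → F ≠ B →
      F * B = B * F → c * F = F * c → c * B = B * c → c = 1 ∨ c = F ∨ c = B ∨ c = F * B)
    (h60 : Nat.card A5 = 60) :
    ∃ L : Subgroup G, Nat.card L = 60 ∧ ∀ l ∈ L, ∀ v ∈ [ρ, ρ1, κ, v1, v3], l * v = v * l := by
  simp only [List.mem_cons, List.not_mem_nil, or_false, forall_eq_or_imp, forall_eq] at hc hc5 hD hρ1 h33 hY
  obtain ⟨⟨fρ, fρ1, fκ, f1, f3⟩, ⟨βρ, βρ1, βκ, β1, β3⟩, rρ, rρ1, rκ, r1, r3⟩ := hc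
  obtain ⟨f5, β5, r5, ρ5, j5⟩ := hc5
  have βf1 : β * f ≠ 1 := fun h => hfβ (by
    rw [eq_inv_of_mul_eq_one_right h, ← eq_inv_of_mul_eq_one_right hβ2])
  have βf2 : β * f * (β * f) = 1 := by
    calc _ = β * (f * β) * f := by group
      _ = (β * β) * (f * f) := by rw [cfβ]; group
      _ = 1 := by rw [hβ2, hf2, one_mul]
  -- step 1
  obtain ⟨g, g3, g1, gρ⟩ : ∃ g, g * v3 * g⁻¹ = f ∧ g * v1 * g⁻¹ = β ∧ g * ρ1 * g⁻¹ = ρ := by
    obtain ⟨g0, h0⟩ := isConj_iff.1 hD.2.1.symm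
    obtain ⟨k, k1, k2⟩ := hβ (g0 * v1 * g0⁻¹) (by have := comm_conj g0 c13; rwa [h0] at this)
      (isConj_conj g0 hD.1) (by
        have := isConj_conj g0 hD.2.2
        rwa [show g0 * (v1 * v3) * g0⁻¹ = g0 * v1 * g0⁻¹ * (g0 * v3 * g0⁻¹) by group, h0] at this)
    have a3 : k * g0 * v3 * (k * g0)⁻¹ = f := by
      calc _ = k * (g0 * v3 * g0⁻¹) * k⁻¹ := by group
        _ = f := by rw [h0, conj_eq k1]
    have a1 : k * g0 * v1 * (k * g0)⁻¹ = β := Eq.trans (by group) k2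
    obtain ⟨a, ha⟩ : ∃ a, a = k * g0 := ⟨_, rfl⟩
    rw [← ha] at a1 a3
    obtain ⟨m, m1, m2, m3⟩ := hP (a * ρ1 * a⁻¹) (by have := comm_conj a hρ1.2.1.symm; rwa [a3] at this)
      (by have := comm_conj a hρ1.1.symm; rwa [a1] at this) (by rw [conj_pow, h13]; group)
      (fun h => h11 (by simpa using h))
    have b3 : m * a * v3 * (m * a)⁻¹ = f := by
      calc _ = m * (a * v3 * a⁻¹) * m⁻¹ := by group
        _ = f := by rw [a3, conj_eq m1]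
    have b1 : m * a * v1 * (m * a)⁻¹ = β := by
      calc _ = m * (a * v1 * a⁻¹) * m⁻¹ := by group
        _ = β := by rw [a1, conj_eq m2]
    rcases m3 with m3 | m3
    · exact ⟨m * a, b3, b1, Eq.trans (by group) m3⟩
    exfalso
    have bρ : m * a * ρ1 * (m * a)⁻¹ = ρ1 * ρ := Eq.trans (by group) m3
    obtain ⟨g, hg⟩ : ∃ g, g = m * a := ⟨_, rfl⟩
    rw [← hg] at b1 b3 bρ
    have := h33 (g * r * g⁻¹) (g * f * g⁻¹) ⟨⟨b3 ▸ comm_conj g r3, by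
      have := comm_conj g f3; rwa [b3] at this⟩, ⟨b1 ▸ comm_conj g r1, b1 ▸ comm_conj g f1⟩,
      bρ ▸ comm_conj g rρ1, bρ ▸ comm_conj g fρ1⟩
    rw [show g * r * g⁻¹ * (g * f * g⁻¹) * (g * r * g⁻¹)⁻¹ * (g * f * g⁻¹)⁻¹ =
      g * (r * f * r⁻¹ * f⁻¹) * g⁻¹ by group, hr1, ← eq_inv_of_mul_eq_one_right hf2, conj_pow,
      pow_succ, pow_two, βf2, one_mul] at this
    exact βf1 (by simpa using this)
  -- conjugates
  have Y : ∀ u, u * v3 = v3 * u → u * v1 = v1 * u → u * ρ1 = ρ1 * u →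
      g * u * g⁻¹ * f = f * (g * u * g⁻¹) ∧ g * u * g⁻¹ * β = β * (g * u * g⁻¹) ∧
        g * u * g⁻¹ * ρ = ρ * (g * u * g⁻¹) := fun u h3 h1 hρ =>
    ⟨by have := comm_conj g h3; rwa [g3] at this, by have := comm_conj g h1; rwa [g1] at this,
      by have := comm_conj g hρ; rwa [gρ] at this⟩
  have Z : ∀ z ∈ closure ({f, β, ρ} : Set G), ∀ y, y * f = f * y → y * β = β * y → y * ρ = ρ * y →
      y * z = z * y := by
    intro z hz y h1 h2 h3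
    have : closure ({f, β, ρ} : Set G) ≤ centralizer {y} := (closure_le _).2 (by
      rintro x hx
      rcases hx with hx | hx | hx <;> rw [hx] <;> apply mem_centralizer_singleton_iff.2
      exacts [h1.symm, h2.symm, h3.symm])
    exact (mem_centralizer_singleton_iff.1 (this hz)).symm
  have Z5 : ∀ z ∈ closure ({f, β, ρ} : Set G), ∀ l ∈ A5, z * l = l * z := fun z hz l hl =>
    (Z z hz l (f5 l hl).symm (β5 l hl).symm (ρ5 l hl).symm).symm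
  have K : ∀ x y, (x * f = f * x ∧ x * β = β * x ∧ x * ρ = ρ * x) →
      (y * f = f * y ∧ y * β = β * y ∧ y * ρ = ρ * y) → x * y * x⁻¹ * y⁻¹ ∈ A5 := by
    intro x y hx hy
    obtain ⟨z, hz, c, hc, e1⟩ := hY x hx
    obtain ⟨z', hz', c', hc', e2⟩ := hY y hy
    have h1 : x * y * x⁻¹ = c * y * c⁻¹ := by
      have := Z z hz y hy.1 hy.2.1 hy.2.2
      rw [e1, Z5 z hz c hc]
      calc c * z * y * (c * z)⁻¹ = c * (z * y) * z⁻¹ * c⁻¹ := by group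
        _ = _ := by rw [← this]; group
    have h2 : y * c⁻¹ * y⁻¹ = c' * c⁻¹ * c'⁻¹ := by
      rw [e2, Z5 z' hz' c' hc']
      calc c' * z' * c⁻¹ * (c' * z')⁻¹ = c' * (z' * c⁻¹) * z'⁻¹ * c'⁻¹ := by group
        _ = _ := by rw [Z5 z' hz' _ (inv_mem hc)]; group
    rw [h1, show c * y * c⁻¹ * y⁻¹ = c * (y * c⁻¹ * y⁻¹) by group, h2]
    exact mul_mem hc (mul_mem (mul_mem hc' (inv_mem hc)) (inv_mem hc'))
  obtain ⟨F, hF⟩ : ∃ F, F = g * f * g⁻¹ := ⟨_, rfl⟩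
  obtain ⟨B, hB⟩ : ∃ B, B = g * β * g⁻¹ := ⟨_, rfl⟩
  obtain ⟨R, hR⟩ : ∃ R, R = g * r * g⁻¹ := ⟨_, rfl⟩
  have YF := Y f f3 f1 fρ1
  have YB := Y β β3 β1 βρ1
  have YR := Y r r3 r1 rρ1
  rw [← hF] at YF
  rw [← hB] at YB
  rw [← hR] at YR
  have R1 : R * F * R⁻¹ = B := by rw [hR, hF, hB, ← hr1]; group
  have R2 : R * B * R⁻¹ = B * F := by
    calc _ = g * (r * β * r⁻¹) * g⁻¹ := by rw [hR, hB]; group
      _ = _ := by rw [hr2, hB, hF]; group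
  have F2 : F * F = 1 := sq_of_conj hf2 (isConj_iff.2 ⟨g, hF.symm⟩)
  have B2 : B * B = 1 := sq_of_conj hβ2 (isConj_iff.2 ⟨g, hB.symm⟩)
  have F1 : F ≠ 1 := ne_one_of_conj hf1 (isConj_iff.2 ⟨g, hF.symm⟩)
  have B1 : B ≠ 1 := ne_one_of_conj hβ1 (isConj_iff.2 ⟨g, hB.symm⟩)
  have FB : F ≠ B := fun h => hfβ (by rw [hF, hB] at h; simpa using h)
  have cFB : F * B = B * F := by rw [hF, hB]; exact comm_conj g cfβ
  have F5 : F ∈ A5 := by
    have := K R B YR YB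
    rwa [R2, ← cFB, mul_inv_cancel_right] at this
  have B5 : B ∈ A5 := by
    have := K R F YR YF
    rw [R1] at this
    simpa using mul_mem this F5
  have act : ∀ n t, (∀ l ∈ A5, t * l = l * t) → (t⁻¹ * n * f = f * (t⁻¹ * n) ∧
      t⁻¹ * n * β = β * (t⁻¹ * n) ∧ t⁻¹ * n * ρ = ρ * (t⁻¹ * n)) → n * F = F * n → n * B = B * n →
      ∃ c, (c = 1 ∨ c = F ∨ c = B ∨ c = F * B) ∧ ∀ l ∈ A5, n * l * n⁻¹ = c * l * c⁻¹ := by
    intro n t ht hy h1 h2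
    obtain ⟨z, hz, c, hc, e1⟩ := hY _ hy
    have e2 : n = t * z * c := by rw [mul_assoc, ← e1]; group
    have e3 : ∀ l ∈ A5, n * l * n⁻¹ = c * l * c⁻¹ := by
      intro l hl
      have h4 : c * l * c⁻¹ ∈ A5 := mul_mem (mul_mem hc hl) (inv_mem hc)
      calc n * l * n⁻¹ = t * z * (c * l * c⁻¹) * (t * z)⁻¹ := by rw [e2]; group
        _ = _ := conj_eq (mul_comm' (ht _ h4) (Z5 z hz _ h4))
    refine ⟨c, hA F F5 B B5 c hc F2 B2 F1 B1 FB cFB (comm_of_conj ?_) (comm_of_conj ?_), e3⟩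
    · rw [← e3 F F5, conj_eq h1]
    · rw [← e3 B B5, conj_eq h2]
  have same : ∀ {n t x : G}, n * x * n⁻¹ = t * x * t⁻¹ → t⁻¹ * n * x = x * (t⁻¹ * n) := by
    intro n t x h
    apply comm_of_conj
    calc _ = t⁻¹ * (n * x * n⁻¹) * t := by group
      _ = x := by rw [h]; group
  have tr : ∀ {n x y : G}, n * x * n⁻¹ = y → g * n * g⁻¹ * (g * x * g⁻¹) * (g * n * g⁻¹)⁻¹ = g * y * g⁻¹ := by
    intro n x y h
    rw [← h]; group
  have g13 : g * (v1 * v3) * g⁻¹ = β * f := by rw [← g1, ← g3]; group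
  have FB2 : F * B * (F * B) = 1 := by
    calc _ = F * (B * F) * B := by group
      _ = (F * F) * (B * B) := by rw [← cFB]; group
      _ = 1 := by rw [F2, B2, one_mul]
  -- step 3
  have S3 : ∀ l ∈ A5, g * ρ * g⁻¹ * l = l * (g * ρ * g⁻¹) := by
    obtain ⟨c, hc, e⟩ := act (g * ρ * g⁻¹) r r5 ⟨same (by have := tr hρ3; rwa [g3, g1, ← hr1] at this),
      same (by have := tr hρv; rwa [g1, g13, ← hr2] at this), same (by
        have := comm_conj g hρ1.2.2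
        rw [gρ] at this
        rw [conj_eq this, conj_eq rρ])⟩ (hF ▸ comm_conj g fρ.symm) (hB ▸ comm_conj g βρ.symm)
    have c2 : c * c = 1 := by
      rcases hc with rfl | rfl | rfl | rfl
      exacts [one_mul _, F2, B2, FB2]
    have c5 : c ∈ A5 := by
      rcases hc with rfl | rfl | rfl | rfl
      exacts [one_mem _, F5, B5, mul_mem F5 B5]
    intro l hl
    obtain ⟨n, hn⟩ : ∃ n, n = g * ρ * g⁻¹ := ⟨_, rfl⟩
    have n3 : n ^ 3 = 1 := by rw [hn, conj_pow, h3]; group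
    rw [← hn] at e ⊢
    have l1 : c * l * c⁻¹ ∈ A5 := mul_mem (mul_mem c5 hl) (inv_mem c5)
    have e1 : n * (n * l * n⁻¹) * n⁻¹ = l := by
      rw [e l hl, e _ l1]
      calc _ = (c * c) * l * (c * c)⁻¹ := by group
        _ = l := by rw [c2]; group
    apply comm_of_conj
    calc n * l * n⁻¹ = n * (n * (n * l * n⁻¹) * n⁻¹) * n⁻¹ := by rw [e1]
      _ = n ^ 3 * l * (n ^ 3)⁻¹ := by rw [pow_succ, pow_two]; group
      _ = l := by rw [n3]; group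
  -- step 4
  have S4 : ∀ l ∈ A5, g * κ * g⁻¹ * l = l * (g * κ * g⁻¹) := by
    obtain ⟨c, hc, e⟩ := act (g * κ * g⁻¹) j j5 ⟨same (by have := tr hκ3; rw [g3] at this; rw [this, hj1]),
      same (by have := tr hκ1; rwa [g1, g13, ← hj2] at this), same (by
        have := tr hκρ
        rwa [gρ, show g * ρ1⁻¹ * g⁻¹ = (g * ρ1 * g⁻¹)⁻¹ by group, gρ, ← hj3] at this)⟩
      (hF ▸ comm_conj g fκ.symm) (hB ▸ comm_conj g βκ.symm)
    obtain ⟨n, hn⟩ : ∃ n, n = g * κ * g⁻¹ := ⟨_, rfl⟩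
    have nR : n * R = R * n := by rw [hn, hR]; exact comm_conj g rκ.symm
    rw [← hn] at e ⊢
    have c5 : c ∈ A5 := by
      rcases hc with rfl | rfl | rfl | rfl
      exacts [one_mem _, F5, B5, mul_mem F5 B5]
    obtain ⟨z, hz, R0, hR0, e1⟩ := hY R YR
    have zR : R * z = z * R := Z z hz R YR.1 YR.2.1 YR.2.2
    have e2 : c * R * c⁻¹ * R⁻¹ = (n * z * n⁻¹)⁻¹ * z := by
      have a1 : n * z * n⁻¹ * (c * R0 * c⁻¹) = z * R0 := by
        rw [← e R0 hR0, ← e1, ← conj_eq nR, e1]; group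
      calc c * R * c⁻¹ * R⁻¹ = (c * z) * R0 * c⁻¹ * R⁻¹ := by rw [e1]; group
        _ = z * (c * R0 * c⁻¹) * R⁻¹ := by rw [← Z5 z hz c c5]; group
        _ = (c * R0 * c⁻¹) * z * R⁻¹ := by rw [Z5 z hz _ (mul_mem (mul_mem c5 hR0) (inv_mem c5))]
        _ = (n * z * n⁻¹)⁻¹ * (n * z * n⁻¹ * (c * R0 * c⁻¹)) * z * R⁻¹ := by group
        _ = (n * z * n⁻¹)⁻¹ * (R * z) * R⁻¹ := by rw [a1, ← e1]; group
        _ = _ := by rw [zR]; group
    have e3 : R * (c * R * c⁻¹ * R⁻¹) * R⁻¹ = c * R * c⁻¹ * R⁻¹ := by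
      rw [e2]
      apply conj_eq
      symm
      exact mul_comm' (inv_comm (mul_comm' (mul_comm' nR zR.symm) (inv_comm nR))) zR.symm
    have iF : F⁻¹ = F := (eq_inv_of_mul_eq_one_right F2).symm
    have iB : B⁻¹ = B := (eq_inv_of_mul_eq_one_right B2).symm
    have R3 : R * (F * B) * R⁻¹ = F := by
      calc _ = (R * F * R⁻¹) * (R * B * R⁻¹) := by group
        _ = F := by rw [R1, R2, ← mul_assoc, B2, one_mul]
    rcases hc with hc | hc | hc | hc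
    · intro l hl
      apply comm_of_conj
      rw [e l hl, hc]; group
    all_goals exfalso
    · rw [hc, show F * R * F⁻¹ * R⁻¹ = F * (R * F * R⁻¹)⁻¹ by group, R1, iB, R3] at e3
      exact B1 (left_eq_mul.1 e3)
    · rw [hc, show B * R * B⁻¹ * R⁻¹ = B * (R * B * R⁻¹)⁻¹ by group, R2, ← cFB, mul_inv_rev, iB, iF,
        ← mul_assoc B B F, B2, one_mul, R1] at e3
      exact FB e3.symm
    · rw [hc, show F * B * R * (F * B)⁻¹ * R⁻¹ = F * B * (R * (F * B) * R⁻¹)⁻¹ by group, R3, cFB,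
        mul_inv_cancel_right, R2] at e3
      exact F1 (mul_eq_left.1 e3)
  refine ⟨A5.map (MulAut.conj g⁻¹).toMonoidHom, ?_, ?_⟩
  · rw [← h60]
    exact Nat.card_congr (A5.equivMapOfInjective _ (MulAut.conj g⁻¹).injective).symm.toEquiv
  · rintro _ ⟨l, hl, rfl⟩ v hv
    have : g * v * g⁻¹ * l = l * (g * v * g⁻¹) := by
      simp only [List.mem_cons, List.not_mem_nil, or_false] at hv
      rcases hv with hv | hv | hv | hv | hv <;> rw [hv]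
      · exact S3 l hl
      · rw [gρ]; exact ρ5 l hl
      · exact S4 l hl
      · rw [g1]; exact β5 l hl
      · rw [g3]; exact f5 l hl
    have h1 := comm_conj g⁻¹ this
    show g⁻¹ * l * g⁻¹⁻¹ * v = v * (g⁻¹ * l * g⁻¹⁻¹)
    convert h1.symm using 1 <;> group

end H27.HN
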