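import Mathlib
import Cfsg.Agent.H27.HNM
import Cfsg.Agent.H27.R2cA

/-!
# Generic tools: enumeration, counting, conjugacy certificates
-/

set_option autoImplicit false
set_option linter.unusedSectionVars false

namespace H27.HN

open H29 H15.KM H24 Subgroup

noncomputable def cntN (n : ℕ) (F : ℕ → Bool) : ℕ :=
  Nat.rec (motive := fun _ => ℕ) 0 (fun m ih => lit ih fun s => Bool.rec s (Nat.succ s) (F m)) n

theorem cntN_eq (F : ℕ → Bool) : ∀ n, cntN n F = ((Finset.range n).filter fun i => F i = true).card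
  | 0 => rfl
  | n + 1 => by
    rw [show cntN (n + 1) F = Bool.rec (cntN n F) (cntN n F + 1) (F n) from rfl,
      Finset.range_add_one, Finset.filter_insert, cntN_eq F n]
    cases h : F n
    · simp
    · rw [if_pos rfl, Finset.card_insert_of_notMem (by simp)]

noncomputable def ndup (l : List ℕ) : Bool :=
  List.rec (motive := fun _ => Bool) true (fun a t ih => and2 (not1 (memL a t)) ih) l

theorem ndup_true : ∀ {l : List ℕ}, ndup l = true → l.Nodup
  | [], _ => List.nodup_nil
  | a :: t, h => by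
    rw [show ndup (a :: t) = and2 (not1 (memL a t)) (ndup t) from rfl, and2_true, not1_true,
      memL_true] at h
    exact List.nodup_cons.2 ⟨h.1, ndup_true h.2⟩

section
variable {G : Type*} [Group G] {e : ℕ → G} {run : List ℕ → ℕ} {iv : ℕ → ℕ}

theorem syl_of_card [Finite G] {p k n : ℕ} (hp : p.Prime) {H P : Subgroup G} (hle : P ≤ H)
    (hP : ♯P = p ^ k) (hn : ♯H ∣ n) (hk : ¬ p ^ (k + 1) ∣ n) : Syl p H P :=
  Syl.mk' hp hle (isPi_of_card hp hP) fun h => hk ((by
    rw [← card_mul_relIndex hle, hP, pow_succ]; exact Nat.mul_dvd_mul_left _ h : _ ∣ ♯H).trans hn)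

theorem conj_into [Finite G] {p j : ℕ} (hp : p.Prime) {H P : Subgroup G} (hS : Syl p H P) {x : G}
    (hx : x ∈ H) (h : x ^ p ^ j = 1) : ∃ g ∈ H, g * x * g⁻¹ ∈ P := by
  obtain ⟨i, -, hi⟩ := (Nat.dvd_prime_pow hp).1 (orderOf_dvd_of_pow_eq_one h)
  obtain ⟨g, h1, h2⟩ := Sylow_Jsub hp hS (isPi_of_card hp ((Nat.card_zpowers x).trans hi))
    (zpowers_le.2 hx)
  exact ⟨g, h1, h2 (conj_mem_cj g (mem_zpowers x))⟩

theorem ev_mw_mem (l : List ℕ) (n : ℕ) : ev e (mw l n) ∈ gen e l := ev_mem_gen (mem_mw l n)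

theorem pc_ncard [Finite G] {l : List ℕ} (h : PC e l) (P : G → Prop) (F : ℕ → Bool)
    (hF : ∀ n < 2 ^ l.length, F n = true ↔ P (ev e (mw l n))) :
    {g | g ∈ gen e l ∧ P g}.ncard = cntN (2 ^ l.length) F := by
  classical
  have hi : Set.InjOn (fun n => ev e (mw l n)) (Finset.range (2 ^ l.length) : Set ℕ) := by
    rw [← Finset.card_image_iff, Finset.card_range]
    refine Eq.trans ?_ h.card
    rw [← R2c.nc_sub, ← Set.ncard_coe_finset]
    congr 1
    ext g
    simp only [Finset.coe_image, Finset.coe_range, Set.mem_image, Set.mem_Iio, SetLike.mem_coe]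
    exact ⟨fun ⟨n, _, h2⟩ => h2 ▸ ev_mw_mem l n, h.cover⟩
  rw [cntN_eq, ← Finset.card_image_of_injOn (hi.mono (Finset.coe_subset.2 (Finset.filter_subset _ _))),
    ← Set.ncard_coe_finset]
  congr 1
  ext g
  simp only [Finset.coe_image, Finset.coe_filter, Finset.mem_range, Set.mem_image, Set.mem_setOf_eq]
  refine ⟨fun ⟨h1, h2⟩ => ?_, fun ⟨n, ⟨h1, h2⟩, h3⟩ => h3 ▸ ⟨ev_mw_mem l n, (hF n h1).1 h2⟩⟩
  obtain ⟨n, h3, rfl⟩ := h.cover h1
  exact ⟨n, ⟨h3, (hF n h3).2 h2⟩, rfl⟩

theorem pc_le_ncard [Finite G] {l : List ℕ} (h : PC e l) (P : G → Prop) (F : ℕ → Bool)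
    (hF : ∀ n < 2 ^ l.length, F n = true → P (ev e (mw l n))) :
    cntN (2 ^ l.length) F ≤ {g | g ∈ gen e l ∧ P g}.ncard := by
  classical
  rw [pc_ncard h P (fun n => decide (P (ev e (mw l n)))) (by simp), cntN_eq, cntN_eq]
  exact Finset.card_le_card fun n hn => by
    simp only [Finset.mem_filter, Finset.mem_range, decide_eq_true_eq] at hn ⊢
    exact ⟨hn.1, hF n hn.1 hn.2⟩

noncomputable def chkEnum (run : List ℕ → ℕ) (iv : ℕ → ℕ) (l : List ℕ) (W : List (List ℕ)) : Bool :=
  and2 (chkEn run iv l W) (and2 (allL W fun w => allL w fun c => memL c l) (frc (mapL run W) ndup))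

theorem card_of_enum [Finite G] (h : Iso run e) (hi : IvOK e iv) {l : List ℕ} {W : List (List ℕ)}
    (hc : chkEnum run iv l W = true) : ♯(gen e l) = W.length := by
  classical
  simp only [chkEnum, and2_true, allL_true, memL_true, frc_eq, mapL_eq] at hc
  have h1 : (W.map (ev e)).Nodup := by
    have := ndup_true hc.2.2
    have h0 := List.Nodup.of_map _ this
    rw [List.nodup_map_iff_inj_on h0] at this ⊢
    exact fun x hx y hy h2 => this x hx y hy ((h x y).2 h2)
  rw [← R2c.nc_sub, ← List.length_map (ev e), ← List.toFinset_card_of_nodup h1, ← Set.ncard_coe_finset]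
  congr 1
  ext g
  simp only [List.coe_toFinset, List.mem_map, Set.mem_setOf_eq, SetLike.mem_coe]
  exact ⟨h.enum hi hc.1, fun ⟨w, h2, h3⟩ => h3 ▸ ev_mem_gen (hc.2.1 w h2)⟩

theorem enum_of (h : Iso run e) (hi : IvOK e iv) {l : List ℕ} {W : List (List ℕ)}
    (hc : chkEnum run iv l W = true) {g : G} (hg : g ∈ gen e l) : ∃ w ∈ W, ev e w = g :=
  h.enum hi (and2_true.1 hc).1 hg

/-- All members of a union of cosets of a 2-group pass a test. -/
noncomputable def allC (iv : ℕ → ℕ) (W : List (List ℕ)) (l : List ℕ)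
    (F : ℕ → List ℕ → List ℕ → Bool) : Bool :=
  allN (lenL W) fun j => lit j fun j => frc (nth [] W j) fun w => allN (Nat.pow 2 (lenL l)) fun n =>
    lit n fun n => frc (app w (mw l n)) fun x => frc (invW iv x)
      (F (Nat.add (Nat.mul j (Nat.pow 2 (lenL l))) n) x)

theorem allC_sound (h : Iso run e) (hi : IvOK e iv) {cs l : List ℕ} {W : List (List ℕ)}
    {D : ℕ → List ℕ} (hc : chkCov run iv cs l W D = true) (hl : PC e l)
    {F : ℕ → List ℕ → List ℕ → Bool} (hF : allC iv W l F = true) {g : G} (hg : g ∈ gen e cs) :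
    ∃ i x y, ev e x = g ∧ ev e y = g⁻¹ ∧ F i x y = true := by
  obtain ⟨w, h1, h2⟩ := h.cov hi hc hg
  obtain ⟨n, h3, h4⟩ := hl.cover h2
  obtain ⟨j, h5, rfl⟩ := List.getElem_of_mem h1
  simp only [allC, allN_true, lit_eq, frc_eq, lenL_eq] at hF
  have h6 := hF j h5 n h3
  rw [nth_eq, List.getD_eq_getElem _ _ h5] at h6
  have h7 : ev e (app W[j] (mw l n)) = g := by rw [app_eq, ev_append, h4, mul_inv_cancel_left]
  exact ⟨_, _, _, h7, by rw [ev_invW hi, h7], h6⟩

/-- All members of a 2-group pass a test. -/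
noncomputable def allM (l : List ℕ) (F : ℕ → List ℕ → Bool) : Bool :=
  allN (Nat.pow 2 (lenL l)) fun n => lit n fun n => frc (mw l n) (F n)

theorem allM_sound {l : List ℕ} {F : ℕ → List ℕ → Bool} (hF : allM l F = true) {n : ℕ}
    (hn : n < 2 ^ l.length) : F n (mw l n) = true := by
  simp only [allM, allN_true, lit_eq, frc_eq, lenL_eq] at hF
  exact hF n hn

noncomputable def cm (run : List ℕ → ℕ) (x u : List ℕ) : Bool := eqW run (app x u) (app u x)
theorem cm_true (h : Iso run e) {x u : List ℕ} :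
    cm run x u = true ↔ ev e x * ev e u = ev e u * ev e x := by simp [cm, h.eqW]

/-- Membership in a list of words. -/
noncomputable def inW (run : List ℕ → ℕ) (W : List (List ℕ)) (x : List ℕ) : Bool :=
  lit (run x) fun t => anyL W fun w => Nat.beq (run w) t
theorem inW_true (h : Iso run e) {W : List (List ℕ)} {x : List ℕ} :
    inW run W x = true ↔ ∃ w ∈ W, ev e w = ev e x := by
  simp only [inW, lit_eq, anyL_true, H29.beq_true, h _ _]

/-- `c = r :: g` certifies `g x g⁻¹ = r ∈ R`, where `g` commutes with the letters `U`. -/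
noncomputable def ty (run : List ℕ → ℕ) (iv : ℕ → ℕ) (U R c x : List ℕ) : Bool :=
  List.rec (motive := fun _ => Bool) false (fun r g _ => and2 (memL r R)
    (and2 (eqW run (app g (app x (invW iv g))) [r]) (allL U fun u => cm run g [u]))) c

theorem ty_sound (h : Iso run e) (hi : IvOK e iv) {U R x : List ℕ} : ∀ {c : List ℕ},
    ty run iv U R c x = true → ∃ r ∈ R, ∃ g, ev e g * ev e x * (ev e g)⁻¹ = e r ∧
      ∀ u ∈ U, ev e g * e u = e u * ev e g
  | [], hc => absurd hc Bool.false_ne_true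
  | r :: g, hc => by
    rw [show ty run iv U R (r :: g) x = and2 (memL r R) (and2 (eqW run (app g (app x (invW iv g))) [r])
      (allL U fun u => cm run g [u])) from rfl] at hc
    simp only [and2_true, memL_true, h.eqW, allL_true, cm_true h, app_eq, ev_append, ev_invW hi,
      ev_cons, ev_nil, mul_one] at hc
    exact ⟨r, hc.1, g, by rw [mul_assoc]; exact hc.2.1, hc.2.2⟩

/-- A table in blocks of 64. -/
noncomputable def tb (D : List (List (List ℕ))) (n : ℕ) : List ℕ :=
  nth [] (nth [] D (Nat.div n 64)) (Nat.mod n 64)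

/-- Conjugate involutions in the centre of a Sylow subgroup have equally many square roots. -/
theorem sqrt_eq [Finite G] {f u : G} {T : Subgroup G} (hS : Syl 2 C{f} T) (hu : T ≤ C{u})
    (h : IsConj u f) : {g | g ∈ T ∧ g * g = u}.ncard = {g | g ∈ T ∧ g * g = f}.ncard := by
  obtain ⟨c, hc⟩ := isConj_iff.1 h
  obtain ⟨k, h1, h2⟩ := Sylow_Jsub Nat.prime_two hS (hS.pi.cj c)
    (by rw [← hc, ← cj_C1]; exact cj_mono c hu)
  have h3 : k * c ∈ N[T] := mem_N_of_cj_le (by rwa [cj_mul])
  have h4 : k * c * u * (k * c)⁻¹ = f := by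
    rw [← mem_C1_iff_conj.1 h1, ← hc]; group
  refine R2c.nc_eq (k * c) (k * c)⁻¹ fun x => and_congr (mem_N.1 h3 x) ?_
  rw [← h4, show k * c * x * (k * c)⁻¹ * (k * c * x * (k * c)⁻¹) = k * c * (x * x) * (k * c)⁻¹ by group]
  simp

end

end H27.HN
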