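import Mathlib

/-! # Certificates: classes of the elements of the Sylow 2-subgroup -/

set_option maxRecDepth 100000

namespace H27.HN

def DT : List (List (List ℕ)) := [[[99], [25, 3, 26, 4, 31], [16, 22, 22], [], [16], [], [0, 10, 17], [], [16,
  18, 26, 22], [], [], [], [], [], [], [], [23, 2, 1, 3], [], [], [], [], [], [], [], [], [], [], [], [], [],
  [25, 11, 36, 35], [], [16, 18, 22, 26], [0, 18, 22, 1], [], [], [], [], [], [0, 18, 22, 4], [23, 20, 10],
  [], [], [], [16, 42], [], [], [25, 29, 39, 22], [25, 20, 10, 35], [], [0, 35, 39], [], [], [], [], [], [],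
  [], [], [], [], [], [], []], [[16, 18, 21, 16], [], [23, 14, 10], [], [], [], [], [], [24, 10, 14, 29], [],
  [], [], [], [], [], [], [25, 3, 10, 9, 3], [], [], [], [], [], [], [], [], [], [], [], [], [], [], [25, 43,
  9, 14], [], [], [], [], [], [], [], [], [], [], [], [], [], [], [25, 13, 31, 38], [], [], [25, 3, 6, 33,
  11], [], [], [], [], [], [], [25, 11, 19, 21], [], [], [], [], [], [], []], [[23, 3, 14, 37, 31], [], [],
  [], [], [], [], [], [16, 14, 41, 36], [], [], [], [24, 8, 11, 38], [], [], [], [23, 10, 15, 36], [], [16, 1,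
  35], [], [], [], [], [25, 1, 3, 17, 29], [], [0, 2, 21, 33, 8], [], [], [], [], [], [], [16, 18, 35], [],
  [0, 4, 35], [], [23, 10, 9, 40], [], [25, 14, 19, 8], [], [24, 2, 37, 36], [], [], [], [], [], [], [], [16,
  18, 21, 6], [], [], [], [], [], [], [], [], [25, 2, 19, 2, 16], [], [], [], [], [0, 18, 39, 7], []], [[25,
  3, 18, 42, 3], [], [], [], [], [], [], [], [24, 3, 14, 41, 11], [25, 3, 26, 1, 12], [], [], [], [], [], [],
  [25, 1, 11, 19], [], [23, 13, 31], [], [0, 32], [], [25, 1, 13, 31], [], [], [], [], [], [], [], [], [], [],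
  [], [], [], [], [], [], [25, 29, 42, 22], [], [], [], [], [], [], [], [0, 18, 22, 33], [], [], [], [], [],
  [], [], [], [25, 17, 26, 13], [], [], [], [0, 7, 26], [], [], []], [[23, 15, 19, 18], [], [], [], [], [],
  [], [], [16, 1, 18], [], [24, 10, 29], [], [0, 37], [], [25, 10, 29], [], [23, 2, 37, 29], [25, 8, 42, 11,
  43], [], [], [], [], [], [], [], [], [], [], [], [], [], [], [25, 1, 20, 10], [], [], [], [0, 4], [], [],
  [], [23, 2, 37, 3], [], [], [], [], [], [], [], [25, 1, 20, 10, 43], [0, 3, 17, 40, 31], [], [], [], [], [],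
  [], [], [], [], [], [], [], [], [25, 3, 17, 29, 38]], [[16, 14, 43, 2], [], [], [], [], [], [], [0, 41, 29,
  22], [23, 11, 19, 43], [], [16, 35, 16], [], [], [], [], [25, 13, 13, 22], [16, 18, 35, 22], [], [], [],
  [24, 8, 11, 37], [], [], [], [], [], [], [], [], [], [], [], [], [25, 3, 38, 10, 12], [], [], [], [], [0,
  18, 37, 7], [], [], [], [], [], [], [], [], [], [], [], [], [], [], [], [], [], [25, 1, 10, 9], [], [0, 22,
  22], [], [24, 10, 9], [], [25, 8, 15, 21, 18], []], [[], [], [], [], [], [], [], [25, 18, 2, 8], [], [0, 3,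
  27, 30, 14], [], [], [], [], [], [0, 18, 22], [], [], [], [], [], [], [], [], [16, 18, 43], [], [24, 9, 26,
  19], [], [], [], [], [], [], [], [], [], [], [], [], [], [], [25, 29, 43, 7], [], [], [], [], [], [], [],
  [], [], [], [], [], [25, 11, 36, 39], [], [24, 11, 41, 30], [], [], [], [], [], [], []], [[], [], [], [],
  [], [], [25, 9, 34, 9, 35], [], [], [], [], [], [], [], [], [], [], [], [], [], [], [], [], [], [23, 9, 29,
  31], [25, 2, 10, 9, 30], [16, 35, 37], [], [25, 40], [], [0, 29, 19], [], [24, 11, 19, 21], [], [], [], [],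
  [], [], [], [25, 8, 11, 43], [], [0, 32, 35], [], [], [], [], [], [23, 11, 20, 11], [], [], [], [16, 1, 38],
  [], [], [25, 3, 17, 29, 39], [], [], [], [], [], [], [], []], [[24], [25, 29, 22, 16], [25, 35, 38], [],
  [25, 1], [], [0, 13, 26, 18], [], [16, 1, 18, 22], [], [], [], [], [], [], [], [23, 3, 9, 13, 2], [], [],
  [], [], [], [], [], [], [], [], [], [], [], [25, 1, 13, 31, 35], [], [16, 1, 35, 14], [0, 9, 14, 43, 2], [],
  [], [], [], [], [0, 2, 41, 14], [23, 9, 31, 29], [], [], [], [25, 37], [], [], [25, 29, 22, 39], [25, 1, 30,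
  43, 9], [], [0, 41, 35], [], [], [], [], [], [], [], [], [], [], [], [], []], [[16, 18, 21, 1], [], [24, 8,
  1, 17], [], [], [], [], [], [24, 11, 34, 14], [], [], [], [], [], [], [], [25, 30, 22, 8], [], [], [], [],
  [], [], [], [], [], [], [], [], [], [], [25, 9, 43, 8, 14], [], [], [], [], [], [], [], [], [], [], [], [],
  [], [], [25, 11, 36, 37], [], [], [25, 8, 35, 30, 19], [], [], [], [], [], [], [25, 8, 11, 22], [], [], [],
  [], [], [], []], [[23, 3, 35, 21, 36], [], [], [], [], [], [], [], [16, 3, 35, 31], [], [], [], [23, 11, 20,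
  9], [], [], [], [23, 10, 41, 12], [], [25, 35], [], [], [], [], [25, 29, 22, 35], [], [0, 18, 22, 8], [],
  [], [], [], [], [], [16, 18, 35, 1], [], [0, 26, 35], [], [24, 8, 11, 40], [], [25, 11, 36, 35, 37], [],
  [24, 2, 39, 20], [], [], [], [], [], [], [], [16, 18, 22, 35], [], [], [], [], [], [], [], [], [25, 3, 18,
  29, 41], [], [], [], [], [0, 10, 17, 37], []], [[25, 11, 20, 11, 22], [], [], [], [], [], [], [], [24, 2,
  40, 3], [25, 3, 7, 38, 14], [], [], [], [], [], [], [25, 11, 19, 26], [], [24, 11, 36], [], [0, 38], [],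
  [25, 11, 36], [], [], [], [], [], [], [], [], [], [], [], [], [], [], [], [], [25, 29, 22, 38], [], [], [],
  [], [], [], [], [0, 18, 22, 35], [], [], [], [], [], [], [], [], [25, 10, 34, 17], [], [], [], [0, 34], [],
  [], []], [[23, 11, 36, 15], [], [], [], [], [], [], [], [16, 18, 26], [], [23, 9, 10, 13], [], [0, 41], [],
  [25, 9, 34, 9], [], [23, 2, 40, 36], [25, 3, 18, 29], [], [], [], [], [], [], [], [], [], [], [], [], [],
  [], [25, 18, 26, 30], [], [], [], [0, 26], [], [], [], [23, 11, 19, 22], [], [], [], [], [], [], [], [25,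
  22, 2, 29], [0, 18, 22, 34], [], [], [], [], [], [], [], [], [], [], [], [], [], [25, 9, 22, 2]], [[16, 18,
  22, 34], [], [], [], [], [], [], [0, 18, 22, 40], [23, 10, 41, 31], [], [25, 35, 26], [], [], [], [], [25,
  1, 29, 22], [16, 18, 21, 21], [], [], [], [23, 8, 11, 42], [], [], [], [], [], [], [], [], [], [], [], [],
  [25, 1, 29, 22, 34], [], [], [], [], [0, 10, 17, 39], [], [], [], [], [], [], [], [], [], [], [], [], [],
  [], [], [], [], [25, 8, 11], [], [0, 35, 1], [], [23, 8, 11], [], [25, 1, 18, 12, 12], []], [[], [], [], [],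
  [], [], [], [25, 29, 33, 22], [], [0, 11, 12, 35, 14], [], [], [], [], [], [0, 18, 38, 22], [], [], [], [],
  [], [], [], [], [16, 1, 18, 21], [], [23, 15, 11], [], [], [], [], [], [], [], [], [], [], [], [], [], [],
  [25, 29, 21, 28], [], [], [], [], [], [], [], [], [], [], [], [], [25, 13, 38, 36], [], [24, 11, 36, 14],
  [], [], [], [], [], [], []], [[], [], [], [], [], [], [25, 10, 29, 35], [], [], [], [], [], [], [], [], [],
  [], [], [], [], [], [], [], [], [23, 11, 19], [25, 3, 4, 17, 29], [25, 1, 35, 37], [], [16, 1, 40], [], [0,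
  35, 8, 18], [], [24, 2, 4, 3], [], [], [], [], [], [], [], [25, 8, 11, 21], [], [0, 35, 42], [], [], [], [],
  [], [23, 9, 29, 13], [], [], [], [25, 38], [], [], [25, 1, 29, 21, 6], [], [], [], [], [], [], [], []],
  [[5], [25, 3, 18, 29, 40], [16, 35, 38], [], [16, 1], [], [0, 4, 10, 17], [], [16, 18, 22, 38], [], [], [],
  [], [], [], [], [24, 2, 1, 3], [], [], [], [], [], [], [], [], [], [], [], [], [], [25, 1, 11, 36, 35], [],
  [16, 35, 2, 19], [0, 2, 21, 13, 6], [], [], [], [], [], [0, 18, 22, 42], [24, 20, 10], [], [], [], [16, 37],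
  [], [], [25, 1, 29, 39, 22], [25, 1, 20, 10, 35], [], [0, 35, 38], [], [], [], [], [], [], [], [], [], [],
  [], [], []], [[16, 18, 22, 6], [], [24, 14, 10], [], [], [], [], [], [23, 10, 14, 29], [], [], [], [], [],
  [], [], [25, 3, 43, 37, 20], [], [], [], [], [], [], [], [], [], [], [], [], [], [], [25, 1, 43, 9, 14], [],
  [], [], [], [], [], [], [], [], [], [], [], [], [], [25, 10, 29, 41], [], [], [25, 21, 2, 29, 21], [], [],
  [], [], [], [], [25, 10, 9, 22], [], [], [], [], [], [], []], [[24, 3, 14, 37, 31], [], [], [], [], [], [],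
  [], [16, 3, 35, 10], [], [], [], [23, 8, 11, 38], [], [], [], [24, 10, 15, 36], [], [16, 35], [], [], [],
  [], [25, 3, 17, 29], [], [0, 3, 12, 2, 18], [], [], [], [], [], [], [16, 1, 18, 35], [], [0, 35], [], [24,
  10, 9, 40], [], [25, 1, 14, 19, 8], [], [23, 2, 37, 36], [], [], [], [], [], [], [], [16, 37, 43, 2], [],
  [], [], [], [], [], [], [], [25, 3, 8, 3, 8], [], [], [], [], [0, 10, 17, 38], []], [[25, 9, 40, 2, 30], [],
  [], [], [], [], [], [], [23, 3, 14, 41, 11], [25, 12, 43, 12, 3], [], [], [], [], [], [], [25, 11, 19], [],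
  [24, 13, 31], [], [0, 6], [], [25, 13, 31], [], [], [], [], [], [], [], [], [], [], [], [], [], [], [], [],
  [25, 29, 37, 22], [], [], [], [], [], [], [], [0, 18, 22, 39], [], [], [], [], [], [], [], [], [25, 43, 35,
  29], [], [], [], [0, 26, 34], [], [], []], [[24, 15, 19, 18], [], [], [], [], [], [], [], [16, 18], [], [23,
  10, 29], [], [0, 42], [], [25, 1, 10, 29], [], [24, 2, 37, 29], [25, 2, 19, 2, 26], [], [], [], [], [], [],
  [], [], [], [], [], [], [], [], [25, 20, 10], [], [], [], [0], [], [], [], [24, 2, 37, 3], [], [], [], [],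
  [], [], [], [25, 20, 10, 43], [0, 18, 22, 16], [], [], [], [], [], [], [], [], [], [], [], [], [], [25, 9,
  2, 15, 3]], [[16, 35, 16, 15], [], [], [], [], [], [], [0, 10, 19, 22], [24, 11, 19, 43], [], [16, 35, 26],
  [], [], [], [], [25, 1, 13, 13, 22], [16, 18, 35, 28], [], [], [], [23, 8, 11, 37], [], [], [], [], [], [],
  [], [], [], [], [], [], [25, 13, 22, 14, 19], [], [], [], [], [0, 18, 41, 7], [], [], [], [], [], [], [],
  [], [], [], [], [], [], [], [], [], [], [25, 10, 9], [], [0, 7, 35], [], [23, 10, 9], [], [25, 11, 12, 22,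
  15], []], [[], [], [], [], [], [], [], [25, 29, 22, 40], [], [0, 6, 2, 23, 13], [], [], [], [], [], [0, 4,
  18, 22], [], [], [], [], [], [], [], [], [16, 1, 18, 43], [], [23, 9, 26, 19], [], [], [], [], [], [], [],
  [], [], [], [], [], [], [], [25, 29, 22, 26], [], [], [], [], [], [], [], [], [], [], [], [], [25, 10, 29,
  38], [], [23, 11, 41, 30], [], [], [], [], [], [], []], [[], [], [], [], [], [], [25, 9, 10, 13, 35], [],
  [], [], [], [], [], [], [], [], [], [], [], [], [], [], [], [], [24, 9, 29, 31], [25, 9, 22, 2, 26], [16, 1,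
  35, 37], [], [25, 1, 40], [], [0, 4, 29, 19], [], [23, 11, 19, 21], [], [], [], [], [], [], [], [25, 10, 9,
  21], [], [0, 6, 35], [], [], [], [], [], [24, 11, 20, 11], [], [], [], [16, 38], [], [], [25, 9, 2, 36, 2],
  [], [], [], [], [], [], [], []], [[23], [25, 29, 21, 32], [25, 22, 22], [], [25], [], [0, 7, 12, 12], [],
  [16, 18, 22], [], [], [], [], [], [], [], [24, 3, 9, 13, 2], [], [], [], [], [], [], [], [], [], [], [], [],
  [], [25, 13, 31, 35], [], [16, 35, 14], [0, 3, 43, 3, 19], [], [], [], [], [], [0, 18, 22, 38], [24, 9, 31,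
  29], [], [], [], [25, 42], [], [], [25, 2, 19, 2], [25, 30, 43, 9], [], [0, 4, 41, 35], [], [], [], [], [],
  [], [], [], [], [], [], [], []], [[16, 15, 22, 9], [], [23, 8, 1, 17], [], [], [], [], [], [23, 11, 34, 14],
  [], [], [], [], [], [], [], [25, 1, 30, 22, 8], [], [], [], [], [], [], [], [], [], [], [], [], [], [], [25,
  3, 17, 29, 40], [], [], [], [], [], [], [], [], [], [], [], [], [], [], [25, 11, 36, 38], [], [], [25, 3,
  17, 29, 26], [], [], [], [], [], [], [25, 1, 8, 11, 22], [], [], [], [], [], [], []], [[24, 3, 35, 21, 36],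
  [], [], [], [], [], [], [], [16, 14, 39, 9], [], [], [], [24, 11, 20, 9], [], [], [], [24, 10, 41, 12], [],
  [25, 1, 35], [], [], [], [], [25, 1, 29, 22, 35], [], [0, 18, 43, 7], [], [], [], [], [], [], [16, 3, 35,
  13], [], [0, 35, 4], [], [23, 8, 11, 40], [], [25, 11, 42, 19, 7], [], [23, 2, 39, 20], [], [], [], [], [],
  [], [], [16, 15, 38, 18], [], [], [], [], [], [], [], [], [25, 11, 29, 43, 32], [], [], [], [], [0, 10, 17,
  42], []], [[25, 8, 11, 43, 6], [], [], [], [], [], [], [], [23, 2, 40, 3], [25, 3, 17, 29, 1], [], [], [],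
  [], [], [], [25, 11, 19, 37], [], [23, 11, 36], [], [0, 4, 38], [], [25, 1, 11, 36], [], [], [], [], [], [],
  [], [], [], [], [], [], [], [], [], [], [25, 29, 22, 4], [], [], [], [], [], [], [], [0, 18, 39, 22], [],
  [], [], [], [], [], [], [], [25, 11, 20, 11], [], [], [], [0, 7], [], [], []], [[24, 11, 36, 15], [], [],
  [], [], [], [], [], [16, 18, 38], [], [24, 9, 10, 13], [], [0, 4, 41], [], [25, 9, 10, 13], [], [24, 2, 40,
  36], [25, 29, 22, 1], [], [], [], [], [], [], [], [], [], [], [], [], [], [], [25, 20, 10, 40], [], [], [],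
  [0, 4, 26], [], [], [], [24, 11, 19, 22], [], [], [], [], [], [], [], [25, 1, 22, 2, 29], [0, 13, 43, 3],
  [], [], [], [], [], [], [], [], [], [], [], [], [], [25, 1, 9, 22, 2]], [[16, 35, 14, 22], [], [], [], [],
  [], [], [0, 18, 22, 41], [24, 10, 41, 31], [], [25, 35, 16], [], [], [], [], [25, 29, 22], [16, 15, 38, 8],
  [], [], [], [24, 8, 11, 42], [], [], [], [], [], [], [], [], [], [], [], [], [25, 29, 22, 34], [], [], [],
  [], [0, 10, 17, 35], [], [], [], [], [], [], [], [], [], [], [], [], [], [], [], [], [], [25, 1, 8, 11], [],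
  [0, 4, 35, 1], [], [24, 8, 11], [], [25, 18, 12, 12], []], [[], [], [], [], [], [], [], [25, 29, 1, 22], [],
  [0, 2, 41, 14, 1], [], [], [], [], [], [0, 42, 2, 8], [], [], [], [], [], [], [], [], [16, 18, 21], [], [24,
  15, 11], [], [], [], [], [], [], [], [], [], [], [], [], [], [], [25, 1, 29, 21, 28], [], [], [], [], [],
  [], [], [], [], [], [], [], [25, 11, 36, 41], [], [23, 11, 36, 14], [], [], [], [], [], [], []], [[], [],
  [], [], [], [], [25, 1, 10, 29, 35], [], [], [], [], [], [], [], [], [], [], [], [], [], [], [], [], [],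
  [24, 11, 19], [25, 3, 11, 2, 8], [25, 35, 37], [], [16, 40], [], [0, 10, 17, 40], [], [23, 2, 4, 3], [], [],
  [], [], [], [], [], [25, 10, 9, 43], [], [0, 4, 35, 42], [], [], [], [], [], [24, 9, 29, 13], [], [], [],
  [25, 1, 38], [], [], [25, 29, 21, 6], [], [], [], [], [], [], [], []]]
def DY : List (List (List ℕ)) := [[[], [37], [], [], [37, 22, 22, 43, 21], [], [], [], [37, 43, 22, 22], [],
  [], [], [], [], [], [], [], [37, 22, 22, 22, 43, 22, 43], [], [], [37, 21, 21, 43, 22, 22], [], [37, 38, 43,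
  22], [], [], [], [], [], [], [], [], [], [], [37, 21, 38], [], [], [], [], [], [], [37, 22, 22, 43], [],
  [37, 21, 38, 43, 21], [], [], [], [], [], [], [], [], [37, 21, 21], [], [], [], [], [], [], [], [], [], [],
  [], []], [[], [37, 38], [], [], [37, 43, 21, 21], [], [], [], [37, 38, 43, 22, 22], [], [], [], [], [], [],
  [], [], [37, 21, 21, 43, 22, 43], [], [], [37, 21, 43, 21, 21], [], [37, 43, 22], [], [], [], [], [], [],
  [], [], [], [], [37, 21], [], [], [], [], [], [], [37, 43, 21], [], [37, 21, 43, 21], [], [], [], [], [],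
  [], [], [], [37, 22, 22, 22], [], [], [], [], [], [], [], [], [], [], [], []], [[], [37, 22, 22, 22, 43,
  22], [], [], [37, 21, 43, 21, 43, 21], [], [], [], [37, 38, 43, 22, 22, 43], [], [], [], [], [], [], [], [],
  [37, 43], [], [], [37, 22, 40], [], [37, 43, 22, 22, 43, 21], [], [], [], [], [], [], [], [], [], [], [37,
  21, 21, 43], [], [], [], [], [], [], [37, 21, 43, 21, 43], [], [37, 22, 22, 37], [], [], [], [], [], [], [],
  [], [37, 21, 38, 43], [], [], [], [], [], [], [], [], [], [], [], []], [[], [37, 21, 21, 43, 22], [], [],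
  [37, 21, 38, 43, 21, 43, 21], [], [], [], [37, 43, 22, 22, 43], [], [], [], [], [], [], [], [], [37, 38,
  43], [], [], [37, 22], [], [37, 38, 43, 22, 22, 43, 21], [], [], [], [], [], [], [], [], [], [], [37, 22,
  22, 22, 43], [], [], [], [], [], [], [37, 21, 38, 43, 21, 43], [], [37, 22, 22], [], [], [], [], [], [], [],
  [], [37, 21, 43], [], [], [], [], [], [], [], [], [], [], [], []]]
def YL : List ℕ := [1, 4, 8, 1, 17, 1, 20, 1]

end H27.HN
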