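import Mathlib
import Cfsg.Agent.H27.HNK1
import Cfsg.Agent.H27.HNKd

/-!
# The Sylow 2-subgroup of `2.HS.2`

Letters: `0 x, 2 y, 4 s, 5 f, 6 ρ, 8 s1, 10 ρ1, 12 s3, 14 s4, 16 β, 17 g1, 19 m, 21 w1, 23 a, 24 e, 25 d,
26 a', 27 a3, 28 κ, 29 μ, 30 v1, 31 v3, 32 j, 33 τ, 34 t, 35 w, 36 ν, 37..42 b, 43 w2`.
-/

set_option autoImplicit false
set_option linter.unusedSectionVars false
set_option maxRecDepth 100000
set_option Elab.async false

namespace H27.HN

open H29 H15.KM H24 Subgroup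

/-- The letters generate the centraliser of `e 5`, a copy of the model. -/
structure Mod {G : Type*} [Group G] (e : ℕ → G) : Prop where
  iso : Iso run e
  card : ♯C{e 5} = 177408000
  cf : ∀ c, e c ∈ C{e 5}
  cρ : ∀ g ∈ C{e 5}, g ∈ C{e 6} → g ∈ gen e (5 :: Lρ)
  ca : ∀ g ∈ C{e 5}, g ∈ C{e 24} → g ∈ gen e (5 :: LW)
  cR : ∀ g ∈ C{e 5}, (∀ c ∈ [37, 38, 39, 40, 41, 42, 24], g ∈ C{e c}) → g ∈ gen e [5, 24]

theorem f_cent (g : K) : g ∈ C{m 5} := by
  rw [mem_C1_iff_conj, m5]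
  have h : ψ fK = 1 := HS100.ψ_sq
  rcases ker_cases (g := g * fK * g⁻¹) (by simp [h]) with h1 | h1
  · exact absurd (show fK = 1 by simpa using h1) HS100.sq_ne
  · exact h1

theorem mod_hom {G : Type*} [Group G] (φ : K →* G) (hi : Function.Injective φ)
    (hr : φ.range = C{φ (m 5)}) : Mod fun c => φ (m c) := by
  have key : ∀ {U L : List ℕ}, XU m U ≤ gen m L → ∀ g ∈ C{φ (m 5)}, (∀ c ∈ U, g ∈ C{φ (m c)}) →
      g ∈ gen (fun c => φ (m c)) L := fun {U L} h g h1 h2 => by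
    obtain ⟨k, rfl⟩ : g ∈ φ.range := hr ▸ h1
    rw [← map_gen]
    refine mem_map_of_mem _ (h (mem_XU.2 fun c hc => ?_))
    rw [← map_mul, ← map_mul, hi ((map_mul _ _ _).trans ((mem_C1.1 (h2 c hc)).trans
      (map_mul _ _ _).symm))]
  refine ⟨fun u v => by rw [← map_ev, ← map_ev, hi.eq_iff, iso u v], ?_,
    fun c => hr ▸ ⟨_, rfl⟩, fun g h1 h2 => key centρ g h1 (by simpa using h2),
    fun g h1 h2 => key centa g h1 ?_, key centR⟩
  · rw [← hr, ← HK.card]
    exact (Nat.card_congr (MonoidHom.ofInjective hi).toEquiv).symm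
  · have h3 : m 23 = m 5 * m 24 := by
      simpa using iso.eqW.1 (by decide +kernel : eqW run [23] [5, 24] = true)
    simp only [List.forall_mem_cons, h3, map_mul]
    exact ⟨mem_C1_comm.1 (mul_mem (mem_C1_comm.1 h1) (mem_C1_comm.1 h2)), by simp⟩

theorem mod_m : Mod m := mod_hom (MonoidHom.id K) Function.injective_id (by
  ext g; simpa using f_cent g)

def lR : List ℕ := [37, 38, 39, 40, 41, 42, 24, 5]
def lT : List ℕ := 35 :: 34 :: 16 :: lR
def lI : List ℕ := [37, 38, 39, 40, 41, 42, 5]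

theorem chk_pcT : chkPC run iv lT = true := by decide +kernel
theorem chk_cls : allM lT (fun n x => imp2 (inW run [[], [5]] (app x x))
    (ty run iv [] [99, 5, 23, 24, 0, 16, 25] (tb DT n) x)) = true := by decide +kernel
theorem chk_V : allM lT (fun n x => imp2 (eqW run (app x x) []) (or2 (Nat.beq (Nat.mod n 8) 0)
    (or2 (ty run iv [] [24, 25] (tb DT n) x)
      (ty run iv [] [24, 25] (tb DT (Nat.xor n 512)) (app x [24]))))) = true := by decide +kernel
theorem chk_m : (allN 128 fun n => lit n fun n => frc (mw lI n) fun x =>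
    lit (Nat.add (Nat.mul 8 (Nat.mod n 64)) (Nat.mul 1024 (Nat.div n 64))) fun k => Bool.rec
      (or2 (not1 (eqW run (app x x) [])) (or2 (ty run iv [] [99, 24, 25] (tb DT k) x)
        (ty run iv [] [99, 24, 25] (tb DT (Nat.add k 512)) (app x [24]))))
      (and2 (ty run iv [] [5, 23, 16] (tb DT k) x)
        (ty run iv [] [5, 23, 16] (tb DT (Nat.add k 512)) (app x [24])))
      (bitL 21973901876580535896678605696022282550 n)) = true := by decide +kernel
theorem chk_y : allM lR (fun n x => or2 (ty run iv [24] [37] (tb DY n) x)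
    (or2 (not1 (eqW run (app x x) [])) (or2 (ty run iv [] [99, 24, 25] (tb DT (Nat.mul 8 n)) x)
      (or2 (ty run iv [] [99, 24, 25] (tb DT (Nat.xor (Nat.mul 8 n) 512)) (app x [24]))
        (ty run iv [] [99, 24, 25] (tb DT (Nat.xor (Nat.mul 8 n) 1024)) (app x [5])))))) = true := by
  decide +kernel
theorem chk_fix : (frc (vals run lR) fun V => allM lT fun n x =>
    frc (mw lR (nth 0 YL (Nat.mod n 8))) fun y =>
      or2 (inW run [[], [5], [24], [5, 24]] (app x (app y (invW iv (app y x)))))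
        (not1 (inV run V (app x x)))) = true := by decide +kernel
theorem chk_YL : (allN 8 fun i => lit (nth 0 YL i) fun n => frc (mw lR n) fun y =>
    and2 (ty run iv [] [16] (tb DT (Nat.mul 8 n)) y)
      (and2 (ty run iv [] [16] (tb DT (Nat.xor (Nat.mul 8 n) 512)) (app y [24]))
        (ty run iv [] [16] (tb DT (Nat.xor (Nat.mul 8 n) 1024)) (app y [5])))) = true := by
  decide +kernel
theorem chk_cen : (allN 11 fun i => lit (nth 0 lT i) fun c => anyL [[16, 25], [99, 5, 23, 24]] fun R =>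
    and2 (ty run iv [] R (tb DT (Nat.pow 2 i)) [c])
      (ty run iv [] R (tb DT (Nat.xor (Nat.pow 2 i) 1536)) [23, c])) = true := by decide +kernel
theorem chk_n5 : cntN 2048 (fun n => frc (mw lT n) fun x => eqW run (app x x) [5]) = 80 := by
  decide +kernel
theorem chk_n24 : cntN 2048 (fun n => frc (mw lT n) fun x => eqW run (app x x) [24]) = 112 := by
  decide +kernel
theorem chk_n23 : cntN 2048 (fun n => frc (mw lT n) fun x => inW run [[23], [24]] (app x x)) = 192 := by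
  decide +kernel
theorem chk_nb : cntN 2048 (fun n => frc (mw lT n) fun x =>
    ty run iv [] [0, 16, 25] (tb DT n) x) = 288 := by decide +kernel

/-- `x` is conjugate in the centraliser to one of the letters `R`. -/
def Ty {G : Type*} [Group G] (e : ℕ → G) (R : List ℕ) (x : G) : Prop :=
  ∃ r ∈ R, ∃ k ∈ C{e 5}, k * x * k⁻¹ = e r

namespace Mod

variable {G : Type*} [Group G] [Finite G] {e : ℕ → G} (h : Mod e)
include h

theorem iv : IvOK e iv := h.iso.ivOK HN.iso hiv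
theorem evC (w : List ℕ) : ev e w ∈ C{e 5} := ev_mem fun c _ => h.cf c
theorem genC (l : List ℕ) : gen e l ≤ C{e 5} := gen_le.2 fun c _ => h.cf c
theorem eq {u v : List ℕ} (hc : eqW run u v = true := by decide +kernel) : ev e u = ev e v :=
  h.iso.eqW.1 hc
theorem ne {u v : List ℕ} (hc : not1 (eqW run u v) = true := by decide +kernel) : ev e u ≠ ev e v :=
  h.iso.ne hc
theorem e99 : e 99 = 1 := by simpa using h.eq (u := [99]) (v := [])
theorem ty {U R c x : List ℕ} (hc : ty run HN.iv U R c x = true) : Ty e R (ev e x) := by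
  obtain ⟨r, h1, g, h2, -⟩ := ty_sound h.iso h.iv hc
  exact ⟨r, h1, _, h.evC g, h2⟩

theorem pcT : PC e lT := h.iso.pc h.iv chk_pcT
theorem pcR : PC e lR := h.pcT.drop 3
theorem sylT {H : Subgroup G} (h1 : gen e lT ≤ H) (h2 : H ≤ C{e 5}) : Syl 2 H (gen e lT) :=
  syl_of_card (k := 11) Nat.prime_two h1 h.pcT.card (h.card ▸ card_dvd_of_le h2) (by norm_num)
theorem T_le : gen e lT ≤ C{e 5} ⊓ C{e 24} :=
  le_inf (h.genC _) (by simpa using h.iso.cent (v := [24]) (by decide +kernel))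
theorem f2 : e 5 * e 5 = 1 := by simpa using h.eq (u := [5, 5]) (v := [])
theorem W_le : C{e 5} ⊓ C{e 24} ≤ N[gen e lR] := fun g hg =>
  h.iso.norm h.iv (by decide +kernel) (h.ca g hg.1 hg.2)

theorem Ty.conj {R : List ℕ} {x k : G} (hk : k ∈ C{e 5}) (h1 : Ty e R (k * x * k⁻¹)) : Ty e R x := by
  obtain ⟨r, h2, g, h3, h4⟩ := h1
  exact ⟨r, h2, g * k, mul_mem h3 hk, by rw [← h4]; group⟩

theorem cls {g : G} (hg : g ∈ C{e 5}) (h2 : g * g = 1 ∨ g * g = e 5) :
    Ty e [99, 5, 23, 24, 0, 16, 25] g := by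
  obtain ⟨k, h3, h4⟩ := conj_into (j := 2) Nat.prime_two (h.sylT (h.genC _) le_rfl) hg (by
    rw [show g ^ 2 ^ 2 = g * g * (g * g) by simp [pow_succ, mul_assoc]]
    rcases h2 with h2 | h2 <;> simp [h2, h.f2])
  obtain ⟨n, h5, h6⟩ := h.pcT.cover h4
  have h7 := allM_sound chk_cls h5
  rw [imp2_true, inW_true h.iso] at h7
  refine Ty.conj h h3 (h6 ▸ h.ty (h7 ?_))
  simp only [app_eq, ev_append, h6, List.mem_cons, List.not_mem_nil, or_false, exists_eq_or_imp,
    exists_eq_left, ev_cons, ev_nil, mul_one]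
  rw [show k * g * k⁻¹ * (k * g * k⁻¹) = k * (g * g) * k⁻¹ by group]
  exact h2.imp (fun h2 => by simp [h2]) fun h2 => by rw [h2, mem_C1_iff_conj.1 h3]

theorem inR {u : G} (hu : u ∈ C{e 5} ⊓ C{e 24}) (h2 : u * u = 1) :
    u ∈ gen e lR ∨ Ty e [24, 25] u ∨ Ty e [24, 25] (u * e 24) := by
  obtain ⟨k, h3, h4⟩ := conj_into (j := 1) Nat.prime_two (h.sylT h.T_le inf_le_left) hu
    (by rw [pow_one, sq, h2])
  obtain ⟨n, h5, h6⟩ := h.pcT.cover h4
  have h7 := allM_sound chk_V h5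
  simp only [imp2_true, or2_true, h.iso.eqW, app_eq, ev_append, h6, H29.beq_true] at h7
  rcases h7 (by simp [h2]) with h8 | h8 | h8
  · obtain ⟨j, rfl⟩ : ∃ j, n = 2 * (2 * (2 * j)) := ⟨n / 8, by have : n % 8 = 0 := h8; omega⟩
    rw [lT, mw_even, mw_even, mw_even] at h6
    exact .inl ((mem_N.1 (h.W_le h3) u).2 (h6 ▸ ev_mw_mem _ _))
  · exact .inr (.inl (Ty.conj h h3.1 (h6 ▸ h.ty h8)))
  · refine .inr (.inr (Ty.conj h h3.1 ?_))
    have := h.ty h8
    simp only [ev_append, h6, ev_cons, ev_nil, mul_one] at this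
    rwa [← mem_C1_iff_conj.1 h3.2, show k * u * k⁻¹ * (k * e 24 * k⁻¹) = k * (u * e 24) * k⁻¹ by group]
      at this

theorem mask {n : ℕ} (hn : n < 128) :
    ((21973901876580535896678605696022282550 : ℕ).testBit n = true →
      Ty e [5, 23, 16] (ev e (mw lI n)) ∧ Ty e [5, 23, 16] (ev e (mw lI n) * e 24)) ∧
    (¬ (21973901876580535896678605696022282550 : ℕ).testBit n = true →
      ev e (mw lI n) * ev e (mw lI n) ≠ 1 ∨ Ty e [99, 24, 25] (ev e (mw lI n)) ∨
        Ty e [99, 24, 25] (ev e (mw lI n) * e 24)) := by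
  have h1 := allN_true.1 chk_m n hn
  simp only [lit_eq, frc_eq] at h1
  rw [← bitL_true]
  generalize bitL 21973901876580535896678605696022282550 n = b at h1 ⊢
  cases b
  · simp only [or2_true, not1_true, h.iso.eqW, app_eq, ev_append, ev_nil] at h1
    exact ⟨by simp, fun _ => h1.imp_right (Or.imp h.ty fun h2 => by simpa using h.ty h2)⟩
  · simp only [and2_true, app_eq] at h1
    exact ⟨fun _ => ⟨h.ty h1.1, by simpa using h.ty h1.2⟩, by simp⟩

theorem toB {u : G} (hu : u ∈ gen e lR) (h2 : u * u = 1) :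
    (∃ k ∈ C{e 5} ⊓ C{e 24}, k * u * k⁻¹ = e 37) ∨ Ty e [99, 24, 25] u ∨
      Ty e [99, 24, 25] (u * e 24) ∨ Ty e [99, 24, 25] (u * e 5) := by
  obtain ⟨n, h5, rfl⟩ := h.pcR.cover hu
  have h7 := allM_sound chk_y h5
  simp only [or2_true, not1_true, h.iso.eqW, app_eq, ev_append, h2, ev_nil, not_true, false_or] at h7
  refine h7.imp (fun h8 => ?_) (Or.imp h.ty (Or.imp (fun h2 => by simpa using h.ty h2)
    fun h2 => by simpa using h.ty h2))
  obtain ⟨r, h1, g, h2, h3⟩ := ty_sound h.iso h.iv h8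
  exact ⟨_, ⟨h.evC g, mem_C1.2 (h3 _ (by simp))⟩, by rw [h2, List.mem_singleton.1 h1]⟩

theorem fix {u : G} (hu : u ∈ C{e 5} ⊓ C{e 24}) (h2 : u * u ∈ gen e lR) :
    ∃ y ∈ gen e lR, Ty e [16] y ∧ Ty e [16] (y * e 24) ∧ Ty e [16] (y * e 5) ∧
      u * y * u⁻¹ * y⁻¹ ∈ closure {e 5, e 24} := by
  obtain ⟨k, h3, h4⟩ := conj_into (j := 9) Nat.prime_two (h.sylT h.T_le inf_le_left) hu (by
    have := congrArg Subtype.val (pow_card_eq_one' (x := (⟨_, h2⟩ : gen e lR)))
    rw [h.pcR.card] at this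
    rw [pow_succ', pow_mul, sq]; exact this)
  obtain ⟨n, h5, h6⟩ := h.pcT.cover h4
  have h7 := allM_sound (by simpa only [frc_eq] using chk_fix) h5
  have h8 := allN_true.1 chk_YL (n % 8) (by omega)
  simp only [or2_true, not1_true, inV_vals, h.iso.inP h.pcR, inW_true h.iso, app_eq, ev_append, h6,
    ev_invW h.iv, and2_true, lit_eq, frc_eq] at h7 h8
  have hk := h.W_le (inv_mem h3)
  set y := ev e (mw lR (nth 0 YL (n % 8))) with hy
  have c5 := mem_C1_iff_conj.1 (inv_mem h3.1)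
  have c24 := mem_C1_iff_conj.1 (inv_mem h3.2)
  refine ⟨k⁻¹ * y * k⁻¹⁻¹, (mem_N.1 hk y).1 (ev_mw_mem _ _), Ty.conj h h3.1 (by simpa [mul_assoc] using h.ty h8.1),
    Ty.conj h h3.1 ?_, Ty.conj h h3.1 ?_, ?_⟩
  · rw [← c24]; simpa [mul_assoc] using h.ty h8.2.1
  · rw [← c5]; simpa [mul_assoc, c5] using h.ty h8.2.2
  · rcases h7 with ⟨w, h9, h10⟩ | h9
    · have h11 : u * (k⁻¹ * y * k⁻¹⁻¹) * u⁻¹ * (k⁻¹ * y * k⁻¹⁻¹)⁻¹ = k⁻¹ * ev e w * k⁻¹⁻¹ := by
        rw [h10]; change _ = k⁻¹ * (_ * (y * (y * _)⁻¹)) * _; group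
      have a5 : e 5 ∈ closure {e 5, e 24} := subset_closure (by simp)
      have a24 : e 24 ∈ closure {e 5, e 24} := subset_closure (by simp)
      rw [h11]
      simp only [List.mem_cons, List.not_mem_nil, or_false] at h9
      rcases h9 with rfl | rfl | rfl | rfl
      · simp
      · simpa only [ev_cons, ev_nil, mul_one, c5] using a5
      · simpa only [ev_cons, ev_nil, mul_one, c24] using a24
      · rw [ev_cons, ev_cons, ev_nil, mul_one, show k⁻¹ * (e 5 * e 24) * k⁻¹⁻¹ =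
          k⁻¹ * e 5 * k⁻¹⁻¹ * (k⁻¹ * e 24 * k⁻¹⁻¹) by group, c5, c24]
        exact mul_mem a5 a24
    · refine absurd ?_ h9
      rw [show k * u * k⁻¹ * (k * u * k⁻¹) = k * (u * u) * k⁻¹ by group]
      exact (mem_N.1 (h.W_le h3) _).1 h2

theorem n5 : {g | g ∈ gen e lT ∧ g * g = e 5}.ncard = 80 :=
  (pc_ncard h.pcT _ _ fun n _ => by simp [h.iso.eqW]).trans chk_n5
theorem n24 : {g | g ∈ gen e lT ∧ g * g = e 24}.ncard = 112 :=
  (pc_ncard h.pcT _ _ fun n _ => by simp [h.iso.eqW]).trans chk_n24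
theorem n23 : {g | g ∈ gen e lT ∧ (g * g = e 23 ∨ g * g = e 24)}.ncard = 192 :=
  (pc_ncard h.pcT _ _ fun n _ => by simp [inW_true h.iso, eq_comm]).trans chk_n23
theorem nb : 288 ≤ {g | g ∈ gen e lT ∧ Ty e [0, 16, 25] g}.ncard :=
  chk_nb.ge.trans (pc_le_ncard h.pcT _ _ fun n _ h1 => h.ty (by simpa using h1))
theorem cen {c : ℕ} (hc : c ∈ lT) : ∃ R ∈ [[16, 25], [99, 5, 23, 24]], Ty e R (e c) ∧
    Ty e R (e 23 * e c) := by
  obtain ⟨i, h1, rfl⟩ := List.getElem_of_mem hc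
  have h2 := allN_true.1 chk_cen i h1
  simp only [lit_eq, anyL_true, and2_true, nth_eq, List.getD_eq_getElem _ _ h1] at h2
  obtain ⟨R, h3, h4, h5⟩ := h2
  exact ⟨R, h3, by simpa using h.ty h4, by simpa using h.ty h5⟩

theorem not_fe : ¬ IsConj (e 5) (e 24) := fun h1 => by
  have := sqrt_eq (h.sylT (h.genC _) le_rfl) (h.T_le.trans inf_le_right) h1.symm
  rw [h.n5, h.n24] at this
  omega

end Mod

end H27.HN
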