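import Mathlib

/-! # Certificates: the centraliser of an element of order three -/

set_option maxRecDepth 100000

namespace H27.HN

def W45 : List (List ℕ) := [[], [6], [7], [8], [9], [10], [11], [8, 6], [9, 6], [10, 6], [11, 6], [8, 7], [9,
  7], [10, 7], [11, 7], [4, 8], [8, 8], [10, 8], [11, 8], [23, 8], [26, 8], [4, 9], [10, 9], [8, 11], [9, 11],
  [4, 8, 6], [8, 8, 6], [10, 8, 6], [11, 8, 6], [23, 8, 6], [26, 8, 6], [4, 9, 6], [10, 9, 6], [8, 11, 6], [9,
  11, 6], [4, 8, 7], [8, 8, 7], [10, 8, 7], [11, 8, 7], [23, 8, 7], [26, 8, 7], [4, 9, 7], [10, 9, 7], [8, 11,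
  7], [9, 11, 7]]
def D45 : List (List ℕ) := [[], [], [], [], [45, 46, 47, 15, 21, 50, 51, 25, 31, 54, 55, 35, 41, 58, 59, 3,
  243, 424, 601, 422, 249, 4, 68, 67, 605, 7, 253, 434, 611, 432, 259, 8, 78, 77, 615, 11, 263, 444, 621, 442,
  269, 12, 88, 87, 625], [720, 721, 722, 723, 724, 725, 726, 727, 728, 729, 730, 731, 732, 733, 734, 735, 736,
  737, 738, 739, 740, 741, 742, 743, 744, 745, 746, 747, 748, 749, 750, 751, 752, 753, 754, 755, 756, 757,
  758, 759, 760, 761, 762, 763, 764], [1, 2, 0, 7, 8, 9, 10, 11, 12, 13, 14, 3, 4, 5, 6, 25, 26, 27, 28, 29,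
  30, 31, 32, 33, 34, 35, 36, 37, 38, 39, 40, 41, 42, 43, 44, 15, 16, 17, 18, 19, 20, 21, 22, 23, 24], [2, 0,
  1, 11, 12, 13, 14, 3, 4, 5, 6, 7, 8, 9, 10, 35, 36, 37, 38, 39, 40, 41, 42, 43, 44, 15, 16, 17, 18, 19, 20,
  21, 22, 23, 24, 25, 26, 27, 28, 29, 30, 31, 32, 33, 34], [3, 7, 11, 16, 0, 184, 23, 26, 1, 188, 33, 36, 2,
  192, 43, 609, 185, 199, 60, 200, 426, 67, 377, 198, 6, 619, 189, 209, 70, 210, 436, 77, 387, 208, 10, 629,
  193, 219, 80, 220, 446, 87, 397, 218, 14], [4, 8, 12, 0, 185, 196, 24, 1, 189, 206, 34, 2, 193, 216, 44, 63,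
  3, 382, 203, 197, 199, 425, 66, 6, 240, 73, 7, 392, 213, 207, 209, 435, 76, 10, 250, 83, 11, 402, 223, 217,
  219, 445, 86, 14, 260], [5, 9, 13, 17, 22, 6, 0, 27, 32, 10, 1, 37, 42, 14, 2, 424, 240, 18, 3, 556, 4, 68,
  20, 564, 606, 434, 250, 28, 7, 566, 8, 78, 30, 574, 616, 444, 260, 38, 11, 576, 12, 88, 40, 584, 626], [6,
  10, 14, 18, 20, 0, 5, 28, 30, 1, 9, 38, 40, 2, 13, 601, 559, 3, 17, 420, 22, 249, 4, 66, 563, 611, 569, 7,
  27, 430, 32, 259, 8, 76, 573, 621, 579, 11, 37, 440, 42, 269, 12, 86, 583], [], [], [], [], [90, 91, 92, 93,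
  94, 95, 96, 97, 98, 99, 100, 101, 102, 103, 104, 825, 106, 107, 108, 109, 110, 831, 112, 113, 114, 835, 116,
  117, 118, 119, 120, 841, 122, 123, 124, 845, 126, 127, 128, 129, 130, 851, 132, 133, 134], [], [], [], [],
  [], [], [360, 361, 362, 19, 560, 366, 365, 29, 570, 370, 369, 39, 580, 374, 373, 422, 558, 420, 556, 3, 544,
  429, 562, 203, 426, 432, 568, 430, 566, 7, 548, 439, 572, 213, 436, 442, 578, 440, 576, 11, 552, 449, 582,
  223, 446], [], [], [180, 181, 182, 20, 559, 198, 16, 30, 569, 208, 26, 40, 579, 218, 36, 561, 6, 204, 185,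
  544, 3, 555, 382, 563, 197, 571, 10, 214, 189, 548, 7, 565, 392, 573, 207, 581, 14, 224, 193, 552, 11, 575,
  402, 583, 217]]
def DC : List (List (List ℕ)) := [[[99], [4], [16], [], [23, 8, 11], [], [25, 8, 11], [], [23], [4, 26], [25],
  [], [23, 10, 9], [], [25, 10, 9], [], [5], [4, 16], [16, 4], [], [24, 8, 11], [], [25, 4, 8, 11], [], [24],
  [4, 16, 26], [25, 4], [], [24, 10, 9], [], [25, 4, 10, 9], [], [], [], [], [], [], [], [], [], [], [], [],
  [], [], [], [], [], [], [], [], [], [], [], [], [], [], [], [], [], [], [], [], []], [[], [], [], [], [],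
  [], [], [], [], [], [], [], [], [], [], [], [], [], [], [], [], [], [], [], [], [], [], [], [], [], [], [],
  [], [], [], [], [], [], [], [], [], [], [], [], [23, 10, 8], [], [25, 10, 8], [], [], [], [], [], [], [],
  [], [], [], [], [], [], [24, 10, 8], [], [25, 4, 10, 8], []], [[], [], [], [], [], [], [], [], [], [], [],
  [], [23, 9, 4], [], [25, 4, 9, 4], [], [], [], [], [], [], [], [], [], [], [], [], [], [24, 9, 4], [], [25,
  9, 4], [], [], [], [], [], [], [], [], [], [23, 10], [4, 8, 26], [25, 10], [], [], [], [], [], [], [], [],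
  [], [], [], [], [], [24, 10], [4, 8, 16, 26], [25, 4, 10], [], [], [], [], []], [[], [], [], [], [], [], [],
  [], [23, 11], [4, 8, 8], [25, 11], [], [], [], [], [], [], [], [], [], [], [], [], [], [24, 11], [4, 8, 8,
  16], [25, 4, 11], [], [], [], [], [], [], [], [], [], [], [], [], [], [], [], [], [], [], [], [], [], [],
  [], [], [], [], [], [], [], [], [], [], [], [], [], [], []], [[], [], [], [], [], [], [], [], [], [], [],
  [], [], [], [], [], [], [], [], [], [], [], [], [], [], [], [], [], [], [], [], [], [], [], [], [], [], [],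
  [], [], [], [], [], [], [], [], [], [], [], [], [], [], [], [], [], [], [], [], [], [], [], [], [], []],
  [[], [], [], [], [], [], [], [], [], [], [], [], [], [], [], [], [], [], [], [], [], [], [], [], [], [], [],
  [], [], [], [], [], [], [], [], [], [], [], [], [], [], [], [], [], [], [], [], [], [], [], [], [], [], [],
  [], [], [], [], [], [], [], [], [], []], [[], [], [], [], [], [], [], [], [], [], [], [], [], [], [], [],
  [], [], [], [], [], [], [], [], [], [], [], [], [], [], [], [], [], [], [], [], [], [], [], [], [], [], [],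
  [], [], [], [], [], [], [], [], [], [], [], [], [], [], [], [], [], [], [], [], []], [[], [], [], [], [],
  [], [], [], [], [], [], [], [], [], [], [], [], [], [], [], [], [], [], [], [], [], [], [], [], [], [], [],
  [], [], [], [], [], [23, 9, 26], [], [25, 9, 26], [], [], [], [], [], [], [], [], [], [], [], [], [], [24,
  9, 26], [], [25, 4, 9, 26], [], [], [], [], [], [], [], []], [[], [], [], [], [], [], [], [], [], [], [],
  [], [23, 9, 10], [4, 9, 10], [25, 9, 10], [], [], [], [], [], [], [], [], [], [], [], [], [], [24, 9, 10],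
  [4, 9, 10, 16], [25, 4, 9, 10], [], [], [], [], [], [23, 8], [], [25, 8], [], [], [], [], [], [], [], [],
  [], [], [], [], [], [24, 8], [], [25, 4, 8], [], [], [], [], [], [], [], [], []], [[], [4, 8], [], [], [],
  [], [], [], [23, 9, 9], [], [25, 9, 9], [], [], [], [], [], [], [4, 8, 16], [], [], [], [], [], [], [24, 9,
  9], [], [25, 4, 9, 9], [], [], [], [], [], [], [], [], [], [23, 8, 4], [], [25, 4, 8, 4], [], [], [], [],
  [], [], [], [], [], [], [], [], [], [24, 8, 4], [], [25, 8, 4], [], [], [], [], [], [], [], [], []], [[],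
  [], [], [], [], [], [], [], [23, 9, 11], [], [25, 9, 11], [], [], [], [], [], [], [], [], [], [], [], [],
  [], [24, 9, 11], [], [25, 4, 9, 11], [], [], [], [], [], [], [], [], [], [], [23, 9], [], [25, 9], [], [],
  [], [], [], [], [], [], [], [], [], [], [], [24, 9], [], [25, 4, 9], [], [], [], [], [], [], [], []], [[],
  [4, 9], [], [], [], [], [], [], [], [], [], [], [], [4, 9, 23], [], [], [], [4, 9, 16], [], [], [], [], [],
  [], [], [], [], [], [], [4, 9, 16, 23], [], [], [], [4, 9, 4], [], [], [], [4, 9, 11], [], [], [], [], [],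
  [], [], [], [], [], [], [4, 9, 4, 16], [], [], [], [4, 9, 11, 16], [], [], [], [], [], [], [], [], [], []],
  [[], [], [], [], [23, 9, 23], [], [25, 9, 23], [], [], [], [], [], [], [], [], [], [], [], [], [], [24, 9,
  23], [], [25, 4, 9, 23], [], [], [], [], [], [], [], [], [], [], [], [], [], [], [], [], [], [], [], [], [],
  [], [], [], [], [], [], [], [], [], [], [], [], [], [], [], [], [], [], [], []], [[], [], [], [], [], [],
  [], [], [], [], [], [], [], [], [], [], [], [], [], [], [], [], [], [], [], [], [], [], [], [], [], [], [],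
  [], [], [], [], [], [], [], [], [], [], [], [], [], [], [], [], [], [], [], [], [], [], [], [], [], [], [],
  [], [], [], []], [[], [], [], [], [], [], [], [], [], [], [], [], [], [], [], [], [], [], [], [], [], [],
  [], [], [], [], [], [], [], [], [], [], [], [], [], [], [], [], [], [], [], [], [], [], [], [], [], [], [],
  [], [], [], [], [], [], [], [], [], [], [], [], [], [], []], [[], [], [], [], [], [], [], [], [], [], [],
  [], [], [], [], [], [], [], [], [], [], [], [], [], [], [], [], [], [], [], [], [], [], [], [], [], [], [],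
  [], [], [], [], [], [], [], [], [], [], [], [], [], [], [], [], [], [], [], [], [], [], [], [], [], []],
  [[], [], [], [], [], [], [], [], [], [], [], [], [], [], [], [], [], [], [], [], [], [], [], [], [], [], [],
  [], [], [], [], [], [], [], [], [], [], [], [], [], [], [], [], [], [], [], [], [], [], [], [], [], [], [],
  [], [], [], [], [], [], [], [], [], []], [[], [], [], [], [], [], [], [], [], [], [], [], [], [], [], [],
  [], [], [], [], [], [], [], [], [], [], [], [], [], [], [], [], [], [], [], [], [], [], [], [], [], [], [],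
  [], [], [], [], [], [], [], [], [], [], [], [], [], [], [], [], [], [], [], [], []], [[], [], [], [], [],
  [], [], [], [], [], [], [], [], [], [], [], [], [], [], [], [], [], [], [], [], [], [], [], [], [], [], [],
  [], [], [], [], [], [], [], [], [], [], [], [], [], [], [], [], [], [], [], [], [], [], [], [], [], [], [],
  [], [], [], [], []], [[], [], [], [], [], [], [], [], [], [], [], [], [], [], [], [], [], [], [], [], [],
  [], [], [], [], [], [], [], [], [], [], [], [], [], [], [], [], [], [], [], [], [], [], [], [], [], [], [],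
  [], [], [], [], [], [], [], [], [], [], [], [], [], [], [], []], [[], [], [], [], [], [], [], [], [], [],
  [], [], [], [], [], [], [], [], [], [], [], [], [], [], [], [], [], [], [], [], [], [], [], [], [], [], [],
  [], [], [], [], [], [], [], [], [], [], [], [], [], [], [], [], [], [], [], [], [], [], [], [], [], [], []],
  [[], [], [], [], [], [], [], [], [], [], [], [], [], [], [], [], [], [], [], [], [], [], [], [], [], [], [],
  [], [], [], [], [], [], [], [], [], [], [], [], [], [], [], [], [], [], [], [], [], [], [], [], [], [], [],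
  [], [], [], [], [], [], [], [], [], []], [[], [], [], [], [], [], [], [], [], [], [], [], [], [], [], [],
  [], [], [], [], [], [], [], [], [], [], [], [], [], [], [], []]]
def DA : List (List (List ℕ)) := [[[], [16, 18], [16], [], [24, 10, 9], [], [], [], [], [16, 18, 26], [16, 1],
  [], [24, 8, 11], [], [], [], [], [16, 1, 18], [16, 1], [], [24, 8, 11], [], [], [], [], [16, 18, 38], [16],
  [], [24, 10, 9], [], [], [], [], [], [], [], [], [], [], [], [], [], [], [], [], [], [], [], [], [], [], [],
  [], [], [], [], [], [], [], [], [], [], [], []], [[], [], [], [], [], [], [], [], [], [], [], [], [], [],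
  [], [], [], [], [], [], [], [], [], [], [], [], [], [], [], [], [], [], [], [], [], [], [], [], [], [], [],
  [], [], [], [], [], [], [], [], [], [], [], [], [], [], [], [], [], [], [], [], [], [], []], [[], [], [],
  [], [], [], [], [], [], [], [], [], [], [], [], [], [], [], [], [], [], [], [], [], [], [], [], [], [], [],
  [], [], [], [], [], [], [], [], [], [], [], [], [], [], [], [], [], [], [], [], [], [], [], [], [], [], [],
  [], [], [], [], [], [], []], [[], [], [], [], [], [], [], [], [], [], [], [], [], [], [], [], [], [], [],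
  [], [], [], [], [], [], [], [], [], [], [], [], [], [], [], [], [], [], [], [], [], [], [], [], [], [], [],
  [], [], [], [], [], [], [], [], [], [], [], [], [], [], [], [], [], []], [[], [], [], [], [], [], [], [],
  [], [], [], [], [], [], [], [], [], [], [], [], [], [], [], [], [], [], [], [], [], [], [], [], [], [], [],
  [], [], [], [], [], [], [], [], [], [], [], [], [], [], [], [], [], [], [], [], [], [], [], [], [], [], [],
  [], []], [[], [], [], [], [], [], [], [], [], [], [], [], [], [], [], [], [], [], [], [], [], [], [], [],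
  [], [], [], [], [], [], [], [], [], [], [], [], [], [], [], [], [], [], [], [], [], [], [], [], [], [], [],
  [], [], [], [], [], [], [], [], [], [], [], [], []], [[], [], [], [], [], [], [], [], [], [], [], [], [],
  [], [], [], [], [], [], [], [], [], [], [], [], [], [], [], [], [], [], [], [], [], [], [], [], [], [], [],
  [], [], [], [], [], [], [], [], [], [], [], [], [], [], [], [], [], [], [], [], [], [], [], []], [[], [],
  [], [], [], [], [], [], [], [], [], [], [], [], [], [], [], [], [], [], [], [], [], [], [], [], [], [], [],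
  [], [], [], [], [], [], [], [], [], [], [], [], [], [], [], [], [], [], [], [], [], [], [], [], [], [], [],
  [], [], [], [], [], [], [], []], [[], [], [], [], [], [], [], [], [], [], [], [], [], [], [], [], [], [],
  [], [], [], [], [], [], [], [], [], [], [], [], [], [], [], [], [], [], [], [], [], [], [], [], [], [], [],
  [], [], [], [], [], [], [], [], [], [], [], [], [], [], [], [], [], [], []], [[], [], [], [], [], [], [],
  [], [], [], [], [], [], [], [], [], [], [], [], [], [], [], [], [], [], [], [], [], [], [], [], [], [], [],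
  [], [], [], [], [], [], [], [], [], [], [], [], [], [], [], [], [], [], [], [], [], [], [], [], [], [], [],
  [], [], []], [[], [], [], [], [], [], [], [], [], [], [], [], [], [], [], [], [], [], [], [], [], [], [],
  [], [], [], [], [], [], [], [], [], [], [], [], [], [], [], [], [], [], [], [], [], [], [], [], [], [], [],
  [], [], [], [], [], [], [], [], [], [], [], [], [], []], [[], [], [], [], [], [], [], [], [], [], [], [],
  [], [], [], [], [], [], [], [], [], [], [], [], [], [], [], [], [], [], [], [], [], [], [], [], [], [], [],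
  [], [], [], [], [], [], [], [], [], [], [], [], [], [], [], [], [], [], [], [], [], [], [], [], []], [[],
  [], [], [], [], [], [], [], [], [], [], [], [], [], [], [], [], [], [], [], [], [], [], [], [], [], [], [],
  [], [], [], [], [], [], [], [], [], [], [], [], [], [], [], [], [], [], [], [], [], [], [], [], [], [], [],
  [], [], [], [], [], [], [], [], []], [[], [], [], [], [], [], [], [], [], [], [], [], [], [], [], [], [],
  [], [], [], [], [], [], [], [], [], [], [], [], [], [], [], [], [], [], [], [], [], [], [], [], [], [], [],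
  [], [], [], [], [], [], [], [], [], [], [], [], [], [], [], [], [], [], [], []], [[], [], [], [], [], [],
  [], [], [], [], [], [], [], [], [], [], [], [], [], [], [], [], [], [], [], [], [], [], [], [], [], [], [],
  [], [], [], [], [], [], [], [], [], [], [], [], [], [], [], [], [], [], [], [], [], [], [], [], [], [], [],
  [], [], [], []], [[], [], [], [], [], [], [], [], [], [], [], [], [], [], [], [], [], [], [], [], [], [],
  [], [], [], [], [], [], [], [], [], [], [], [], [], [], [], [], [], [], [], [], [], [], [], [], [], [], [],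
  [], [], [], [], [], [], [], [], [], [], [], [], [], [], []], [[], [], [], [], [], [], [], [], [], [], [],
  [], [], [], [], [], [], [], [], [], [], [], [], [], [], [], [], [], [], [], [], [], [], [], [], [], [], [],
  [], [], [], [], [], [], [], [], [], [], [], [], [], [], [], [], [], [], [], [], [], [], [], [], [], []],
  [[], [], [], [], [], [], [], [], [], [], [], [], [], [], [], [], [], [], [], [], [], [], [], [], [], [], [],
  [], [], [], [], [], [], [], [], [], [], [], [], [], [], [], [], [], [], [], [], [], [], [], [], [], [], [],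
  [], [], [], [], [], [], [], [], [], []], [[], [], [], [], [], [], [], [], [], [], [], [], [], [], [], [],
  [], [], [], [], [], [], [], [], [], [], [], [], [], [], [], [], [], [], [], [], [], [], [], [], [], [], [],
  [], [], [], [], [], [], [], [], [], [], [], [], [], [], [], [], [], [], [], [], []], [[], [], [], [], [],
  [], [], [], [], [], [], [], [], [], [], [], [], [], [], [], [], [], [], [], [], [], [], [], [], [], [], [],
  [], [], [], [], [], [], [], [], [], [], [], [], [], [], [], [], [], [], [], [], [], [], [], [], [], [], [],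
  [], [], [], [], []], [[], [], [], [], [], [], [], [], [], [], [], [], [], [], [], [], [], [], [], [], [],
  [], [], [], [], [], [], [], [], [], [], [], [], [], [], [], [], [], [], [], [], [], [], [], [], [], [], [],
  [], [], [], [], [], [], [], [], [], [], [], [], [], [], [], []], [[], [], [], [], [], [], [], [], [], [],
  [], [], [], [], [], [], [], [], [], [], [], [], [], [], [], [], [], [], [], [], [], [], [], [], [], [], [],
  [], [], [], [], [], [], [], [], [], [], [], [], [], [], [], [], [], [], [], [], [], [], [], [], [], [], []],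
  [[], [], [], [], [], [], [], [], [], [], [], [], [], [], [], [], [], [], [], [], [], [], [], [], [], [], [],
  [], [], [], [], []]]
def V8 : List (List ℕ) := [[], [5], [23], [5, 23], [16, 26], [5, 16, 26], [23, 16, 26], [5, 23, 16, 26]]
def W9 : List (List ℕ) := [[], [6], [7], [10], [11], [10, 6], [11, 6], [10, 7], [11, 7]]
def W60 : List (List ℕ) := [[], [8], [9], [10], [11], [8, 8], [10, 8], [11, 8], [9, 9], [10, 9], [11, 9], [8,
  10], [9, 10], [8, 11], [9, 11], [10, 8, 8], [11, 8, 8], [8, 10, 8], [9, 10, 8], [8, 11, 8], [9, 11, 8], [10,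
  9, 9], [11, 9, 9], [8, 10, 9], [9, 10, 9], [8, 11, 9], [10, 8, 10], [11, 8, 10], [9, 9, 10], [11, 9, 10],
  [8, 8, 11], [10, 8, 11], [10, 9, 11], [11, 9, 11], [8, 11, 8, 8], [10, 8, 10, 8], [11, 8, 10, 8], [11, 9,
  10, 8], [8, 8, 11, 8], [10, 9, 11, 8], [11, 9, 11, 8], [10, 8, 10, 9], [11, 8, 10, 9], [10, 8, 11, 9], [8,
  10, 8, 10], [9, 11, 8, 10], [10, 9, 9, 10], [8, 11, 9, 10], [8, 10, 8, 11], [9, 10, 8, 11], [8, 10, 9, 11],
  [8, 10, 8, 10, 8], [9, 11, 8, 10, 8], [8, 11, 9, 10, 8], [8, 10, 9, 11, 8], [11, 8, 10, 8, 10], [10, 9, 11,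
  8, 10], [10, 8, 11, 9, 10], [10, 8, 10, 8, 11], [10, 8, 11, 9, 10, 8]]
def DP : List (List ℕ × List ℕ) := [([], []), ([6], []), ([7], [13, 7, 12, 6, 13]), ([10], [13, 8, 13, 13, 8,
  8]), ([11], [13, 8, 13, 8, 13, 8]), ([10, 6], []), ([11, 6], [9, 11, 8, 10, 9]), ([10, 7], [13, 7, 12, 6,
  13]), ([11, 7], [9, 12, 9, 12, 9, 12, 9])]

end H27.HN
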