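import Mathlib
import Cfsg.Agent.H27.HNK2
import Cfsg.Agent.H27.HNKe

/-!
# The centraliser of an element of order three in `2.HS.2`
-/

set_option autoImplicit false
set_option linter.unusedSectionVars false
set_option maxRecDepth 100000
set_option Elab.async false

namespace H27.HN

open H29 H15.KM H24 Subgroup

def lD : List ℕ := [4, 16, 26, 23, 5]
def L3 : List ℕ := [6, 7, 10, 11]
def L5 : List ℕ := [8, 9, 10, 11]
def L6 : List ℕ := [6, 7, 10, 11, 28, 29]
def L7 : List ℕ := [6, 7, 10, 11, 28, 29, 30, 31]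
def L8 : List ℕ := [6, 7, 8, 9, 10, 11, 12, 13]
noncomputable def E16 : List (List ℕ) := V8 ++ V8.map (16 :: ·)

theorem chk_cov : chkCov run iv (5 :: Lρ) lD W45 (nth [] D45) = true := by decide +kernel
theorem chk_CR : allC iv W45 lD (fun i x y => and2 (inW run [[16], [16, 5]] (app x (16 :: y)))
    (imp2 (eqW run (app x x) []) (ty run iv [6] [99, 5, 16, 23, 24, 25, 4] (tb DC i) x))) = true := by
  decide +kernel
theorem chk_a : allC iv W45 lD (fun i x y => imp2 (cm run x [23])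
    (and2 (inW run [[16, 26], [16, 26, 24]] (app x (16 :: 26 :: y)))
      (and2 (imp2 (inW run [[], [24]] (app x x)) (imp2 (or2 (cm run x [16]) (cm run x [16, 26]))
        (or2 (inW run V8 x) (inW run V8 (16 :: x)))))
        (imp2 (eqW run (app x x) []) (or2 (inW run V8 x) (or2 (ty run iv [] [16, 24] (tb DA i) x)
          (ty run iv [] [16, 24] (tb DA i) (app x [24])))))))) = true := by decide +kernel
theorem chk_P : allC iv W45 lD (fun _ x _ => imp2 (and2 (cm run x [10]) (cm run x [28]))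
    (and2 (inP run [4, 16, 5] x) (imp2 (and2 (cm run x [29]) (cm run x [30]))
      (inW run [[], [5], [16], [16, 5]] x)))) = true := by decide +kernel
theorem chk_33 : allC iv W45 lD (fun _ x _ => frc (17 :: app x [18]) fun z => imp2 (cm run z [16])
    (lit (run z) fun t => anyL W9 fun p => anyL [[], [5], [16], [36], [5, 16], [5, 36], [16, 36],
      [5, 16, 36]] fun v => Nat.beq (run (app p v)) t)) = true := by decide +kernel
theorem chk_9 : chkEnum run iv L3 W9 = true := by decide +kernel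
theorem chk_60 : chkEnum run iv L5 W60 = true := by decide +kernel
theorem chk_A5 : (allL W60 fun F => imp2 (and2 (eqW run (app F F) []) (not1 (eqW run F [])))
    (allL W60 fun B => imp2 (and2 (cm run F B) (and2 (not1 (eqW run B [])) (not1 (eqW run F B))))
      (allL W60 fun c => imp2 (and2 (cm run c F) (cm run c B))
        (inW run [[], F, B, app F B] c)))) = true := by decide +kernel
theorem chk_P3 : (allL W9 fun x => and2 (eqW run (app x (app x x)) []) (or2 (eqW run x [])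
    (anyL DP fun p => and2 (cm run p.2 [16])
      (inW run [[6], [10, 6]] (app p.2 (app x (invW iv p.2))))))) = true := by decide +kernel

noncomputable def chkM (u w L : List ℕ) : Bool := and2 (eqW run u w) (allL w fun c => memL c L)
noncomputable def chkNW (t L : List ℕ) (Ws : List (List ℕ)) : Bool :=
  allL L fun c => anyL Ws fun w => chkM (app t (c :: invW iv t)) w L

namespace Mod

variable {G : Type*} [Group G] [Finite G] {e : ℕ → G} (h : Mod e)
include h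

theorem mem {u : List ℕ} (w : List ℕ) {L : List ℕ} (hc : chkM u w L = true := by decide +kernel) :
    ev e u ∈ gen e L := by
  simp only [chkM, and2_true, h.iso.eqW, allL_true, memL_true] at hc
  exact hc.1 ▸ ev_mem_gen hc.2
theorem norm {t L : List ℕ} (Ws : List (List ℕ)) (hc : chkNW t L Ws = true := by decide +kernel) :
    ev e t ∈ N[gen e L] := mem_N_of_finite fun _ => conj_mem_gen fun c h1 => by
  obtain ⟨w, -, h2⟩ := anyL_true.1 (allL_true.1 hc c h1)
  simpa [ev_invW h.iv, mul_assoc] using h.mem w h2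
theorem cent {cs L : List ℕ} (hc : (allL L fun c => chkC run cs [c]) = true := by decide +kernel) :
    gen e cs ≤ C[gen e L] := fun g hg => mem_C.2 fun _ hy => mem_C1.1 (gen_le.2 (fun c h1 =>
  mem_C1_comm.1 (by simpa using h.iso.cent (allL_true.1 hc c h1) hg)) hy)
theorem comm (c d : ℕ) (hc : eqW run [c, d] [d, c] = true := by decide +kernel) :
    e c * e d = e d * e c := by simpa using h.eq hc
theorem sq (c : ℕ) (hc : eqW run [c, c] [] = true := by decide +kernel) : e c * e c = 1 := by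
  simpa using h.eq hc

theorem all {F : ℕ → List ℕ → List ℕ → Bool} (hF : allC HN.iv W45 lD F = true) {g : G}
    (h1 : g * e 5 = e 5 * g) (h2 : g * e 6 = e 6 * g) :
    ∃ i x y, ev e x = g ∧ ev e y = g⁻¹ ∧ F i x y = true :=
  allC_sound h.iso h.iv chk_cov (h.iso.pc h.iv (by decide +kernel)) hF
    (h.cρ g (mem_C1.2 h1) (mem_C1.2 h2))

theorem e24 : e 24 = e 5 * e 23 := by simpa using h.eq (u := [24]) (v := [5, 23])
theorem e25 : e 25 = e 16 * e 23 := by simpa using h.eq (u := [25]) (v := [16, 23])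

theorem H4 (g : G) (h1 : g * e 5 = e 5 * g) (h2 : g * e 6 = e 6 * g) :
    g * e 16 * g⁻¹ = e 16 ∨ g * e 16 * g⁻¹ = e 16 * e 5 := by
  obtain ⟨i, x, y, rfl, h3, h4⟩ := h.all chk_CR h1 h2
  simpa [inW_true h.iso, h3, eq_comm, mul_assoc] using (and2_true.1 h4).1

theorem CR (u : G) (h1 : u * e 5 = e 5 * u) (h2 : u * e 6 = e 6 * u) (h3 : u * u = 1) :
    ∃ g, g * e 5 = e 5 * g ∧ g * e 6 = e 6 * g ∧
      g * u * g⁻¹ ∈ [1, e 5, e 16, e 23, e 5 * e 23, e 16 * e 23, e 4] := by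
  obtain ⟨i, x, y, rfl, -, h4⟩ := h.all chk_CR h1 h2
  obtain ⟨r, h5, g, h6, h7⟩ := ty_sound h.iso h.iv (imp2_true.1 (and2_true.1 h4).2
    (by simpa [h.iso.eqW] using h3))
  refine ⟨_, mem_C1.1 (h.evC g), h7 6 (by simp), ?_⟩
  rw [h6, ← h.e24, ← h.e25, ← h.e99]
  exact List.mem_map_of_mem (f := e) h5

theorem V8_mem {x : List ℕ} (hx : inW run V8 x = true) :
    ev e x ∈ closure {e 5, e 23, e 16 * e 26} := by
  obtain ⟨w, h1, h2⟩ := (inW_true h.iso).1 hx
  have a1 : e 5 ∈ closure {e 5, e 23, e 16 * e 26} := subset_closure (by simp)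
  have a2 : e 23 ∈ closure {e 5, e 23, e 16 * e 26} := subset_closure (by simp)
  have a3 : e 16 * e 26 ∈ closure {e 5, e 23, e 16 * e 26} := subset_closure (by simp)
  rw [← h2]
  simp only [V8, List.mem_cons, List.not_mem_nil, or_false] at h1
  rcases h1 with rfl | rfl | rfl | rfl | rfl | rfl | rfl | rfl <;>
    simp [mul_mem, a1, a2, a3]

theorem Ha (w : G) (h1 : w * e 5 = e 5 * w) (h2 : w * e 6 = e 6 * w) (h3 : w * e 23 = e 23 * w) :
    (w * (e 16 * e 26) * w⁻¹ = e 16 * e 26 ∨ w * (e 16 * e 26) * w⁻¹ = e 16 * e 26 * (e 5 * e 23)) ∧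
    ((w * w = 1 ∨ w * w = e 5 * e 23) → (w * e 16 = e 16 * w ∨ w * (e 16 * e 26) = e 16 * e 26 * w) →
      w ∈ closure {e 5, e 23, e 16 * e 26} ∨ (e 16)⁻¹ * w ∈ closure {e 5, e 23, e 16 * e 26}) ∧
    (w * w = 1 → w ∈ closure {e 5, e 23, e 16 * e 26} ∨ Ty e [16, 24] w ∨
      Ty e [16, 24] (w * (e 5 * e 23))) := by
  obtain ⟨i, x, y, rfl, h4, h5⟩ := h.all chk_a h1 h2
  simp only [imp2_true, and2_true, or2_true, cm_true h.iso, h.iso.eqW] at h5
  obtain ⟨a1, a2, a3⟩ := h5 (by simpa using h3)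
  refine ⟨by simpa [inW_true h.iso, h4, eq_comm, mul_assoc, h.e24] using a1, fun b1 b2 => ?_,
    fun b => (a3 (by simpa using b)).imp h.V8_mem (Or.imp h.ty fun b => by simpa [h.e24] using h.ty b)⟩
  refine (a2 (by simpa [inW_true h.iso, h.e24, eq_comm] using b1) (by simpa using b2)).imp h.V8_mem
    fun b => ?_
  rw [inv_eq_of_mul_eq_one_right (h.sq 16)]
  simpa using h.V8_mem b

theorem CP (g : G) (h1 : g * e 5 = e 5 * g) (h2 : ∀ c ∈ [6, 10, 28], g * e c = e c * g) :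
    g ∈ closure {e 16, e 4} ∧ (g * e 29 = e 29 * g → g * e 30 = e 30 * g →
      g = 1 ∨ g = e 5 ∨ g = e 16 ∨ g = e 16 * e 5) := by
  obtain ⟨i, x, y, rfl, -, h5⟩ := h.all chk_P h1 (h2 6 (by simp))
  simp only [imp2_true, and2_true, cm_true h.iso, ev_cons, ev_nil, mul_one] at h5
  obtain ⟨a1, a2⟩ := h5 ⟨h2 _ (by simp), h2 _ (by simp)⟩
  refine ⟨gen_le.2 ?_ (h.iso.mem a1), fun b1 b2 => by simpa [inW_true h.iso, eq_comm] using a2 ⟨b1, b2⟩⟩
  have a1 : e 16 ∈ closure {e 16, e 4} := subset_closure (by simp)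
  have a2 : e 4 ∈ closure {e 16, e 4} := subset_closure (by simp)
  have : e 5 = e 16 * (e 4 * (e 16 * e 4)) := by simpa using h.eq (u := [5]) (v := [16, 4, 16, 4])
  simp [a1, a2, this, mul_mem a1 (mul_mem a2 (mul_mem a1 a2))]

theorem cube {g : G} (hg : g ∈ gen e L3) : g ^ 3 = 1 ∧ (g ≠ 1 → ∃ k, k * e 5 = e 5 * k ∧
    k * e 16 = e 16 * k ∧ (k * g * k⁻¹ = e 6 ∨ k * g * k⁻¹ = e 10 * e 6)) := by
  obtain ⟨w, h1, rfl⟩ := enum_of h.iso h.iv chk_9 hg
  have h2 := allL_true.1 chk_P3 w h1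
  simp only [and2_true, or2_true, anyL_true, cm_true h.iso, h.iso.eqW, inW_true h.iso] at h2
  refine ⟨by simpa [pow_succ, mul_assoc] using h2.1, fun h3 => ?_⟩
  obtain ⟨p, -, h4, h5⟩ := h2.2.resolve_left h3
  exact ⟨ev e p.2, mem_C1.1 (h.evC _), by simpa using h4,
    by simpa [ev_invW h.iv, eq_comm, mul_assoc] using h5⟩

theorem syl3 {H : Subgroup G} (h1 : gen e L3 ≤ H) (h2 : H ≤ C{e 5}) : Syl 3 H (gen e L3) :=
  syl_of_card (k := 2) Nat.prime_three h1 (card_of_enum h.iso h.iv chk_9)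
    (h.card ▸ card_dvd_of_le h2) (by norm_num)

theorem P3 (u : G) (h1 : u * e 5 = e 5 * u) (h2 : u * e 16 = e 16 * u) (h3 : u ^ 3 = 1) (h4 : u ≠ 1) :
    ∃ k, k * e 5 = e 5 * k ∧ k * e 16 = e 16 * k ∧ (k * u * k⁻¹ = e 6 ∨ k * u * k⁻¹ = e 10 * e 6) := by
  obtain ⟨k, a1, a2⟩ := conj_into (j := 1) Nat.prime_three (h.syl3 (H := C{e 5} ⊓ C{e 16})
    (le_inf (h.genC _) (by simpa using h.iso.cent (v := [16]) (by decide +kernel))) inf_le_left)
    (x := u) ⟨mem_C1.2 h1, mem_C1.2 h2⟩ h3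
  obtain ⟨l, b1, b2, b3⟩ := (h.cube a2).2 (by simpa using h4)
  exact ⟨l * k, mem_C1.1 (mul_mem (mem_C1.2 b1) a1.1), mem_C1.1 (mul_mem (mem_C1.2 b2) a1.2),
    by simpa [mul_assoc] using b3⟩

theorem g1 : e 17 * e 6 * (e 17)⁻¹ = e 10 * e 6 := by
  simpa [mul_assoc, show e 18 = (e 17)⁻¹ from h.iv 17] using h.eq (u := [17, 6, 18]) (v := [10, 6])

theorem ord3 (u : G) (h1 : u * e 5 = e 5 * u) (h3 : u ^ 3 = 1) (h4 : u ≠ 1) :
    ∃ k, k * e 5 = e 5 * k ∧ k * u * k⁻¹ = e 6 := by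
  obtain ⟨k, a1, a2⟩ := conj_into (j := 1) Nat.prime_three (h.syl3 (h.genC _) le_rfl)
    (x := u) (mem_C1.2 h1) h3
  obtain ⟨l, b1, -, b3⟩ := (h.cube a2).2 (by simpa using h4)
  have b4 := mul_mem (mem_C1.2 b1) a1
  rcases b3 with b3 | b3
  · exact ⟨l * k, mem_C1.1 b4, by simpa [mul_assoc] using b3⟩
  · refine ⟨(e 17)⁻¹ * (l * k), mem_C1.1 (mul_mem (inv_mem (h.cf 17)) b4), ?_⟩
    rw [show (e 17)⁻¹ * (l * k) * u * ((e 17)⁻¹ * (l * k))⁻¹ = (e 17)⁻¹ * (l * (k * u * k⁻¹) * l⁻¹) *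
      e 17 by group, b3, ← h.g1]
    group

theorem c33 (g k : G) (hg : ∀ u ∈ [e 5, e 16, e 10 * e 6], g * u = u * g ∧ k * u = u * k) :
    (g * k * g⁻¹ * k⁻¹) ^ 3 = 1 := by
  have key : ∀ g, (∀ u ∈ [e 5, e 16, e 10 * e 6], g * u = u * g) →
      ∃ p ∈ gen e L3, ∃ v ∈ gen e [5, 16, 36], g = p * v := fun g hg => by
    obtain ⟨i, x, y, h1, -, h2⟩ := h.all chk_33 (g := (e 17)⁻¹ * g * e 17)
      (mem_C1.1 (mul_mem (mul_mem (inv_mem (h.cf 17)) (mem_C1.2 (hg _ (by simp)))) (h.cf 17))) (by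
        have := hg (e 10 * e 6) (by simp)
        rw [← h.g1] at this
        calc _ = (e 17)⁻¹ * (g * (e 17 * e 6 * (e 17)⁻¹)) * e 17 := by group
          _ = _ := by rw [this]; group)
    have h3 : ev e (17 :: app x [18]) = g := by simp [h1, show e 18 = (e 17)⁻¹ from h.iv 17, mul_assoc]
    simp only [frc_eq, imp2_true, cm_true h.iso, lit_eq, anyL_true, H29.beq_true, h.iso _ _, h3] at h2
    obtain ⟨p, h4, v, h5, h6⟩ := h2 (by simpa using hg _ (by simp))
    exact ⟨_, ev_mem_gen ((by decide +kernel : ∀ p ∈ W9, ∀ c ∈ p, c ∈ L3) p h4), _,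
      ev_mem_gen ((by decide +kernel : ∀ v ∈ [[], [5], [16], [36], [5, 16], [5, 36], [16, 36],
        [5, 16, 36]], ∀ c ∈ v, c ∈ [5, 16, 36]) v h5), by rw [← h6, app_eq, ev_append]⟩
  obtain ⟨p, a1, v, a2, rfl⟩ := key g fun u hu => (hg u hu).1
  obtain ⟨q, b1, w, b2, rfl⟩ := key k fun u hu => (hg u hu).2
  have n : gen e [5, 16, 36] ≤ N[gen e L3] := gen_le.2 (by
    have n1 := h.norm (t := [5]) (L := L3) [[6], [7], [10], [11]]
    have n2 := h.norm (t := [16]) (L := L3) [[6], [7], [10], [11]]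
    have n3 := h.norm (t := [36]) (L := L3) [[6], [7], [10], [11]]
    simpa using ⟨by simpa using n1, by simpa using n2, by simpa using n3⟩)
  have c := h.cent (cs := [5, 16, 36]) (L := [5, 16, 36])
  replace c := mem_C'.1 (c a2) w b2
  rw [show p * v * (q * w) * (p * v)⁻¹ * (q * w)⁻¹ = p * (v * q * v⁻¹) * (v * w * v⁻¹ * w⁻¹) *
    (w * p⁻¹ * w⁻¹) * q⁻¹ by group, c, mul_inv_cancel_right, mul_inv_cancel, mul_one]
  exact (h.cube (mul_mem (mul_mem (mul_mem a1 ((mem_N.1 (n a2) _).1 b1))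
    ((mem_N.1 (n b2) _).1 (inv_mem a1))) (inv_mem b1))).1

theorem card60 : ♯(gen e L5) = 60 := card_of_enum h.iso h.iv chk_60

theorem A5 : ∀ F ∈ gen e L5, ∀ B ∈ gen e L5, ∀ c ∈ gen e L5, F * F = 1 → B * B = 1 → F ≠ 1 → B ≠ 1 →
    F ≠ B → F * B = B * F → c * F = F * c → c * B = B * c → c = 1 ∨ c = F ∨ c = B ∨ c = F * B := by
  intro F hF B hB c hc a1 _ a3 a4 a5 a6 a7 a8
  obtain ⟨F, b1, rfl⟩ := enum_of h.iso h.iv chk_60 hF
  obtain ⟨B, b2, rfl⟩ := enum_of h.iso h.iv chk_60 hB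
  obtain ⟨c, b3, rfl⟩ := enum_of h.iso h.iv chk_60 hc
  have := chk_A5
  simp only [allL_true, imp2_true, and2_true, not1_true, cm_true h.iso, h.iso.eqW, inW_true h.iso,
    app_eq, ev_append, ev_nil] at this
  simpa [eq_comm] using this F b1 ⟨a1, a3⟩ B b2 ⟨a6, a4, a5⟩ c b3 ⟨a7, a8⟩

theorem Y0 (y : G) (hy : ∀ u ∈ [e 5, e 16, e 6], y * u = u * y) :
    ∃ z ∈ closure {e 5, e 16, e 6}, ∃ c ∈ gen e L5, y = z * c := by
  have h1 : gen e (5 :: Lρ) ≤ zpowers (e 4) ⊔ gen e ([5, 16, 6, 7] ++ L5) := gen_le.2 fun c hc => by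
    by_cases h4 : c = 4
    · exact h4 ▸ mem_sup_left (mem_zpowers _)
    · refine mem_sup_right ?_
      by_cases h5 : c = 23
      · simpa [h5] using h.mem (u := [23]) [8, 11, 9, 10, 8]
      by_cases h6 : c = 26
      · simpa [h6] using h.mem (u := [26]) [11, 9, 9]
      exact mem_gen ((by decide : ∀ c ∈ 5 :: Lρ, c ≠ 4 → c ≠ 23 → c ≠ 26 →
        c ∈ [5, 16, 6, 7] ++ L5) c hc h4 h5 h6)
  have h2 := h.norm (t := [4]) (L := [5, 16, 6, 7] ++ L5)
    [[5], [16, 5], [6], [7], [8, 11, 8], [9, 10, 9], [10], [11]]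
  have h3 := two_cosets (by simp [h.sq 4]) (fun k hk => by simpa using (mem_N.1 h2 k).1 hk)
    (h1 (h.cρ y (mem_C1.2 (hy _ (by simp))) (mem_C1.2 (hy _ (by simp)))))
  have h4 : gen e ([5, 16, 6, 7] ++ L5) ≤ C{e 16} := by
    simpa using h.iso.cent (v := [16]) (by decide +kernel)
  rcases h3 with h3 | h3
  · rw [gen_append, sup_comm] at h3
    have a0 := h.cent (cs := [5, 16, 6, 7]) (L := L5)
    obtain ⟨c, a1, z, a2, rfl⟩ := (mem_sup_of_norm (a0.trans (C_le_N _))).1 h3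
    refine ⟨z, gen_le.2 ?_ a2, c, a1, mem_C.1 (a0 a2) c a1⟩
    have : e 6 ∈ closure {e 5, e 16, e 6} := subset_closure (by simp)
    have b1 : e 5 ∈ closure {e 5, e 16, e 6} := subset_closure (by simp)
    have b2 : e 16 ∈ closure {e 5, e 16, e 6} := subset_closure (by simp)
    simp [show e 7 = (e 6)⁻¹ from h.iv 6, this, b1, b2]
  · have := mul_mem (mem_C1.2 (hy (e 16) (by simp))) (inv_mem (h4 h3))
    exact absurd (by simpa using mem_C1.1 this) (h.ne (u := [4, 16]) (v := [16, 4]))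

end Mod

end H27.HN
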