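import Mathlib
import Cfsg.Agent.H27.HNK3

/-!
# Rigidity: embeddings of `A₈` in `HS.2`, automorphisms of `HS`
-/

set_option autoImplicit false
set_option linter.unusedSectionVars false
set_option maxRecDepth 100000
set_option Elab.async false

namespace H27.HN

open H29 H15.KM H24 Subgroup

noncomputable def sb1 (c : ℕ) (z w : List ℕ) : List ℕ :=
  List.rec (motive := fun _ => List ℕ) [] (fun a _ ih => Bool.rec (a :: ih) (app z ih) (Nat.beq a c)) w

theorem ev_sb1 {G : Type*} [Group G] {e e' : ℕ → G} {c : ℕ} {z : List ℕ} (h : ev e z = e' c) :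
    ∀ {w : List ℕ}, (∀ a ∈ w, a = c ∨ e' a = e a) → ev e (sb1 c z w) = ev e' w
  | [], _ => rfl
  | a :: w, hw => by
    rw [show sb1 c z (a :: w) = Bool.rec (a :: sb1 c z w) (app z (sb1 c z w)) (Nat.beq a c) from rfl,
      ev_cons, ← ev_sb1 h fun b hb => hw b (List.mem_cons_of_mem _ hb)]
    by_cases h1 : a = c
    · rw [H29.beq_true.2 h1, h1, ← h]; simp
    · rw [show Nat.beq a c = false by rw [← Bool.not_eq_true, H29.beq_true]; exact h1,
        (hw a List.mem_cons_self).resolve_left h1]; rfl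

/-- The letters `e'` satisfy the positive relations of the model. -/
def Tr2 (L : List ℕ) (e' : ℕ → A) : Prop :=
  (∀ c ∈ L, e' c ≠ 1) ∧ ∀ u v, (∀ c ∈ u, c ∈ L) → (∀ c ∈ v, c ∈ L) → ev m u = ev m v → ev e' u = ev e' v

theorem Tr2.conj {L : List ℕ} {e' : ℕ → A} (h : Tr2 L e') (k : A) : Tr2 L fun c => k * e' c * k⁻¹ :=
  ⟨fun c hc => by simpa using h.1 c hc, fun u v hu hv h1 => by
    have := congrArg (MulAut.conj k).toMonoidHom (h.2 u v hu hv h1)
    rwa [map_ev, map_ev] at this⟩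

theorem allA {F : ℕ → List ℕ → List ℕ → Bool} (hF : allC iv W45 lD F = true) {a : A}
    (h : a * mA 6 = mA 6 * a) : ∃ i x y, ev mA x = a ∧ ev mA y = a⁻¹ ∧ F i x y = true := by
  obtain ⟨g, rfl⟩ := HS100.ψ_surj a
  obtain ⟨i, x, y, h1, h2, h3⟩ := allC_sound iso hiv chk_cov (iso.pc hiv (by decide +kernel)) hF
    (centρ (mem_XU.2 (fun c hc => by rw [List.mem_singleton.1 hc]; exact h) : g ∈ XU m [6]))
  exact ⟨i, x, y, by rw [evA, h1], by rw [evA, h2, map_inv], h3⟩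

noncomputable def chkS (t v : List ℕ) (c : ℕ) (P : List ℕ) (Rs Gs : List (List ℕ)) : Bool :=
  and2 (and2 (and2 (eqW run (c :: v) (app v [c])) (eqW runA v (app t (6 :: invW iv t))))
    (and2 (allL v fun a => memL a P)
      (allL Rs fun r => and2 (eqW run r []) (allL r fun a => memL a (c :: P)))))
    (and2 (allL Gs fun g => allL P fun d => cm runA g [d])
      (allC iv W45 lD fun _ x _ => frc (app t (app x (invW iv t))) fun z =>
        or2 (anyL Rs fun r => not1 (eqW runA (sb1 c z r) [])) (or2 (eqW runA z [])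
          (anyL Gs fun g => eqW runA (app g z) (c :: g)))))

theorem stage {t v : List ℕ} {c : ℕ} {P L : List ℕ} {Rs Gs : List (List ℕ)}
    (hc : chkS t v c P Rs Gs = true) (hL : ∀ d ∈ c :: P, d ∈ L) {e' : ℕ → A} (h : Tr2 L e')
    (h1 : ∃ k : A, ∀ d ∈ P, k * e' d * k⁻¹ = mA d) : ∃ k : A, ∀ d ∈ c :: P, k * e' d * k⁻¹ = mA d := by
  obtain ⟨k, h1⟩ := h1
  replace h := h.conj k
  set e2 : ℕ → A := fun d => k * e' d * k⁻¹ with he
  simp only [chkS, and2_true, allL_true, memL_true, iso.eqW, isoA.eqW, cm_true isoA] at hc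
  obtain ⟨⟨⟨a1, a2⟩, a3, a4⟩, a5, a6⟩ := hc
  have hv : ev e2 v = ev mA v := ev_congr fun d hd => h1 d (a3 d hd)
  have b0 : ∀ d ∈ c :: v, d ∈ L := fun d hd => hL d ((List.mem_cons.1 hd).elim
    (fun h => h ▸ List.mem_cons_self) fun h => List.mem_cons_of_mem _ (a3 d h))
  have b1 := h.2 _ _ b0 (fun d hd => b0 d (by simpa [or_comm] using hd)) a1
  simp only [app_eq, ev_append, ev_cons, ev_nil, mul_one, hv, a2, ev_invW hivA] at b1
  obtain ⟨i, x, y, b2, -, b3⟩ := allA a6 (a := (ev mA t)⁻¹ * e2 c * ev mA t) (by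
    calc _ = (ev mA t)⁻¹ * (e2 c * (ev mA t * (mA 6 * (ev mA t)⁻¹))) * ev mA t := by group
      _ = _ := by rw [b1]; group)
  have b4 : ev mA (app t (app x (invW iv t))) = e2 c := by
    simp [ev_invW hivA, b2, mul_assoc]
  simp only [frc_eq, or2_true, anyL_true, not1_true, isoA.eqW] at b3
  rcases b3 with ⟨r, c1, c2⟩ | b3 | ⟨g, c1, c2⟩
  · rw [ev_sb1 b4 fun a ha => (List.mem_cons.1 ((a4 r c1).2 a ha)).imp_right (h1 a)] at c2
    exact absurd (h.2 r [] (fun a ha => hL a ((a4 r c1).2 a ha)) (by simp) (a4 r c1).1) c2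
  · exact absurd (b4 ▸ b3) (h.1 c (hL c List.mem_cons_self))
  · refine ⟨ev mA g * k, fun d hd => ?_⟩
    rw [show ev mA g * k * e' d * (ev mA g * k)⁻¹ = ev mA g * e2 d * (ev mA g)⁻¹ by simp [he, mul_assoc],
      mul_inv_eq_iff_eq_mul]
    rcases List.mem_cons.1 hd with rfl | hd
    · rwa [app_eq, ev_append, b4] at c2
    · simpa [he, h1 d hd] using a5 g c1 d hd

theorem chk_S1 : chkS [] [6] 8 [6] [[8, 8, 8, 8, 8]] [[], [4], [10], [11], [23], [10, 4], [11, 4],
    [23, 4], [4, 8], [10, 8], [11, 8], [23, 8], [4, 9], [10, 9], [23, 9], [23, 10], [23, 11], [4, 26],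
    [10, 8, 4], [23, 8, 4], [23, 9, 4], [23, 10, 4], [23, 10, 8], [4, 26, 8]] = true := by
  decide +kernel
theorem chk_S2 : chkS [] [6] 10 [8, 6] [[10, 10, 10], [10, 8, 8, 10, 8, 8]]
    [[], [8], [9], [8, 8], [9, 9]] = true := by decide +kernel
theorem chk_S3 : chkS [36] [10] 12 [10, 8, 6] [[12, 12, 12, 12, 12], [12, 6, 12, 12, 6, 12],
    [12, 8, 12, 8, 12, 8, 12, 8]] [[], [6], [7]] = true := by decide +kernel
theorem chk_S4 : chkS [17] [10, 6] 14 [12, 10, 8, 6] [[14, 14, 14, 14, 14], [14, 6, 14, 6, 14, 6],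
    [14, 8, 14, 12, 6, 14, 8, 14, 12, 6, 14, 8, 14, 12, 6]] [[], [16]] = true := by decide +kernel
theorem chk_H0 : allC iv W45 lD (fun _ x _ => imp2 (allL [8, 10, 12, 14] fun c => cm runA x [c])
    (eqW runA x [])) = true := by decide +kernel

theorem ψ5 : ψ (m 5) = 1 := m5 ▸ HS100.ψ_sq
theorem ker5 {g : K} (h : ψ g = 1) : g = 1 ∨ g = m 5 := m5 ▸ ker_cases h

theorem stage0 {L : List ℕ} (hL : 6 ∈ L) {e' : ℕ → A} (h : Tr2 L e') :
    ∃ k : A, ∀ d ∈ [6], k * e' d * k⁻¹ = mA d := by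
  obtain ⟨u, hu⟩ := HS100.ψ_surj (e' 6)
  have h1 : ψ (u ^ 3) = 1 := by
    simpa [hu, pow_succ, mul_assoc] using h.2 [6, 6, 6] [] (by simpa using hL) (by simp) mod_m.eq
  have h2 : ψ (u ^ 3 * u) = e' 6 := by rw [map_mul, h1, one_mul]; exact hu
  obtain ⟨k, -, h3⟩ := mod_m.ord3 (u ^ 3 * u) (mem_C1.1 (f_cent _)) (by
    rw [← pow_succ, ← pow_mul, show (3 + 1) * 3 = 3 * (2 * 2) from rfl, pow_mul, pow_mul, sq (u ^ 3)]
    rcases ker5 h1 with h | h <;> simp [h, mod_m.f2])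
    (fun h3 => h.1 6 hL (by rw [← h2, h3, map_one]))
  exact ⟨ψ k, by simp only [List.mem_singleton, forall_eq, ← h2, mA, ← h3, map_mul, map_inv]⟩

theorem rig8 {L : List ℕ} (hL : ∀ d ∈ [12, 10, 8, 6], d ∈ L) {e' : ℕ → A} (h : Tr2 L e') :
    ∃ k : A, ∀ d ∈ [12, 10, 8, 6], k * e' d * k⁻¹ = mA d :=
  stage chk_S3 hL h (stage chk_S2 (fun d hd => hL d (by grind)) h
    (stage chk_S1 (fun d hd => hL d (by grind)) h (stage0 (hL 6 (by simp)) h)))

theorem rig0 {e' : ℕ → A} (h : Tr2 [14, 12, 10, 8, 6] e') :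
    ∃ k : A, ∀ d ∈ [14, 12, 10, 8, 6], k * e' d * k⁻¹ = mA d :=
  stage chk_S4 (fun _ h => h) h (rig8 (fun d hd => List.mem_cons_of_mem _ hd) h)

theorem centH0 {a : A} (h : ∀ c ∈ [14, 12, 10, 8, 6], a * mA c = mA c * a) : a = 1 := by
  obtain ⟨i, x, y, rfl, -, h2⟩ := allA chk_H0 (h 6 (by simp))
  simp only [imp2_true, allL_true, cm_true isoA, isoA.eqW] at h2
  exact h2 fun c hc => by simpa using h c (by grind)

def L0 : List ℕ := [6, 7, 8, 9, 10, 11, 12, 13, 14, 15]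
/-- The Higman-Sims group. -/
noncomputable def H0 : Subgroup A := gen mA L0

theorem memA {u : List ℕ} (w : List ℕ)
    (hc : and2 (eqW runA u w) (allL w fun c => memL c L0) = true := by decide +kernel) :
    ev mA u ∈ H0 := by
  simp only [and2_true, isoA.eqW, allL_true, memL_true] at hc
  exact hc.1 ▸ ev_mem_gen hc.2

theorem H0_eq : H0 = gen mA [14, 12, 10, 8, 6] :=
  le_antisymm (gen_le.2 fun c hc => by
    rcases (by decide +kernel : ∀ c ∈ L0, c ∈ [14, 12, 10, 8, 6] ∨ ∃ d ∈ [14, 12, 10, 8, 6], iv d = c)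
      c hc with h | ⟨d, h, rfl⟩
    · exact mem_gen h
    · rw [hivA d]; exact inv_mem (mem_gen h)) (gen_mono (by decide))

theorem x_mem : mA 0 ∈ H0 := by simpa using memA (u := [0]) [10, 14, 14, 12, 15, 8, 12, 6, 15, 13]
theorem a_mem : mA 23 ∈ H0 := by simpa using memA (u := [23]) [8, 11, 9, 10, 8]

theorem H0_or (a : A) : a ∈ H0 ∨ (mA 16)⁻¹ * a ∈ H0 := by
  have h1 : mA 16 * mA 16 = 1 := by rw [mA, ← map_mul, mod_m.sq 16, map_one]
  refine two_cosets (h1 ▸ one_mem _) (fun k => conj_mem_gen fun d hd => ?_) ?_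
  · have h2 := allL_true.1 (by decide +kernel : (allL L0 fun d => anyL [[d], [10, 15, 7], [6, 14, 11]]
      fun w => and2 (eqW runA [16, d, 16] w) (allL w fun c => memL c L0)) = true) d hd
    obtain ⟨w, -, h3⟩ := anyL_true.1 h2
    simpa [inv_eq_of_mul_eq_one_right h1, mul_assoc, H0] using memA w h3
  · obtain ⟨g, rfl⟩ := HS100.ψ_surj a
    have h2 : gen HK.σ HK.L5 ≤ (zpowers (mA 16) ⊔ H0).comap ψ := gen_le.2 fun c hc => by
      have h3 : c < 5 := (by decide : ∀ c ∈ HK.L5, c < 5) c hc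
      have h4 : mA 2 ∈ H0 := by simpa using memA (u := [2]) [9, 11, 14, 13, 6, 12, 11, 9, 14]
      rw [mem_comap, ← m_base h3]
      change mA c ∈ _
      interval_cases c
      · exact mem_sup_right x_mem
      · exact mem_sup_right (hivA 0 ▸ inv_mem x_mem)
      · exact mem_sup_right h4
      · exact mem_sup_right (hivA 2 ▸ inv_mem h4)
      · have := mul_mem (mem_sup_right (S := zpowers (mA 16))
          (memA (u := [4, 16]) [15, 9, 10, 14, 8, 11, 15, 9, 6])) (mem_sup_left (mem_zpowers _))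
        simpa [mul_assoc, h1] using this
    exact h2 (HK.top5 ▸ mem_top g)

theorem index_two {H : Subgroup A} (h : H.index = 2) : H = H0 ∧ mA 16 ∉ H := by
  have h1 : H0 ≤ H := H0_eq ▸ gen_le.2 fun c hc => by
    have h2 := allL_true.1 (by decide +kernel : (allL [14, 12, 10, 8, 6] fun c =>
      eqW runA (pw 16 [c]) [c]) = true) c hc
    have h3 : (mA c ^ 8) ^ 2 = mA c := by simpa [← pow_mul] using isoA.eqW.1 h2
    exact h3 ▸ sq_mem_of_index_two h _
  have h2 : mA 16 ∉ H := fun h2 => by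
    have : H = ⊤ := eq_top_iff.2 fun a _ => (H0_or a).elim (@h1 _) fun h3 => by
      simpa using mul_mem h2 (h1 h3)
    simp [this] at h
  refine ⟨le_antisymm (fun a ha => (H0_or a).resolve_right fun h3 => h2 ?_) h1, h2⟩
  simpa using mul_mem ha (inv_mem (h1 h3))

end H27.HN
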