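import Mathlib
import Cfsg.Agent.H27.HNR

/-!
# Central extensions of `HS.2` by a group of order two
-/

set_option autoImplicit false
set_option linter.unusedSectionVars false
set_option maxRecDepth 100000

namespace H27.HN

open H29 H15.KM H24 Subgroup

instance : Finite A := Finite.of_surjective _ HS100.ψ_surj

structure Ext {C : Type*} [Group C] (π : C →* A) (z : C) : Prop where
  surj : Function.Surjective π
  ne : z ≠ 1
  ker : ∀ c, π c = 1 ↔ c = 1 ∨ c = z

theorem extK : Ext ψ (m 5) := ⟨HS100.ψ_surj, m5 ▸ HS100.sq_ne, fun _ => ⟨ker5, by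
  rintro (rfl | rfl)
  exacts [map_one _, ψ5]⟩⟩

namespace Ext

variable {C : Type*} [Group C] {π : C →* A} {z : C} (h : Ext π z)
include h

theorem πz : π z = 1 := (h.ker z).2 (.inr rfl)
theorem z2 : z * z = 1 := ((h.ker _).1 (by simp [h.πz])).resolve_right (by simpa using h.ne)
theorem cen (c : C) : c * z = z * c :=
  mul_inv_eq_iff_eq_mul.1 (((h.ker _).1 (by simp [h.πz])).resolve_left (by simpa using h.ne))
theorem eq {c d : C} (h1 : π c = π d) : c = d ∨ c = d * z := by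
  simpa [inv_mul_eq_iff_eq_mul] using (h.ker (d⁻¹ * c)).1 (by simp [h1])
theorem sq_z (c : C) : c * z * (c * z) = c * c := by
  rw [mul_assoc, ← mul_assoc z, ← h.cen, mul_assoc, h.z2, mul_one]
theorem sq_eq {c d : C} (h1 : π c = π d) : c * c = d * d := by
  rcases h.eq h1 with rfl | rfl
  exacts [rfl, h.sq_z d]

theorem ncard (S : Set A) : (π ⁻¹' S).ncard = 2 * S.ncard := by
  obtain ⟨s, hs⟩ := h.surj.hasRightInverse
  have h1 : π ⁻¹' S = s '' S ∪ (fun a => s a * z) '' S := by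
    ext c
    simp only [Set.mem_preimage, Set.mem_union, Set.mem_image]
    refine ⟨fun h2 => (h.eq (hs (π c)).symm).imp (fun h3 => ⟨_, h2, h3.symm⟩) fun h3 => ⟨_, h2, h3.symm⟩,
      ?_⟩
    rintro (⟨a, h2, rfl⟩ | ⟨a, h2, rfl⟩) <;> simpa [hs a, h.πz] using h2
  rw [h1, Set.ncard_union_eq _ (S.toFinite.image _) (S.toFinite.image _),
    Set.ncard_image_of_injective _ hs.injective, Set.ncard_image_of_injective _
      fun a b h2 => hs.injective (mul_right_cancel h2), two_mul]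
  rw [Set.disjoint_left]
  rintro _ ⟨a, -, rfl⟩ ⟨b, -, h2⟩
  have h3 := congrArg π h2
  simp only [map_mul, h.πz, mul_one, hs a, hs b] at h3
  exact h.ne (by simpa [h3] using h2)

theorem comm_or {u v : C} (h1 : π u * π v = π v * π u) : v * u = u * v ∨ v * u = u * v * z :=
  h.eq (by simp [h1])

theorem comm_iff {u v : C} (hu : π u * π u = 1) (hv : π v * π v = 1)
    (huv : π u * π v * (π u * π v) = 1) :
    u * v = v * u ↔ (u * v * (u * v) = 1 ↔ (u * u = 1 ↔ v * v = 1)) := by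
  have h1 : π u * π v = π v * π u := by
    rw [eq_inv_of_mul_eq_one_left huv, mul_inv_rev, inv_eq_of_mul_eq_one_right hu,
      inv_eq_of_mul_eq_one_right hv]
  have h2 : u * v * (u * v) = u * (v * u) * v := by group
  have hz := h.ne
  rcases h.comm_or h1 with h3 | h3
  · rw [h2, h3, show u * (u * v) * v = u * u * (v * v) by group]
    rcases (h.ker (u * u)).1 (by simp [hu]) with a | a <;>
      rcases (h.ker (v * v)).1 (by simp [hv]) with b | b <;> simp [a, b, hz, h.z2]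
  · rw [h2, h3, show u * (u * v * z) * v = u * u * (v * (z * v)) by group, ← h.cen, ← mul_assoc v]
    rcases (h.ker (u * u)).1 (by simp [hu]) with a | a <;>
      rcases (h.ker (v * v)).1 (by simp [hv]) with b | b <;> simp [a, b, hz, h.z2]

theorem comm_mul {u v w : C} (h1 : π u * π v = π v * π u) (h2 : π u * π w = π w * π u) :
    u * (v * w) = v * w * u ↔ (u * v = v * u ↔ u * w = w * u) := by
  have hz := h.ne
  have h3 : v * w * u = v * (w * u) := mul_assoc _ _ _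
  rcases h.comm_or h1 with a | a <;> rcases h.comm_or h2 with b | b
  · simp [h3, b, ← mul_assoc, a]
  · simp [h3, b, ← mul_assoc, a, hz]
  · rw [h3, b, ← mul_assoc, ← mul_assoc, a, mul_assoc _ z, ← h.cen, ← mul_assoc]; simp [hz]
  · rw [h3, b, ← mul_assoc, ← mul_assoc, ← mul_assoc, a, mul_assoc _ z, ← h.cen, ← mul_assoc,
      mul_assoc _ z, h.z2]; simp [hz]

theorem tw {e e' : ℕ → C} {ε : ℕ → ℕ} (he : ∀ c, e' c = e c * z ^ ε c) :
    ∀ w : List ℕ, ev e' w = ev e w * z ^ ((w.map ε).sum % 2)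
  | [] => by simp
  | c :: w => by
    have h1 : orderOf z = 2 := orderOf_eq_prime (by rw [sq, h.z2]) h.ne
    rw [ev_cons, tw he w, he, ev_cons, ← h1, pow_mod_orderOf, pow_mod_orderOf, List.map_cons,
      List.sum_cons, pow_add, mul_assoc, ← mul_assoc (z ^ _),
      ← ((show Commute (ev e w) z from h.cen _).pow_right _).eq]
    group

theorem comm_of (h0 : ∀ g, π g * π g = 1 → g * g = 1) {g u : C} {c : ℕ} {v a b : List ℕ}
    (hg : π g = mA c) (hu : π u = ev mA v)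
    (hc : and2 (eqW runA v (app a b)) (allL [[c], a, b, c :: a, c :: b] fun w =>
      eqW runA (app w w) []) = true) : g * u = u * g := by
  simp only [and2_true, allL_true, isoA.eqW, app_eq, ev_append, List.forall_mem_cons, ev_cons, ev_nil,
    mul_one] at hc
  obtain ⟨h1, h2, h3, h4, h5, h6, -⟩ := hc
  have key : ∀ a : A, a * a = 1 → mA c * a * (mA c * a) = 1 → ∀ x, π x = a → x ∈ C{g} :=
    fun a a1 a2 x hx => mem_C1.2 ((h.comm_iff (by rwa [hg]) (by rwa [hx]) (by rwa [hg, hx])).2 (by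
      simp [h0 (g * x) (by rwa [map_mul, hg, hx]), h0 g (by rwa [hg]), h0 x (by rwa [hx])])).symm
  obtain ⟨x, hx⟩ := h.surj (ev mA a)
  obtain ⟨y, hy⟩ := h.surj (ev mA b)
  have h7 := mul_mem (key _ h3 h5 x hx) (key _ h4 h6 y hy)
  rcases h.eq (c := u) (d := x * y) (by rw [hu, h1, map_mul, hx, hy]) with rfl | rfl
  · exact (mem_C1.1 h7).symm
  · exact (mem_C1.1 (mul_mem h7 (mem_C1.2 (h.cen g).symm))).symm

end Ext

theorem cardA : Nat.card A = 88704000 := by
  have := extK.ncard Set.univ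
  rw [Set.preimage_univ, Set.ncard_univ, Set.ncard_univ, HK.card] at this
  omega

noncomputable def el {E : Type} [Group E] (X Y S : E) : ℕ → E := nth 1 [X, Y, Y⁻¹, S]
noncomputable def trW (w : List ℕ) : List ℕ := mapL (nth 99 [0, 2, 3, 4]) w

theorem split {E : Type} [Group E] {p : E →* A} {z : E} (h : Ext p z)
    (h0 : ∀ g, p g * p g = 1 → g * g = 1) :
    ∃ Γ : Subgroup E, (∀ a, ∃ g ∈ Γ, p g = a) ∧ z ∉ Γ := by
  have hp : ∀ {X Y S : E}, p X = mA 0 → p Y = mA 2 → p S = mA 4 → ∀ w,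
      p (ev (el X Y S) w) = ev mA (trW w) := fun {X Y S} hX hY hS w => by
    rw [map_ev, trW, mapL_eq, ev, ev, List.map_map]
    congr 2
    funext c
    rcases c with _ | _ | _ | _ | c
    exacts [hX, hY, (map_inv p Y).trans (hY ▸ (hivA 2).symm), hS,
      (map_one p).trans (by rw [Function.comp, show nth 99 [0, 2, 3, 4] (c + 4) = 99 from rfl, mA,
        mod_m.e99, map_one])]
  obtain ⟨X0, hX0⟩ := h.surj (mA 0)
  obtain ⟨Y0, hY0⟩ := h.surj (mA 2)
  obtain ⟨S, hS⟩ := h.surj (mA 4)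
  obtain ⟨X, hX, r8⟩ : ∃ X, p X = mA 0 ∧ ev (el X Y0 S) (nth [] HB.RB 7) = 1 := by
    rcases (h.ker _).1 ((hp hX0 hY0 hS (nth [] HB.RB 7)).trans
      (isoA.eqW.1 (by decide +kernel : eqW runA _ [] = true))) with h1 | h1
    · exact ⟨X0, hX0, h1⟩
    · refine ⟨X0 * z, by simp [hX0, h.πz], ?_⟩
      rw [h.tw (e := el X0 Y0 S) (ε := nth 0 [1]) (fun c => by
        rcases c with _ | _ | _ | _ | c <;> simp [el, nth_eq]), h1,
        show _ % 2 = 1 by decide +kernel, pow_one, h.z2]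
  obtain ⟨Y, hY, r8, r3⟩ : ∃ Y, p Y = mA 2 ∧ ev (el X Y S) (nth [] HB.RB 7) = 1 ∧
      ev (el X Y S) (nth [] HB.RB 2) = 1 := by
    rcases (h.ker _).1 ((hp hX hY0 hS (nth [] HB.RB 2)).trans
      (isoA.eqW.1 (by decide +kernel : eqW runA _ [] = true))) with h1 | h1
    · exact ⟨Y0, hY0, r8, h1⟩
    · have h2 := h.tw (e := el X Y0 S) (e' := el X (Y0 * z) S) (ε := nth 0 [0, 1, 1]) (fun c => by
        rcases c with _ | _ | _ | _ | c <;>
          simp [el, nth_eq, h.cen, inv_eq_of_mul_eq_one_right h.z2])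
      refine ⟨Y0 * z, by simp [hY0, h.πz], ?_, ?_⟩
      · rw [h2, r8, show _ % 2 = 0 by decide +kernel, pow_zero, mul_one]
      · rw [h2, h1, show _ % 2 = 1 by decide +kernel, pow_one, h.z2]
  have q : ∀ u, eqW runA (app (trW u) (trW u)) [] = true → ev (el X Y S) (u ++ u) = 1 := fun u hu => by
    rw [ev_append]
    exact h0 _ (by simpa [hp hX hY hS] using isoA.eqW.1 hu)
  have hX2 : X * X = 1 := by simpa [el, nth_eq] using q [0] (by decide +kernel)
  have hS2 : S * S = 1 := by simpa [el, nth_eq] using q [3] (by decide +kernel)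
  have iX := inv_eq_of_mul_eq_one_right hX2
  have c2 := h.comm_of h0 hX (hp hX hY hS [1, 0, 2, 0, 1]) (a := [10, 0, 11])
    (b := [41, 30, 7, 0, 6, 30, 41]) (by decide +kernel)
  have c7 := h.comm_of h0 hS (hp hX hY hS [1, 0, 1, 0, 1, 1, 0, 2]) (a := [33, 14, 25, 15, 33])
    (b := [21, 21, 25, 22, 22]) (by decide +kernel)
  have hb := HB.ubB E (el X Y S) (fun c => by
    rcases c with _ | _ | _ | _ | c <;> simp [el, nth_eq, ivOf, iX, inv_eq_of_mul_eq_one_right hS2]) (by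
    simp only [HB.RB, List.forall_mem_cons]
    refine ⟨q [1, 1, 1] (by decide +kernel), ?_, r3, q [0, 1, 0, 1, 0, 1, 0, 1] (by decide +kernel),
      q [0, 1, 0, 1, 1, 1, 0, 1, 0, 1, 1, 1] (by decide +kernel), q [3, 0] (by decide +kernel), ?_, r8,
      by simp⟩
    · have : X * ((ev (el X Y S) [1, 0, 2, 0, 1])⁻¹ * (X * ev (el X Y S) [1, 0, 2, 0, 1])) = 1 := by
        rw [c2, inv_mul_cancel_left, hX2]
      simpa [el, nth_eq, iX, mul_assoc] using this
    · have : S * ((ev (el X Y S) [1, 0, 1, 0, 1, 1, 0, 2])⁻¹ *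
          (S * ev (el X Y S) [1, 0, 1, 0, 1, 1, 0, 2])) = 1 := by
        rw [c7, inv_mul_cancel_left, hS2]
      simpa [el, nth_eq, iX, mul_assoc] using this)
  have ht : (gen (el X Y S) [0, 1, 2, 3]).map p = ⊤ := by
    refine eq_top_iff.2 fun a _ => ?_
    obtain ⟨g, rfl⟩ := HS100.ψ_surj a
    have h2 : gen HK.σ HK.L5 ≤ ((gen (el X Y S) [0, 1, 2, 3]).map p).comap ψ := gen_le.2 fun c hc => by
      have h3 : c < 5 := (by decide : ∀ c ∈ HK.L5, c < 5) c hc
      have a0 : mA 0 ∈ map p _ := ⟨X, mem_gen (e := el X Y S) (l := [0, 1, 2, 3]) (c := 0) (by simp), hX⟩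
      have a2 : mA 2 ∈ map p _ := ⟨Y, mem_gen (e := el X Y S) (l := [0, 1, 2, 3]) (c := 1) (by simp), hY⟩
      have a4 : mA 4 ∈ map p _ := ⟨S, mem_gen (e := el X Y S) (l := [0, 1, 2, 3]) (c := 3) (by simp), hS⟩
      rw [mem_comap, ← m_base h3]
      change mA c ∈ _
      interval_cases c
      exacts [a0, (show mA 1 = _ from hivA 0) ▸ inv_mem a0, a2,
        (show mA 3 = _ from hivA 2) ▸ inv_mem a2, a4]
    exact h2 (HK.top5 ▸ mem_top g)
  refine ⟨_, fun a => (ht ▸ mem_top a : a ∈ map p _), fun hz => h.ne ?_⟩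
  have : Finite E := Nat.finite_of_card_ne_zero (by
    rw [← Set.ncard_univ, ← Set.preimage_univ (f := p), h.ncard, Set.ncard_univ, cardA]; omega)
  exact inj_of_card p (by rw [ht, card_top, cardA]; exact hb.2) hz h.πz

theorem iso0 {C1 C2 : Type} [Group C1] [Group C2] {p1 : C1 →* A} {p2 : C2 →* A} {z1 : C1} {z2 : C2}
    (h1 : Ext p1 z1) (h2 : Ext p2 z2)
    (hq : ∀ a b, p1 a = p2 b → p1 a * p1 a = 1 → (a * a = 1 ↔ b * b = 1)) :
    ∃ φ : C1 ≃* C2, ∀ a, p2 (φ a) = p1 a := by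
  let D := (p1.comp (MonoidHom.fst C1 C2)).eqLocus (p2.comp (MonoidHom.snd C1 C2))
  have hD : ∀ d : D, p1 d.1.1 = p2 d.1.2 := fun d => d.2
  let n : D := ⟨(z1, z2), h1.πz.trans h2.πz.symm⟩
  let z : D := ⟨(z1, 1), h1.πz.trans (map_one p2).symm⟩
  have n2 : n * n = 1 := Subtype.ext (Prod.ext h1.z2 h2.z2)
  have hn : (zpowers n).Normal := ⟨fun a ha g => by
    rcases (mem_zp2 n2).1 ha with rfl | rfl
    · simp
    · rw [show g * n = n * g from Subtype.ext (Prod.ext (h1.cen _) (h2.cen _))]; simp⟩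
  let p : D ⧸ zpowers n →* A := QuotientGroup.lift _ ((p1.comp (MonoidHom.fst C1 C2)).comp D.subtype)
    (zpowers_le.2 h1.πz)
  have hm : ∀ d : D, (d : D ⧸ zpowers n) = 1 ↔ d.1 = (1, 1) ∨ d.1 = (z1, z2) := fun d => by
    rw [QuotientGroup.eq_one_iff, mem_zp2 n2, Subtype.ext_iff, Subtype.ext_iff]; rfl
  have hz : ∀ d : D, (d : D ⧸ zpowers n) = z ↔ d.1 = (z1, 1) ∨ d.1 = (1, z2) := fun d => by
    rw [← mul_inv_eq_one, ← QuotientGroup.mk_inv, ← QuotientGroup.mk_mul, hm]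
    simp [z, Prod.ext_iff, mul_inv_eq_iff_eq_mul, h1.z2]
  have hE : Ext p (z : D ⧸ zpowers n) := ⟨fun a => by
      obtain ⟨x, rfl⟩ := h1.surj a
      obtain ⟨y, hy⟩ := h2.surj (p1 x)
      exact ⟨(⟨(x, y), hy.symm⟩ : D), rfl⟩, by simp [hm, z, h1.ne, h2.ne.symm], fun c => by
      induction c using QuotientGroup.induction_on with | H d => ?_
      have a1 := h1.ker d.1.1
      have a2 := h2.ker d.1.2
      rw [← hD] at a2
      change p1 d.1.1 = 1 ↔ _
      simp only [hm, hz, Prod.ext_iff]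
      tauto⟩
  obtain ⟨Γ, a1, a2⟩ := split hE fun c hc => by
    induction c using QuotientGroup.induction_on with | H d => ?_
    have b0 : p1 d.1.1 * p1 d.1.1 = 1 := hc
    have b1 := (h1.ker (d.1.1 * d.1.1)).1 (by rwa [map_mul])
    have b2 := (h2.ker (d.1.2 * d.1.2)).1 (by rwa [map_mul, ← hD])
    have b3 := hq _ _ (hD d) b0
    have := h1.ne
    have := h2.ne
    rw [← QuotientGroup.mk_mul, hm]
    simp only [Prod.ext_iff, coe_mul, Prod.fst_mul, Prod.snd_mul]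
    grind
  let Δ := (Γ.comap (QuotientGroup.mk' (zpowers n))).map D.subtype
  have hΔ : ∀ d : D, d.1 ∈ Δ ↔ (d : D ⧸ zpowers n) ∈ Γ := fun d => mem_map_iff_mem D.subtype_injective
  have hnΔ : (z1, z2) ∈ Δ := (hΔ n).2 ((hm n).2 (.inr rfl) ▸ one_mem _)
  obtain ⟨φ, hφ⟩ := exists_equiv (D := Δ) (by
    rintro _ ⟨d, b1, rfl⟩ b2
    refine ((h2.ker d.1.2).1 (by rw [← hD, show d.1.1 = 1 from b2, map_one])).resolve_right fun b3 => a2 ?_
    exact (hz d).2 (.inr (Prod.ext b2 b3)) ▸ b1) (by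
    rintro _ ⟨d, b1, rfl⟩ b2
    refine ((h1.ker d.1.1).1 (by rw [hD, show d.1.2 = 1 from b2, map_one])).resolve_right fun b3 => a2 ?_
    exact (hz d).2 (.inl (Prod.ext b3 b2)) ▸ b1)
  have t1 : Δ.map (MonoidHom.fst C1 C2) = ⊤ := eq_top_iff.2 fun x _ => by
    obtain ⟨c, b1, b2⟩ := a1 (p1 x)
    induction c using QuotientGroup.induction_on with | H d => ?_
    rcases h1.eq (c := x) (d := d.1.1) b2.symm with rfl | rfl
    exacts [⟨_, (hΔ d).2 b1, rfl⟩, ⟨_, mul_mem ((hΔ d).2 b1) hnΔ, rfl⟩]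
  have t2 : Δ.map (MonoidHom.snd C1 C2) = ⊤ := eq_top_iff.2 fun x _ => by
    obtain ⟨c, b1, b2⟩ := a1 (p2 x)
    induction c using QuotientGroup.induction_on with | H d => ?_
    rcases h2.eq (c := x) (d := d.1.2) (b2.symm.trans (hD d)) with rfl | rfl
    exacts [⟨_, (hΔ d).2 b1, rfl⟩, ⟨_, mul_mem ((hΔ d).2 b1) hnΔ, rfl⟩]
  refine ⟨topEquiv.symm.trans ((MulEquiv.subgroupCongr t1.symm).trans (φ.trans
    ((MulEquiv.subgroupCongr t2).trans topEquiv))), fun a => ?_⟩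
  obtain ⟨d, -, b⟩ := (hφ _ _).1 (rfl : φ (MulEquiv.subgroupCongr t1.symm (topEquiv.symm a)) = _)
  have := hD d
  rw [show d.1 = _ from b] at this
  exact this.symm

theorem Ext.iso {C1 : Type*} {C2 : Type} [Group C1] [Finite C1] [Group C2] {p1 : C1 →* A} {p2 : C2 →* A}
    {z1 : C1} {z2 : C2} (h1 : Ext p1 z1) (h2 : Ext p2 z2)
    (hq : ∀ a b, p1 a = p2 b → p1 a * p1 a = 1 → (a * a = 1 ↔ b * b = 1)) :
    ∃ φ : C1 ≃* C2, ∀ a, p2 (φ a) = p1 a := by
  let s : Shrink.{0} C1 ≃* C1 := Shrink.mulEquiv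
  obtain ⟨φ, hφ⟩ := iso0 (p1 := p1.comp s.toMonoidHom) (z1 := s.symm z1)
    ⟨h1.surj.comp s.surjective, by simpa using h1.ne, fun c => by
      simp [h1.ker, s.eq_symm_apply]⟩ h2 fun a b a1 a2 => by
    rw [← hq (s a) b a1 a2, ← map_mul, map_eq_one_iff _ s.injective]
  exact ⟨s.symm.trans φ, fun a => by simp [hφ]⟩

end H27.HN
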