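import Mathlib
import Cfsg.Agent.H27.HNI1
import Cfsg.Agent.H26.GBase

/-!
# The centraliser is the model
-/

set_option autoImplicit false
set_option linter.unusedSectionVars false
set_option maxRecDepth 100000

namespace H27.HN

open H29 H15.KM H24 Subgroup

/-- The involution `a` lifts to involutions. -/
def Q {C : Type*} [Group C] (π : C →* A) (a : A) : Prop := ∀ c, π c = a → c * c = 1

theorem tyK {x : List ℕ} (R c : List ℕ) (hc : ty run iv [] R c x = true := by decide +kernel) :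
    Ty m R (ev m x) := mod_m.ty hc

theorem mA24 : mA 24 = mA 23 := by rw [mA, mod_m.e24, map_mul, ψ5, one_mul, mA]
theorem H0_index : H0.index = 2 ∧ mA 16 ∉ H0 := by
  obtain ⟨H, h1, -⟩ := HS100.exists_HS
  have := index_two h1
  exact this.1 ▸ ⟨h1, this.2⟩

namespace Ext

variable {C : Type*} [Group C] {π : C →* A} {z : C} (h : Ext π z)
include h

theorem Q_iff (c : C) : Q π (π c) ↔ c * c = 1 := ⟨fun h1 => h1 c rfl, fun h1 _ h2 => (h.sq_eq h2).trans h1⟩

theorem Q_ty {R : List ℕ} {k : K} (h1 : Ty m R k) : ∃ r ∈ R, (Q π (ψ k) ↔ Q π (mA r)) ∧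
    (ψ k ∈ H0 ↔ mA r ∈ H0) ∧ (k * k = 1 ↔ m r * m r = 1) ∧ IsConj (ψ k) (mA r) := by
  obtain ⟨r, h2, g, -, h3⟩ := h1
  obtain ⟨c, hc⟩ := h.surj (ψ k)
  obtain ⟨d, hd⟩ := h.surj (ψ g)
  have h4 : mA r = π (d * c * d⁻¹) := by simp [mA, ← h3, hc, hd]
  have := normal_of_index_eq_two H0_index.1
  refine ⟨r, h2, by rw [h4, ← hc, h.Q_iff, h.Q_iff]; simp, ?_, by simp [← h3], isConj_iff.2
    ⟨ψ g, by simp [mA, ← h3]⟩⟩
  rw [mA, ← h3, map_mul, map_mul, map_inv]
  exact ⟨fun a => this.conj_mem _ a _, fun a => by simpa [mul_assoc] using this.conj_mem' _ a (ψ g)⟩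

theorem Q7 {a b c : List ℕ} (hc : (allL [a, b, c, app a b, app a c, app b c, app a (app b c)] fun w =>
    eqW runA (app w w) []) = true) : (Q π (ψ (ev m (a ++ (b ++ c)))) ↔ (Q π (ψ (ev m a)) ↔
      Q π (ψ (ev m (b ++ c))))) ↔ ((Q π (ψ (ev m (a ++ b))) ↔ (Q π (ψ (ev m a)) ↔ Q π (ψ (ev m b)))) ↔
        (Q π (ψ (ev m (a ++ c))) ↔ (Q π (ψ (ev m a)) ↔ Q π (ψ (ev m c))))) := by
  simp only [allL_true, isoA.eqW, app_eq, ev_append, List.forall_mem_cons, ev_nil, ← evA] at hc ⊢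
  simp only [map_mul, ← evA]
  obtain ⟨u, hu⟩ := h.surj (ev mA a)
  obtain ⟨v, hv⟩ := h.surj (ev mA b)
  obtain ⟨w, hw⟩ := h.surj (ev mA c)
  rw [← hu, ← hv, ← hw] at hc ⊢
  obtain ⟨a1, a2, a3, a4, a5, a6, a7, -⟩ := hc
  have k : ∀ {x y : A}, x * x = 1 → y * y = 1 → x * y * (x * y) = 1 → x * y = y * x := fun a b c => by
    rw [eq_inv_of_mul_eq_one_left c, mul_inv_rev, inv_eq_of_mul_eq_one_right a,
      inv_eq_of_mul_eq_one_right b]
  simp only [← map_mul, h.Q_iff]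
  rw [← h.comm_iff a1 a2 a4, ← h.comm_iff a1 a3 a5,
    ← h.comm_iff a1 (by rwa [map_mul]) (by rwa [map_mul]), h.comm_mul (k a1 a2 a4) (k a1 a3 a5)]

theorem Q1 : Q π (mA 99) ∧ Q π (mA 5) := by
  have : Q π 1 := by simpa using (h.Q_iff 1).2 (by simp)
  exact ⟨by rwa [mA, mod_m.e99, map_one], by rwa [mA, ψ5]⟩

theorem Q_a {x : List ℕ} (c : List ℕ) (hc : ty run iv [] [23, 24] c x = true := by decide +kernel) :
    Q π (ψ (ev m x)) ↔ Q π (mA 23) := by
  obtain ⟨r, h1, h2, -⟩ := h.Q_ty (mod_m.ty hc)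
  simp only [List.mem_cons, List.not_mem_nil, or_false] at h1
  rcases h1 with rfl | rfl
  exacts [h2, mA24 ▸ h2]

theorem Q_d {x : List ℕ} (c : List ℕ) (hc : ty run iv [] [25] c x = true := by decide +kernel) :
    Q π (ψ (ev m x)) ↔ Q π (mA 25) := by
  obtain ⟨r, h1, h2, -⟩ := h.Q_ty (mod_m.ty hc)
  rwa [List.mem_singleton.1 h1] at h2

theorem Q23 : Q π (mA 23) := by
  have := h.Q7 (a := [38]) (b := [41]) (c := [24]) (by decide +kernel)
  rw [h.Q_a [23, 10, 41, 12], h.Q_a [23, 2, 1, 3], h.Q_a [23, 3, 35, 21, 36], h.Q_a [23, 10, 15, 36],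
    h.Q_a [23, 3, 14, 37, 31], h.Q_a [23, 3, 9, 13, 2], h.Q_a [24]] at this
  tauto

theorem Q25 : Q π (mA 25) ↔ Q π (mA 16) := by
  have := h.Q7 (a := [16]) (b := [23]) (c := [26]) (by decide +kernel)
  rw [h.Q_d [25, 10, 9], h.Q_d (x := [16] ++ [23]) [25], h.Q_d (x := [16] ++ [26]) [25, 8, 11],
    h.Q_a (x := [23]) [23], h.Q_a (x := [26]) [23, 8, 11], h.Q_a (x := [23] ++ [26]) [23, 10, 9]] at this
  have := h.Q23
  simp only [ev_cons, ev_nil, mul_one] at *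
  tauto

omit h in
theorem clsA {k : K} (h1 : ψ k * ψ k = 1) : Ty m [99, 5, 23, 24, 0, 16, 25] k :=
  mod_m.cls (f_cent k) (ker5 (by rwa [map_mul]))

theorem notQ0 [Finite C] (hz : z ∈ commutator C) : ¬ Q π (mA 0) := fun h0 => by
  let J : Subgroup (A × Multiplicative (ZMod 4)) :=
    { carrier := {x | (x.1 ∈ H0 ∨ Q π (mA 16)) ↔ x.2 * x.2 = 1}
      mul_mem' := fun {a b} ha hb => by
        have := (by decide : ∀ i j : Multiplicative (ZMod 4), i * j * (i * j) = 1 ↔ (i * i = 1 ↔ j * j = 1))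
        simp only [Set.mem_setOf_eq, Prod.fst_mul, Prod.snd_mul, this,
          mul_mem_iff_of_index_two H0_index.1] at *
        tauto
      one_mem' := by simp
      inv_mem' := fun {a} ha => by simpa [← mul_inv_rev] using ha }
  have n2 : ¬ Multiplicative.ofAdd (2 : ZMod 4) = 1 := by decide
  have hJ : Ext ((MonoidHom.fst _ _).comp J.subtype)
      ⟨(1, Multiplicative.ofAdd 2), by simp [J]; decide⟩ := ⟨fun a => by
    by_cases h1 : a ∈ H0 ∨ Q π (mA 16)
    · exact ⟨⟨(a, 1), by simpa [J] using h1⟩, rfl⟩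
    · exact ⟨⟨(a, Multiplicative.ofAdd 1), iff_of_false h1
        (by decide : ¬ (Multiplicative.ofAdd (1 : ZMod 4)) * Multiplicative.ofAdd 1 = 1)⟩, rfl⟩,
    fun h1 => absurd (congrArg (·.1.2) h1) n2, fun ⟨⟨a, i⟩, h1⟩ => by
      have := (by decide : ∀ i : Multiplicative (ZMod 4), i * i = 1 ↔ i = 1 ∨ i = Multiplicative.ofAdd 2)
      simp only [MonoidHom.comp_apply, coe_subtype, MonoidHom.coe_fst, Subtype.ext_iff, Prod.ext_iff,
        coe_one, Prod.fst_one, Prod.snd_one, ← and_or_left, ← this, iff_self_and]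
      rintro rfl
      exact h1.1 (.inl (one_mem _))⟩
  obtain ⟨φ, hφ⟩ := h.iso hJ fun a b h1 h2 => by
    obtain ⟨k, hk⟩ := HS100.ψ_surj (π a)
    replace hk : ψ k = π a := hk
    obtain ⟨r, a1, a2, a3, -⟩ := h.Q_ty (clsA (hk ▸ h2))
    have a4 : b * b = 1 ↔ (ψ k ∈ H0 ∨ Q π (mA 16)) := by
      have a5 : b.1.1 = ψ k := h1.symm.trans hk.symm
      rw [← a5, show (b.1.1 ∈ H0 ∨ _) ↔ _ from b.2, Subtype.ext_iff, Prod.ext_iff]
      exact and_iff_right (by rw [coe_mul, Prod.fst_mul, a5, hk, h2]; rfl)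
    have a5 : mA 25 ∉ H0 := fun a5 => H0_index.2 (by
      rw [mA, mod_m.e25, map_mul] at a5
      exact (mul_mem_cancel_right a_mem).1 a5)
    rw [← h.Q_iff, ← hk, a2, a4, a3]
    simp only [List.mem_cons, List.not_mem_nil, or_false] at a1
    rcases a1 with rfl | rfl | rfl | rfl | rfl | rfl | rfl
    · simpa [h.Q1.1, mA, mod_m.e99] using h.Q1.1
    · simpa [mA, ψ5] using h.Q1.2
    all_goals simp [h.Q23, mA24, a_mem, x_mem, h0, H0_index.2, a5, h.Q25]
  have h1 := Abelianization.commutator_subset_ker (((MonoidHom.snd _ _).comp J.subtype).comp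
    φ.toMonoidHom) hz
  rcases (hJ.ker (φ z)).1 ((hφ z).trans h.πz) with h2 | h2
  · exact h.ne (by simpa using h2)
  · rw [MonoidHom.mem_ker, MonoidHom.comp_apply, show φ.toMonoidHom z = _ from h2] at h1
    exact absurd h1 n2

theorem good [Finite C] (h0 : ¬ Q π (mA 0)) (h1 : Q π (mA 16)) : ∃ φ : C ≃* K, φ z = m 5 := by
  obtain ⟨φ, hφ⟩ := h.iso extK fun a k hk h2 => by
    obtain ⟨r, a1, a2, -, a3, -⟩ := h.Q_ty (clsA (hk ▸ h2))
    have a4 : m 0 * m 0 ≠ 1 := by simpa using mod_m.ne (u := [0, 0]) (v := [])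
    rw [← h.Q_iff, hk, a2, a3]
    simp only [List.mem_cons, List.not_mem_nil, or_false] at a1
    rcases a1 with rfl | rfl | rfl | rfl | rfl | rfl | rfl <;>
      simp [h.Q1.1, h.Q1.2, h.Q23, mA24, h0, h1, h.Q25, mod_m.e99, mod_m.sq 5, mod_m.sq 23, mod_m.sq 24,
        mod_m.sq 16, mod_m.sq 25, a4]
  exact ⟨φ, (ker5 ((hφ z).trans h.πz)).resolve_left (by simpa using h.ne)⟩

end Ext

section
variable {G : Type*} [Group G] [Finite G] [IsSimpleGroup G] {f : G}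

theorem zstar (h1 : f ≠ 1) (h2 : f * f = 1) (h3 : 4 ∣ Nat.card G) :
    ∃ u, IsConj f u ∧ u ≠ f ∧ u * f = f * u := by
  by_contra h4
  push Not at h4
  have h5 := H26.Gold.zstar_sub' (mem_top f) h1 h2 fun g _ hg => by
    by_contra h6
    exact h4 _ (isConj_iff.2 ⟨g, rfl⟩) h6 hg.symm
  have h6 : O[{2}ᶜ, (⊤ : Subgroup G)] = ⊥ :=
    ((nml_top_iff.1 (pcore_nml _ ⊤)).eq_bot_or_eq_top).resolve_right fun h7 => by
      have := pcore_pi ({2}ᶜ : Set ℕ) (⊤ : Subgroup G)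
      rw [h7] at this
      exact this 2 Nat.prime_two (by rw [card_top]; exact (by norm_num : 2 ∣ 4).trans h3) rfl
  have h7 : (zpowers f).Normal := normalizer_eq_top_iff.1 (eq_top_iff.2 ((le_centralizer_iff.1
    (commutator_eq_bot_iff_le_centralizer.1 (le_bot_iff.1 (h5.trans h6.le)))).trans (C_le_N _)))
  have h8 := Nat.card_zpowers f
  rw [h7.eq_bot_or_eq_top.resolve_left (by simpa using h1), card_top,
    orderOf_eq_prime (by rwa [sq]) h1] at h8
  omega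

theorem bad {π : C{f} →* A} (h : Ext π ⟨f, self_mem_C1 f⟩) (h0 : ¬ Q π (mA 0)) : Q π (mA 16) := by
  by_contra h1
  have hc : ♯C{f} = 177408000 := by
    rw [← Set.ncard_univ, ← Set.preimage_univ (f := π), h.ncard, Set.ncard_univ, cardA]
  obtain ⟨u, a1, a2, a3⟩ := zstar (f := f) (fun e => h.ne (Subtype.ext e))
    (congrArg Subtype.val h.z2) ((by rw [hc]; norm_num : 4 ∣ ♯C{f}).trans (card_subgroup_dvd_card _))
  have u2 : u * u = 1 := by
    obtain ⟨g, rfl⟩ := isConj_iff.1 a1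
    simpa using congrArg Subtype.val h.z2
  obtain ⟨v, hv, v2, b1⟩ : ∃ v : C{f}, π v = mA 23 ∧ v * v = 1 ∧ IsConj (v : G) f := by
    let u' : C{f} := ⟨u, mem_C1.2 a3⟩
    have b0 : u' * u' = 1 := Subtype.ext u2
    obtain ⟨k, hk⟩ := HS100.ψ_surj (π u')
    replace hk : ψ k = π u' := hk
    obtain ⟨r, b1, b2, -, -, b3⟩ := h.Q_ty (Ext.clsA (k := k) (by rw [hk, ← map_mul, b0, map_one]))
    rw [hk] at b3
    rw [hk, h.Q_iff] at b2
    have b4 : π u' ≠ 1 := fun e => ((h.ker _).1 e).elim (fun e => h.ne (Subtype.ext (by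
      rw [show u = 1 from congrArg Subtype.val e] at a1; simpa using a1)))
      fun e => a2 (congrArg Subtype.val e)
    have b5 : IsConj (π u') (mA 23) := by
      simp only [List.mem_cons, List.not_mem_nil, or_false] at b1
      rcases b1 with rfl | rfl | rfl | rfl | rfl | rfl | rfl
      · simp [mA, mod_m.e99, b4] at b3
      · simp [mA, ψ5, b4] at b3
      exacts [b3, mA24 ▸ b3, absurd (b2.1 b0) h0, absurd (b2.1 b0) h1, absurd (h.Q25.1 (b2.1 b0)) h1]
    obtain ⟨g, hg⟩ := isConj_iff.1 b5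
    obtain ⟨d, rfl⟩ := h.surj g
    exact ⟨d * u' * d⁻¹, by simpa using hg, by simp [b0],
      (isConj_iff.2 ⟨(d : G), rfl⟩ : IsConj u _).symm.trans a1.symm⟩
  let T := (gen mA lT).comap π
  have hT : ∀ k, ψ k ∈ gen mA lT ↔ k ∈ gen m lT := fun k => by
    rw [show gen mA lT = _ from (map_gen ψ m lT).symm]
    refine ⟨fun ⟨l, c1, c2⟩ => ?_, mem_map_of_mem ψ⟩
    rcases extK.eq c2.symm with rfl | rfl
    exacts [c1, mul_mem c1 (mem_gen (by decide))]
  have key : ∀ P : G → Prop, {g | g ∈ T.map C{f}.subtype ∧ P g}.ncard =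
      {c : C{f} | π c ∈ gen mA lT ∧ P c}.ncard := fun P => by
    rw [← Set.ncard_image_of_injective _ Subtype.val_injective]
    congr 1
    ext g
    exact ⟨fun ⟨⟨c, c1, c2⟩, c3⟩ => ⟨c, ⟨c1, by rwa [show (c : G) = g from c2]⟩, c2⟩,
      fun ⟨c, ⟨c1, c3⟩, c2⟩ => ⟨⟨c, c1, c2⟩, c2 ▸ c3⟩⟩
  have k2 : ∀ S : Set A, (π ⁻¹' S).ncard = (ψ ⁻¹' S).ncard := fun S => by rw [h.ncard, extK.ncard]
  have hS : Syl 2 C{f} (T.map C{f}.subtype) := syl_of_card (k := 11) Nat.prime_two (map_subtype_le _) (by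
    rw [card_map_of_injective C{f}.subtype_injective, ← R2c.nc_sub, coe_comap, k2,
      show ψ ⁻¹' (gen mA lT : Set A) = (gen m lT : Set K) from Set.ext hT, R2c.nc_sub, mod_m.pcT.card]; rfl)
    hc.dvd (by norm_num)
  have hTv : T.map C{f}.subtype ≤ C{(v : G)} := by
    have c1 : gen mA lT ≤ C{v}.map π := gen_le.2 fun c c1 => by
      obtain ⟨d, hd⟩ := h.surj (mA c)
      obtain ⟨R, c2, c3, c4⟩ := mod_m.cen c1
      obtain ⟨r, d1, d2, -⟩ := h.Q_ty c3
      obtain ⟨r', d3, d4, -⟩ := h.Q_ty c4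
      have d5 := allL_true.1 (by decide +kernel : (allL (23 :: lT) fun c => and2 (eqW runA [c, c] [])
        (eqW runA [23, c, 23, c] [])) = true)
      simp only [and2_true, isoA.eqW, ev_cons, ev_nil, mul_one] at d5
      refine ⟨d, mem_C1.2 ((h.comm_iff (hv ▸ (d5 23 (by simp)).1) (hd ▸ (d5 c (by simp [c1])).1)
        (by simpa [hv, hd, mul_assoc] using (d5 c (by simp [c1])).2)).2 ?_).symm, hd⟩
      rw [← h.Q_iff (v * d), ← h.Q_iff d, map_mul, hv, hd, show mA 23 * mA c = _ from (map_mul ψ _ _).symm,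
        d4, show Q π (mA c) ↔ _ from d2]
      simp only [List.mem_cons, List.not_mem_nil, or_false] at c2
      rcases c2 with rfl | rfl <;> simp only [List.mem_cons, List.not_mem_nil, or_false] at d1 d3
      · rcases d1 with rfl | rfl <;> rcases d3 with rfl | rfl <;> simp [h.Q25, h1, v2]
      · rcases d1 with rfl | rfl | rfl | rfl <;> rcases d3 with rfl | rfl | rfl | rfl <;>
          simp [h.Q1.1, h.Q1.2, h.Q23, mA24, v2]
    rintro _ ⟨c, c2, rfl⟩
    obtain ⟨d, c3, c4⟩ := c1 c2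
    have : c ∈ C{v} := by
      rcases h.eq c4.symm with rfl | rfl
      exacts [c3, mul_mem c3 (mem_C1.2 (h.cen v).symm)]
    exact mem_C1.2 (congrArg Subtype.val (mem_C1.1 this))
  have h2 := sqrt_eq hS hTv b1
  rw [key, key] at h2
  have h3 : {c : C{f} | π c ∈ gen mA lT ∧ (c : G) * c = v}.ncard ≤ 192 := by
    rw [← mod_m.n23]
    refine (Set.ncard_le_ncard (t := π ⁻¹' {a | a ∈ gen mA lT ∧ a * a = mA 23}) fun c c1 =>
      ⟨c1.1, by rw [← map_mul, show c * c = v from Subtype.ext c1.2, hv]⟩).trans ((k2 _).trans_le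
        (Set.ncard_le_ncard fun k c1 => ⟨(hT k).1 c1.1, ?_⟩))
    rw [mod_m.e24, mod_m.comm 5 23]
    exact extK.eq ((map_mul _ _ _).trans c1.2)
  have h4 : 288 ≤ {c : C{f} | π c ∈ gen mA lT ∧ (c : G) * c = f}.ncard := by
    refine mod_m.nb.trans ((Set.ncard_le_ncard (t := ψ ⁻¹' {a | a ∈ gen mA lT ∧ a * a = 1 ∧ ¬ Q π a})
      fun k c1 => ⟨(hT k).2 c1.1, ?_⟩).trans ((k2 _).symm.trans_le (Set.ncard_le_ncard fun c c1 =>
        ⟨c1.1, congrArg Subtype.val (((h.ker (c * c)).1 (by rw [map_mul]; exact c1.2.1)).resolve_left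
          fun c2 => c1.2.2 ((h.Q_iff c).2 c2))⟩)))
    obtain ⟨r, d1, d2, -, -, d3⟩ := h.Q_ty c1.2
    obtain ⟨g, d3⟩ := isConj_iff.1 d3
    have d5 := allL_true.1 (by decide +kernel : (allL [0, 16, 25] fun c => eqW runA [c, c] []) = true) r d1
    simp only [isoA.eqW, ev_cons, ev_nil, mul_one, ← d3] at d5
    refine ⟨by simpa using d5, ?_⟩
    simp only [List.mem_cons, List.not_mem_nil, or_false] at d1
    rcases d1 with rfl | rfl | rfl <;> simp [d2, h0, h1, h.Q25]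
  omega

end

end H27.HN
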