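import Mathlib
import Cfsg.Agent.H27.HNI2

/-!
# The map onto `HS.2` and the embedding of the model
-/

set_option autoImplicit false
set_option linter.unusedSectionVars false
set_option maxRecDepth 100000

namespace H27.HN

open H29 H15.KM H24 Subgroup Cfsg

theorem exists_π0 {M : Type*} [Group M] (hcov : IsNonsplitDoubleCover M Spor.HS) {z : M} (h1 : z ≠ 1)
    (hz : z ∈ center M) : ∃ π0 : M →* A, π0.range = H0 ∧ (∀ μ, π0 μ = 1 ↔ μ = 1 ∨ μ = z) ∧
      (∀ μ ∈ center M, μ = 1 ∨ μ = z) ∧ commutator M = ⊤ := by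
  obtain ⟨H, a1, a2, ⟨e2⟩⟩ := HS100.exists_HS
  obtain ⟨b1, ⟨θ⟩, b3⟩ := hcov
  have hZ : ∀ μ ∈ center M, μ = 1 ∨ μ = z := fun μ hμ => by
    obtain ⟨y, -, h2⟩ := (Nat.card_eq_two_iff' (1 : center M)).1 b1
    exact or_iff_not_imp_left.2 fun h3 => congrArg Subtype.val ((h2 ⟨μ, hμ⟩ fun e => h3
      (congrArg Subtype.val e)).trans (h2 ⟨z, hz⟩ fun e => h1 (congrArg Subtype.val e)).symm)
  let p : M →* H := (θ.trans e2.symm).toMonoidHom.comp (QuotientGroup.mk' _)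
  have p1 : Function.Surjective p := (θ.trans e2.symm).surjective.comp (QuotientGroup.mk'_surjective _)
  have p2 : ∀ μ, p μ = 1 ↔ μ ∈ center M := fun μ =>
    (θ.trans e2.symm).map_eq_one_iff.trans (QuotientGroup.eq_one_iff μ)
  have := a2.1
  have hH := (index_two a1).1
  have c1 : (commutator M).map p = ⊤ := by
    rw [commutator_def, map_commutator, ← MonoidHom.range_eq_map, p.range_eq_top.2 p1]
    refine (IsSimpleGroup.eq_bot_or_eq_top_of_normal _ inferInstance).resolve_left fun h => ?_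
    have := commutator_eq_bot_iff_le_centralizer.1 h (mem_top ⟨mA 6, hH ▸ mem_gen (by decide)⟩)
      ⟨mA 12, hH ▸ mem_gen (by decide)⟩ (mem_top _)
    exact isoA.ne (u := [12, 6]) (v := [6, 12]) (by decide +kernel)
      (by simpa using congrArg Subtype.val this)
  have c2 : ∀ μ, ∃ ζ ∈ center M, ∃ n ∈ commutator M, ζ * n = μ := fun μ => by
    obtain ⟨n, d1, d2⟩ : p μ ∈ (commutator M).map p := c1 ▸ mem_top _
    exact ⟨μ * n⁻¹, (p2 _).1 (by simp [d2]), n, d1, by simp⟩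
  have c3 : z ∈ commutator M := by
    by_contra c3
    refine b3 _ (isComplement'_of_disjoint_and_mul_eq_univ (disjoint_def.2 fun {x} d1 d2 =>
      (hZ x d1).resolve_right fun d3 => c3 (d3 ▸ d2)) (Set.eq_univ_of_forall fun μ => ?_))
    obtain ⟨ζ, d1, n, d2, d3⟩ := c2 μ
    exact ⟨ζ, d1, n, d2, d3⟩
  refine ⟨H.subtype.comp p, by rw [MonoidHom.range_comp, p.range_eq_top.2 p1, ← MonoidHom.range_eq_map,
    range_subtype, hH], fun μ => ?_, hZ, eq_top_iff.2 fun μ _ => ?_⟩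
  · rw [MonoidHom.comp_apply, map_eq_one_iff _ H.subtype_injective, p2]
    exact ⟨hZ μ, by rintro (rfl | rfl); exacts [one_mem _, hz]⟩
  · obtain ⟨ζ, d1, n, d2, rfl⟩ := c2 μ
    rcases hZ ζ d1 with rfl | rfl
    exacts [mul_mem (one_mem _) d2, mul_mem c3 d2]

theorem exists_π {C : Type*} [Group C] {z : C} (h1 : z ≠ 1) (hz : ∀ c, c * z = z * c) (M : Subgroup C)
    [M.Normal] (hM : M.index = 2) (hout : centralizer (M : Set C) ≤ M)
    (hcov : IsNonsplitDoubleCover M Spor.HS) : ∃ π : C →* A, Ext π z ∧ z ∈ commutator C := by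
  have zM : z ∈ M := hout fun c _ => hz c
  obtain ⟨p, a1, a2, a3, a4⟩ := exists_π0 hcov (z := ⟨z, zM⟩) (fun e => h1 (congrArg Subtype.val e))
    (mem_center_iff.2 fun c => Subtype.ext (hz c))
  have b0 : ∀ c : C, MulAut.conjNormal c (⟨z, zM⟩ : M) = ⟨z, zM⟩ := fun c => Subtype.ext (by simp [hz])
  have b1 : ∀ (c : C) (μ : M), p (MulAut.conjNormal c μ) = 1 ↔ p μ = 1 := fun c μ => by
    rw [a2, a2, map_eq_one_iff _ (MulEquiv.injective _)]
    nth_rw 1 [← b0 c]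
    rw [(MulEquiv.injective _).eq_iff]
  have b2 : ∀ (c : C) (μ ν : M), p μ = p ν → p (MulAut.conjNormal c μ) = p (MulAut.conjNormal c ν) :=
    fun c μ ν h => by
      rw [← mul_inv_eq_one, ← map_inv, ← map_mul] at h ⊢
      rwa [← map_inv, ← map_mul, b1]
  have b3 : ∀ ℓ, ∃ μ : M, ℓ ∈ [14, 12, 10, 8, 6] → p μ = mA ℓ := fun ℓ => by
    by_cases h : ℓ ∈ [14, 12, 10, 8, 6]
    · obtain ⟨μ, h2⟩ : mA ℓ ∈ p.range := a1 ▸ H0_eq ▸ mem_gen h
      exact ⟨μ, fun _ => h2⟩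
    · exact ⟨1, fun h2 => absurd h2 h⟩
  choose μ hμ using b3
  have b4 : ∀ u : List ℕ, (∀ c ∈ u, c ∈ [14, 12, 10, 8, 6]) → p (ev μ u) = ψ (ev m u) := fun u hu => by
    rw [map_ev, ← evA]; exact ev_congr fun c hc => hμ c (hu c hc)
  have b5 : ∀ c : C, ∃ a : A, ∀ ν, p (MulAut.conjNormal c ν) = a * p ν * a⁻¹ := fun c => by
    obtain ⟨k, hk⟩ := rig0 (e' := fun ℓ => p (MulAut.conjNormal c (μ ℓ))) ⟨fun ℓ h => by
      rw [Ne, b1, hμ ℓ h]
      simpa using isoA.ne (allL_true.1 (by decide +kernel : (allL [14, 12, 10, 8, 6] fun c =>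
        not1 (eqW runA [c] [])) = true) ℓ h), fun u v hu hv h => by
      have := b2 c _ _ ((b4 u hu).trans (h ▸ (b4 v hv).symm))
      have k : ∀ u, p (MulAut.conjNormal c (ev μ u)) = ev (fun ℓ => p (MulAut.conjNormal c (μ ℓ))) u :=
        fun u => map_ev (p.comp (MulEquiv.toMonoidHom (MulAut.conjNormal c : M ≃* M))) μ u
      rwa [k, k] at this⟩
    refine ⟨k⁻¹, fun ν => ?_⟩
    have d1 : p ν ∈ (gen μ [14, 12, 10, 8, 6]).map p := by
      rw [map_gen, gen_congr hμ, ← H0_eq, ← a1]; exact ⟨ν, rfl⟩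
    obtain ⟨ν', d2, d3⟩ := d1
    rw [← b2 c _ _ d3, ← d3]
    exact (gen_le (H := (p.comp (MulAut.conjNormal c).toMonoidHom).eqLocus
      ((MulAut.conj k⁻¹).toMonoidHom.comp p))).2 (fun ℓ h => by
        change p (MulAut.conjNormal c (μ ℓ)) = k⁻¹ * p (μ ℓ) * k⁻¹⁻¹
        rw [hμ ℓ h, ← hk ℓ h]; group) d2
  have b6 : ∀ a b : A, (∀ ν, a * p ν * a⁻¹ = b * p ν * b⁻¹) → a = b := fun a b h =>
    (inv_mul_eq_one.1 (centH0 fun ℓ h2 => by
      rw [← hμ ℓ h2]
      calc _ = b⁻¹ * (a * p (μ ℓ) * a⁻¹) * a := by group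
        _ = _ := by rw [h]; group)).symm
  choose s hs using b5
  let π : C →* A := MonoidHom.mk' s fun c d => b6 _ _ fun ν => by
    rw [← hs, map_mul, MulAut.mul_apply, hs, hs]; group
  have c1 : ∀ ν : M, π ν = p ν := fun ν => b6 _ _ fun ν' => by
    rw [show π ν = s ν from rfl, ← hs, ← map_inv, ← map_mul, ← map_mul]; rfl
  have c2 : ∀ c, π c = 1 ↔ c = 1 ∨ c = z := fun c => ⟨fun h => by
    have d1 : ∀ ν : M, ∃ ζ ∈ center M, MulAut.conjNormal c ν = ζ * ν := fun ν =>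
      ⟨MulAut.conjNormal c ν * ν⁻¹, by
        rcases (a2 (MulAut.conjNormal c ν * ν⁻¹)).1 (by simp [hs, show s c = 1 from h]) with d | d <;>
          rw [d]
        exacts [one_mem _, mem_center_iff.2 fun c => Subtype.ext (hz c)], by simp⟩
    have d2 : commutator M ≤ (MulAut.conjNormal c).toMonoidHom.eqLocus (MonoidHom.id M) :=
      commutator_le.2 fun x _ y _ => by
        obtain ⟨ζ, d3, d4⟩ := d1 x
        obtain ⟨η, d5, d6⟩ := d1 y
        change MulAut.conjNormal c _ = _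
        rw [map_commutatorElement, d4, d6, commutatorElement_def, commutatorElement_def,
          show ζ * x * (η * y) * (ζ * x)⁻¹ * (η * y)⁻¹ = ζ * (x * η * y * x⁻¹ * ζ⁻¹) * y⁻¹ * η⁻¹ by group,
          mem_center_iff.1 (inv_mem d3), mem_center_iff.1 d5 x, mem_center_iff.1 (inv_mem d5)]
        simp [mul_assoc]
    have d3 : ∀ x ∈ M, x * c = c * x := fun x hx => (mul_inv_eq_iff_eq_mul.1
      (congrArg Subtype.val (d2 (a4.ge (mem_top (⟨x, hx⟩ : M)))))).symm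
    exact (a3 ⟨c, hout d3⟩ (mem_center_iff.2 fun x => Subtype.ext (d3 x x.2))).imp
      (congrArg Subtype.val) (congrArg Subtype.val), by
    rintro (rfl | rfl)
    exacts [map_one _, (c1 ⟨_, zM⟩).trans ((a2 _).2 (.inr rfl))]⟩
  refine ⟨π, ⟨fun a => ?_, h1, c2⟩, ?_⟩
  · have d1 : ∀ a ∈ H0, ∃ ν : M, π ν = a := fun a ha => by
      obtain ⟨ν, rfl⟩ : a ∈ p.range := a1 ▸ ha
      exact ⟨ν, c1 ν⟩
    obtain ⟨c, hc⟩ : ∃ c, c ∉ M := not_forall.1 fun h => by simp [(eq_top_iff' M).2 h] at hM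
    have d2 : π c ∉ H0 := fun h => by
      obtain ⟨ν, d2⟩ := d1 _ h
      have : c * (ν : C)⁻¹ ∈ M := by
        rcases (c2 (c * (ν : C)⁻¹)).1 (by simp [d2]) with d | d <;> rw [d]
        exacts [one_mem _, zM]
      exact hc ((mul_mem_cancel_right (inv_mem ν.2)).1 this)
    by_cases ha : a ∈ H0
    · exact (d1 a ha).elim fun ν h => ⟨ν, h⟩
    · obtain ⟨ν, d3⟩ := d1 ((π c)⁻¹ * a) ((mul_mem_iff_of_index_two H0_index.1).2 (by simp [ha, d2]))
      exact ⟨c * ν, by simp [d3]⟩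
  · have := mem_map_of_mem M.subtype (a4.ge (mem_top (⟨z, zM⟩ : M)))
    rw [commutator_def, map_commutator] at this
    exact commutator_mono le_top le_top this

theorem exists_φ {G : Type*} [Group G] [Finite G] [IsSimpleGroup G] (t : G) (ht : orderOf t = 2)
    (M : Subgroup C{t}) [M.Normal] (hM : M.index = 2) (hout : centralizer (M : Set C{t}) ≤ M)
    (hcov : IsNonsplitDoubleCover M Spor.HS) :
    ∃ φ : K →* G, Function.Injective φ ∧ φ.range = C{φ (m 5)} := by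
  obtain ⟨π, h, hz⟩ := exists_π (z := ⟨t, self_mem_C1 t⟩)
    (fun e => by simp [show t = 1 from congrArg Subtype.val e] at ht)
    (fun c => Subtype.ext (mem_C1.1 c.2)) M hM hout hcov
  obtain ⟨φ, hφ⟩ := h.good (h.notQ0 hz) (bad h (h.notQ0 hz))
  refine ⟨C{t}.subtype.comp φ.symm.toMonoidHom, C{t}.subtype_injective.comp φ.symm.injective, ?_⟩
  rw [MonoidHom.range_comp, MonoidHom.range_eq_top.2 φ.symm.surjective, ← MonoidHom.range_eq_map,
    range_subtype, ← hφ]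
  simp

end H27.HN
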