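import Mathlib
import Cfsg.Agent.H27.HNI3
import Cfsg.Agent.H27.HNF

/-!
# Fusion of involutions
-/

set_option autoImplicit false
set_option linter.unusedSectionVars false
set_option maxRecDepth 100000

namespace H27.HN

open H29 H15.KM H24 Subgroup

/-- Rigidity of the embeddings of `A₈`. -/
def Rig {G : Type*} [Group G] (e : ℕ → G) : Prop :=
  ∀ g, (∀ c ∈ [12, 10, 8, 6], g * e c * g⁻¹ ∈ C{e 5}) →
    ∃ k ∈ C{e 5}, ∀ c ∈ [12, 10, 8, 6], k * g * e c * (k * g)⁻¹ = e c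

theorem rig_hom {G : Type*} [Group G] (φ : K →* G) (hi : Function.Injective φ)
    (hr : φ.range = C{φ (m 5)}) : Rig fun c => φ (m c) := fun g hg => by
  have b3 : ∀ c, ∃ k : K, c ∈ [12, 10, 8, 6] → φ k = g * φ (m c) * g⁻¹ := fun c => by
    by_cases h : c ∈ [12, 10, 8, 6]
    · obtain ⟨k, h2⟩ : _ ∈ φ.range := hr ▸ hg c h
      exact ⟨k, fun _ => h2⟩
    · exact ⟨1, fun h2 => absurd h2 h⟩
  choose k hk using b3
  have b4 : ∀ u : List ℕ, (∀ c ∈ u, c ∈ [12, 10, 8, 6]) → φ (ev k u) = g * φ (ev m u) * g⁻¹ :=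
    fun u hu => by
      rw [map_ev, ev_congr fun c hc => hk c (hu c hc)]
      exact (map_ev ((MulAut.conj g).toMonoidHom.comp φ) m u).symm
  have b5 : ∀ c ∈ [12, 10, 8, 6], m c ^ 15 = 1 ∧ m c * m c ≠ 1 := fun c hc => by
    simpa [iso.eqW] using allL_true.1 (by decide +kernel : (allL [12, 10, 8, 6] fun c =>
      and2 (eqW run (pw 15 [c]) []) (not1 (eqW run [c, c] []))) = true) c hc
  obtain ⟨a, ha⟩ := rig8 (L := [12, 10, 8, 6]) (fun _ h => h) (e' := fun c => ψ (k c)) ⟨fun c hc h => by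
    have h1 : k c * k c = 1 := by rcases ker5 h with h | h <;> simp [h, mod_m.f2]
    have h2 := congrArg φ h1
    rw [map_mul, hk c hc] at h2
    exact (b5 c hc).2 (hi (by simpa using h2)), fun u v hu hv h => by
    rw [← map_ev, ← map_ev, hi ((b4 u hu).trans (h ▸ (b4 v hv).symm))]⟩
  obtain ⟨l, rfl⟩ := HS100.ψ_surj a
  refine ⟨φ l, hr ▸ ⟨l, rfl⟩, fun c hc => ?_⟩
  have h1 : φ l * g * φ (m c) * (φ l * g)⁻¹ = φ (l * k c * l⁻¹) := by simp [hk c hc, mul_assoc]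
  rcases extK.eq (c := l * k c * l⁻¹) (d := m c) (by rw [map_mul, map_mul, map_inv]; exact ha c hc)
    with h | h
  · rw [h1, h]
  · have h2 : (l * k c * l⁻¹) ^ 15 = 1 := hi (by
      rw [map_pow, ← h1, conj_pow, ← map_pow, (b5 c hc).1]; simp)
    rw [h, (show Commute _ _ from extK.cen (m c)).mul_pow, (b5 c hc).1, one_mul,
      show 15 = 2 * 7 + 1 from rfl, pow_succ, pow_mul, sq, mod_m.f2, one_pow, one_mul] at h2
    exact absurd h2 extK.ne

theorem Ty.isConj {G : Type*} [Group G] {e : ℕ → G} {R : List ℕ} {u : G} (h : Ty e R u) :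
    ∃ r ∈ R, IsConj u (e r) := h.imp fun _ h => ⟨h.1, h.2.elim fun k h => isConj_iff.2 ⟨k, h.2⟩⟩

namespace Mod

variable {G : Type*} [Group G] [Finite G] {e : ℕ → G} (h : Mod e)
include h

theorem tyL (R : List ℕ) (L : List (List ℕ × List ℕ))
    (hc : (allL L fun p => HN.ty run HN.iv [] R p.2 p.1) = true := by decide +kernel) :
    ∀ u ∈ L.map fun p => ev e p.1, Ty e R u := by
  simp only [List.mem_map, forall_exists_index, and_imp, forall_apply_eq_imp_iff₂]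
  exact fun p hp => h.ty (allL_true.1 hc p hp)

theorem cnj (x c : List ℕ) (r : ℕ) (hc : HN.ty run HN.iv [] [r] c x = true := by decide +kernel) :
    IsConj (ev e x) (e r) := by simpa using (h.ty hc).isConj

theorem f1 : e 5 ≠ 1 := by simpa using h.ne (u := [5]) (v := [])

theorem inv_ty {u : G} (h1 : u * e 5 = e 5 * u) (h2 : u * u = 1) (h3 : u ≠ 1) :
    u = e 5 ∨ Ty e [23, 24, 16, 25] u := by
  obtain ⟨r, a1, k, a2, a3⟩ := h.cls (mem_C1.2 h1) (.inl h2)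
  simp only [List.mem_cons, List.not_mem_nil, or_false] at a1
  rcases a1 with rfl | rfl | rfl | rfl | rfl | rfl | rfl
  · simp [h.e99, h3] at a3
  · exact .inl (by rw [← mem_C1_iff_conj.1 a2] at a3; simpa using a3)
  · exact .inr ⟨_, by simp, k, a2, a3⟩
  · exact .inr ⟨_, by simp, k, a2, a3⟩
  · exact absurd (by simp [← a3, h2]) (h.ne (u := [0, 0]) (v := []))
  · exact .inr ⟨_, by simp, k, a2, a3⟩
  · exact .inr ⟨_, by simp, k, a2, a3⟩

theorem D_sq {u : G} (h1 : IsConj (e 5) u) : u * u = 1 ∧ u ≠ 1 := by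
  obtain ⟨g, rfl⟩ := isConj_iff.1 h1
  simp [h.f2, h.f1]

theorem D_ty {u : G} (h1 : u * e 5 = e 5 * u) (h2 : IsConj (e 5) u) (h3 : u ≠ e 5) :
    ∃ r ∈ [23, 16, 25], IsConj (e 5) (e r) ∧ IsConj (u * e 5) (e r * e 5) ∧
      ∃ k ∈ C{e 5}, k * u * k⁻¹ = e r := by
  obtain ⟨r, a1, k, a2, a3⟩ := (h.inv_ty h1 (h.D_sq h2).1 (h.D_sq h2).2).resolve_left h3
  have a4 := h2.trans (isConj_iff.2 ⟨k, a3⟩)
  refine ⟨r, ?_, a4, isConj_iff.2 ⟨k, by rw [← a3]; nth_rw 2 [← mem_C1_iff_conj.1 a2]; group⟩, k, a2, a3⟩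
  have : r ≠ 24 := fun h4 => h.not_fe (h4 ▸ a4)
  grind

theorem af : e 23 * e 5 = e 24 := by simpa using h.eq (u := [23, 5]) (v := [24])

theorem beta [IsSimpleGroup G] : IsConj (e 5) (e 16) := by
  by_contra nβ
  have tr : ∀ w u, IsConj (e 5) w → IsConj (e 5) u → u * w = w * u → u ≠ w →
      ∃ r ∈ [23, 25], IsConj (e 5) (e r) ∧ IsConj (u * w) (e r * e 5) := fun w u a1 a2 a3 a4 => by
    obtain ⟨g, hg⟩ := isConj_iff.1 a1.symm
    obtain ⟨r, b1, b2, b3, -⟩ := h.D_ty (u := g * u * g⁻¹) (by rw [← hg, conj_mul, conj_mul, a3])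
      (a2.trans (isConj_iff.2 ⟨g, rfl⟩)) (by rw [← hg]; simpa using a4)
    have : r ≠ 16 := fun h4 => nβ (h4 ▸ b2)
    refine ⟨r, by grind, b2, IsConj.trans (isConj_iff.2 ⟨g, ?_⟩) b3⟩
    rw [← hg]; group
  obtain ⟨u, a1, a2, a3⟩ := zstar h.f1 h.f2 ((by rw [h.card]; norm_num : 4 ∣ ♯C{e 5}).trans
    (card_subgroup_dvd_card _))
  obtain ⟨r, b1, b2, -⟩ := h.D_ty a3 a1 a2
  have c1 := h.cnj [26] [23, 8, 11] 23
  have c2 := h.cnj [26, 23] [23, 10, 9] 23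
  have c3 := h.cnj [16, 26] [25, 8, 11] 25
  have c4 := h.cnj [25, 5] [25, 1] 25
  simp only [ev_cons, ev_nil, mul_one] at c1 c2 c3 c4
  have hd : IsConj (e 5) (e 25) := by
    by_contra hd
    have ha : IsConj (e 5) (e 23) := by grind
    obtain ⟨r, d1, d2, d3⟩ := tr _ _ ha (ha.trans c1.symm) (h.comm 26 23)
      (by simpa using h.ne (u := [26]) (v := [23]))
    obtain rfl : r = 23 := by grind
    exact h.not_fe (h.af ▸ (ha.trans c2.symm).trans d3)
  have ha : IsConj (e 5) (e 23) := by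
    by_contra ha
    obtain ⟨r, d1, d2, d3⟩ := tr _ _ hd (hd.trans c3.symm)
      (by simpa [mul_assoc] using h.eq (u := [16, 26, 25]) (v := [25, 16, 26]))
      (by simpa using h.ne (u := [16, 26]) (v := [25]))
    obtain rfl : r = 25 := by grind
    rw [show e 16 * e 26 * e 25 = e 26 * e 23 by
      simpa [mul_assoc] using h.eq (u := [16, 26, 25]) (v := [26, 23])] at d3
    exact ha ((hd.trans (d3.trans c4).symm).trans c2)
  have k1 : ∀ u, Ty e [23, 25] u → IsConj (e 5) u := fun u hu => by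
    obtain ⟨r, d1, d2⟩ := hu.isConj
    exact IsConj.trans (by grind) d2.symm
  have k2 : ∀ u, Ty e [16, 24] u → ¬ IsConj (e 5) u := fun u hu h1 => by
    obtain ⟨r, d1, d2⟩ := hu.isConj
    have := h1.trans d2
    have := h.not_fe
    grind
  refine fake (f := e 5) (β := e 16) (a := e 23) (a' := e 26) (a3 := e 27) (s := e 4) (ρ := e 6) h.f1
    (by simpa using h.ne (u := [23]) (v := [])) (by simpa using h.ne (u := [5]) (v := [23])) h.f2
    (h.sq 16) (h.sq 23) (h.sq 26) (h.sq 4) (h.comm 5 16) (h.comm 5 23) (h.comm 5 26) (h.comm 16 23)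
    (h.comm 16 26) (h.comm 23 26) (h.comm 5 4) (h.comm 23 4)
    (by simpa [mul_assoc, inv_eq_of_mul_eq_one_right (h.sq 4)] using h.eq (u := [4, 16, 4]) (v := [16, 5]))
    (h.comm 5 27) (h.comm 16 27) (by simpa using h.ne (u := [23, 27]) (v := [27, 23])) (h.sq 27)
    (by simp [h.comm 5 6, h.comm 16 6, h.comm 23 6, h.comm 26 6, h.comm 27 6, h.comm 4 6])
    (fun u hu => k1 u (h.tyL _ [([23], [23]), ([26], [23, 8, 11]), ([23, 26], [23, 10, 9]),
      ([27], [23, 10]), ([16, 23], [25]), ([16, 5, 23], [25, 1]), ([16, 26], [25, 8, 11]),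
      ([16, 5, 26], [25, 1, 8, 11]), ([16, 23, 26], [25, 10, 9]), ([16, 5, 23, 26], [25, 1, 10, 9]),
      ([16, 27], [25, 10]), ([16, 5, 27], [25, 1, 10])] (by decide +kernel) u
        (by simpa [mul_assoc] using hu)))
    (fun u hu => k2 u (h.tyL _ [([16], [16]), ([16, 5], [16, 1]), ([5, 23], [24]), ([5, 26], [24, 8, 11]),
      ([5, 23, 26], [24, 10, 9]), ([4], [16, 18])] (by decide +kernel) u (by simpa [mul_assoc] using hu)))
    (fun u a1 a2 => ?_) h.CR (fun u a1 a2 a3 a4 a5 a6 => ((h.Ha u a1 a2 a3).2.2 a4).resolve_right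
      fun a7 => a7.elim (fun a => k2 _ a a5) fun a => k2 _ a a6)
    (fun w a1 a2 a3 => (h.Ha w a1 a2 a3).1) (fun w a1 a2 a3 => (h.Ha w a1 a2 a3).2.1) h.H4
  obtain ⟨g, rfl⟩ := isConj_iff.1 a2
  refine h.ord3 _ a1 ?_ (by simpa using h.ne (u := [6]) (v := []))
  rw [conj_pow, (h.cube (mem_gen (by decide))).1]; simp

theorem L8_cent {g : G} (hg : ∀ c ∈ [12, 10, 8, 6], g * e c * g⁻¹ = e c) : g ∈ C[gen e L8] :=
  mem_C.2 fun _ hy => mem_C1.1 (gen_le.2 (fun c hc => by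
    rcases (by decide +kernel : ∀ c ∈ L8, c ∈ [12, 10, 8, 6] ∨ ∃ d ∈ [12, 10, 8, 6], HN.iv d = c)
      c hc with h1 | ⟨d, h1, rfl⟩
    · exact mem_C1_comm.1 (mem_C1_iff_conj.2 (hg c h1))
    · rw [h.iv d]; exact inv_mem (mem_C1_comm.1 (mem_C1_iff_conj.2 (hg d h1)))) hy)

theorem L7_le : gen e L7 ≤ gen e L8 := gen_le.2 (by
  have a1 := h.mem (u := [28]) (L := L8) [12, 8, 6, 12, 10, 8, 12, 8]
  have a2 := h.mem (u := [29]) (L := L8) [8, 8, 12, 12, 9, 9, 6]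
  have a3 := h.mem (u := [30]) (L := L8) [13, 6, 12, 6]
  have a4 := h.mem (u := [31]) (L := L8) [6, 13, 7, 12, 6]
  have a5 : ∀ c ∈ L8, e c ∈ gen e L8 := fun _ => mem_gen
  simp only [ev_cons, ev_nil, mul_one, L7, L8, List.forall_mem_cons] at *
  simp [*])

theorem C7 {g : G} (h1 : g ∈ C[gen e L7]) (h2 : g * e 5 = e 5 * g) :
    g = 1 ∨ g = e 5 ∨ g = e 16 ∨ g = e 16 * e 5 := by
  have := fun c (hc : c ∈ L7) => mem_C'.1 h1 _ (mem_gen hc)
  exact (h.CP g h2 fun c hc => this c ((by decide : ∀ c ∈ [6, 10, 28], c ∈ L7) c hc)).2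
    (this _ (by decide)) (this _ (by decide))

theorem exists_r [IsSimpleGroup G] (hr : Rig e) : ∃ r ∈ C[gen e L8], r * e 5 * r⁻¹ = e 16 ∧
    r * e 16 * r⁻¹ = e 16 * e 5 ∧ r ^ 3 = 1 := by
  have a0 : gen e [5, 16] ≤ C[gen e L8] := h.cent
  have a5 := a0 (mem_gen (c := 5) (by simp))
  have a16 := a0 (mem_gen (c := 16) (by simp))
  have n1 : e 16 ≠ e 5 := by simpa using h.ne (u := [16]) (v := [5])
  have n2 : e 16 ≠ 1 := by simpa using h.ne (u := [16]) (v := [])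
  have c1 := h.comm 5 16
  have c2 : e 5 * (e 16 * e 5) = e 16 := by simpa using h.eq (u := [5, 16, 5]) (v := [16])
  obtain ⟨g0, a1⟩ := isConj_iff.1 h.beta.symm
  obtain ⟨k, a2, a3⟩ := hr g0 fun c hc => by
    rw [← a1, ← cj_C1, conj_mem_cj_iff, mem_C1]
    exact mem_C.1 a16 _ (mem_gen ((by decide : ∀ c ∈ [12, 10, 8, 6], c ∈ L8) c hc))
  have a4 := h.L8_cent a3
  have a6 : k * g0 * e 16 * (k * g0)⁻¹ = e 5 := by
    rw [← mem_C1_iff_conj.1 a2, ← a1]; group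
  generalize k * g0 = g at a4 a6
  obtain ⟨r, b1, b2, b3⟩ : ∃ r ∈ C[gen e L8], r * e 5 * r⁻¹ = e 16 ∧ r * e 16 * r⁻¹ = e 16 * e 5 := by
    rcases h.C7 (g := g * e 5 * g⁻¹) (C_anti h.L7_le (mul_mem (mul_mem a4 a5) (inv_mem a4)))
      (by nth_rw 2 3 [← a6]; rw [conj_mul, conj_mul, c1]) with b | b | b | b
    · exact absurd (by simpa using b) h.f1
    · exact absurd (by simpa using a6.trans b.symm) n1
    · have t : e 34 ∈ N[gen e L8] := by
        simpa using h.norm (t := [34]) (L := L8) [[9, 12, 6, 13, 8], [9, 12, 7, 13, 8],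
          [12, 9, 10, 8, 7], [9, 9, 12, 8, 7], [12, 9, 10, 8, 13], [12, 9, 11, 8, 13],
          [12, 6, 13, 11, 8], [9, 12, 7, 13, 10]]
      have t0 := inv_eq_of_mul_eq_one_right (h.sq 34)
      have t1 := mem_C1_iff_conj.1 (h.cf 34)
      have t2 : e 34 * e 16 * (e 34)⁻¹ = e 16 * e 5 := by
        simpa [t0, mul_assoc] using h.eq (u := [34, 16, 34]) (v := [16, 5])
      have t3 : e 34 * (e 16 * e 5) * (e 34)⁻¹ = e 16 := by
        simpa [t0, mul_assoc] using h.eq (u := [34, 16, 5, 34]) (v := [16])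
      have t4 : g * (e 16 * e 5) * g⁻¹ = e 16 * e 5 := by
        rw [← conj_mul, a6, b, c1]
      refine ⟨e 34 * g * (e 34)⁻¹ * g, mul_mem ((mem_N.1 (N_le_NC _ t) g).1 a4) a4, ?_, ?_⟩
      · calc _ = e 34 * (g * (e 34 * (g * e 5 * g⁻¹) * (e 34)⁻¹) * g⁻¹) * (e 34)⁻¹ := by
              simp [t0, mul_assoc]
          _ = _ := by rw [b, t2, t4, t3]
      · calc _ = e 34 * (g * (e 34 * (g * e 16 * g⁻¹) * (e 34)⁻¹) * g⁻¹) * (e 34)⁻¹ := by
              simp [t0, mul_assoc]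
          _ = _ := by rw [a6, t1, b, t2]
    · refine ⟨g⁻¹, inv_mem a4, by rw [← a6]; group, ?_⟩
      nth_rw 1 [← c2, ← b]
      nth_rw 1 [← a6]
      group
  have b4 : r * (e 16 * e 5) * r⁻¹ = e 5 := by
    rw [← conj_mul, b2, b3, mul_assoc, c1, ← mul_assoc, h.sq 16, one_mul]
  refine ⟨r, b1, b2, b3, ?_⟩
  have b5 : r * r ^ 3 * r⁻¹ = r ^ 3 := by group
  rcases h.C7 (g := r ^ 3) (C_anti h.L7_le (pow_mem b1 3)) (mul_inv_eq_iff_eq_mul.1 (by
    rw [show r ^ 3 * e 5 * (r ^ 3)⁻¹ = r * (r * (r * e 5 * r⁻¹) * r⁻¹) * r⁻¹ by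
      simp [pow_succ, mul_assoc], b2, b3, b4]))
    with b | b | b | b
  · exact b
  · rw [b, b2] at b5; exact absurd b5 n1
  · rw [b, b3] at b5; exact absurd (by simpa using b5) h.f1
  · rw [b, b4] at b5; exact absurd (by simpa using b5) n2

end Mod

end H27.HN
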