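import Mathlib
import Cfsg.Agent.H27.HNU
import Cfsg.Agent.H27.HNC
import Cfsg.Agent.H27.HND
import Cfsg.Agent.H27.HNG
import Cfsg.Agent.H29.HA

/-!
# Recognition of the Harada-Norton group
-/

set_option autoImplicit false
set_option linter.unusedSectionVars false
set_option maxRecDepth 100000

namespace H27.HN

open H29 H15.KM H24 Subgroup Cfsg

theorem mw_map (g : ℕ → ℕ) : ∀ (l : List ℕ) (n : ℕ), mw (l.map g) n = (mw l n).map g
  | [], _ => rfl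
  | c :: l, n => by
    obtain ⟨k, rfl | rfl⟩ := n.even_or_odd'
    · rw [List.map_cons, mw_even, mw_even, mw_map g l]
    · rw [List.map_cons, mw_odd, mw_odd, mw_map g l, List.map_cons]

namespace Mod

variable {G : Type*} [Group G] [Finite G] {e : ℕ → G} (h : Mod e) {r : G} (r0 : r ∈ C[gen e L8])
  (r1 : r * e 5 * r⁻¹ = e 16) (r2 : r * e 16 * r⁻¹ = e 16 * e 5) (r3 : r ^ 3 = 1)
include h r0 r1

theorem fus {X : Subgroup G} (hX : C{e 5} ≤ X) (hr : r ∈ X) {u : G} :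
    (Ty e [5, 23, 16] u → ∃ g ∈ X, g * u * g⁻¹ = e 5) ∧
      (Ty e [24, 25] u → ∃ g ∈ X, g * u * g⁻¹ = e 24) := by
  have k : ∀ {x y z : G}, (∃ g ∈ X, g * x * g⁻¹ = y) → (∃ g ∈ X, g * y * g⁻¹ = z) →
      ∃ g ∈ X, g * x * g⁻¹ = z := fun ⟨a, a1, a2⟩ ⟨b, b1, b2⟩ =>
    ⟨b * a, mul_mem b1 a1, by rw [← b2, ← a2]; group⟩
  have s : ∀ {x y : G}, (∃ g ∈ X, g * x * g⁻¹ = y) → ∃ g ∈ X, g * y * g⁻¹ = x := fun ⟨a, a1, a2⟩ =>
    ⟨a⁻¹, inv_mem a1, by rw [← a2]; group⟩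
  have t : ∀ {x : G} {c : ℕ}, Ty e [c] x → ∃ g ∈ X, g * x * g⁻¹ = e c := fun ⟨c, a1, g, a2, a3⟩ =>
    ⟨g, hX a2, List.mem_singleton.1 a1 ▸ a3⟩
  have c : ∀ x ∈ gen e L8, r * (e 5 * x) * r⁻¹ = e 16 * x := fun x hx => by
    rw [← conj_mul, r1, conj_eq_of_mem_C r0 hx]
  have a16 : ∃ g ∈ X, g * e 16 * g⁻¹ = e 5 := s ⟨r, hr, r1⟩
  have b1 := t (h.ty (x := [5, 33]) (c := [23, 20, 10]) (U := []) (R := [23]) (by decide +kernel))
  have b2 := t (h.ty (x := [16, 33]) (c := [16, 37]) (U := []) (R := [16]) (by decide +kernel))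
  have b3 := c _ (h.mem (u := [33]) (L := L8) [9, 12, 12, 9, 13, 11, 9, 6])
  have b4 := c _ (h.mem (u := [23]) (L := L8) [8, 11, 9, 10, 8])
  simp only [ev_cons, ev_nil, mul_one, ← h.e24, ← h.e25] at b1 b2 b3 b4
  refine ⟨fun ⟨c, a1, g, a2, a3⟩ => k ⟨g, hX a2, a3⟩ ?_, fun ⟨c, a1, g, a2, a3⟩ => k ⟨g, hX a2, a3⟩ ?_⟩ <;>
    simp only [List.mem_cons, List.not_mem_nil, or_false] at a1
  · rcases a1 with rfl | rfl | rfl
    exacts [⟨1, one_mem _, by simp⟩, k (s b1) (k ⟨r, hr, b3⟩ (k b2 a16)), a16]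
  · rcases a1 with rfl | rfl
    exacts [⟨1, one_mem _, by simp⟩, s ⟨r, hr, b4⟩]

theorem yes {u : G} (hu : Ty e [5, 23, 16] u) : IsConj (e 5) u := by
  obtain ⟨g, -, h1⟩ := (h.fus r0 r1 le_top (mem_top _)).1 hu
  exact (isConj_iff.2 ⟨g, h1⟩).symm

theorem no {u : G} (hu : Ty e [99, 24, 25] u) : ¬ IsConj (e 5) u := fun h1 => by
  obtain ⟨c, a1, g, a2, a3⟩ := hu
  rcases List.mem_cons.1 a1 with rfl | a1
  · exact (h.D_sq h1).2 (by simpa [h.e99] using a3)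
  · obtain ⟨g, -, h2⟩ := (h.fus r0 r1 le_top (mem_top _)).2 ⟨c, a1, g, a2, a3⟩
    exact h.not_fe (h1.trans (isConj_iff.2 ⟨g, h2⟩))

theorem no25 : ¬ IsConj (e 5) (e 25) := h.no r0 r1 ⟨25, by simp, 1, one_mem _, by simp⟩

theorem toβ (u : G) (h1 : u * e 5 = e 5 * u) (h2 : IsConj (e 5) u) (h3 : IsConj (e 5) (u * e 5)) :
    ∃ k, k * e 5 = e 5 * k ∧ k * u * k⁻¹ = e 16 := by
  obtain ⟨c, a1, a2, a3, k, a4, a5⟩ := h.D_ty h1 h2 fun h4 => (h.D_sq h3).2 (h4 ▸ h.f2)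
  have a6 : c ≠ 23 := fun h4 => h.not_fe (h.af ▸ h4 ▸ h3.trans a3)
  have a7 : c ≠ 25 := fun h4 => h.no25 r0 r1 (h4 ▸ a2)
  obtain rfl : c = 16 := by grind
  exact ⟨k, mem_C1.1 a4, a5⟩

include r2 r3

theorem exL : ∃ L : Subgroup G, ♯L = 60 ∧ ∀ l ∈ L, ∀ v ∈ [e 6, e 10, e 28, e 30, e 31], l * v = v * l := by
  have a0 : gen e [5, 16] ≤ C[gen e L7] := h.cent
  have a1 : gen e [5, 16, 6, 32] ≤ C[gen e L5] := h.cent
  have a2 : ∀ v ∈ [e 6, e 10, e 28, e 30, e 31], v ∈ gen e L7 := by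
    simp [mem_gen, L7]
  have i28 := inv_eq_of_mul_eq_one_right (h.sq 28)
  have i32 := inv_eq_of_mul_eq_one_right (h.sq 32)
  have i6 : (e 6)⁻¹ = e 7 := (h.iv 6).symm
  refine exists_L (A5 := gen e L5) (j := e 32) h.f1 (by simpa using h.ne (u := [16]) (v := []))
    (by simpa using h.ne (u := [5]) (v := [16])) h.f2 (h.sq 16) (h.comm 5 16) r1 r2
    (fun u hu v hv => mem_C'.1 ?_ v (a2 v hv)) (fun u hu => mem_C'.1 ?_)
    (fun u hu => h.yes r0 r1 (h.tyL _ [([30], [23, 29, 13]), ([31], [23, 9, 9, 36]),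
      ([30, 31], [23, 9, 23, 36])] (by decide +kernel) u (by simpa using hu)))
    (h.comm 30 31) (by simp [h.comm 30 10, h.comm 31 10, h.comm 6 10])
    (by simpa using h.ne (u := [10]) (v := [])) (h.cube (mem_gen (by decide))).1
    (h.cube (mem_gen (by decide))).1
    (by simpa [i6, mul_assoc] using h.eq (u := [6, 31, 7]) (v := [30]))
    (by simpa [i6, mul_assoc] using h.eq (u := [6, 30, 7]) (v := [30, 31]))
    (by simpa [i28, mul_assoc] using h.eq (u := [28, 31, 28]) (v := [31]))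
    (by simpa [i28, mul_assoc] using h.eq (u := [28, 30, 28]) (v := [30, 31]))
    (by simpa [i28, mul_assoc, show (e 10)⁻¹ = e 11 from (h.iv 10).symm] using
      h.eq (u := [28, 10, 28]) (v := [11]))
    (mem_C1_iff_conj.1 (h.cf 32))
    (by simpa [i32, mul_assoc] using h.eq (u := [32, 16, 32]) (v := [16, 5]))
    (by simpa [i32, i6, mul_assoc] using h.eq (u := [32, 6, 32]) (v := [7]))
    (h.toβ r0 r1) h.P3 h.c33 h.Y0 h.A5 h.card60
  · simp only [List.mem_cons, List.not_mem_nil, or_false] at hu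
    rcases hu with rfl | rfl | rfl
    exacts [a0 (mem_gen (by simp)), a0 (mem_gen (by simp)), C_anti h.L7_le r0]
  · simp only [List.mem_cons, List.not_mem_nil, or_false] at hu
    rcases hu with rfl | rfl | rfl | rfl | rfl
    exacts [a1 (mem_gen (by simp)), a1 (mem_gen (by simp)), C_anti (gen_mono (by decide)) r0,
      a1 (mem_gen (by simp)), a1 (mem_gen (by simp))]

theorem ext : ∃ t, t ^ 5 = 1 ∧ (e 0)⁻¹ * t * e 0 * t ^ 2 = 1 ∧ t * e 2 = e 2 * t ∧ (e 4 * t) ^ 3 = 1 ∧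
    r ∈ closure {e 5, e 16, t} := by
  obtain ⟨L, l1, l2⟩ := h.exL r0 r1 r2 r3
  simp only [List.forall_mem_cons] at l2
  have a0 : gen e [5, 16] ≤ C[gen e L7] := h.cent
  have a1 : gen e [4] ≤ C[gen e L6] := h.cent
  have i19 : (e 19)⁻¹ = e 20 := (h.iv 19).symm
  have i0 : (e 0)⁻¹ = e 1 := (h.iv 0).symm
  have nm := h.norm (t := [19]) (L := L6) [[10, 29, 28, 10, 6], [11, 7, 29, 28, 11], [11, 29, 11, 6],
    [10, 7, 29, 10], [29, 11, 29, 28], [29, 11, 29, 7]]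
  have nx := h.norm (t := [1]) (L := L7) [[29, 10, 29, 7], [6, 29, 11, 29], [7, 29, 7, 29, 6],
    [7, 29, 6, 29, 6], [10, 29, 7, 29, 10], [29, 7, 29, 11], [31, 29, 11, 29], [30, 29, 11, 29, 6]]
  simp only [ev_cons, ev_nil, mul_one, ← i0] at nm nx
  have hx7 : ∀ g ∈ C[gen e L7], (e 0)⁻¹ * g * e 0 ∈ C[gen e L7] := fun g hg => by
    simpa using (mem_N.1 (N_le_NC _ nx) g).1 hg
  have hm : ∀ g ∈ C[gen e L7], e 19 * g = g * e 19 → gen e (19 :: 20 :: L7) ≤ C{g} := fun g a b =>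
    gen_le.2 (List.forall_mem_cons.2 ⟨mem_C1.2 b, List.forall_mem_cons.2
      ⟨i19 ▸ inv_mem (mem_C1.2 b), gen_le.1 (mem_C_iff_le_C1.1 a)⟩⟩)
  have hmI : ∀ g ∈ C[gen e L7], (e 19)⁻¹ * g * e 19 ∈ C[gen e L7] → e 19 * g = g * e 19 := fun g a b => by
    have c1 := fun w (hw : ∀ c ∈ w, c ∈ L7) => mem_C_iff_le_C1.1 a (ev_mem_gen (e := e) hw)
    have c2 : e 19 * e 30 * (e 19)⁻¹ ∈ C{g} := by
      have := conj_mem_cj (e 19) (mem_C_iff_le_C1.1 b (mem_gen (c := 30) (by decide)))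
      simpa [cj_C1, mul_assoc] using this
    have c3 := mul_mem (mul_mem (mul_mem (mul_mem (c1 [29, 31] (by decide)) c2)
      (c1 [29, 30, 10] (by decide))) c2) (c1 [6, 30] (by decide))
    have c4 := h.eq (u := [29, 31, 19, 30, 20, 29, 30, 10, 19, 30, 20, 6, 30]) (v := [19])
    simp only [ev_cons, ev_nil, mul_one, mul_assoc, i19] at c3 c4
    exact mem_C1.1 (c4 ▸ c3)
  obtain ⟨t, t1, t2, t3, t4, t5, t6⟩ := exists_t (f := e 5) (β := e 16) (s := e 4) (r := r) (m := e 19)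
    (x := e 0) (XP := C[gen e [6, 10, 28]]) (X := C[gen e L6]) (L := L) (X7 := C[gen e L7])
    h.f1 h.f2 (h.sq 16) (h.sq 4) (by simpa [mul_assoc] using h.eq (u := [16, 4, 16, 4]) (v := [5]))
    (C_anti (gen_mono (by decide))) (C_anti (gen_mono (by decide))) (a1 (mem_gen (by simp)))
    (a0 (mem_gen (by simp))) (a0 (mem_gen (by simp))) (C_anti h.L7_le r0)
    (fun g a b => (h.CP g b fun c hc => mem_C'.1 a _ (mem_gen hc)).1) (fun g => h.C7) r1 r2 r3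
    (fun g => (mem_N.1 (N_le_NC _ nm) g).1) (h.comm 19 5)
    (by simpa [i19, mul_assoc] using h.eq (u := [19, 16, 20]) (v := [4]))
    (by simpa [i19, mul_assoc] using h.eq (u := [19, 4, 20]) (v := [16]))
    (fun l hl => mem_C_iff_le_C1.2 (gen_le.2 (by
      simp [mem_C1, (l2 l hl).1, (l2 l hl).2.1, (l2 l hl).2.2.1]))) l1
    (fun a l hl => mem_C_iff_le_C1.2 (gen_le.2 (show ∀ c ∈ L6 ++ [30, 31], _ from List.forall_mem_append.2
      ⟨gen_le.1 (mem_C_iff_le_C1.1 (a hl)), by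
        simp [mem_C1, (l2 l hl).2.2.2.1, (l2 l hl).2.2.2.2.1]⟩)))
    (by simpa using h.eq (u := [0, 0]) (v := [5])) hx7 (fun g a b => by
      have c1 := mem_C1.1 (hm g a (hmI g a b) (h.mem (u := [0, 19, 1]) [11, 19, 29]))
      simp only [ev_cons, ev_nil, mul_one, ← i0] at c1
      have c2 : (e 19)⁻¹ * ((e 0)⁻¹ * g * e 0) * e 19 = (e 0)⁻¹ * g * e 0 := by
        calc _ = (e 19)⁻¹ * (e 0)⁻¹ * (g * (e 0 * (e 19 * (e 0)⁻¹))) * e 0 := by group
          _ = _ := by rw [← c1]; group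
      exact c2.symm ▸ hx7 g a) hmI (by
      have c1 := mem_C'.1 r0 _ (h.mem (u := [33]) (L := L8) [9, 12, 12, 9, 13, 11, 9, 6])
      have c2 := h.eq (u := [0]) (v := [33, 4, 16])
      simp only [ev_cons, ev_nil, mul_one] at c1 c2
      calc _ = (e 16)⁻¹ * (e 4)⁻¹ * ((e 33)⁻¹ * (r * e 33)) * (e 4 * e 16) := by rw [c2]; group
        _ = _ := by
          simp [c1, mul_assoc, inv_eq_of_mul_eq_one_right (h.sq 4), inv_eq_of_mul_eq_one_right (h.sq 16)])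
  exact ⟨t, t3, t4, (mem_C1.1 (by
    simpa using hm t t1 t2 (h.mem (u := [2]) [31, 19, 31, 11, 20, 29, 31]))).symm, t5, t6⟩

theorem exΦ : ∃ Φ : HNP.P.G →* G, r ∈ Φ.range ∧ ∀ c < 5, e c ∈ Φ.range := by
  obtain ⟨t, t1, t2, t3, t4, t5⟩ := h.ext r0 r1 r2 r3
  let σ : ℕ → G := fun c => if c < 5 then e c else if c = 5 then t else if c = 6 then t⁻¹ else 1
  obtain ⟨Φ, hΦ⟩ := PData.exists_hom HNP.coh HNP.hg (σ := σ) (fun c => by
    by_cases hc : c < 7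
    · have i0 : e 1 = (e 0)⁻¹ := h.iv 0
      have i2 : e 3 = (e 2)⁻¹ := h.iv 2
      interval_cases c <;> simp [σ, ivOf, nth_eq, HNP.P, i0, i2, inv_eq_of_mul_eq_one_right (h.sq 4)]
    · rw [ivOf, nth_default _ (show HNP.P.ivl.length ≤ c from not_lt.1 hc)]
      simp [σ, show ¬ c < 5 by omega, show c ≠ 5 by omega, show c ≠ 6 by omega]) fun w hw => by
    rcases (by decide +kernel : ∀ w ∈ HNP.P.relL, ((∀ c ∈ w, c < 5) ∧ eqW run w [] = true) ∨
      w ∈ [[5, 5, 5, 5, 5], [1, 5, 0, 5, 5], [6, 3, 5, 2], [4, 5, 4, 5, 4, 5]]) w hw with a | a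
    · rw [ev_congr (e' := e) fun c hc => if_pos (a.1 c hc)]
      exact h.eq a.2
    · simp only [List.mem_cons, List.not_mem_nil, or_false] at a
      rcases a with rfl | rfl | rfl | rfl
      · simpa [σ, pow_succ, mul_assoc] using t1
      · simpa [σ, pow_succ, mul_assoc, show e 1 = (e 0)⁻¹ from h.iv 0] using t2
      · simp [σ, show e 3 = (e 2)⁻¹ from h.iv 2, t3]
      · simpa [σ, pow_succ, mul_assoc] using t4
  have a1 : ∀ c < 5, e c ∈ Φ.range := fun c hc => ⟨_, (hΦ c (hc.trans (by decide))).trans (if_pos hc)⟩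
  have a2 := Def.mem (e := e) (fun c => by
    simpa using (h.iso [c] _).1 ((HN.iso [c] _).2 (by simpa using hdef c))) hs
    (fun c hc => a1 c (base_lt c hc))
  have a3 : t ∈ Φ.range := ⟨_, hΦ 5 (by decide)⟩
  exact ⟨Φ, (closure_le _).2 (Set.insert_subset (a2 5) (Set.insert_subset (a2 16)
    (Set.singleton_subset_iff.2 a3))) t5, a1⟩

omit r2 r3 in
theorem main [IsSimpleGroup G] {X : Subgroup G} (hX : C{e 5} ≤ X) (hr : r ∈ X) :
    X = ⊤ ∧ ∀ z : G, orderOf z = 2 → IsConj z (e 5) ∨ IsConj z (e 24) := by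
  have hio : ∀ n, io (fun i => e (nth 99 lI i)) n = ev e (mw lI n) := fun n => by
    rw [show mw lI n = _ from mw_map (nth 99 lI) [0, 1, 2, 3, 4, 5, 6] n, io, ev, ev, List.map_map]; rfl
  have hw : ∀ (w : ℕ) (A : List ℕ), (allN 7 fun i => anyL [[], [24]] fun z =>
      eqW run [w, nth 99 lI i, HN.iv w] (app z (mw lI (nth 0 A i)))) = true → ∀ i < 7,
      e w * e (nth 99 lI i) * (e w)⁻¹ * (io (fun i => e (nth 99 lI i)) (A.getD i 0))⁻¹ ∈
        zpowers (e 24) := fun w A hc i hi => by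
    obtain ⟨z, a1, a2⟩ := anyL_true.1 (allN_true.1 hc i hi)
    have a3 := h.eq a2
    simp only [ev_cons, ev_nil, mul_one, h.iv w, app_eq, ev_append, nth_eq 0, ← mul_assoc] at a3
    rw [hio, a3, mul_inv_cancel_right]
    simp only [List.mem_cons, List.not_mem_nil, or_false] at a1
    rcases a1 with rfl | rfl <;> simp
  have y16 : ∀ {u}, Ty e [16] u → IsConj (e 5) u := fun ⟨c, a1, a2⟩ => h.yes r0 r1 ⟨c, by grind, a2⟩
  refine part4 (R := gen e lR) (c := fun i => e (nth 99 lI i)) (w1 := e 21) (w2 := e 43) rfl h.f1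
    (by simpa using h.ne (u := [24]) (v := [])) (h.sq 24) h.not_fe ?_ (fun i hi => ?_)
    (fun i hi j hj => ?_) (fun g hg => hX (mem_C1.2 hg)) (fun u a1 a2 a3 => ?_) (fun u a1 a2 a3 => ?_)
    (fun u a1 a2 a3 a4 => ?_) (fun n hn => ?_) (fun g a1 a2 => ?_) (fun u a1 a2 a3 a4 => ?_)
    (fun w a1 a2 a3 => ?_) ⟨h.comm 21 24, hw 21 _ (by decide +kernel)⟩
    ⟨h.comm 43 24, hw 43 _ (by decide +kernel)⟩
  · rw [gen]; congr 1; ext x; simp [lR, lI, nth_eq, eq_comm]; grind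
  · simpa [h.iso.eqW] using allN_true.1 (by decide +kernel : (allN 7 fun i => and2
      (eqW run [nth 99 lI i, nth 99 lI i] []) (eqW run [nth 99 lI i, 24] [24, nth 99 lI i])) = true) i hi
  · have := allN_true.1 (allN_true.1 (by decide +kernel : (allN 7 fun i => allN 7 fun j => and2
      (or2 (Nat.beq j (Nat.xor i 1)) (eqW run [nth 99 lI i, nth 99 lI j] [nth 99 lI j, nth 99 lI i]))
      (imp2 (Nat.beq j (Nat.xor i 1))
        (eqW run [nth 99 lI i, nth 99 lI j] [nth 99 lI j, nth 99 lI i, 24]))) = true) i hi) j hj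
    simp only [and2_true, or2_true, imp2_true, H29.beq_true, h.iso.eqW, ev_cons, ev_nil, mul_one,
      ← mul_assoc] at this
    exact ⟨this.1.resolve_left, this.2⟩
  · rcases h.inv_ty a1 a2 a3 with rfl | ⟨c, b1, b2⟩
    · exact ⟨1, one_mem _, by simp⟩
    · by_cases b3 : c ∈ [24, 25]
      · exact ((h.fus r0 r1 hX hr).2 ⟨c, b3, b2⟩).imp fun _ a => ⟨a.1, .inr a.2⟩
      · exact ((h.fus r0 r1 hX hr).1 ⟨c, by grind, b2⟩).imp fun _ a => ⟨a.1, .inl a.2⟩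
  · have b0 : ¬ IsConj (e 5) u := fun b => h.not_fe (b.trans a2.symm)
    obtain ⟨g, rfl⟩ := isConj_iff.1 a2
    obtain ⟨c, b1, k, b2, b3⟩ := (h.inv_ty a1 (by simp [h.sq 24]) (by
      simpa using h.ne (u := [24]) (v := []))).resolve_left fun b => b0 (b ▸ IsConj.refl _)
    have b4 : c ∉ [5, 23, 16] := fun b => b0 (h.yes r0 r1 ⟨c, b, k, b2, b3⟩)
    have b5 : c ≠ 25 := by
      rintro rfl
      refine h.no r0 r1 (h.ty (x := [25, 5]) (c := [25, 1]) (U := []) (by decide +kernel))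
        (a3.trans (isConj_iff.2 ⟨k, ?_⟩))
      rw [← conj_mul, b3, mem_C1_iff_conj.1 b2]; simp
    obtain rfl : c = 24 := by grind
    exact ⟨k, mem_C1.1 b2, b3⟩
  · refine (h.inR ⟨mem_C1.2 a1, mem_C1.2 a2⟩ (h.D_sq a3).1).resolve_right ?_
    rintro (⟨c, b1, b2⟩ | ⟨c, b1, b2⟩)
    exacts [h.no r0 r1 ⟨c, by grind, b2⟩ a3, h.no r0 r1 ⟨c, by grind, b2⟩ a4]
  · rw [hio]
    refine ⟨fun a => by_contra fun b => ?_, fun a => ((h.mask hn).1 a).imp (h.yes r0 r1) (h.yes r0 r1)⟩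
    rcases (h.mask hn).2 b with b | b | b
    exacts [b (h.D_sq a.1).1, h.no r0 r1 b a.1, h.no r0 r1 b a.2]
  · refine gen_mono (by decide) (h.cR g (mem_C1.2 (a1 6 (by omega))) ?_)
    simp only [List.forall_mem_cons, mem_C1]
    exact ⟨a1 0 (by omega), a1 1 (by omega), a1 2 (by omega), a1 3 (by omega), a1 4 (by omega),
      a1 5 (by omega), a2, by simp⟩
  · rcases h.toB a1 (h.D_sq a2).1 with ⟨k, b1, b2⟩ | b | b | b
    exacts [⟨k, mem_C1.1 b1.1, mem_C1.1 b1.2, b2⟩, (h.no r0 r1 b a2).elim, (h.no r0 r1 b a3).elim,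
      (h.no r0 r1 b a4).elim]
  · obtain ⟨y, b1, b2, b3, b4, b5⟩ := h.fix ⟨mem_C1.2 a1, mem_C1.2 a2⟩ a3
    exact ⟨y, b1, y16 b2, y16 b3, y16 b4, b5⟩

end Mod

theorem recog {G : Type*} [Group G] [Finite G] [IsSimpleGroup G] (t : G) (ht : orderOf t = 2)
    (M : Subgroup C{t}) [M.Normal] (hM : M.index = 2) (hout : centralizer (M : Set C{t}) ≤ M)
    (hcov : IsNonsplitDoubleCover M Spor.HS) : Nonempty (HNP.P.G ≃* G) ∧
      ∃ x y : G, orderOf x = 2 ∧ orderOf y = 2 ∧ ¬ IsConj x y ∧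
        ∀ z : G, orderOf z = 2 → IsConj z x ∨ IsConj z y := by
  obtain ⟨φ, a1, a2⟩ := exists_φ t ht M hM hout hcov
  have h := mod_hom φ a1 a2
  obtain ⟨r, r0, r1, r2, r3⟩ := h.exists_r (rig_hom φ a1 a2)
  obtain ⟨Φ, b1, b2⟩ := h.exΦ r0 r1 r2 r3
  obtain ⟨c1, c2⟩ := h.main r0 r1 (X := Φ.range) (by
    rw [← a2, MonoidHom.range_eq_map, ← HK.top5, map_gen]
    exact gen_le.2 fun c hc => by
      have h3 : c < 5 := (by decide : ∀ c ∈ HK.L5, c < 5) c hc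
      exact m_base h3 ▸ b2 c h3) b1
  have := H29.HN.simple
  refine ⟨⟨MulEquiv.ofBijective Φ ⟨(MonoidHom.ker_eq_bot_iff Φ).1 (Φ.normal_ker.eq_bot_or_eq_top.resolve_right
    fun d => h.f1 ?_), MonoidHom.range_eq_top.1 c1⟩⟩, _, _, orderOf_eq_prime (by rw [sq, h.f2]) h.f1,
    orderOf_eq_prime (by rw [sq, h.sq 24]) (by simpa using h.ne (u := [24]) (v := [])), h.not_fe, c2⟩
  obtain ⟨g, hg⟩ : φ (m 5) ∈ Φ.range := c1 ▸ mem_top _
  exact hg.symm.trans (d ▸ mem_top g : g ∈ Φ.ker)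

end H27.HN
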