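import Cfsg.Agent.H27.SH1
import Cfsg.Agent.H27.HNZ

/-! Schreier property of `HN`. -/

set_option autoImplicit false

namespace H27.SH

open H0.Sch H27.SC Subgroup MulAction H19

universe u v

/-- the image of `φ` is a maximal subgroup -/
theorem dcs_max {G K : Type*} [Group G] [Group K] {φ : K →* G} {m : ℕ} {r : Fin m → G}
    {S : Fin m → Subgroup K} {n : Fin m → ℕ} (h : DCS φ r S n)
    (hx : (∑ i, n i) * Nat.card K ≤ Nat.card G) {i0 : Fin m} (h0 : r i0 = 1)
    (hd : ∀ J : Finset (Fin m), i0 ∈ J → (∑ i ∈ J, n i) ∣ ∑ i, n i → J = {i0} ∨ J = Finset.univ)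
    {M : Subgroup G} (hM : φ.range ≤ M) : M = φ.range ∨ M = ⊤ := by
  classical
  have := h.finite_quot
  have := h.finite
  let Y : Set (G ⧸ φ.range) := orbit M ((1 : G) : G ⧸ φ.range)
  have hY : ∀ (g : G), g ∈ φ.range → ∀ q ∈ Y, g • q ∈ Y := by
    rintro g hg _ ⟨x, rfl⟩
    exact ⟨⟨g, hM hg⟩ * x, mul_smul _ _ _⟩
  let J : Finset (Fin m) := Finset.univ.filter fun i => (((r i)⁻¹ : G) : G ⧸ φ.range) ∈ Y
  have e1 : Y.ncard = ∑ i ∈ J, n i := by
    rw [(h.ncard_split hx Y).1, Finset.sum_filter]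
    refine Finset.sum_congr rfl fun i _ => ?_
    split_ifs with hi
    · rw [← (h.ncard_split hx ∅).2, Set.inter_eq_right.2]
      rintro _ ⟨x, rfl⟩
      exact hY _ x.2 _ hi
    · rw [Set.ncard_eq_zero, Set.eq_empty_iff_forall_notMem]
      rintro _ ⟨a, x, rfl⟩
      have := hY _ (inv_mem x.2) _ a
      change (x : G)⁻¹ • (x : G) • (((r i)⁻¹ : G) : G ⧸ φ.range) ∈ Y at this
      exact hi (by rwa [inv_smul_smul] at this)
  have e0 : Y.ncard = φ.range.relIndex M := by
    rw [← index_stabilizer, relIndex]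
    congr 1
    ext x
    change ((x * 1 : G) : G ⧸ φ.range) = ((1 : G) : G ⧸ φ.range) ↔ (x : G) ∈ φ.range
    rw [QuotientGroup.eq]; simp
  have e2 := relIndex_mul_index hM
  rw [h.index_eq hx, ← e0, e1] at e2
  have e3 : i0 ∈ J := by
    simp only [J, Finset.mem_filter, Finset.mem_univ, true_and, h0, inv_one]
    exact mem_orbit_self _
  rcases hd J e3 ⟨_, e2.symm⟩ with e | e
  · left
    have e4 : n i0 = 1 := by
      rw [← h.nst_index hx, Subgroup.index_eq_one, eq_top_iff]
      intro x _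
      rw [mem_nst, h0, one_mul, RC, inv_one, mul_one]
      exact ⟨_, rfl⟩
    rw [e, Finset.sum_singleton, e4, e0, relIndex_eq_one] at e1
    exact le_antisymm e1 hM
  · right
    have e5 : 0 < ∑ i, n i := by
      rw [← h.index_eq hx]; exact Nat.pos_of_ne_zero index_ne_zero_of_finite
    rw [e] at e2
    exact index_eq_one.1 (Nat.eq_of_mul_eq_mul_left e5 (e2.trans (mul_one _).symm))

theorem card_cent_aut {G : Type*} [Group G] (φ : MulAut G) (t : G) :
    Nat.card (centralizer ({φ t} : Set G)) = Nat.card (centralizer ({t} : Set G)) := by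
  rw [← card_map_of_injective (K := centralizer ({t} : Set G)) (f := φ.toMonoidHom) φ.injective]
  congr 2
  ext x
  obtain ⟨x, rfl⟩ := φ.surjective x
  refine Iff.trans ?_ (mem_map_iff_mem (f := φ.toMonoidHom) φ.injective).symm
  simp only [mem_centralizer_singleton_iff, ← map_mul, φ.injective.eq_iff]

theorem card_cent_conj {G : Type*} [Group G] {s t : G} (h : IsConj s t) :
    Nat.card (centralizer ({s} : Set G)) = Nat.card (centralizer ({t} : Set G)) := by
  obtain ⟨g, rfl⟩ := isConj_iff.1 h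
  exact (card_cent_aut (MulAut.conj g) s).symm

/-- a `2`-central involution -/
theorem exists_central {G : Type*} [Group G] [Finite G] {k : ℕ} (h : 2 ^ (k + 1) ∣ Nat.card G) :
    ∃ z : G, orderOf z = 2 ∧ 2 ^ (k + 1) ∣ Nat.card (centralizer ({z} : Set G)) := by
  obtain ⟨S, hS⟩ := Sylow.exists_subgroup_card_pow_prime 2 h
  have hp : IsPGroup 2 S := IsPGroup.of_card hS
  have : Nontrivial S := Finite.one_lt_card_iff_nontrivial.1 (hS ▸ Nat.one_lt_two_pow (by omega))
  have := hp.center_nontrivial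
  obtain ⟨n, h1, h2⟩ := (hp.to_subgroup (center S)).nontrivial_iff_card.1 this
  obtain ⟨z, hz⟩ := exists_prime_orderOf_dvd_card' (G := center S) 2 (h2 ▸ dvd_pow_self 2 h1.ne')
  refine ⟨z, by rw [orderOf_coe, orderOf_coe, hz], hS ▸ card_dvd_of_le fun s hs => ?_⟩
  exact mem_centralizer_singleton_iff.2 (congrArg Subtype.val (mem_center_iff.1 z.2 ⟨s, hs⟩))

/-- two classes of involutions, one of them not `2`-central -/
theorem isConj_aut {G : Type*} [Group G] [Finite G] {k : ℕ} (h : 2 ^ (k + 1) ∣ Nat.card G) {t u : G}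
    (h2 : orderOf t = 2) (hc : ∀ z : G, orderOf z = 2 → IsConj z t ∨ IsConj z u)
    (hn : ¬ 2 ^ (k + 1) ∣ Nat.card (centralizer ({t} : Set G))) (φ : MulAut G) : IsConj t (φ t) := by
  rcases hc (φ t) ((φ.orderOf_eq t).trans h2) with e | e
  · exact e.symm
  obtain ⟨z, h3, h4⟩ := exists_central h
  refine absurd ?_ hn
  rcases hc z h3 with e' | e'
  · rwa [← card_cent_conj e']
  · rwa [← card_cent_aut φ, card_cent_conj e, ← card_cent_conj e']

open H27.HN H29 H24

theorem range_eq : HNP.φ.range = C{HNP.φ (m 5)} := by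
  have := H29.HN.simple
  refine ((dcs_max HND.dcs H29.HN.hx (i0 := 0) (DD.rep_zero _ _ _) (by decide +kernel) ?_).resolve_right
    fun e => ?_).symm
  · rintro _ ⟨g, rfl⟩
    rw [mem_C1, ← map_mul, ← map_mul, mem_C1.1 (f_cent g)]
  · have h1 : HNP.φ (m 5) ∈ center HNP.P.G := mem_center_iff.2 fun g => mem_C1.1 (e ▸ mem_top g)
    rcases IsSimpleGroup.eq_bot_or_eq_top_of_normal (center HNP.P.G) inferInstance with h2 | h2
    · rw [h2, mem_bot, map_eq_one_iff _ H29.HN.φ_inj] at h1
      exact mod_m.f1 h1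
    · refine mod_m.ne (u := [0, 2]) (v := [2, 0]) (by decide +kernel) (H29.HN.φ_inj ?_)
      simpa using mem_center_iff.1 (h2 ▸ mem_top (HNP.φ (m 2))) (HNP.φ (m 0))

theorem outS_P : OutS HNP.P.G := by
  have := H29.HN.simple
  have h := mod_hom HNP.φ H29.HN.φ_inj range_eq
  obtain ⟨r, r0, r1, -⟩ := h.exists_r (rig_hom _ H29.HN.φ_inj range_eq)
  have c2 := (h.main r0 r1 le_top (mem_top _)).2
  have h2 : orderOf (HNP.φ (m 5)) = 2 := orderOf_eq_prime (by rw [sq]; exact h.f2) h.f1
  let e : HN.K ≃* C{HNP.φ (m 5)} :=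
    (MonoidHom.ofInjective H29.HN.φ_inj).trans (MulEquiv.subgroupCongr range_eq)
  have : Finite A := Finite.of_surjective ψ HS100.ψ_surj
  refine outS_of_cent (fun hc => h.ne (u := [0, 2]) (v := [2, 0]) (by decide +kernel) (by
      simpa using hc.1.1 _ _)) h2
    (isConj_aut (k := 13) (by rw [H29.HN.card]; norm_num) h2 c2 (by rw [h.card]; norm_num))
    outS_A center_A (ψ.comp e.symm.toMonoidHom) (HS100.ψ_surj.comp e.symm.surjective) fun x hx => ?_
  obtain ⟨y, rfl⟩ := e.surjective x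
  change HNP.φ y ∈ _
  rcases ker5 (g := y) (by simpa using hx) with rfl | rfl
  exacts [by simp, mem_zpowers _]

theorem outS_hn {K : Type u} [Group K] (h : Cfsg.Spor.IsoHN K) : OutS K := by
  obtain ⟨e⟩ := h
  exact OutS.congr e.symm outS_P

end H27.SH
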