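import Cfsg.Agent.H0.SchC
import Cfsg.Agent.H27.HNI3

/-! Schreier property: general criteria, `HS` and `HS.2`. -/

set_option autoImplicit false

namespace H27.SH

open H0.Sch H27.SC Subgroup

universe u v

/-- every automorphism of `H` is induced by an overgroup `A` with `A / H` abelian -/
theorem outS_of_induced {A : Type*} [Group A] (H : Subgroup A) [H.Normal] (hc : commutator A ≤ H)
    (h : ∀ φ : MulAut H, ∃ k : A, MulAut.conjNormal k = φ) : OutS H := by
  intro D hD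
  have h1 : D ≤ (⊤ : Subgroup A).map MulAut.conjNormal := fun φ _ =>
    (h φ).imp fun k hk => ⟨mem_top k, hk⟩
  rw [← show ⁅D, D⁆ = D from hD]
  refine (commutator_mono h1 h1).trans ?_
  rw [← map_commutator]
  rintro _ ⟨k, hk, rfl⟩
  exact ⟨⟨k, hc hk⟩, by ext x; simp⟩

variable {K : Type u} [Group K] [Finite K]

/-- Frattini argument for an element with invariant class and a Sylow subgroup of its centraliser -/
theorem outS_of_class {t : K} (ht : ∀ φ : MulAut K, IsConj t (φ t)) {p : ℕ} (hp : p.Prime)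
    {P : Subgroup K} (hP : H24.Syl p (centralizer ({t} : Set K)) P)
    (h : ∀ D : Subgroup (MulAut K), Perf D → (∀ d ∈ D, d t = t) → Inv D P → D ≤ Inn K) : OutS K := by
  refine outS_of_surj (MulAction.stabilizer (MulAut K) t ⊓ stab P) (fun φ => ?_)
    fun D hD hle => h D hD (fun d hd => (hle hd).1) (inv_of_le_stab (hle.trans inf_le_right))
  obtain ⟨g, hg⟩ := isConj_iff.1 (ht φ)
  have h1 : (MulAut.conj g)⁻¹ * φ ∈ MulAction.stabilizer (MulAut K) t := by
    change (MulAut.conj g)⁻¹ (φ t) = t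
    rw [← hg]; simp [mul_assoc]
  have h2 := hP.map ((MulAut.conj g)⁻¹ * φ).toMonoidHom
  rw [(inv_centralizer_of_fix (D := MulAction.stabilizer (MulAut K) t) fun _ hd => hd).map_eq h1] at h2
  obtain ⟨m, hm, h3⟩ := H24.Sylow_trans hp hP h2
  refine ⟨g * m, ?_⟩
  rw [map_mul, mul_inv_rev, mul_assoc]
  refine mem_inf.2 ⟨mul_mem (inv_mem ?_) h1, mem_stab_of h3⟩
  change m * t * m⁻¹ = t
  rw [mem_centralizer_singleton_iff.1 hm, mul_inv_cancel_right]

/-- an involution with invariant class whose centraliser is a double cover of a centreless group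
with the Schreier property -/
theorem outS_of_cent [IsSimpleGroup K] (hna : ¬ IsMulCommutative K) {t : K} (h2 : orderOf t = 2)
    (ht : ∀ φ : MulAut K, IsConj t (φ t)) {L : Type v} [Group L] [Finite L] (hL : OutS L)
    (hZ : center L = ⊥) (f : centralizer ({t} : Set K) →* L) (hf : Function.Surjective f)
    (hk : ∀ x, f x = 1 → (x : K) ∈ zpowers t) : OutS K := by
  let H := centralizer ({t} : Set K)
  obtain ⟨S⟩ : Nonempty (Sylow 2 H) := inferInstance
  refine outS_of_class ht Nat.prime_two (H24.syl_of_sylow Nat.prime_two S) fun D hD hf1 hi => ?_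
  have hz : Tr D (zpowers t) ⊥ := tr_bot_iff.2 (by
    rintro d hd _ ⟨n, rfl⟩
    rw [map_zpow, hf1 d hd])
  have hkt : Tr D (f.ker.map H.subtype) ⊥ := hz.mono (by
    rintro _ ⟨x, hx, rfl⟩; exact hk x hx) le_rfl
  have h1 := tr_of_outS hD (inv_centralizer_of_fix hf1) f hf (hkt.inv bot_le le_rfl) hL hZ hi (by
    rw [show ((S : Subgroup H).map H.subtype).subgroupOf H = S from
      comap_map_eq_self_of_injective H.subtype_injective _]
    exact solvable_normalizer_sylow_two (S.mapSurjective hf))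
  have hn : Nm H (f.ker.map H.subtype) := nm_of (by
    rintro x hx _ ⟨y, hy, rfl⟩
    exact ⟨_, (MonoidHom.normal_ker f).conj_mem y hy ⟨x, hx⟩, rfl⟩)
  rw [eq_bot_of_climb hna hD (IsPGroup.of_card (n := 1) (by rw [Nat.card_zpowers, h2, pow_one])) hz
    ((h1.trans hD hkt (map_subtype_le _) bot_le inv_bot hn (SC.nm_bot _)).mono
      (centralizer_le (by simp)) le_rfl)]
  exact bot_le

open H27.HN H29 H15.KM

theorem induced (φ : H0 →* A) (hφ : Function.Injective φ) : ∃ k : A, ∀ x : H0, k * φ x * k⁻¹ = x := by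
  have b3 : ∀ ℓ, ∃ μ : H0, ℓ ∈ [14, 12, 10, 8, 6] → μ = mA ℓ := fun ℓ => by
    by_cases h : ℓ ∈ [14, 12, 10, 8, 6]
    · exact ⟨⟨mA ℓ, H0_eq ▸ mem_gen h⟩, fun _ => rfl⟩
    · exact ⟨1, fun h2 => absurd h2 h⟩
  choose μ hμ using b3
  have b4 : ∀ u : List ℕ, (∀ c ∈ u, c ∈ [14, 12, 10, 8, 6]) → (ev μ u : H0) = ψ (ev m u) :=
    fun u hu => by
      rw [← evA]
      exact (map_ev H0.subtype μ u).trans (ev_congr fun c hc => hμ c (hu c hc))
  obtain ⟨k, hk⟩ := rig0 (e' := fun ℓ => φ (μ ℓ)) ⟨fun ℓ h => by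
    rw [Ne, map_eq_one_iff _ hφ, Subtype.ext_iff, hμ ℓ h]
    simpa using isoA.ne (allL_true.1 (by decide +kernel : (allL [14, 12, 10, 8, 6] fun c =>
      not1 (eqW runA [c] [])) = true) ℓ h), fun u v hu hv h => by
    rw [← map_ev, ← map_ev, Subtype.ext ((b4 u hu).trans (h ▸ (b4 v hv).symm))]⟩
  refine ⟨k, fun x => ?_⟩
  have d1 : (x : A) ∈ (gen μ [14, 12, 10, 8, 6]).map H0.subtype := by
    rw [map_gen, show gen (fun c => H0.subtype (μ c)) _ = _ from gen_congr hμ, ← H0_eq]; exact x.2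
  obtain ⟨y, d2, d3⟩ := d1
  obtain rfl : y = x := Subtype.ext d3
  exact (gen_le (H := ((MulAut.conj k).toMonoidHom.comp φ).eqLocus H0.subtype)).2
    (fun ℓ h => (hk ℓ h).trans (hμ ℓ h).symm) d2

theorem centH {a : A} (h : ∀ x ∈ H0, a * x = x * a) : a = 1 :=
  centH0 fun c hc => h _ (H0_eq ▸ mem_gen hc)

theorem outS_H0 : OutS H0 := by
  have := normal_of_index_eq_two H0_index.1
  refine outS_of_induced H0 (commutator_le.2 fun a _ b _ => ?_) fun φ => ?_
  · simp only [commutatorElement_def, mul_mem_iff_of_index_two H0_index.1, inv_mem_iff]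
    tauto
  · obtain ⟨k, hk⟩ := induced (H0.subtype.comp φ.toMonoidHom) (H0.subtype_injective.comp φ.injective)
    refine ⟨k⁻¹, MulEquiv.ext fun x => Subtype.ext ?_⟩
    rw [MulAut.conjNormal_apply, ← hk x]
    simp [mul_assoc]

theorem center_A : center A = ⊥ := eq_bot_iff.2 fun a ha =>
  centH fun x _ => (mem_center_iff.1 ha x).symm

theorem outS_A : OutS A := by
  have := normal_of_index_eq_two H0_index.1
  intro D _ φ _
  obtain ⟨k, hk⟩ := induced (φ.toMonoidHom.comp H0.subtype) (φ.injective.comp H0.subtype_injective)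
  refine ⟨k⁻¹, MulEquiv.ext fun a => ?_⟩
  have h1 : a⁻¹ * (k * φ a * k⁻¹) = 1 := centH fun x hx => by
    have e1 : k * φ x * k⁻¹ = x := hk ⟨x, hx⟩
    have e2 : k * φ (a * x * a⁻¹) * k⁻¹ = a * x * a⁻¹ := hk ⟨_, this.conj_mem x hx a⟩
    calc a⁻¹ * (k * φ a * k⁻¹) * x = a⁻¹ * (k * φ a * k⁻¹) * (k * φ x * k⁻¹) := by rw [e1]
      _ = a⁻¹ * (k * φ (a * x * a⁻¹) * k⁻¹) * (k * φ a * k⁻¹) := by
        simp only [map_mul, map_inv]; group
      _ = _ := by rw [e2]; group
  rw [inv_mul_eq_one] at h1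
  change k⁻¹ * a * k⁻¹⁻¹ = φ a
  nth_rw 1 [h1]
  group

omit [Finite K] in
theorem outS_hs (h : Cfsg.Spor.IsoHS K) : OutS K := by
  obtain ⟨e⟩ := h
  obtain ⟨H, a1, -, ⟨e2⟩⟩ := HS100.exists_HS
  obtain rfl := (index_two a1).1
  exact OutS.congr (e2.trans e.symm) outS_H0

end H27.SH
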