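import Cfsg.Agent.H0.SchCo
import Cfsg.Agent.H10.MBaby

/-! Schreier property of the explicit Monster and Baby Monster. -/

set_option autoImplicit false

namespace H27.SM

open H0.Sch H10 H10.Mon Subgroup Cfsg MulAction
open scoped commutatorElement

universe u v

theorem outS_xs23 {K : Type u} [Group K] [Finite K] [IsSimpleGroup K] (hna : ¬ IsMulCommutative K)
    {z : K} {Q : Subgroup K} (X : H3.XS 2 z Q) {L : Type v} [Group L] [IsSimpleGroup L]
    (hLna : ¬ IsMulCommutative L) (hL : OutS L) (h23 : 23 ∣ Nat.card L)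
    (f : centralizer ({z} : Set K) →* L) (hf : Function.Surjective f)
    (hk : ∀ x, f x = 1 ↔ (x : K) ∈ Q) (hC : ∀ x, (∀ q ∈ Q, q * x = x * q) → x ∈ Q)
    (hc : Nat.card Q ∣ 2 ^ 25) : OutS K := by
  have e1 : f.ker.map (centralizer ({z} : Set K)).subtype = Q := by
    ext x
    exact ⟨fun ⟨y, h1, h2⟩ => h2 ▸ (hk y).1 h1, fun h =>
      ⟨⟨x, mem_centralizer_singleton_iff.2 (X.central x h).symm⟩, (hk _).2 h, rfl⟩⟩
  let e : f.ker ≃* Q := (f.ker.equivMapOfInjective _ (subtype_injective _)).trans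
    (MulEquiv.subgroupCongr e1)
  have hne : zpowers z ≠ Q := fun a => hLna ⟨⟨fun x y => by
    have : ∀ w, w = (1 : L) := fun w => by
      obtain ⟨w, rfl⟩ := hf w
      refine (hk w).2 (hC _ fun q hq => ?_)
      rw [← a] at hq
      obtain ⟨n, rfl⟩ := hq
      exact ((show Commute (w : K) z from mem_centralizer_singleton_iff.1 w.2).zpow_right n).symm.eq
    rw [this (x * y), this (y * x)]⟩⟩
  obtain ⟨m, hm, e2⟩ := (Nat.dvd_prime_pow Nat.prime_two).1 hc
  have h2 : 2 ∣ Nat.card Q := by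
    have := card_dvd_of_le (zpowers_le.2 X.mem)
    rwa [Nat.card_zpowers, X.ord] at this
  have o : orderOf (2 : ZMod 23) = 11 := by
    haveI : Fact (Nat.Prime 11) := ⟨by norm_num⟩
    exact orderOf_eq_prime (by decide) (by decide)
  cases m with
  | zero => rw [e2] at h2; norm_num at h2
  | succ n =>
    refine outS_xs_simple hna X.ord hLna hL f hf (H27.SC.xs_congr e.symm (xs_extra X hne))
      (by rw [e1]; exact fun x hx => hC x hx) (n := n) (r := 23)
      ((Nat.card_congr e.toEquiv).trans e2) (by norm_num) h23 (by rw [o]; norm_num)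
      (.inr (by rw [o]; exact ⟨by decide, by omega⟩))

theorem nab_of_card {L : Type v} [Group L] [IsSimpleGroup L] (h : 6 ∣ Nat.card L)
    (h0 : Nat.card L ≠ 0) : ¬ IsMulCommutative L := fun hc => by
  have := Nat.finite_of_card_ne_zero h0
  letI : CommGroup L := { mul_comm := hc.is_comm.comm }
  have hp := IsSimpleGroup.prime_card (α := L)
  rcases (Nat.dvd_prime hp).1 ((by norm_num : 2 ∣ 6).trans h) with a | a
  · norm_num at a
  · rw [← a] at h; norm_num at h

variable {τ : U ≃ₗ[ℝ] U}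

theorem outS_MM (h : Tri τ) [Finite (MM τ)] : OutS (MM τ) := by
  have := simple_MM h
  have := simple_Co1
  have : Finite (G0 ⧸ center G0) := Nat.finite_of_card_ne_zero (by rw [card_Co1]; norm_num)
  have hL := nab_of_card (L := G0 ⧸ center G0) (by rw [card_Co1]; norm_num)
    (by rw [card_Co1]; norm_num)
  have hr : QQ ≤ (MM τ).subtype.range := by
    rw [range_subtype]; exact QQ_le_GG.trans (GG_le_MM τ)
  let j : centralizer ({zM τ} : Set (MM τ)) →* GG :=
    ((MM τ).subtype.comp (Subgroup.subtype _)).codRestrict _ fun x => (mem_cent_zM h).1 x.2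
  have hf : Function.Surjective (piG.comp j) := piG_surj.comp fun x =>
    ⟨⟨⟨x, GG_le_MM τ x.2⟩, (mem_cent_zM h).2 x.2⟩, rfl⟩
  have X := xs_comap (subtype_injective (MM τ)) (z := zM τ) xs_QQ hr
  refine outS_xs23 (fun hc => hL ⟨⟨fun x y => ?_⟩⟩) X hL (outS_co1 hL ⟨MulEquiv.refl _⟩)
    (by rw [card_Co1]; norm_num) _ hf (fun x => ?_) (fun x hx => ?_) ?_
  · obtain ⟨x, rfl⟩ := hf x
    obtain ⟨y, rfl⟩ := hf y
    rw [← map_mul, ← map_mul, show x * y = y * x from Subtype.ext (hc.is_comm.comm _ _)]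
  · rw [MonoidHom.comp_apply, ← MonoidHom.mem_ker, ker_piG]; rfl
  · rcases cent_QQ ((mem_cent_zM h).1 (mem_centralizer_singleton_iff.2 (hx _ X.mem).symm))
      (fun q hq => (congrArg Subtype.val (hx ⟨q, GG_le_MM τ (QQ_le_GG hq)⟩ hq)).symm) with a | a
    · exact (show x = 1 from Subtype.ext a) ▸ one_mem _
    · exact (show x = zM τ from Subtype.ext a) ▸ X.mem
  · rw [← card_map_of_injective (subtype_injective (MM τ)), map_comap_eq_self hr, card_QQ]

theorem outS_HH (h : Tri τ) (hne : ∀ g ∈ MM τ, g * zz * g⁻¹ ≠ tv 1 c0) {K : Type u} [Group K]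
    [Finite K] [IsSimpleGroup K] (hna : ¬ IsMulCommutative K) (φ : HH τ →* K)
    (hφ : Function.Surjective φ) (hk : ∀ x, φ x = 1 ↔ (x : U ≃ₗ[ℝ] U) ∈ zpowers (tv 1 c0)) :
    OutS K := by
  let z : HH τ := ⟨zz, zz_mem_HH⟩
  have hz : zz = rho (qe 1 0) := rfl
  have k1 : ∀ x, φ x = 1 → (x : U ≃ₗ[ℝ] U) = rho (qe 0 0) ∨ (x : U ≃ₗ[ℝ] U) = rho (qe 0 c0.1) :=
    fun x hx => by
      rw [rho_qe_zero, ← tt_eq]; exact mem_zpowers_invol (tv_mul_self _ _) ((hk x).1 hx)
  have k2 : ∀ x y, φ x * φ y = φ y * φ x → ((⁅x, y⁆ : HH τ) : U ≃ₗ[ℝ] U) = rho (qe 0 0) ∨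
      ((⁅x, y⁆ : HH τ) : U ≃ₗ[ℝ] U) = rho (qe 0 c0.1) := fun x y e =>
    k1 _ (by rw [map_commutatorElement, commutatorElement_eq_one_iff_mul_comm, e])
  have k3 : ∀ x, φ x * φ z = φ z * φ x → (x : U ≃ₗ[ℝ] U) ∈ GG := fun x e => by
    refine mem_GG_of_comm (MM_le_Aut h (HH_le x.2)) ?_
    rcases k2 x z e with a | a
    · rw [rho_qe_zero] at a
      exact congrArg Subtype.val (commutatorElement_eq_one_iff_mul_comm.1 (Subtype.ext a))
    · refine absurd ?_ (not_conj hne (HH_le x.2) 1)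
      have : (x : U ≃ₗ[ℝ] U) * zz * (x : U ≃ₗ[ℝ] U)⁻¹ * zz⁻¹ = _ := a
      rw [mul_inv_eq_iff_eq_mul.1 this, hz, ← map_mul, qe_mul, bb_zero_right]; simp
  let Q : Subgroup K := (QQ.subgroupOf (HH τ)).map φ
  have zp : ∀ x : HH τ, (x : U ≃ₗ[ℝ] U) ∈ zpowers zz → φ x ∈ zpowers (φ z) := fun x ⟨n, e⟩ =>
    ⟨n, by simp only; rw [← map_zpow]; exact congrArg φ (Subtype.ext e)⟩
  have qm : ∀ s d (hd : bb d c0.1 + bb c0.1 d = 0), φ ⟨rho (qe s d), qe_mem_HH.2 hd⟩ ∈ Q :=
    fun s d hd => ⟨_, qe_mem_QQ s d, rfl⟩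
  have X : H3.XS 2 (φ z) Q := by
    refine ⟨orderOf_eq_prime ?_ fun e => ?_, ⟨z, xs_QQ.mem, rfl⟩, ?_, ?_, ?_, ?_⟩
    · rw [sq, ← map_mul, show z * z = 1 from Subtype.ext zz_mul_self, map_one]
    · rcases k1 z e with a | a <;> exact absurd (rho_qe_inj (hz.symm.trans a)).1 (by decide)
    · rintro _ ⟨x, hx, rfl⟩
      exact (show Commute z x from Subtype.ext (xs_QQ.central x hx)).map φ
    · rintro _ ⟨x, hx, rfl⟩ _ ⟨y, hy, rfl⟩
      rw [← map_commutatorElement]; exact zp _ (xs_QQ.comm x hx y hy)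
    · rintro _ ⟨x, hx, rfl⟩
      rw [← map_pow]; exact zp _ (xs_QQ.pow x hx)
    · rintro _ ⟨⟨x, hx'⟩, hx, rfl⟩ e
      obtain ⟨s, c, rfl⟩ := mem_QQ.1 hx
      rcases perp_perp (e := c) (fun d hd => by
        rcases k2 _ _ (e _ (qm 0 d hd)) with a | a <;>
          exact (rho_qe_inj ((qe_commutator s 0 c d).symm.trans a)).1) with rfl | rfl
      · exact zp _ (qe0_mem s)
      · have : (⟨_, hx'⟩ : HH τ) = ⟨rho (qe s 0), qe_mem_HH.2 (by
            rw [bb_zero_left, bb_zero_right, add_zero])⟩ * ⟨_, tt_mem_HH⟩ := Subtype.ext (by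
          simp only [coe_mul]; rw [tt_eq, ← map_mul, qe_mul, bb_zero_left]; simp)
        rw [this, map_mul, (hk ⟨_, tt_mem_HH⟩).2 (mem_zpowers _), mul_one]
        exact zp _ (qe0_mem s)
  let Z := centralizer ({φ z} : Set K)
  let j : Z.comap φ →* GG := ((HH τ).subtype.comp (Subgroup.subtype _)).codRestrict _ fun x =>
    k3 x (mem_centralizer_singleton_iff.1 x.2)
  let ι : stabilizer G0 vU' →* G0 ⧸ center G0 := (QuotientGroup.mk' _).comp (Subgroup.subtype _)
  have hι : Function.Injective ι := (injective_iff_map_eq_one ι).2 fun a e => by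
    rcases mem_center_G0.1 ((QuotientGroup.eq_one_iff _).1 e) with b | b
    · exact Subtype.ext b
    · have h1 : (a : G0) • vU' = vU' := a.2
      rw [show (a : G0) = neg1 from b, neg1_smul] at h1
      have h2 := norm_vU'
      rw [show (vU' : V) = 0 from funext fun p => by
        have := congrFun (congrArg Subtype.val h1) p
        simp only [AddSubgroup.coe_neg, Pi.neg_apply] at this
        simp only [Pi.zero_apply]; omega] at h2
      simp [sqNorm] at h2
  have hj : ∀ x, piG (j x) ∈ ι.range := fun x => by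
    obtain ⟨g, hg⟩ := (j x).2
    obtain ⟨k, a1, a2⟩ := exists_stab (τ := τ) (g := g) (by rw [hg]; exact x.1.2)
    refine ⟨⟨co k, a2⟩, ?_⟩
    rw [show j x = ⟨rho k, k, rfl⟩ from Subtype.ext (a1.trans hg).symm, piG_rho]
    rfl
  have jq : ∀ x, piG (j x) = 1 ↔ ((x : HH τ) : U ≃ₗ[ℝ] U) ∈ QQ := fun x => by
    rw [← MonoidHom.mem_ker, ker_piG]; rfl
  let ψ : Z.comap φ →* stabilizer G0 vU' :=
    (MonoidHom.ofInjective hι).symm.toMonoidHom.comp ((piG.comp j).codRestrict _ hj)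
  have hψ : ∀ x, ι (ψ x) = piG (j x) := fun x => MonoidHom.apply_ofInjective_symm hι _
  have ψ1 : ∀ x, ψ x = 1 ↔ ((x : HH τ) : U ≃ₗ[ℝ] U) ∈ QQ := fun x => by
    rw [← jq, ← hψ, map_eq_one_iff _ hι]
  have hs := φ.subgroupComap_surjective_of_surjective Z hφ
  let f : Z →* stabilizer G0 vU' := (φ.subgroupComap Z).liftOfSurjective hs ⟨ψ, fun x hx => by
    rw [MonoidHom.mem_ker, ψ1]
    rcases k1 x (congrArg Subtype.val hx) with a | a <;> rw [a] <;> exact qe_mem_QQ _ _⟩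
  have hf : ∀ x, f (φ.subgroupComap Z x) = ψ x := fun x =>
    MonoidHom.liftOfRightInverse_comp_apply _ _ _ _ x
  obtain ⟨g, hg⟩ := std32 vU' norm_vU'
  obtain ⟨e⟩ := H1.QT.equiv_C2
  have e2 : stabilizer G0 vU' ≃* Spor.Co2 := (e.trans (stabilizerEquivStabilizer hg.symm)).symm
  have c2 : Nat.card (stabilizer G0 vU') = 42305421312000 := by
    rw [Nat.card_congr (e2.trans e).toEquiv, card_C2]
  have := simple_C2'
  have : Finite (stabilizer G0 vU') := Nat.finite_of_card_ne_zero (by rw [c2]; norm_num)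
  have hL := nab_of_card (L := stabilizer G0 vU') (by rw [c2]; norm_num) (by rw [c2]; norm_num)
  refine outS_xs23 hna X hL (outS_co2 hL ⟨e2⟩) (by rw [c2]; norm_num) f (fun a => ?_) (fun x => ?_)
    (fun x hx => ?_) ?_
  · obtain ⟨k, a1, a2⟩ := exists_lift (τ := τ) (fix_c0.2 (.inl a.2))
    refine ⟨_, (hf ⟨⟨_, a2⟩, mem_centralizer_singleton_iff.2 ?_⟩).trans (hι ?_)⟩
    · rw [← map_mul, ← map_mul]; exact congrArg φ (Subtype.ext (zz_comm k))
    · rw [hψ]; exact (piG_rho k).trans (by rw [a1]; rfl)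
  · obtain ⟨x, rfl⟩ := hs x
    rw [hf, ψ1]
    refine ⟨fun a => ⟨_, a, rfl⟩, fun ⟨y, a, b⟩ => ?_⟩
    have h1 : φ (y⁻¹ * x) = 1 := by rw [map_mul, map_inv, b]; exact inv_mul_cancel _
    have h2 : ((y⁻¹ * x : HH τ) : U ≃ₗ[ℝ] U) ∈ QQ := by
      rcases k1 _ h1 with c | c <;> rw [c] <;> exact qe_mem_QQ _ _
    simpa using QQ.mul_mem a h2
  · obtain ⟨⟨x, hx'⟩, rfl⟩ := hφ x
    obtain ⟨k, rfl⟩ := k3 _ (hx _ X.mem).symm
    refine ⟨_, rho_mem_QQ.2 (center_of_perp (rho_mem_HH.1 hx').2 fun d hd => ?_), rfl⟩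
    obtain ⟨s, a⟩ := rho_commutator k 0 d
    rcases k2 _ _ (hx _ (qm 0 d hd)).symm with b | b
    · exact .inl (add_eq_zero_C.1 (rho_qe_inj (a.symm.trans b)).2)
    · have := (rho_qe_inj (a.symm.trans b)).2
      refine .inr (add_eq_zero_C.1 ?_)
      rw [← add_assoc, this, add_eq_zero_C]
  · rw [← card_QQ]
    exact (card_map_dvd _ _).trans (card_dvd_of_injective
      (((HH τ).subtype.comp (Subgroup.subtype _)).codRestrict QQ fun x => x.2)
      fun a b e => Subtype.ext (Subtype.ext (congrArg (fun y : QQ => y.1) e)))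

theorem hne_of (h : Tri τ)
    (hc : Nat.card (MM τ) = 808017424794512875886459904961710757005754368000000000)
    (hX : (MulAction.orbit (MM τ) (ax 1 c0)).ncard = 97239461142009186000)
    (hu : ∀ g ∈ MM τ, g * tv 1 c0 * g⁻¹ = tv 1 c0 → g (ax 1 c0) = ax 1 c0) :
    ∀ g ∈ MM τ, g * zz * g⁻¹ ≠ tv 1 c0 := fun g hg e => by
  haveI : Finite (MM τ) := Nat.finite_of_card_ne_zero (by rw [hc]; norm_num)
  have h1 : (centralizer ({tM τ} : Set (MM τ))).index = 97239461142009186000 := by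
    rw [← hX, ← MulAction.index_stabilizer, cent_tM]
    congr 1
    ext x
    rw [mem_subgroupOf, mem_HH, and_iff_right x.2]
    exact ⟨hu _ x.2, conj_tv (MM_le_Aut h x.2)⟩
  have h2 := (centralizer ({tM τ} : Set (MM τ))).index_mul_card
  obtain ⟨f⟩ := H9.centralizer_equiv_of_conj (a := zM τ) (d := tM τ)
    (isConj_iff.2 ⟨⟨g, hg⟩, Subtype.ext e⟩)
  rw [h1, hc, ← Nat.card_congr f.toEquiv, cent_zM h,
    Nat.card_congr (subgroupOfEquivOfLe (GG_le_MM τ)).toEquiv, card_GG] at h2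
  norm_num at h2

theorem equiv_of_onto {K : Type u} [Group K] [IsSimpleGroup K] {L : Type v} [Group L] [Nontrivial L]
    (f : K →* L) (hf : Function.Surjective f) : Nonempty (K ≃* L) := by
  refine ⟨MulEquiv.ofBijective f ⟨(MonoidHom.ker_eq_bot_iff f).1 ?_, hf⟩⟩
  refine (f.normal_ker.eq_bot_or_eq_top).resolve_right fun e => ?_
  obtain ⟨y, hy⟩ := exists_ne (1 : L)
  obtain ⟨x, rfl⟩ := hf y
  exact hy (MonoidHom.mem_ker.1 (e ▸ mem_top x))

/-- SchM from a surjection of the presented group onto the model. -/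
theorem outS_m_of_onto (h : Tri τ) [Finite (MM τ)] (f : Spor.Monster →* MM τ)
    (hf : Function.Surjective f) {K : Type u} [Group K] [IsSimpleGroup K] (hK : Spor.IsoM K) :
    OutS K := by
  obtain ⟨e⟩ := hK
  have := simple_MM h
  obtain ⟨g⟩ := equiv_of_onto (f.comp e.toMonoidHom) (hf.comp e.surjective)
  exact (outS_MM h).congr g.symm

/-- SchBM from a surjection of the presented group onto `C(t)/<t>`. -/
theorem outS_b_of_onto (h : Tri τ) (hne : ∀ g ∈ MM τ, g * zz * g⁻¹ ≠ tv 1 c0) {L : Type v} [Group L]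
    (φ : HH τ →* L) (hφ : Function.Surjective φ)
    (hk : ∀ x, φ x = 1 ↔ (x : U ≃ₗ[ℝ] U) ∈ zpowers (tv 1 c0)) (f : Spor.BabyMonster →* L)
    (hf : Function.Surjective f) {K : Type u} [Group K] [Finite K] [IsSimpleGroup K]
    (hna : ¬ IsMulCommutative K) (hK : Spor.IsoB K) : OutS K := by
  obtain ⟨e⟩ := hK
  have : Nontrivial L := ⟨φ ⟨zz, zz_mem_HH⟩, 1, fun a => by
    rcases mem_zpowers_invol (tv_mul_self _ _) ((hk _).1 a) with b | b
    · exact zz_ne_one b
    · exact hne 1 (one_mem _) (by simpa using b)⟩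
  obtain ⟨g⟩ := equiv_of_onto (f.comp e.toMonoidHom) (hf.comp e.surjective)
  exact outS_HH h hne hna (g.symm.toMonoidHom.comp φ) (g.symm.surjective.comp hφ) fun x =>
    g.symm.map_eq_one_iff.trans (hk x)

end H27.SM
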