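import Mathlib
import Cfsg.Agent.H27.JTL
import Cfsg.Agent.H27.PF14
import Cfsg.Agent.H1.Wielandt
import Cfsg.Agent.H3.Transfer
import Cfsg.Agent.H6.CentEA

/-! The even case of the Janko–Thompson–Ward theorem. -/

set_option autoImplicit false
open Cfsg H24 Subgroup H27.JT
open scoped MatrixGroups

namespace H18.JT

theorem even_core {G : Type*} [Group G] [Finite G] [IsSimpleGroup G] {S : Subgroup G} {t : G}
    (hS : Syl 2 ⊤ S) (hA : Abl S) (ht : orderOf t = 2) (htS : t ∈ S) {m : ℕ} (hm : 3 ≤ m)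
    (h1 : ∀ k ∈ C{t}, k ≠ 1 → PiElt {2}ᶜ k → S ⊓ C{k} ≤ zpowers t)
    (h3 : ♯S = 2 * m) (h4 : ♯(C{t} ⊓ N[S]) = 2 * m * (m - 1)) : m ≤ 4 := by
  obtain ⟨W, hW⟩ := H26.SchurZassenhaus_split (nml_N S) (hS.of_le (norm_self S) le_top).isHall
  have hWp : IsPi {2}ᶜ W := hW.isPi_right (hS.of_le (norm_self S) le_top)
  have hSt : S ≤ C{t} := hA.le_C.trans (C_le_C1 htS)
  have h5 := (hW.modl (le_inf hSt (norm_self S)) inf_le_right).card
  rw [h4, h3, ← inf_assoc, inf_right_comm, inf_eq_left.2 hW.right_le] at h5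
  have h6 := Nat.eq_of_mul_eq_mul_left (by omega) h5
  have hK : W ⊓ C{t} ≠ ⊥ := fun hc => by rw [hc, card_bot] at h6; omega
  have hsol : Sol W := H27.Feit_Thompson _
    (Nat.not_even_iff_odd.1 fun hc => hWp.not_dvd' Nat.prime_two rfl hc.two_dvd)
  obtain ⟨M, hM, hMW⟩ := exists_minNml (ne_bot_of_le hK inf_le_left) (norm_self W)
  have hMA := hM.abl (hsol.of_le hMW)
  have ht1 := ne_one_of_two ht
  have h7 : ∀ k ∈ W ⊓ C{t}, k ≠ 1 → ∀ g ∈ W, g ∈ C{k} → g ∈ C{t} := fun k hk hk1 g hg hc => by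
    refine mem_C1_iff_conj.2 (((mem_zpowers_two (sq_of_two ht)).1 (h1 k hk.2 hk1 (hWp.piElt hk.1)
      ⟨conj_mem (hW.right_le hg) htS, ?_⟩)).resolve_left (by simpa using ht1))
    rw [← mem_C1_iff_conj.1 hc, ← cj_C1]
    exact conj_mem_cj g (mem_C1_comm.1 hk.2)
  have h8 : M ⊓ C{t} = ⊥ := by
    by_contra hc
    obtain ⟨k, hk, hk1⟩ := exists_ne_one hc
    have h8 : M ≤ C{t} := fun g hg =>
      h7 k ⟨hMW hk.1, hk.2⟩ hk1 g (hMW hg) (mem_C1.2 (hMA.comm hg hk.1))
    have h9 : W ≤ C{t} := fun g hg => by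
      refine mem_C1_iff_conj.2 (((mem_zpowers_two (sq_of_two ht)).1 (h1 k hk.2 hk1
        (hWp.piElt (hMW hk.1)) ⟨conj_mem (hW.right_le hg) htS, ?_⟩)).resolve_left
        (by simpa using ht1))
      refine mem_C1_comm.1 ?_
      rw [← cj_C1, mem_cj]
      exact h8 (conj_mem' (hM.norm hg) hk.1)
    obtain ⟨P, rfl⟩ := hS.exists_sylow_top Nat.prime_two
    have h10 := H3.abelian_sylow_commutator_inf P hA
    have h11 : commutator G = ⊤ := by
      refine ((inferInstance : (commutator G).Normal).eq_bot_or_eq_top).resolve_left fun hc => ?_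
      have : IsMulCommutative G := ⟨⟨fun a b => commutatorElement_eq_one_iff_mul_comm.1
        (mem_bot.1 (hc ▸ commutator_mem_commutator (mem_top a) (mem_top b)))⟩⟩
      have h11 := orderOf_dvd_card' (G := G) (H := ⊤) (mem_top t)
      have h12 := card_dvd (le_top : (P : Subgroup G) ≤ ⊤)
      have h13 : (Nat.card G).Prime := open scoped IsMulCommutative in IsSimpleGroup.prime_card
      rw [card_top] at h11 h12
      rw [ht] at h11
      rw [h3, ← (Nat.prime_dvd_prime_iff_eq Nat.prime_two h13).1 h11] at h12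
      have := Nat.le_of_dvd two_pos h12
      omega
    rw [h11, top_inf_eq] at h10
    have h12 := H26.coprime_abel_cent_TI hW.norm (hS.pi.coprime hWp) hA
    rw [← hW.isProd.symm.comm_right_of_cent hA.le_C] at h12
    exact ht1 (mem_bot.1 (h12 ▸ ⟨h10 ▸ htS, mem_C_iff_le_C1.2 h9⟩))
  have h9 := H1.regular_Wielandt_fixpoint (K := M) (R := W ⊓ C{t}) (V := S)
    (inf_le_left.trans hM.norm) (fun k hk hk1 => eq_bot_iff.2 fun g hg =>
      h8 ▸ ⟨hg.1, h7 k hk hk1 g (hMW hg.1) hg.2⟩) (hMW.trans hW.norm) (inf_le_left.trans hW.norm)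
    (hS.pi.coprime (hWp.of_le (sup_le hMW inf_le_left))) hA.sol
  obtain ⟨k, hk, hk1⟩ := exists_ne_one hK
  have h10 : S ⊓ C[W ⊓ C{t}] = zpowers t := le_antisymm
    ((inf_le_inf_left _ (C_le_C1 hk)).trans (h1 k hk.2 hk1 (hWp.piElt hk.1)))
    (zpowers_le.2 ⟨htS, mem_C_iff_le_C1.2 inf_le_right⟩)
  have h11 : S ⊓ C[M ⊔ W ⊓ C{t}] = ⊥ := eq_bot_iff.2 fun s hs => by
    rw [C_sup] at hs
    rcases (mem_zpowers_two (sq_of_two ht)).1 (h10.le ⟨hs.1, hs.2.2⟩) with rfl | rfl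
    · exact one_mem _
    · exact absurd ((inf_eq_left.2 (mem_C_iff_le_C1.1 hs.2.1)).symm.trans h8) hM.ne_bot
  rw [h10, h11, card_bot, one_pow, one_mul, card_zpowers', ht, h3, ← h6] at h9
  have h12 := Nat.le_of_dvd (by omega) (Dvd.intro _ h9.symm)
  by_contra hc
  obtain ⟨j, rfl⟩ : ∃ j, m = j + 5 := ⟨m - 5, by omega⟩
  have h13 := Nat.lt_two_pow_self (n := j)
  rw [show j + 5 - 1 = j + 4 by omega, pow_add] at h12
  omega

theorem psl2_cea {F : Type*} [Field F] [Fintype F] (h2 : (2 : F) = 0) (s : PSL(2, F))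
    (hs : orderOf s = 2) : IsMulCommutative C{s} ∧ ∀ c ∈ C{s}, c ^ 2 = 1 := by
  have hn : (-1 : SL(2, F)) = 1 := by
    ext i j
    fin_cases i <;> fin_cases j <;> simp <;> linear_combination -h2
  have hZ : ∀ g, g ∈ center SL(2, F) ↔ g = 1 := fun g => by simp [H16.sl2_mem_center_iff', hn]
  have hi : ∀ g k : SL(2, F), (g : PSL(2, F)) = k → g = k := fun g k h =>
    inv_mul_eq_one.1 ((hZ _).1 (QuotientGroup.eq.1 h))
  obtain ⟨y, rfl⟩ := QuotientGroup.mk_surjective s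
  have hy : y ∉ center SL(2, F) := fun hc => ne_one_of_two hs ((QuotientGroup.eq_one_iff _).2 hc)
  have h3 : y * y = 1 := hi _ _ (sq_of_two hs)
  refine ⟨abl_iff.2 (le_C_iff.2 fun c hc d hd => ?_), fun c hc => ?_⟩
  · obtain ⟨c, rfl⟩ := QuotientGroup.mk_surjective c
    obtain ⟨d, rfl⟩ := QuotientGroup.mk_surjective d
    exact congrArg QuotientGroup.mk
      (sl2_comm y c d hy (hi _ _ (mem_C1.1 hc)) (hi _ _ (mem_C1.1 hd)))
  · obtain ⟨c, rfl⟩ := QuotientGroup.mk_surjective c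
    obtain ⟨-, h4, h5⟩ := (sl2_comm_iff c y).1 (hi _ _ (mem_C1.1 hc))
    have e0 := congrArg (fun g : SL(2, F) => g 0 0) h3
    have e1 := congrArg (fun g : SL(2, F) => g 1 1) h3
    simp [Matrix.mul_apply, Fin.sum_univ_two] at e0 e1
    have h6 : y 0 0 - y 1 1 = 0 := pow_eq_zero_iff two_ne_zero |>.1 (by
      linear_combination e0 - e1 + (y 1 1 * y 1 1 - y 0 0 * y 1 1) * h2)
    have h7 : c 0 0 - c 1 1 = 0 := by
      by_contra hc
      rw [h6, mul_zero, eq_comm, mul_eq_zero, or_iff_left hc] at h4 h5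
      exact hy ((H16.sl2_mem_center_iff y).2 ⟨h4, h5, sub_eq_zero.1 h6⟩)
    rw [sq, ← QuotientGroup.mk_mul, H16.sq_eq_of_trace c (by linear_combination h7 + c 1 1 * h2), hn]
    rfl

end H18.JT

namespace H27.JT

theorem even_case {G : Type*} [Group G] [Finite G] [IsSimpleGroup G]
    (hab : ∀ P : Sylow 2 G, ∀ a b : P, a * b = b * a)
    {F : Type*} [Field F] [Fintype F] (hq : 3 ≤ Fintype.card F) (he : Even (Fintype.card F))
    (t : G) (ht : orderOf t = 2)
    (hC : Nonempty (Subgroup.centralizer ({t} : Set G) ≃* Multiplicative (ZMod 2) × PSL(2, F))) :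
    Fintype.card F = 4 := by
  obtain ⟨e⟩ := hC
  have := ringChar.of_eq ((FiniteField.even_card_iff_char_two (F := F)).2 (Nat.even_iff.1 he))
  have h2 : (2 : F) = 0 := CharP.cast_eq_zero F 2
  have h4 : 4 ≤ Fintype.card F := by obtain ⟨k, hk⟩ := he; omega
  have hL := H7.card_psl_two (F := F) rfl
  rw [(Nat.coprime_two_left.2 (Nat.Even.sub_odd (by omega) he odd_one)).gcd_eq_one, one_mul] at hL
  have hE := H18.JT.psl2_cea h2
  obtain ⟨T⟩ : Nonempty (Sylow 2 PSL(2, F)) := inferInstance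
  obtain ⟨u, hu0, hu⟩ : ∃ u : F, u ≠ 0 ∧ u ^ 2 ≠ 1 := by
    classical
    obtain ⟨u, -, hu⟩ := Finset.exists_mem_notMem_of_card_lt_card
      (show ({0, 1} : Finset F).card < Finset.univ.card from Finset.card_le_two.trans_lt hq)
    simp only [Finset.mem_insert, Finset.mem_singleton, not_or] at hu
    exact ⟨u, hu.1, fun hc => hu.2 (sub_eq_zero.1 (pow_eq_zero_iff two_ne_zero |>.1
      (by linear_combination hc + (1 - u) * h2)))⟩
  have := Matrix.ProjectiveSpecialLinearGroup.rank_two_simple' ⟨u, hu0, hu⟩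
  have hT : Syl 2 ⊤ (T : Subgroup PSL(2, F)) := syl_top_of_sylow Nat.prime_two T
  have h5 : 4 ∣ ♯(T : Subgroup PSL(2, F)) := hT.dvd_card (piNat_self_pow Nat.prime_two 2) (by
    obtain ⟨n, -, hn⟩ := FiniteField.card F 2
    rw [card_top, hL]
    refine Dvd.dvd.mul_right ?_ _
    rw [hn] at h4 ⊢
    exact pow_dvd_pow 2 ((Nat.pow_le_pow_iff_right (n := 2) one_lt_two).1 h4))
  have h6 : ∀ g : PSL(2, F), g ^ 4 = 1 → g ^ 2 = 1 := fun g hg => by
    by_contra hc
    exact hc ((hE _ (orderOf_eq_prime (by rwa [← pow_mul]) hc)).2 g (pow_mem (self_mem_C1 g) 2 |>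
      mem_C1_comm.1))
  have hnc : ¬ IsCyclic (T : Subgroup PSL(2, F)) := fun hc => by
    obtain ⟨g, -, hg⟩ := Cyc.exists_gen hc
    rw [← hg, card_zpowers'] at h5
    obtain ⟨k, hk⟩ := h5
    have h7 : orderOf (g ^ k) = 4 := by
      have : k ≠ 0 := fun hc => (orderOf_pos g).ne' (by rw [hk, hc])
      rw [orderOf_pow' _ this, hk, Nat.gcd_mul_left_left, Nat.mul_div_cancel _ (by omega)]
    have := orderOf_dvd_of_pow_eq_one (h6 (g ^ k) (h7 ▸ pow_orderOf_eq_one _))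
    rw [h7] at this
    omega
  have hnn : ¬ (T : Subgroup PSL(2, F)).Normal := fun hc => by
    rcases hc.eq_bot_or_eq_top with h7 | h7
    · simp [h7] at h5
    · have h8 := hT.pi
      rw [h7, IsPi, card_top, hL] at h8
      obtain ⟨p, hp, h9⟩ := Nat.exists_prime_and_dvd (n := Fintype.card F ^ 2 - 1)
        (by have := Nat.pow_le_pow_left h4 2; omega)
      obtain rfl : p = 2 := h8 p hp (h9.mul_left _)
      exact (Nat.Even.sub_odd (Nat.one_le_pow _ _ (by omega)) (he.pow_of_ne_zero two_ne_zero)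
        odd_one).not_two_dvd_nat h9
  obtain ⟨s, hs, hsN⟩ : ∃ s : PSL(2, F), orderOf s = 2 ∧ s ∉ N[T.1] := by
    by_contra hc
    push Not at hc
    obtain ⟨s, hs, hs2⟩ := exists_orderOf_eq Nat.prime_two ((show 2 ∣ 4 by norm_num).trans h5)
    refine hnn (normalizer_eq_top_iff.1 (eq_top_iff.2 ?_))
    rw [← ((normalClosure_normal (s := {s})).eq_bot_or_eq_top).resolve_left fun hb =>
      ne_one_of_two hs2 (mem_bot.1 (hb ▸ subset_normalClosure rfl))]
    refine (closure_le _).2 fun g hg => hc g ?_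
    obtain ⟨_, rfl, h7⟩ := Group.mem_conjugatesOfSet_iff.1 hg
    obtain ⟨c, rfl⟩ := isConj_iff.1 h7
    rwa [orderOf_conj]
  have h7 := (H6.cea_inf_spec T hnc hE hnn s hs hsN).2.1
  have h8 := H6.cea_card_quotient T hnc hE hnn
  let φ := C{t}.subtype.comp e.symm.toMonoidHom
  have hφ : Function.Injective φ := Subtype.val_injective.comp e.symm.injective
  have hr : (⊤ : Subgroup _).map φ = C{t} := by
    rw [← map_map, map_top_of_surjective _ e.symm.surjective, ← MonoidHom.range_eq_map,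
      range_subtype]
  have hZ : Nat.card (Multiplicative (ZMod 2)) = 2 := by simp
  have hc : ∀ K : Subgroup PSL(2, F), ♯(((⊤ : Subgroup _).prod K).map φ) = 2 * ♯K := fun K => by
    rw [card_map_of_injective hφ, Nat.card_congr (prodEquiv _ _).toEquiv, Nat.card_prod, card_top,
      hZ]
  have hS : Syl 2 C{t} (((⊤ : Subgroup _).prod T.1).map φ) := by
    rw [← hr]
    refine Hall.map (Syl.mk' Nat.prime_two le_top ?_ ?_) φ
    · rw [IsPi, Nat.card_congr (prodEquiv _ _).toEquiv, Nat.card_prod, card_top, hZ]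
      exact (piNat_self Nat.prime_two).mul hT.pi
    · rw [relIndex_top_right, index_prod, index_top, one_mul]
      exact T.not_dvd_index
  have htS := hS.nml_le (piElt_of_orderOf_prime Nat.prime_two ht).isPi
    ⟨zpowers_le_C1 t, norm_zpowers_of_cent le_rfl⟩ (mem_zpowers t)
  have hA : ∀ Q : Subgroup G, IsPi {2} Q → Abl Q := fun Q hQ => by
    obtain ⟨P, hP⟩ := (hQ.isPGroup Nat.prime_two).exists_le_sylow
    exact Abl.of_le ⟨⟨hab P⟩⟩ hP
  have hZ2 : ∀ z : Multiplicative (ZMod 2), z * z = 1 := by decide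
  have hN : N[(⊤ : Subgroup (Multiplicative (ZMod 2))).prod T.1] = (⊤ : Subgroup _).prod N[T.1] := by
    ext g
    simp only [mem_N, mem_prod, mem_top, true_and, Prod.forall]
    exact ⟨fun h => h 1, fun h _ => h⟩
  have h9 := H18.JT.even_core (syl_of_max Nat.prime_two hS.pi le_top fun Q hQ h9 _ =>
    (hS.eq_of_le hQ h9 ((hA Q hQ).le_C.trans (C_le_C1 (h9 htS)))).le) (hA _ hS.pi) ht htS
    (m := ♯T.1) (by have := Nat.le_of_dvd (card_pos _) h5; omega) (fun k hk hk1 hk2 => ?_) (hc _)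
    (by rw [← hr, ← map_inf_N hφ, top_inf_eq, mul_assoc, ← h7, ← hc, hN])
  · have h10 := card_eq_card_quotient_mul_card_subgroup N[T.1]
    rw [h7, h8, hL] at h10
    by_contra hne
    have h11 : 6 ≤ Fintype.card F := by obtain ⟨k, hk⟩ := he; omega
    have h12 := Nat.mul_le_mul h11 (Nat.sub_le_sub_right (Nat.pow_le_pow_left h11 2) 1)
    rw [h10] at h12
    generalize ♯T.1 = m at h9 h12
    interval_cases m <;> omega
  have key : ∀ k ∈ C{t}, k ≠ 1 → PiElt {2}ᶜ k → ∀ z u, u ∈ T.1 → φ (z, u) ∈ C{k} → u = 1 := by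
    intro k hk hk1 hk2 z u hu hcm
    obtain ⟨⟨z', k⟩, -, rfl⟩ := hr.ge hk
    by_contra hu1
    obtain ⟨w, hw, hw2⟩ := exists_orderOf_eq Nat.prime_two (((hT.pi.piElt hu).isPi).dvd_card
      (by simpa using hu1))
    have h10 : k ∈ C{u} := mem_C1.2 (congrArg Prod.snd (hφ (a₁ := (z', k) * (z, u))
      (a₂ := (z, u) * (z', k)) (by rw [map_mul, map_mul]; exact (mem_C1.1 hcm).symm)))
    have h11 := (hE w hw2).2 k (C1_le_C1_of_mem_zpowers hw h10)
    refine hk1 ((piElt_of_pow_eq_one (piNat_self Nat.prime_two) ?_).eq_one hk2)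
    rw [← map_pow, Prod.pow_mk, h11, sq, hZ2]
    exact map_one φ
  rintro _ ⟨⟨⟨z, w⟩, hw, rfl⟩, h10⟩
  obtain ⟨⟨z', w'⟩, hw', h11⟩ := htS
  obtain rfl := key k hk hk1 hk2 z w hw.2 h10
  obtain rfl := key k hk hk1 hk2 z' w' hw'.2 (h11 ▸ mem_C1_comm.1 hk)
  have h12 : ∀ z z' : Multiplicative (ZMod 2), z = 1 ∨ z' = 1 ∨ z = z' := by decide
  have h13 : φ (1, 1) = 1 := map_one φ
  rcases h12 z z' with rfl | rfl | rfl
  · exact h13 ▸ one_mem _
  · exact absurd (h11.symm.trans h13) (ne_one_of_two ht)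
  · exact h11 ▸ mem_zpowers _

end H27.JT
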