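import Mathlib
import Cfsg.Agent.H26.LM0

/-!
# The unipotent group of the hexagons `G₂(q)`, `³D₄(q)` in characteristic two: vocabulary
-/

set_option autoImplicit false
set_option linter.unusedVariables false
set_option linter.unusedSectionVars false
set_option linter.unusedSimpArgs false

namespace H27.HX

open Cfsg H24 H26 H26.Gold H26.LM Subgroup
open scoped commutatorElement

universe u

/-- a field with an automorphism of order dividing three -/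
structure Tw (K : Type) [Field K] where
  σ : K →+* K
  three : ∀ x, σ (σ (σ x)) = x

namespace Tw
variable {K : Type} [Field K] (τ : Tw K)

/-- trace -/
def T (x : K) : K := x + τ.σ x + τ.σ (τ.σ x)
/-- norm -/
def N (x : K) : K := x * τ.σ x * τ.σ (τ.σ x)
/-- adjoint -/
def sh (x : K) : K := τ.σ x * τ.σ (τ.σ x)
/-- cross product -/
def cr (x y : K) : K := τ.σ x * τ.σ (τ.σ y) + τ.σ (τ.σ x) * τ.σ y
/-- the fixed field -/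
def F : Subfield K := τ.σ.eqLocusField (RingHom.id K)
/-- order of the fixed field -/
noncomputable def q : ℕ := Nat.card τ.F

theorem mem_F {x : K} : x ∈ τ.F ↔ τ.σ x = x := Iff.rfl
theorem σ_T (x : K) : τ.σ (τ.T x) = τ.T x := by simp only [T, map_add, τ.three]; ring
theorem σ_N (x : K) : τ.σ (τ.N x) = τ.N x := by simp only [N, map_mul, τ.three]; ring

end Tw

/-- the element `x₂(s) x₃(c) x₄(r) x₅(b) x₆(t) x₁(a)` -/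
@[ext] structure U {K : Type} [Field K] (τ : Tw K) where
  a : K
  s : K
  c : K
  r : K
  b : K
  t : K
  hs : τ.σ s = s
  hr : τ.σ r = r
  ht : τ.σ t = t

namespace U
variable {K : Type} [Field K] [CharP K 2] {τ : Tw K}

instance : One (U τ) := ⟨⟨0, 0, 0, 0, 0, 0, map_zero _, map_zero _, map_zero _⟩⟩
instance : Mul (U τ) := ⟨fun x y =>
  ⟨x.a + y.a,
   x.s + y.s + τ.T (x.a * y.c) + τ.T (τ.sh x.a * y.b) + y.t * τ.N x.a,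
   x.c + y.c + τ.cr x.a y.b + y.t * τ.sh x.a,
   x.r + y.r + τ.T (x.a * τ.sh y.b) + y.t ^ 2 * τ.N x.a + y.t * τ.T (τ.sh x.a * y.b) +
     x.t * (y.s + τ.T (x.a * y.c) + τ.T (τ.sh x.a * y.b) + y.t * τ.N x.a) +
     τ.T (x.b * (y.c + τ.cr x.a y.b + y.t * τ.sh x.a)),
   x.b + y.b + y.t * x.a,
   x.t + y.t,
   by simp only [map_add, map_mul, τ.σ_T, τ.σ_N, x.hs, y.hs, y.ht],
   by simp only [map_add, map_mul, map_pow, τ.σ_T, τ.σ_N, x.hr, y.hr, y.hs, x.ht, y.ht],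
   by simp only [map_add, x.ht, y.ht]⟩⟩
instance : Inv (U τ) := ⟨fun x =>
  ⟨x.a,
   x.s + τ.T (x.a * x.c) + τ.T (τ.sh x.a * x.b) + x.t * τ.N x.a,
   x.c + τ.cr x.a x.b + x.t * τ.sh x.a,
   x.r + x.s * x.t + τ.T (x.b * x.c) + τ.T (x.a * τ.sh x.b) + x.t ^ 2 * τ.N x.a +
     x.t * τ.T (τ.sh x.a * x.b),
   x.b + x.t * x.a,
   x.t,
   by simp only [map_add, map_mul, τ.σ_T, τ.σ_N, x.hs, x.ht],
   by simp only [map_add, map_mul, map_pow, τ.σ_T, τ.σ_N, x.hr, x.hs, x.ht],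
   x.ht⟩⟩

@[simp] theorem one_a : (1 : U τ).a = 0 := rfl
@[simp] theorem one_s : (1 : U τ).s = 0 := rfl
@[simp] theorem one_c : (1 : U τ).c = 0 := rfl
@[simp] theorem one_r : (1 : U τ).r = 0 := rfl
@[simp] theorem one_b : (1 : U τ).b = 0 := rfl
@[simp] theorem one_t : (1 : U τ).t = 0 := rfl
theorem mul_a (x y : U τ) : (x * y).a = x.a + y.a := rfl
theorem mul_s (x y : U τ) : (x * y).s =
    x.s + y.s + τ.T (x.a * y.c) + τ.T (τ.sh x.a * y.b) + y.t * τ.N x.a := rfl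
theorem mul_c (x y : U τ) : (x * y).c = x.c + y.c + τ.cr x.a y.b + y.t * τ.sh x.a := rfl
theorem mul_r (x y : U τ) : (x * y).r =
    x.r + y.r + τ.T (x.a * τ.sh y.b) + y.t ^ 2 * τ.N x.a + y.t * τ.T (τ.sh x.a * y.b) +
     x.t * (y.s + τ.T (x.a * y.c) + τ.T (τ.sh x.a * y.b) + y.t * τ.N x.a) +
     τ.T (x.b * (y.c + τ.cr x.a y.b + y.t * τ.sh x.a)) := rfl
theorem mul_b (x y : U τ) : (x * y).b = x.b + y.b + y.t * x.a := rfl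
theorem mul_t (x y : U τ) : (x * y).t = x.t + y.t := rfl
theorem inv_a (x : U τ) : x⁻¹.a = x.a := rfl
theorem inv_s (x : U τ) : x⁻¹.s =
    x.s + τ.T (x.a * x.c) + τ.T (τ.sh x.a * x.b) + x.t * τ.N x.a := rfl
theorem inv_c (x : U τ) : x⁻¹.c = x.c + τ.cr x.a x.b + x.t * τ.sh x.a := rfl
theorem inv_r (x : U τ) : x⁻¹.r =
    x.r + x.s * x.t + τ.T (x.b * x.c) + τ.T (x.a * τ.sh x.b) + x.t ^ 2 * τ.N x.a +
     x.t * τ.T (τ.sh x.a * x.b) := rfl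
theorem inv_b (x : U τ) : x⁻¹.b = x.b + x.t * x.a := rfl
theorem inv_t (x : U τ) : x⁻¹.t = x.t := rfl

instance : Group (U τ) := Group.ofLeftAxioms
  (fun x y z => by
    ext <;> simp only [mul_a, mul_s, mul_c, mul_r, mul_b, mul_t, Tw.T, Tw.N, Tw.sh, Tw.cr, map_add,
      map_mul, τ.three, x.ht, y.ht, z.ht, y.hs, z.hs] <;> grind)
  (fun x => by
    ext <;> simp [mul_a, mul_s, mul_c, mul_r, mul_b, mul_t, Tw.T, Tw.N, Tw.sh, Tw.cr])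
  (fun x => by
    ext <;> simp only [mul_a, mul_s, mul_c, mul_r, mul_b, mul_t, inv_a, inv_s, inv_c, inv_r, inv_b,
      inv_t, one_a, one_s, one_c, one_r, one_b, one_t, Tw.T, Tw.N, Tw.sh, Tw.cr, map_add,
      map_mul, τ.three, x.ht, x.hs] <;> grind)

/-- root elements -/
def x1 (τ : Tw K) (a : K) : U τ := ⟨a, 0, 0, 0, 0, 0, map_zero _, map_zero _, map_zero _⟩
def x2 (s : τ.F) : U τ := ⟨0, s, 0, 0, 0, 0, s.2, map_zero _, map_zero _⟩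
def x3 (τ : Tw K) (c : K) : U τ := ⟨0, 0, c, 0, 0, 0, map_zero _, map_zero _, map_zero _⟩
def x4 (r : τ.F) : U τ := ⟨0, 0, 0, r, 0, 0, map_zero _, r.2, map_zero _⟩
def x5 (τ : Tw K) (b : K) : U τ := ⟨0, 0, 0, 0, b, 0, map_zero _, map_zero _, map_zero _⟩
def x6 (t : τ.F) : U τ := ⟨0, 0, 0, 0, 0, t, map_zero _, map_zero _, t.2⟩

/-- diagonal automorphisms -/
def dg (α : K) (θ : τ.F) (x : U τ) : U τ :=
  ⟨α * x.a, θ * τ.N α * x.s, θ * τ.sh α * x.c, θ ^ 2 * τ.N α * x.r, θ * α * x.b, θ * x.t,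
    by rw [map_mul, map_mul, τ.σ_N, x.hs, τ.mem_F.1 θ.2],
    by rw [map_mul, map_mul, map_pow, τ.σ_N, x.hr, τ.mem_F.1 θ.2],
    by rw [map_mul, x.ht, τ.mem_F.1 θ.2]⟩

theorem comm_a (x y : U τ) : ⁅x, y⁆.a = 0 := by
  simp only [commutatorElement_def, mul_a, inv_a]; grind
theorem comm_t (x y : U τ) : ⁅x, y⁆.t = 0 := by
  simp only [commutatorElement_def, mul_t, inv_t]; grind
theorem comm_b (x y : U τ) : ⁅x, y⁆.b = y.t * x.a + x.t * y.a := by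
  simp only [commutatorElement_def, mul_a, mul_t, mul_b, inv_a, inv_t, inv_b]; grind
theorem comm_c (x y : U τ) : ⁅x, y⁆.c =
    τ.cr x.a y.b + y.t * τ.sh x.a + τ.cr y.a x.b + x.t * τ.sh y.a := by
  simp only [commutatorElement_def, mul_a, mul_t, mul_b, mul_c, inv_a, inv_t, inv_b, inv_c, Tw.sh,
    Tw.cr, map_add, map_mul, x.ht, y.ht]; grind
theorem comm_s (x y : U τ) : ⁅x, y⁆.s =
    τ.T (x.a * y.c) + τ.T (τ.sh x.a * y.b) + y.t * τ.N x.a +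
    τ.T (y.a * x.c) + τ.T (τ.sh y.a * x.b) + x.t * τ.N y.a := by
  simp only [commutatorElement_def, mul_a, mul_t, mul_b, mul_c, mul_s, inv_a, inv_t, inv_b, inv_c,
    inv_s, Tw.sh, Tw.cr, Tw.T, Tw.N, map_add, map_mul, x.ht, y.ht, τ.three]; grind
/-- both elements in `Q₁` -/
theorem comm_r1 {x y : U τ} (hx : x.a = 0) (hy : y.a = 0) : ⁅x, y⁆.r =
    x.t * y.s + y.t * x.s + τ.T (x.b * y.c) + τ.T (y.b * x.c) := by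
  simp only [commutatorElement_def, mul_a, mul_t, mul_b, mul_c, mul_s, mul_r, inv_a, inv_t, inv_b,
    inv_c, inv_s, inv_r, Tw.sh, Tw.cr, Tw.T, Tw.N, map_add, map_mul, x.ht, y.ht, τ.three, hx, hy,
    map_zero]; grind
/-- both elements in `Q₂` -/
theorem comm_r2 {x y : U τ} (hx : x.t = 0) (hy : y.t = 0) : ⁅x, y⁆.r =
    τ.T (x.a * τ.sh y.b) + τ.T (x.b * (y.c + τ.cr x.a y.b)) +
    τ.T (y.a * τ.sh x.b) + τ.T (y.b * (x.c + τ.cr y.a x.b)) := by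
  simp only [commutatorElement_def, mul_a, mul_t, mul_b, mul_c, mul_s, mul_r, inv_a, inv_t, inv_b,
    inv_c, inv_s, inv_r, Tw.sh, Tw.cr, Tw.T, Tw.N, map_add, map_mul, τ.three, hx, hy,
    map_zero]; grind
/-- second element in `W` -/
theorem comm_rW (x : U τ) {y : U τ} (ha : y.a = 0) (hb : y.b = 0) (ht : y.t = 0) : ⁅x, y⁆.r =
    x.t * y.s + τ.T (x.b * y.c) + x.t * τ.T (x.a * y.c) := by
  simp only [commutatorElement_def, mul_a, mul_t, mul_b, mul_c, mul_s, mul_r, inv_a, inv_t, inv_b,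
    inv_c, inv_s, inv_r, Tw.sh, Tw.cr, Tw.T, Tw.N, map_add, map_mul, x.ht, τ.three, ha, hb, ht,
    map_zero]; grind

/-- the subgroup `U_i ⋯ U_j` given by the vanishing of the selected coordinates -/
def Q1 (τ : Tw K) : Subgroup (U τ) where
  carrier := {x | x.a = 0}
  one_mem' := rfl
  mul_mem' := fun {x y} (hx : x.a = 0) (hy : y.a = 0) => show (x * y).a = 0 by simp [mul_a, hx, hy]
  inv_mem' := fun {x} hx => hx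
def Q2 (τ : Tw K) : Subgroup (U τ) where
  carrier := {x | x.t = 0}
  one_mem' := rfl
  mul_mem' := fun {x y} (hx : x.t = 0) (hy : y.t = 0) => show (x * y).t = 0 by simp [mul_t, hx, hy]
  inv_mem' := fun {x} hx => hx
def W (τ : Tw K) : Subgroup (U τ) where
  carrier := {x | x.a = 0 ∧ x.b = 0 ∧ x.t = 0}
  one_mem' := ⟨rfl, rfl, rfl⟩
  mul_mem' := fun {x y} hx hy => by
    obtain ⟨h1, h2, h3⟩ := hx; obtain ⟨k1, k2, k3⟩ := hy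
    simp [mul_a, mul_b, mul_t, *]
  inv_mem' := fun {x} hx => by
    obtain ⟨h1, h2, h3⟩ := hx
    simp [inv_a, inv_b, inv_t, *]
def V (τ : Tw K) : Subgroup (U τ) where
  carrier := {x | x.a = 0 ∧ x.c = 0 ∧ x.b = 0 ∧ x.t = 0}
  one_mem' := ⟨rfl, rfl, rfl, rfl⟩
  mul_mem' := fun {x y} hx hy => by
    obtain ⟨h1, h2, h3, h4⟩ := hx; obtain ⟨k1, k2, k3, k4⟩ := hy
    simp [mul_a, mul_b, mul_c, mul_t, Tw.cr, *]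
  inv_mem' := fun {x} hx => by
    obtain ⟨h1, h2, h3, h4⟩ := hx
    simp [inv_a, inv_b, inv_c, inv_t, Tw.cr, *]
def Z (τ : Tw K) : Subgroup (U τ) where
  carrier := {x | x.a = 0 ∧ x.s = 0 ∧ x.c = 0 ∧ x.b = 0 ∧ x.t = 0}
  one_mem' := ⟨rfl, rfl, rfl, rfl, rfl⟩
  mul_mem' := fun {x y} hx hy => by
    obtain ⟨h1, h2, h3, h4, h5⟩ := hx; obtain ⟨k1, k2, k3, k4, k5⟩ := hy
    simp [mul_a, mul_b, mul_c, mul_s, mul_t, Tw.cr, Tw.T, *]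
  inv_mem' := fun {x} hx => by
    obtain ⟨h1, h2, h3, h4, h5⟩ := hx
    simp [inv_a, inv_b, inv_c, inv_s, inv_t, Tw.cr, Tw.T, *]

end U

/-- `S = ι(U)` is a Sylow `2`-subgroup of `G` -/
structure Md (G : Type u) [Group G] {K : Type} [Field K] [CharP K 2] (τ : Tw K) where
  ι : U τ →* G
  inj : Function.Injective ι
  syl : Syl 2 ⊤ ι.range

/-- `H / O(H)` has a component -/
def HC {G : Type u} [Group G] (H : Subgroup G) : Prop := HasComponent (↥H ⧸ oddCore ↥H)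

namespace Md
variable {G : Type u} [Group G] {K : Type} [Field K] [CharP K 2] {τ : Tw K} (M : Md G τ)

def S : Subgroup G := M.ι.range
def Q1 : Subgroup G := (U.Q1 τ).map M.ι
def Q2 : Subgroup G := (U.Q2 τ).map M.ι
def Y : Subgroup G := (U.Q1 τ ⊓ U.Q2 τ).map M.ι
def W : Subgroup G := (U.W τ).map M.ι
def V : Subgroup G := (U.V τ).map M.ι
def Z : Subgroup G := (U.Z τ).map M.ι

theorem ι_S (x : U τ) : M.ι x ∈ M.S := ⟨x, rfl⟩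
theorem mem_S {g : G} : g ∈ M.S ↔ ∃ x, M.ι x = g := Iff.rfl
theorem mem_Q1 {g : G} : g ∈ M.Q1 ↔ ∃ x : U τ, x.a = 0 ∧ M.ι x = g := Iff.rfl
theorem mem_Q2 {g : G} : g ∈ M.Q2 ↔ ∃ x : U τ, x.t = 0 ∧ M.ι x = g := Iff.rfl
theorem mem_Y {g : G} : g ∈ M.Y ↔ ∃ x : U τ, (x.a = 0 ∧ x.t = 0) ∧ M.ι x = g := Iff.rfl
theorem mem_W {g : G} : g ∈ M.W ↔ ∃ x : U τ, (x.a = 0 ∧ x.b = 0 ∧ x.t = 0) ∧ M.ι x = g := Iff.rfl
theorem mem_V {g : G} :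
    g ∈ M.V ↔ ∃ x : U τ, (x.a = 0 ∧ x.c = 0 ∧ x.b = 0 ∧ x.t = 0) ∧ M.ι x = g := Iff.rfl
theorem mem_Z {g : G} :
    g ∈ M.Z ↔ ∃ x : U τ, (x.a = 0 ∧ x.s = 0 ∧ x.c = 0 ∧ x.b = 0 ∧ x.t = 0) ∧ M.ι x = g := Iff.rfl
theorem ι_Q1 {x : U τ} : M.ι x ∈ M.Q1 ↔ x.a = 0 := mem_map_iff_mem M.inj
theorem ι_Q2 {x : U τ} : M.ι x ∈ M.Q2 ↔ x.t = 0 := mem_map_iff_mem M.inj
theorem ι_Y {x : U τ} : M.ι x ∈ M.Y ↔ x.a = 0 ∧ x.t = 0 := mem_map_iff_mem M.inj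
theorem ι_W {x : U τ} : M.ι x ∈ M.W ↔ x.a = 0 ∧ x.b = 0 ∧ x.t = 0 := mem_map_iff_mem M.inj
theorem ι_V {x : U τ} : M.ι x ∈ M.V ↔ x.a = 0 ∧ x.c = 0 ∧ x.b = 0 ∧ x.t = 0 :=
  mem_map_iff_mem M.inj
theorem ι_Z {x : U τ} : M.ι x ∈ M.Z ↔ x.a = 0 ∧ x.s = 0 ∧ x.c = 0 ∧ x.b = 0 ∧ x.t = 0 :=
  mem_map_iff_mem M.inj

/-- two models with the same distinguished subgroups -/
structure Same (M M' : Md G τ) : Prop where
  S : M'.S = M.S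
  Q1 : M'.Q1 = M.Q1
  Q2 : M'.Q2 = M.Q2
  Y : M'.Y = M.Y
  W : M'.W = M.W
  V : M'.V = M.V
  Z : M'.Z = M.Z

/-- the fusion configuration -/
structure Cf : Prop where
  big : Big K
  hW : N[M.Q2] ≤ N[M.W]
  ex1 : ¬ N[M.Q1] ≤ N[M.V]
  ex2 : ¬ N[M.Q2] ≤ N[M.Z]

/-- the configuration in characteristic two type -/
structure Gd : Prop extends M.Cf where
  cQ1 : C[M.Q1] ≤ M.Q1
  cQ2 : C[M.Q2] ≤ M.Q2
  nS1 : N[M.Q1] ⊓ N[M.V] ≤ N[M.S]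
  nS2 : N[M.Q2] ⊓ N[M.Z] ≤ N[M.S]
  cz : ∀ z ∈ M.Z, z ≠ 1 → C{z} ≤ N[M.Q1]
  cy : ∀ y ∈ M.W, y ∉ M.V → C{y} ≤ N[M.Q2]
  gen : N[M.Q1] ⊔ N[M.Q2] = ⊤

/-- the local form of "`l` is a long root element and `y ∈ O₂(C(l))`" -/
def Rho (l y : G) : Prop := (l ∈ M.Z ∧ y ∈ M.Q1) ∨ (∃ h ∈ N[M.Q2], l ∈ cj h M.Z ∧ y ∈ cj h M.Y) ∨
  ∃ h ∈ N[M.Q1], l ∈ cj h M.V ∧ y ∈ cj h M.W

end Md

/-- the fixed field has more than two elements -/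
def Tw.BigF {K : Type} [Field K] (τ : Tw K) : Prop := ∃ ω, τ.σ ω = ω ∧ ω ≠ 0 ∧ ω ≠ 1

/-- torus and reflections -/
structure Ap (G : Type u) [Group G] where
  H : Subgroup G
  n1 : G
  n6 : G

namespace Ap
variable {G : Type u} [Group G] {K : Type} [Field K] [CharP K 2] {τ : Tw K} (A : Ap G) (M : Md G τ)

/-- root subgroups -/
def R2 : Subgroup G := cj A.n6 M.Z
def R6 : Subgroup G := cj A.n1 (A.R2 M)
def R3 : Subgroup G := M.W ⊓ C[A.R6 M] ⊓ C[cj A.n6 (A.R6 M)]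
def R5 : Subgroup G := cj A.n1 (A.R3 M)
def R1 : Subgroup G := cj A.n6 (A.R5 M)

/-- the torus -/
structure S0 : Prop where
  HS : A.H ≤ N[M.S]
  odd : OddG A.H
  prod : ∀ g ∈ N[M.S], ∃ s ∈ M.S, ∃ h ∈ A.H, g = s * h
  n1Q : A.n1 ∈ N[M.Q1]
  n1V : A.n1 ∉ N[M.V]
  n1H : A.n1 ∈ N[A.H]
  n1s : A.n1 * A.n1 ∈ A.H
  n6Q : A.n6 ∈ N[M.Q2]
  n6Z : A.n6 ∉ N[M.Z]
  n6H : A.n6 ∈ N[A.H]
  n6s : A.n6 * A.n6 ∈ A.H
  fpf : M.S ⊓ C[A.H] = ⊥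

/-- the root subgroups are complements in the factors of `1 < Z < V < W < Y < Q₁ < S` -/
structure S1 : Prop extends A.S0 M where
  le1 : A.R1 M ≤ M.Q2
  le2 : A.R2 M ≤ M.V
  le5 : A.R5 M ≤ M.Y
  le6 : A.R6 M ≤ M.Q1
  sq : ∀ g, g ∈ A.R1 M ∨ g ∈ A.R5 M ∨ g ∈ A.R6 M → g * g = 1
  in1 : ∀ x, M.ι x ∈ A.R1 M → x.a = 0 → x = 1
  in2 : ∀ x, M.ι x ∈ A.R2 M → x.s = 0 → x = 1
  in3 : ∀ x, M.ι x ∈ A.R3 M → x.c = 0 → x = 1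
  in5 : ∀ x, M.ι x ∈ A.R5 M → x.b = 0 → x = 1
  in6 : ∀ x, M.ι x ∈ A.R6 M → x.t = 0 → x = 1
  on1 : ∀ a, ∃ x, M.ι x ∈ A.R1 M ∧ x.a = a
  on2 : ∀ s, τ.σ s = s → ∃ x, M.ι x ∈ A.R2 M ∧ x.s = s
  on3 : ∀ c, ∃ x, M.ι x ∈ A.R3 M ∧ x.c = c
  on5 : ∀ b, ∃ x, M.ι x ∈ A.R5 M ∧ x.b = b
  on6 : ∀ t, τ.σ t = t → ∃ x, M.ι x ∈ A.R6 M ∧ x.t = t
  H1 : A.H ≤ N[A.R1 M]
  H2 : A.H ≤ N[A.R2 M]
  H3 : A.H ≤ N[A.R3 M]
  H5 : A.H ≤ N[A.R5 M]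
  H6 : A.H ≤ N[A.R6 M]
  c16 : cj A.n1 (A.R6 M) = A.R2 M
  c15 : cj A.n1 (A.R5 M) = A.R3 M
  c62 : cj A.n6 (A.R2 M) = M.Z
  c61 : cj A.n6 (A.R1 M) = A.R5 M
  c63 : cj A.n6 (A.R3 M) = A.R3 M
  c56 : A.R5 M ≤ C[A.R6 M]
  c13 : ∀ x ∈ A.R1 M, ∀ y ∈ A.R3 M, ⁅x, y⁆ ∈ A.R2 M

/-- normalised coordinates -/
structure S2 (c0 e : K) : Prop extends A.S1 M where
  sh1 : ∀ x, M.ι x ∈ A.R1 M → x.c = 0 ∧ x.b = 0
  sh2 : ∀ x, M.ι x ∈ A.R2 M → x.r = 0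
  sh3 : ∀ x, M.ι x ∈ A.R3 M → x.s = 0
  sh5 : ∀ x, M.ι x ∈ A.R5 M → x.s = τ.T (x.b * c0) ∧ x.c = τ.cr e x.b
  sh6 : ∀ x, M.ι x ∈ A.R6 M → x.s = 0 ∧ x.b = 0 ∧ x.c = c0 * x.t

/-- the torus and the reflection of `⟨R₆, R₀⟩` -/
structure T6 : Prop where
  tor : ∀ ν, τ.σ ν = ν → ν ≠ 0 → ∃ h ∈ A.H, ∀ x y, h * M.ι x * h⁻¹ = M.ι y →
    y.t = ν ^ 2 * x.t ∧ y.a = ν⁻¹ * x.a ∧ (x.a = 0 → x.t = 0 → y.b = ν * x.b ∧ (x.b = 0 → y.c = x.c ∧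
      (x.c = 0 → y.s = ν⁻¹ * x.s ∧ y.r = ν * x.r)))
  ref : ∃ h ∈ A.H, (∀ x y, x.t = 0 → h * A.n6 * M.ι x * (h * A.n6)⁻¹ = M.ι y →
    y.a = x.b ∧ y.b = x.a ∧ (x.a = 0 → x.b = 0 → y.c = x.c ∧ (x.c = 0 → y.s = x.r ∧ y.r = x.s))) ∧
    ∀ x, M.ι x ∈ A.R6 M → x.t = 1 → (M.ι x * (h * A.n6)) ^ 3 ∈ M.Q2

/-- the torus and the reflection of `⟨R₁, R₇⟩`, in the coordinates `s + T(b c₀), c + c₀ t, b, t` of
`Q₁ / Z` -/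
structure T1 (c0 : K) : Prop where
  tor : ∀ l, l ≠ 0 → ∃ h ∈ A.H, h ∈ C[M.Z] ∧ ∀ x y, h * M.ι x * h⁻¹ = M.ι y →
    y.a = l ^ 2 * x.a ∧ (x.a = 0 → y.t = (τ.N l)⁻¹ * x.t ∧ y.b = l ^ 2 * (τ.N l)⁻¹ * x.b ∧
      y.c + c0 * y.t = τ.N l * (l ^ 2)⁻¹ * (x.c + c0 * x.t) ∧
      y.s + τ.T (y.b * c0) = τ.N l * (x.s + τ.T (x.b * c0)))
  ref : ∃ h ∈ A.H, h * A.n1 ∈ C[M.Z] ∧ (∀ x y, x.a = 0 → h * A.n1 * M.ι x * (h * A.n1)⁻¹ = M.ι y →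
    y.t = x.s + τ.T (x.b * c0) ∧ y.b = x.c + c0 * x.t ∧ y.c + c0 * y.t = x.b ∧
      y.s + τ.T (y.b * c0) = x.t) ∧
    ∀ x, M.ι x ∈ A.R1 M → x.a = 1 → (M.ι x * (h * A.n1)) ^ 3 ∈ M.Q1

end Ap

/-- the relations of the hexagon group -/
structure Dat {G : Type u} [Group G] {K : Type} [Field K] [CharP K 2] {τ : Tw K} (M : Md G τ) where
  n1 : G
  n6 : G
  h : K → τ.F → G
  hx : ∀ α θ, α ≠ 0 → θ ≠ 0 → ∀ x, h α θ * M.ι x * (h α θ)⁻¹ = M.ι (U.dg α θ x)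
  hm : ∀ α θ α' θ', α ≠ 0 → θ ≠ 0 → α' ≠ 0 → θ' ≠ 0 → h α θ * h α' θ' = h (α * α') (θ * θ')
  h1 : h 1 1 = 1
  s1 : n1 * n1 = 1
  s6 : n6 * n6 = 1
  n1h : ∀ α θ, α ≠ 0 → θ ≠ 0 → n1 * h α θ * n1 = h α⁻¹ (θ * ⟨τ.N α, τ.σ_N α⟩)
  n6h : ∀ α θ, α ≠ 0 → θ ≠ 0 → n6 * h α θ * n6 = h (θ * α) θ⁻¹
  n12 : ∀ s, n1 * M.ι (U.x2 s) * n1 = M.ι (U.x6 s)
  n13 : ∀ c, n1 * M.ι (U.x3 τ c) * n1 = M.ι (U.x5 τ c)
  n14 : ∀ r, n1 * M.ι (U.x4 r) * n1 = M.ι (U.x4 r)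
  n61 : ∀ a, n6 * M.ι (U.x1 τ a) * n6 = M.ι (U.x5 τ a)
  n62 : ∀ s, n6 * M.ι (U.x2 s) * n6 = M.ι (U.x4 s)
  n63 : ∀ c, n6 * M.ι (U.x3 τ c) * n6 = M.ι (U.x3 τ c)
  c1 : (M.ι (U.x1 τ 1) * n1) ^ 3 = 1
  c6 : (M.ι (U.x6 1) * n6) ^ 3 = 1

/-- the data lie in the normaliser of a complement `H` of `S` in `N(S)` -/
structure Dat.Tor {G : Type u} [Group G] {K : Type} [Field K] [CharP K 2] {τ : Tw K} {M : Md G τ}
    (D : Dat M) (H : Subgroup G) : Prop where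
  HS : H ≤ N[M.S]
  odd : OddG H
  prod : ∀ g ∈ N[M.S], ∃ s ∈ M.S, ∃ h ∈ H, g = s * h
  n1H : D.n1 ∈ N[H]
  n6H : D.n6 ∈ N[H]
  hH : ∀ α θ, α ≠ 0 → θ ≠ 0 → D.h α θ ∈ H
  H1 : ∀ g ∈ H, ∀ a, ∃ a', g * M.ι (U.x1 τ a) * g⁻¹ = M.ι (U.x1 τ a')
  H6 : ∀ g ∈ H, ∀ t, ∃ t', g * M.ι (U.x6 t) * g⁻¹ = M.ι (U.x6 t')

end H27.HX
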