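import Mathlib
import Cfsg.Agent.H23.T1

/-!
# Thin groups with three primes: the configuration `2^4 A5`, definitions
-/

set_option autoImplicit false
set_option linter.unusedSectionVars false
set_option linter.unusedVariables false

namespace H27.K3A

open Cfsg H24 H26 H26.Gold H23.TC Subgroup

universe u

variable {G : Type u} [Group G]

/-- the local hypotheses of the thin case -/
structure Th (G : Type u) [Group G] : Prop where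
  simple : IsSimpleGroup G
  na : ¬ IsMulCommutative G
  loc : ∀ t : G, t ≠ 1 → t * t = 1 → C{t} ⊓ C[O[{2}, C{t}]] ≤ O[{2}, C{t}]
  ix : ∀ t : G, t ≠ 1 → t * t = 1 → ∀ R : Subgroup G, TwoG R → R ≤ C{t} → Ix2 O[{2}, C{t}] R
  three : ∀ t : G, t ≠ 1 → t * t = 1 → ∀ N : Subgroup G, N ≤ C{t} →
    TwoG N ∨ ∃ x ∈ N, orderOf x = 3
  rk : ∀ x : G, orderOf x = 3 → ∀ a ∈ C{x}, ∀ b ∈ C{x}, a ≠ 1 → a * a = 1 → b ≠ 1 → b * b = 1 →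
    a * b = b * a → a = b

/-- `N(Q) / Q` is `A5` or `S5` on the natural module, `T / Q` is a four-group of `A5` -/
structure A5c (Q T Z : Subgroup G) (y : G) : Prop where
  ea : EA Q
  cQ : ♯Q = 16
  cT : ♯T = 64
  cZ : ♯Z = 4
  QT : Q ≤ T
  TN : T ≤ N[Q]
  eZ : Z = Q ⊓ C[T]
  cs : ∀ s ∈ T, s ∉ Q → Q ⊓ C{s} = Z
  sq : ∀ s ∈ T, s * s ∈ Z
  cm : ∀ s ∈ T, ∀ t ∈ T, s * t * s⁻¹ * t⁻¹ ∈ Z
  y3 : orderOf y = 3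
  yQ : y ∈ N[Q]
  yT : y ∈ N[T]
  yf : T ⊓ C{y} = ⊥
  fpf : ∀ x ∈ N[Q], orderOf x = 3 → Q ⊓ C{x} = ⊥
  tr : ∀ a ∈ Q, ∀ b ∈ Q, a ≠ 1 → b ≠ 1 → ∃ g ∈ N[Q], g * a * g⁻¹ = b
  inv : ∀ a ∈ N[Q], a ∈ N[T] → TwoE a → a ∉ T → a * y * a⁻¹ * y ∈ T
  out : ∀ a ∈ N[Q], a ∈ N[T] → TwoE a → a ∉ T → ∃ f, a⁻¹ * f ∈ T ∧ f * f = 1
  tp : ∀ f ∈ N[Q], f ∈ N[T] → f * f = 1 → f ∉ T → ∃ x ∈ N[Q], x ∈ C{f} ∧ orderOf x = 3 ∧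
    ∀ v ∈ T, v ∈ C{f} → v ∉ Q → v * x * v⁻¹ * x ∈ Q

/-- the configuration with the second `E16` and a Sylow subgroup -/
structure Fr (Q Q' T Z S : Subgroup G) (y : G) : Prop extends A5c Q T Z y where
  ea' : EA Q'
  cQ' : ♯Q' = 16
  QT' : Q' ≤ T
  inf : Q ⊓ Q' = Z
  invo : ∀ s ∈ T, s * s = 1 → s ∈ Q ∨ s ∈ Q'
  cs' : ∀ s ∈ T, s ∉ Q' → Q' ⊓ C{s} = Z
  nt : ∀ g ∈ N[T], (g ∈ N[Q] ∧ g ∈ N[Q']) ∨ (cj g Q = Q' ∧ cj g Q' = Q)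
  syl : Syl 2 ⊤ S
  TS : T ≤ S
  SN : S ≤ N[T]
  e16 : ∀ A : Subgroup G, A ≤ S → EA A → 16 ≤ ♯A → A = Q ∨ A = Q'
  nml : ∀ X : Subgroup G, X ≤ S → EA X → T ≤ N[X] → X ≤ T
  cS : ♯S = 64 ∨ ♯S = 128 ∨ ♯S = 256

/-- ambient form of "symplectic type of small order" -/
def Sy (z : G) : Prop := z ≠ 1 ∧ z * z = 1 ∧
  (∀ X : Subgroup G, X ≤ O[{2}, C{z}] → EA X → C{z} ≤ N[X] → ♯X ≤ 2) ∧
  (♯O[{2}, C{z}] = 32 ∨ ♯O[{2}, C{z}] = 64 ∨ ♯O[{2}, C{z}] = 128)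

end H27.K3A
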