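import Mathlib
import Cfsg.Agent.H13.DihBI1
import Cfsg.Agent.H1.QP3
import Cfsg.Agent.H2.QSch

/-! Subgroups all of whose 2-subgroups are cyclic or dihedral, seen from the ambient group. -/

set_option autoImplicit false
set_option linter.unusedSectionVars false

namespace H27.QDL

open H24 H26 Cfsg Subgroup H13.Dih

universe u

variable {G : Type u} [Group G] [Finite G] {L E P : Subgroup G} {t i : G}

theorem res_sub (L : Subgroup G) : (res L).subgroupOf L = res (⊤ : Subgroup L) :=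
  le_antisymm (le_res le_top (by rw [← subgroupOf_comm (res_le L) (res_le L), res_perfect]))
    fun _ hx => mem_subgroupOf.2 (le_res (map_subtype_le _)
      (by rw [← map_commutator, res_perfect]) (mem_map_of_mem L.subtype hx))

theorem C_sub (h : E ≤ L) : C[E.subgroupOf L] = C[E].subgroupOf L := by
  ext x
  rw [mem_subgroupOf, mem_C, mem_C]
  exact ⟨fun H y hy => congrArg Subtype.val (H ⟨y, h hy⟩ hy), fun H y hy => Subtype.ext (H y hy)⟩

theorem four_sub {x y : L} : Four x y ↔ Four (x : G) y :=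
  ⟨fun h => ⟨(Subgroup.orderOf_coe x).trans h.ht, (Subgroup.orderOf_coe y).trans h.hs,
      fun e => h.ne (Subtype.ext e), congrArg Subtype.val h.comm⟩,
    fun h => ⟨(Subgroup.orderOf_coe x).symm.trans h.ht, (Subgroup.orderOf_coe y).symm.trans h.hs,
      fun e => h.ne (congrArg Subtype.val e), Subtype.ext h.comm⟩⟩

theorem sup_val {A : Subgroup L} (h : E ≤ L) {x : L} (hx : x ∈ A ⊔ C[E.subgroupOf L]) :
    (x : G) ∈ A.map L.subtype ⊔ C[E] := by
  have := mem_map_of_mem L.subtype hx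
  rw [Subgroup.map_sup, C_sub h] at this
  exact sup_le_sup_left (map_comap_le _ _) _ this

theorem norm_sub (h : E ⊴ L) (x : L) : x ∈ N[E.subgroupOf L] :=
  (nml_top_iff.2 h.normal).norm (mem_top x)

theorem comp0 (hG : CD G) (hs : ¬ Sol L) (ht : orderOf t = 2) (htL : t ∈ L)
    (hc : t ∈ C[O[{2}ᶜ, L]]) : res L ≤ C[O[{2}ᶜ, L]] ∧ QS (res L) := by
  have hK := pcore_nml {2}ᶜ L
  have hKo := odd_pcore L
  have hgw := H1.QP.gw_res hG hs
  have h1 : res L ≤ C[O[{2}ᶜ, L]] := by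
    obtain ⟨hE, hC⟩ := qs_res (hG.qn _) (pcore_quo_pcore _ L) (by
      rw [← quo_res hK.norm]
      exact hgw.quo ((res_le L).trans hK.norm) hKo)
    have hD := hK.infC
    have hD' := hD.quo O[{2}ᶜ, L]
    rcases hE.le_or ((res_le _).trans hD'.norm) (hD'.le.trans (res_nml _).norm) with e | e
    · exact absurd (mem_bot.1 (hC ▸ le_inf e hD'.le (cs_mem_quo ⟨htL, hc⟩ (hK.norm htL))))
        (ne_one_of (two_cs hKo ht (hK.norm htL)))
    · rw [← quo_res hK.norm, quo_le_quo_iff ((res_le L).trans hK.norm) (hD.le.trans hK.norm)] at e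
      refine le_trans ?_ (inf_le_right : L ⊓ C[O[{2}ᶜ, L]] ≤ _)
      have h2 := (res_le L).trans hD.norm
      rw [← quo_eq_bot h2]
      refine eq_bot_of_perfect (by rw [← quo_comm h2 h2, res_perfect])
        (((sol_of_odd hKo).quo _).of_le ?_)
      rw [← quo_sup_left (hK.le.trans hD.norm)]
      exact quo_mono _ e
  exact ⟨h1, qs_of_gw hG (res_perfect L) (((res_nml L).pcore_le _).trans (cents_symm h1)) hgw⟩

theorem cd_ex (hL : CD L) (hP : IsPi {2} P) (hPL : P ≤ L) :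
    ∃ a ∈ P, ∀ g ∈ P, g ∉ zpowers a → g * g = 1 ∧ g * a * g⁻¹ = a⁻¹ := by
  obtain ⟨a, ha, H⟩ := hL.ex (isPi_subgroupOf hP L)
  refine ⟨a, ha, fun g hg hn => ?_⟩
  obtain ⟨h1, h2, -⟩ := H ⟨g, hPL hg⟩ hg fun ⟨k, e⟩ => hn ⟨k, congrArg Subtype.val e⟩
  exact ⟨congrArg Subtype.val h1, congrArg Subtype.val h2⟩

theorem sq_mem_comm (hL : CD L) (hi : i ∈ L) (h2 : PiElt {2} i) (h1 : i * i ≠ 1) {v w : G}
    (hf : Four v w) (hV : V4 v w ≤ L) : i * i ∈ ⁅L, L⁆ := by
  obtain ⟨P, hP, hiP⟩ := Sylow_superset Nat.prime_two h2.isPi (zpowers_le.2 hi)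
  obtain ⟨a, -, H⟩ := cd_ex hL hP.pi hP.le
  obtain ⟨x, hx, hxa⟩ : ∃ x ∈ P, x ∉ zpowers a := by
    by_contra! e
    obtain ⟨g, -, hg⟩ := Sylow_subJ Nat.prime_two hP hf.V_pi hV
    exact hf.V_ncyc ((((cyc_zpowers a).of_le e).cj g).of_le hg)
  have hia : i ∈ zpowers a := by
    by_contra e
    exact h1 (H i (hiP (mem_zpowers i)) e).1
  have := commutator_mem_commutator hi (hP.le hx)
  rwa [commutatorElement_def, mul_assoc, mul_assoc, ← mul_assoc x,
    inv_zpowers (H x hx hxa).2 _ (inv_mem hia), inv_inv] at this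

theorem le_C_sq (hL : CD L) (hP : IsPi {2} P) (hPL : P ≤ L) (hi : i ∈ P) (h : orderOf (i * i) = 2) :
    P ≤ C{i * i} := fun g hg => by
  obtain ⟨a, -, H⟩ := cd_ex hL hP hPL
  have hia : i ∈ zpowers a := by
    by_contra e
    exact ne_one_of h (H i hi e).1
  by_cases e : g ∈ zpowers a
  · exact mem_C1.2 ((cyc_zpowers a).abl.comm e (mul_mem hia hia))
  · exact mem_C1_iff_conj.2 ((inv_zpowers (H g hg e).2 _ (mul_mem hia hia)).trans (inv_of h))

theorem schur0 (hE : QS E) (h : IsL2 (E ⧸ oddCore E)) (h4 : ∀ P ≤ E, IsPi {2} P → ♯P ≤ 4) :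
    E ⊓ C[E] = ⊥ := by
  classical
  obtain ⟨F, _, _, h1, -, ⟨e⟩⟩ := h
  have h2 : (2 : F) ≠ 0 := by
    rcases H16.two_cases (F := F) rfl with ⟨-, h, -⟩ | ⟨h, -⟩
    · exact absurd h (Nat.odd_iff.1 h1 ▸ one_ne_zero)
    · exact h
  let φ := e.trans (H16.pslPH F)
  let f : E →* H16.PGa F := (H16.PH F).subtype.comp (φ.toMonoidHom.comp (QuotientGroup.mk' _))
  have hk : ∀ x : E, f x = 1 ↔ x ∈ oddCore E := fun x => by
    rw [← QuotientGroup.eq_one_iff, ← map_eq_one_iff φ φ.injective]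
    exact OneMemClass.coe_eq_one
  have hC : pre f ⊥ ≤ C[E] := fun x hx => by
    obtain ⟨h3, h5⟩ := mem_pre_bot.1 hx
    rw [ap_of_mem f h3] at h5
    exact H22.KA.oddCore_le hE ((hk _).1 h5)
  rcases H2.QD.sch_psl h2 f (by
    rw [MonoidHom.range_comp, MonoidHom.range_eq_top.2
      (φ.surjective.comp (QuotientGroup.mk'_surjective _)), map_subtype_top]) hE.perfect hC
    (odd_of_le hE.oddC hC) with h3 | ⟨h3, -⟩
  · rw [eq_bot_iff, ← h3]
    intro x hx
    have h5 := le_O (odd_of_le hE.oddC inf_le_right) (Nml.refl E).infC hx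
    rw [← map_subtype_top E, pcore_map_subtype, pcore_compl_singleton_top Nat.prime_two] at h5
    obtain ⟨y, hy, rfl⟩ := h5
    exact mem_pre_bot.2 ⟨y.2, (ap_coe f y).trans ((hk y).2 hy)⟩
  · obtain ⟨P, hP⟩ := Sylow_exists Nat.prime_two E
    have h5 := H16.card_psl_two' (F := F)
    rw [h3, ← Nat.card_congr e.toEquiv] at h5
    have h6 : 2 ^ 3 ∣ ♯E := by
      rw [card_eq_card_quotient_mul_card_subgroup (oddCore E)]
      refine Dvd.dvd.mul_right ?_ _
      norm_num at h5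
      omega
    have h7 := Nat.le_of_dvd Nat.card_pos (hP.dvd_card (piNat_self_pow Nat.prime_two 3) h6)
    have := h4 P hP.le hP.pi
    omega

end H27.QDL
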