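import Mathlib
import Cfsg.Agent.H13.DihBI1
import Cfsg.Agent.H2.QCL
import Cfsg.Agent.H2.QFC
import Cfsg.Agent.H2.QB3
import Cfsg.Agent.H2.QDL

/-! The component centralising `C_P(s)` (quasi-dihedral case). -/

set_option autoImplicit false
set_option linter.unusedSectionVars false

namespace H27.QN

open H24 H26 Cfsg Subgroup H2.QD H13.Dih

universe u

variable {G : Type u} [Group G] [Finite G] {c : QC G} {M : Mod c} {X Y E A L : Subgroup G}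
  {p q : ℕ} {x y z : G}

theorem not_sol (c : QC G) [IsSimpleGroup G] : ¬ Sol (⊤ : Subgroup G) := fun hs => by
  have h1 := hs.der1_lt top_ne_bot
  have h2 := (IsSimpleGroup.eq_bot_or_eq_top_of_normal ⁅(⊤ : Subgroup G), ⊤⁆
    inferInstance).resolve_right h1.ne
  have h3 := (der1_eq_bot.1 h2).comm (mem_top c.i) (mem_top c.s)
  have h4 := c.i_s
  rw [h3, mul_inv_cancel_right] at h4
  exact c.four.ts_ne_s h4.symm

theorem t_mem_N (hX : X ≤ F[c.U]) : c.t ∈ N[X] :=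
  C_le_N X (mem_C_iff_le_C1.2 (hX.trans (FU_nml c.t).le))

theorem inv_q (M : Mod c) (h5 : 5 ≤ M.N.q) (hX : X ≤ F[c.U]) (hq : q.Prime) (hq2 : q ≠ 2)
    (hn : q ∉ primesOf F[c.U]) : Inv c.t O[{q}, N[X]] := by
  have hF : IsPi {q}ᶜ F[c.U] := (isPi_compl_iff hq).2 fun e => hn ⟨hq, e⟩
  have hQ := pcore_nml {q} N[X]
  have hQo := odd_of_pi hq2 (pcore_pi {q} N[X])
  have hi := hF.inf_eq_bot' (pcore_pi {q} N[X])
  refine inv_of_inf_C hQo (sq_of c.four.ht) (hQ.norm (t_mem_N hX)) ?_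
  have h1 : O[{q}, N[X]] ⊓ C{c.t} ≤ N[F[c.U]] := inf_le_right.trans (FU_nml c.t).norm
  have h2 := cent_of_cent_norm (Fitting_nil _) h1 (hF.coprime' ((pcore_pi _ _).inf_left _)) hX (by
    rw [← comm_eq_bot, eq_bot_iff, ← hi]
    exact le_inf ((comm_mono_left inf_le_left).trans (comm_le_left h1))
      ((comm_mono_right inf_le_left).trans (comm_le_right (inf_le_right.trans hQ.norm))))
  refine M.eq_bot_of_cent h5 (odd_of_le hQo inf_le_left) inf_le_right h2 ?_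
    (norm_inf ((inf_le_left.trans ((C_anti hX).trans (C_le_N X))).trans hQ.norm)
      (norm_of_le inf_le_right))
  rw [eq_bot_iff, ← hi]
  exact fun x hx => ⟨hx.2, hx.1.1⟩

theorem cent_q (h : H2.QD.MC M) (hH : IsCoatom c.H) (hX : X ≤ F[c.U]) (hq : q ∈ primesOf F[c.U]) :
    O[{q}, N[X]] ≤ C{c.t} :=
  have := h.simple
  bi_cent (not_sol c) c.four.ht hH hq (inf_le_right.trans ((C_anti hX).trans (C_le_N X)))
    (t_mem_N hX)

theorem cent_or_inv (h : H2.QD.MC M) (hH : IsCoatom c.H) (hX : X ≤ F[c.U]) (hq : q.Prime)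
    (hq2 : q ≠ 2) : O[{q}, N[X]] ≤ C{c.t} ∨ Inv c.t O[{q}, N[X]] := by
  by_cases hn : q ∈ primesOf F[c.U]
  · exact Or.inl (cent_q h hH hX hn)
  · exact Or.inr (inv_q M h.q5 hX hq hq2 hn)

theorem t_mem_of_i (hT : c.T ≤ N[Y]) (hi : c.i ∈ N[Y]) (h : ¬ Odd ♯Y) : c.t ∈ Y := by
  obtain ⟨v, hv, h1⟩ := c.mem_T_of_norm hT h
  rcases c.four.mem_V.1 hv.1 with e | e | e | e
  · exact absurd e h1
  · exact e ▸ hv.2
  · have h2 := conj_mem hi hv.2
    rw [e, c.i_s] at h2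
    exact (mul_mem_cancel_right (e ▸ hv.2)).1 h2
  · have h2 := conj_mem hi hv.2
    rw [e, c.i_ts] at h2
    exact (mul_mem_cancel_right h2).1 (e ▸ hv.2)

/-- `C_P(s)` -/
abbrev XX (c : QC G) (p : ℕ) : Subgroup G := PP p c.t ⊓ C{c.s}

theorem XX_le (hp : p.Prime) : XX c p ≤ F[c.U] := inf_le_left.trans (PP_le_F hp c.t)

theorem CT_le : c.CT ≤ N[XX c p] := CV_le_N c.t c.s (PP_nml p c.t)

theorem T_le : c.T ≤ N[XX c p] := c.T_le_CT.trans CT_le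

theorem i_mem_H : c.i ∈ C{c.t} := mem_C1_iff_conj.2 c.i_t

theorem i_mem : c.i ∈ N[XX c p] := mem_N_of_finite fun x hx => by
  have h1 := (PP_nml p c.t).conj_mem i_mem_H hx.1
  have h2 := conj_mem_cj c.i hx.2
  rw [cj_C1, c.i_s] at h2
  exact ⟨h1, c.four.C_of_ts ((PP_nml p c.t).le h1) h2⟩

theorem XX_le_O : XX c p ≤ 𝒪[N[XX c p]] := le_O (odd_of_le (PP_odd p c.t) inf_le_left) (nml_N _)

theorem p_ne_two (h1 : XX c p ≠ ⊥) : p ≠ 2 := by
  rintro rfl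
  exact h1 (eq_bot_iff.2 (inf_le_left.trans
    ((pcore_pi _ _).eq_bot ((pcore_pi _ _).of_le (pcore_le _ _))).le))

theorem step1 (h : H2.QD.MC M) (hH : IsCoatom c.H) (hp : p.Prime) (h1 : XX c p ≠ ⊥)
    (hy : y ∈ PP p c.s ⊓ C[XX c p]) (hy1 : y ≠ 1) (hi : c.t * y * c.t⁻¹ = y⁻¹) :
    c.t ∈ C[𝒪[N[XX c p]]] := by
  have hyo := odd_orderOf (PP_odd p c.s) hy.1
  have hyN := C_le_N _ hy.2
  have hO := pcore_nml {2}ᶜ N[XX c p]
  have a1 : y ∈ C[F[𝒪[N[XX c p]]]] := mem_C_iff_le_C1.2 (Fitting_le_of_pcore_le fun q hq hd => by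
    have hq2 : q ≠ 2 := by
      rintro rfl
      exact (isPi_compl_iff hq).1 ((pcore_pi _ _).of_le (Fitting_le _)) hd
    refine (hO.pcore_le _).trans (mem_C_iff_le_C1.1 ?_)
    have hQ := (pcore_nml {q} N[XX c p]).norm
    rcases cent_or_inv h hH (XX_le hp) hq hq2 with e | e
    · exact ((comm_mono_right (zpowers_le.2 (mem_C_iff_le_C1.2 e))).trans
        (comm_le_right (norm_C hQ))) (mem_comm_of_inv hyN hyo hi)
    · exact e.comm_le_C (sq_of c.four.ht) hQ (mem_comm_of_inv hyN hyo hi))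
  have a2 : y ∉ 𝒪[N[XX c p]] := fun e => by
    have a3 := cent_sub_Fitting (sol_of_odd (odd_pcore _)) ⟨e, a1⟩
    have a4 := (hO.pcore_le _) (le_pcore_of_le_Fitting ((pcore_pi _ _).piElt hy.1).isPi
      (zpowers_le.2 a3) (mem_zpowers y))
    exact ne_one_C hyo hy1 hi (cent_q h hH (XX_le hp) ⟨hp, (pcore_ne_bot_iff_dvd_Fitting hp).1
      (ne_bot_of_le h1 inf_le_left)⟩ a4)
  have hC := hO.Fitting.infC
  have a3 := t_mem_of_i (T_le.trans hC.norm) (hC.norm i_mem) fun e => a2 (le_O e hC ⟨hyN, a1⟩)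
  exact coprime_cent_Fitting (zpowers_le.2 (hO.norm (T_le Four.t_mem)))
    (cop_zp (odd_pcore _) c.four.ht) (sol_of_odd (odd_pcore _)) ⟨mem_zpowers _, a3.2⟩

theorem step2 (h : H2.QD.MC M) (hL : L ≠ ⊤) (hT : c.CT ≤ L) (hi : c.i ∈ L) (hO : 𝒪[L] ≠ ⊥)
    (ht : c.t ∈ C[𝒪[L]]) (hn : ¬ L ≤ C{c.t}) : CD L := by
  refine (h.cov hL hT).resolve_right ?_
  rintro ⟨g, hg, hB⟩
  have h1 := (h.cj g).iso hL hB hO
  have h2 : (c.cj g).t = c.t := c.cl_eq_t hi (c.T_le_CT.trans hT)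
    (by rw [c.cj_t]; exact conj_mem hg Four.t_mem) (ne_one_of (c.cj g).four.ht) h1
  rw [QC.H, h2] at h1
  exact hn (h1.trans (sup_le (mem_C_iff_le_C1.1 ht) inf_le_right))

theorem exists_de (h : H2.QD.MC M) (hH : IsCoatom c.H) (hp : p.Prime) (h1 : XX c p ≠ ⊥)
    (h2 : ¬ PP p c.t ≤ C{c.s}) : CD N[XX c p] ∧ ∃ A, DE c N[XX c p] (res N[XX c p]) A := by
  obtain ⟨y, hy, hy1, hi⟩ := c.bi_elt hp h2
  have hyo := odd_orderOf (PP_odd p c.s) hy.1
  have ht := step1 h hH hp h1 hy hy1 hi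
  have hc := step2 h (h.N_ne_top' h1 (odd_of_le (PP_odd p c.t) inf_le_left)) CT_le i_mem
    (ne_bot_of_le h1 XX_le_O) ht fun e => ne_one_C hyo hy1 hi (e (C_le_N _ hy.2))
  exact ⟨hc, exists_DE c hc (not_sol_of hc c.four T_le ht ⟨C_le_N _ hy.2, (PP_nml p c.s).le hy.1⟩
    hyo hy1 hi) (Or.inr i_mem) ht (XX_le hp) inf_le_right fun e => h2 ((PP_le_F hp c.t).trans e)⟩

theorem split (D : DE c L E A) (hsL : c.s ∈ L) (hsE : c.s ∈ E) (hz : z ∈ A ⊔ C[E])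
    (hs : c.s ∈ N[Y]) (hzY : z ∈ Y) (ho : Odd (orderOf z)) :
    ∃ a ∈ Y ⊓ A, ∃ b ∈ Y ⊓ C[E], z = a * b := by
  have hAE := D.A_le.trans inf_le_left
  obtain ⟨a, ha, b, hb, rfl⟩ := (mem_sup_of_norm (norm_of_cent (C_anti hAE))).1 hz
  have hab : b * a = a * b := comm_of_cent (C_anti hAE) hb ha
  have h1 : c.s * (a * b) * c.s⁻¹ = a⁻¹ * b := by
    rw [← conj_mul, D.inv _ hsL c.four a ha, mem_C1_iff_conj.1 (mem_C1_comm.1 (C_le_C1 hsE hb))]
  have h2 : PiElt {2}ᶜ (a * b * b⁻¹) := (piElt_odd.2 ho).mul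
    (piElt_odd.2 (odd_orderOf D.qs.oddC hb)).inv (by
      rw [mul_inv_cancel_right, ← hab, inv_mul_cancel_left])
  rw [mul_inv_cancel_right] at h2
  have h3 : a ∈ Y := zpowers_le.2 (show a * a ∈ Y by
    have := mul_mem hzY (inv_mem (h1 ▸ conj_mem hs hzY : a⁻¹ * b ∈ Y))
    rwa [mul_inv_rev, inv_inv, mul_assoc, mul_inv_cancel_left] at this)
    (mem_zpowers_sq (piElt_odd.1 h2))
  exact ⟨a, ⟨h3, ha⟩, b, ⟨(mul_mem_cancel_left h3).1 hzY, hb⟩, rfl⟩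

theorem mem_C_of (D : DE c L E A) (hsL : c.s ∈ L) (hsE : c.s ∈ E) (hz : z ∈ A ⊔ C[E])
    (ho : Odd (orderOf z)) (hc : z ∈ C{c.s}) : z ∈ C[E] := by
  obtain ⟨a, ha, b, hb, rfl⟩ := split (Y := zpowers z) D hsL hsE hz
    (C_le_N _ (by rw [C_zpowers]; exact mem_C1_comm.1 hc)) (mem_zpowers z) ho
  rw [(D.inv _ hsL c.four).eq_one ha.2 (odd_orderOf (by rwa [card_zpowers']) ha.1)
    (zpowers_le.2 hc ha.1), one_mul]
  exact hb.2

theorem le_of_index (hL : Y ⊴ L) (h : Y.relIndex L ≤ 2) : ⁅L, L⁆ ≤ Y := by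
  have h0 : Y.relIndex L ≠ 0 := index_ne_zero_of_finite
  by_cases e : Y.relIndex L = 1
  · exact (der1_le L).trans (relIndex_eq_one.1 e)
  · exact der1_le_of_relIndex_prime hL (by rw [show Y.relIndex L = 2 by omega]; exact Nat.prime_two)

/-- the configuration -/
structure NH (M : Mod c) (p : ℕ) (E A : Subgroup G) : Prop where
  mc : H2.QD.MC M
  co : IsCoatom c.H
  hp : p.Prime
  ne : XX c p ≠ ⊥
  nle : ¬ PP p c.t ≤ C{c.s}
  cd : CD N[XX c p]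
  de : DE c N[XX c p] E A

namespace NH

variable (B : NH M p E A)
include B

theorem T_E : c.T ≤ E := (B.de.two M B.mc.q5 B.cd CT_le i_mem).2.1

theorem tE : c.t ∈ E := B.T_E Four.t_mem

theorem sE : c.s ∈ E := B.T_E Four.s_mem

theorem X_le : XX c p ≤ C[E] := (XX_le_O.trans B.de.cent.ge).trans inf_le_right

theorem E_le : E ≤ N[XX c p] := norm_of_cent (cents_symm B.X_le)

theorem not_Q_le : ¬ c.Q ≤ N[XX c p] := fun e => c.not_cd_Q (H8.QC.CD.mono B.cd e)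

theorem not_cov : ¬ M.L ≤ img M.κ C[PP p c.t] := fun e => B.not_Q_le
  ((M.Q_le_of_cov e (norm_C ((c.Q_le_S.trans c.S_le_H).trans (PP_nml p c.t).norm))).trans
    ((C_anti inf_le_left).trans (C_le_N _)))

theorem P1_le : PP p c.t ⊓ N[XX c p] ≤ (PP p c.t ⊓ A) ⊔ XX c p := fun z hz => by
  obtain ⟨a, ha, b, hb, rfl⟩ := split B.de (T_le Four.s_mem) B.sE
    (B.de.F_le ⟨PP_le_F B.hp _ hz.1, hz.2⟩) ((PP_nml p c.t).norm c.four.s_mem_C) hz.1
    (odd_orderOf (PP_odd p c.t) hz.1)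
  exact mul_mem_sup ha ⟨hb.1, C_le_C1 B.sE hb.2⟩

theorem X_lt : XX c p < PP p c.t := inf_le_left.lt_of_ne fun e => B.nle (e.ge.trans inf_le_right)

theorem A0_ne : PP p c.t ⊓ A ≠ ⊥ := fun e => by
  have h1 := ((pcore_pi {p} (UU c.t)).nil B.hp).proper_norm B.X_lt
  have h2 := B.P1_le
  rw [e, bot_sup_eq] at h2
  exact h1.not_ge h2

theorem AE : A ≤ E := B.de.A_le.trans inf_le_left

theorem res_eq (X : Subgroup G) : X ≤ XX c p → X ≠ ⊥ → res N[X] = E := by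
  induction X using subgroup_ind_up with | h X ih => ?_
  intro hX hX1
  rcases hX.eq_or_lt with rfl | hlt
  · exact B.de.eq.symm
  have hE := B.de.qs
  have hXF := hX.trans (XX_le B.hp)
  have hL := B.mc.N_ne_top' hX1 (odd_of_le (FU_odd c.t) hXF)
  have hEL : E ≤ N[X] := norm_of_cent (cents_symm (hX.trans B.X_le))
  have hO := pcore_nml {2}ᶜ N[X]
  have hOE : 𝒪[N[X]] ⊓ E ≤ C[E] := (hE.nml _ (hO.inf_right hEL)).resolve_right fun e =>
    not_mem_of_odd (odd_pcore N[X]) c.four.ht (e.ge B.tE).1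
  rcases B.mc.cl hL (B.T_E.trans hEL) with ⟨v, hv, h1, h2⟩ | ⟨L0, h1, h2, h3, h4⟩ | ⟨-, -, -, h4⟩
  · exfalso
    have h3 := H8.QC.comm_core h2 (hEL (B.T_E hv))
    have h4 : ⁅E, zpowers v⁆ ≤ E ⊓ C[E] := by
      have h5 : ⁅E, zpowers v⁆ ≤ E := comm_le_left (zpowers_le.2 (norm_self E (B.T_E hv)))
      exact le_inf h5 ((le_inf ((comm_mono_left hEL).trans h3) h5).trans hOE)
    rw [(B.de.two M B.mc.q5 B.cd CT_le i_mem).2.2.2.2.1, le_bot_iff, comm_eq_bot'] at h4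
    exact not_mem_of_odd hE.oddC (c.four.V_two hv h1) (h4 (mem_zpowers v))
  · have hE0 : E ≤ L0 := hE.perfect.ge.trans ((der1_mono hEL).trans (le_of_index h1 h2))
    have hEE := le_res hE0 hE.perfect
    have ht : c.t ∈ C[𝒪[N[X]]] := cent_O_of c.four.ht (hEL B.tE) fun q hq hq2 => by
      refine (cent_or_inv B.mc B.co hXF hq hq2).elim id fun i => ?_
      have key : ∀ v ∈ E, orderOf v = 2 → Inv v O[{q}, N[X]] := fun v hv h2 => by
        obtain ⟨e, he, rfl⟩ := hE.conj c.t B.tE v hv c.four.ht h2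
        exact i.conj ((pcore_nml _ _).norm (hEL he))
      have := (key _ B.sE c.four.hs).mul_mem_C (key _ (mul_mem B.tE B.sE) c.four.hts)
      rwa [c.four.s_ts, mem_C_iff_le_C1] at this
    have hF : F[c.U] ⊓ N[X] ≤ L0 := fun z hz => h4 z hz.2 (Or.inr (odd_orderOf (FU_odd c.t) hz.1))
    obtain ⟨A', D⟩ := exists_DE c h3 (fun e => hE.not_sol (e.of_le hE0)) (Or.inl (hEE B.tE))
      (C_anti (h1.pcore_le _) ht) hXF hF fun e => B.nle ((PP_le_F B.hp c.t).trans e)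
    have h5 := (((pcore_pi {p} (UU c.t)).nil B.hp).of_le inf_le_left).proper_norm hlt
    have h6 : XX c p ⊓ N[X] ≤ C[res L0] := fun z hz => by
      have hz' := XX_le B.hp hz.1
      exact mem_C_of D (hE0 B.sE) (hEE B.sE) (D.F_le ⟨hz', hF ⟨hz', hz.2⟩⟩)
        (odd_orderOf (FU_odd c.t) hz') hz.1.2
    have h7 := le_res (norm_of_cent (cents_symm h6)) (res_perfect L0)
    rw [ih _ h5 inf_le_left (ne_bot_of_gt h5)] at h7
    exact le_antisymm ((le_res ((res_perfect _).ge.trans ((der1_mono (res_le _)).trans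
      (le_of_index h1 h2))) (res_perfect _)).trans h7) (le_res hEL hE.perfect)
  · exfalso
    have h5 := h4 c.t Four.t_mem (ne_one_of c.four.ht)
    have h6 : PP p c.t ⊓ A ≤ 𝒪[N[X] ⊓ C{c.t}] :=
      (le_inf (le_inf (inf_le_right.trans (B.AE.trans hEL)) (inf_le_left.trans (PP_nml p c.t).le))
        inf_le_left).trans (le_O (odd_of_le (PP_odd p c.t) inf_le_right)
          ((PP_nml p c.t).inf_left inf_le_right))
    have h7 := (((B.de.inv _ (T_le Four.s_mem) c.four).of_le (inf_le_right (a := PP p c.t))).comm_eq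
      (odd_of_le (PP_odd p c.t) inf_le_left)).ge.trans
      ((commutator_mono h6 (zpowers_le.2 Four.s_mem)).trans h5)
    refine B.A0_ne (eq_bot_iff.2 ?_)
    rw [← B.de.inf]
    exact le_inf inf_le_right ((le_inf h7 (inf_le_right.trans B.AE)).trans hOE)

theorem N_le (hX : X ≤ XX c p) (h1 : X ≠ ⊥) : N[X] ≤ N[E] := B.res_eq X hX h1 ▸ (res_nml _).norm

theorem le_E (hX : X ≤ XX c p) (h1 : X ≠ ⊥) (hY : ⁅Y, Y⁆ = Y) (hc : X ≤ C[Y]) : Y ≤ E :=
  B.res_eq X hX h1 ▸ le_res (norm_of_cent (cents_symm hc)) hY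

theorem X_eq : PP p c.t ⊓ C[E] = XX c p :=
  le_antisymm (inf_le_inf_left _ (C_le_C1 B.sE)) (le_inf inf_le_left B.X_le)

theorem mem_N (hx : x ∈ C{c.t}) (h : x ∈ N[E]) : x ∈ N[XX c p] := B.X_eq ▸ zpowers_le.1 (norm_inf
  (zpowers_le.2 ((PP_nml p c.t).norm hx)) (norm_C (zpowers_le.2 h)))

theorem C_le (hx : x ∈ XX c p) (h1 : x ≠ 1) : PP p c.t ⊓ C{x} ≤ PP p c.t ⊓ N[XX c p] :=
  fun z hz => ⟨hz.1, B.mem_N ((PP_nml p c.t).le hz.1) (B.N_le (zpowers_le.2 hx)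
    (zpowers_ne_bot.2 h1) (C_le_N _ (by rw [C_zpowers]; exact hz.2)))⟩

theorem X_cyc : Cyc (XX c p) := by
  obtain ⟨g, hg, h1, h2⟩ : ∃ g ∈ C{c.t}, g ∉ N[XX c p] ∧ g ∈ N[PP p c.t ⊓ N[XX c p]] := by
    by_cases e : PP p c.t ≤ N[XX c p]
    · obtain ⟨g, hg, h1⟩ := SetLike.not_le_iff_exists.1 B.not_Q_le
      have hg' := c.S_le_H (c.Q_le_S hg)
      exact ⟨g, hg', h1, by rw [inf_of_le_left e]; exact (PP_nml p c.t).norm hg'⟩
    · obtain ⟨g, hg, h1⟩ := SetLike.exists_of_lt (((pcore_pi {p} (UU c.t)).nil B.hp).proper_norm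
        (K := PP p c.t ⊓ N[XX c p]) (inf_lt_left.2 e))
      exact ⟨g, (PP_nml p c.t).le hg.1, fun e' => h1 ⟨hg.1, e'⟩, hg.2⟩
  have h3 := cj_le_of_mem_N (le_inf inf_le_left (norm_self (XX c p))) h2
  have h4 : XX c p ⊓ cj g (XX c p) = ⊥ := by
    by_contra e
    exact h1 (B.mem_N hg (mem_N_of_cj_le (B.le_E inf_le_left e
      (by rw [← cj_comm, B.de.qs.perfect]) (inf_le_right.trans (cent_cj B.X_le g)))))
  have h5 : PP p c.t ⊓ A ≤ N[XX c p] := inf_le_right.trans (B.AE.trans B.E_le)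
  exact cyc_cj.1 (cyc_of_quo (h3.trans inf_le_right) h4 (((B.de.cyc.of_le inf_le_right).quo _).of_le
    ((quo_le_quo_iff (h3.trans inf_le_right) h5).2 (h3.trans B.P1_le))))

theorem D_cent : PP p c.t ⊓ N[XX c p] ≤ C[⁅c.R, zpowers c.i⁆] := by
  have h1 := (B.de.two M B.mc.q5 B.cd CT_le i_mem).1
  refine B.P1_le.trans (sup_le ((inf_le_right.trans B.AE).trans (cents_symm h1)) (cents_symm ?_))
  exact (commutator_mono ((pcore_le _ _).trans CT_le) (zpowers_le.2 i_mem)).trans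
    (H25.cyc_der1_norm_le_cent B.X_cyc le_rfl)

end NH

end H27.QN
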