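import Mathlib
import Cfsg.Agent.H27.HNI3
import Cfsg.Agent.H3.B71Defs

/-!
# Uniqueness of the double cover of `HS` and the standard configuration
-/

set_option autoImplicit false
set_option linter.unusedSectionVars false
set_option maxRecDepth 100000

namespace H27.HN

open H29 H15.KM H24 Subgroup Cfsg

theorem Ext.good' {C : Type*} [Group C] {π : C →* A} {z : C} (h : Ext π z) [Finite C]
    (h0 : ¬ Q π (mA 0)) (h1 : Q π (mA 16)) : ∃ φ : C ≃* K, φ z = m 5 ∧ ∀ a, ψ (φ a) = π a := by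
  obtain ⟨φ, hφ⟩ := h.iso extK fun a k hk h2 => by
    obtain ⟨r, a1, a2, -, a3, -⟩ := h.Q_ty (Ext.clsA (hk ▸ h2))
    have a4 : m 0 * m 0 ≠ 1 := by simpa using mod_m.ne (u := [0, 0]) (v := [])
    rw [← h.Q_iff, hk, a2, a3]
    simp only [List.mem_cons, List.not_mem_nil, or_false] at a1
    rcases a1 with rfl | rfl | rfl | rfl | rfl | rfl | rfl <;>
      simp [h.Q1.1, h.Q1.2, h.Q23, mA24, h0, h1, h.Q25, mod_m.e99, mod_m.sq 5, mod_m.sq 23, mod_m.sq 24,
        mod_m.sq 16, mod_m.sq 25, a4]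
  exact ⟨φ, (ker5 ((hφ z).trans h.πz)).resolve_left (by simpa using h.ne), hφ⟩

theorem exists_F {M : Type*} [Group M] [Finite M] {p : M →* A} {z : M} (h1 : z ≠ 1)
    (a1 : p.range = H0) (a2 : ∀ μ, p μ = 1 ↔ μ = 1 ∨ μ = z) (a4 : commutator M = ⊤) :
    ∃ F : K → M, (∀ k l, ψ k ∈ H0 → ψ l ∈ H0 → F (k * l) = F k * F l) ∧
      (∀ k, ψ k ∈ H0 → p (F k) = ψ k) ∧ F (m 5) = z := by
  classical
  have pz : p z = 1 := (a2 z).2 (.inr rfl)
  have z2 : z * z = 1 := ((a2 _).1 (by simp [pz])).resolve_right (by simpa using h1)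
  have zc : ∀ c, c * z = z * c := fun c =>
    mul_inv_eq_iff_eq_mul.1 (((a2 _).1 (by simp [pz])).resolve_left (by simpa using h1))
  have b2 : mA 16 * mA 16 = 1 := by rw [mA, ← map_mul, mod_m.sq 16, map_one]
  have hN := normal_of_index_eq_two H0_index.1
  have pH : ∀ μ, p μ ∈ H0 := fun μ => a1 ▸ ⟨μ, rfl⟩
  let B : ℤˣ → A := fun q => if q = 1 then 1 else mA 16
  have B1 : B 1 = 1 := if_pos rfl
  have B2 : B (-1) = mA 16 := if_neg (by decide)
  let W : Subgroup ((M ≀ᵣ ℤˣ) × A) :=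
    { carrier := {w | ∀ q, p (w.1.left q) = (B q)⁻¹ * w.2 * B (w.1.right⁻¹ * q)}
      one_mem' := fun q => by simp
      mul_mem' := fun {a b} ha hb q => by
        simp only [Set.mem_setOf_eq] at ha hb
        simp [ha, hb, mul_assoc]
      inv_mem' := fun {a} ha q => by
        simp only [Set.mem_setOf_eq] at ha
        simp only [Prod.fst_inv, RegularWreathProduct.inv_left, Pi.inv_apply, map_inv, ha,
          RegularWreathProduct.inv_right, inv_inv, Prod.snd_inv, inv_mul_cancel_left]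
        group }
  have mW : ∀ w : W, ∀ q, p (w.1.1.left q) = (B q)⁻¹ * w.1.2 * B (w.1.1.right⁻¹ * q) := fun w => w.2
  let π : W →* A := (MonoidHom.snd _ _).comp W.subtype
  have hr : ∀ w : W, π w ∈ H0 → w.1.1.right = 1 := fun w hw => by
    have h2 := mW w 1 ▸ pH (w.1.1.left 1)
    rw [B1, inv_one, one_mul, mul_mem_cancel_left (show w.1.2 ∈ H0 from hw), mul_one] at h2
    refine (Int.units_eq_one_or _).resolve_right fun h3 => H0_index.2 ?_
    rwa [h3, show (-1 : ℤˣ)⁻¹ = -1 from rfl, B2] at h2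
  have hl : ∀ w : W, π w ∈ H0 → p (w.1.1.left 1) = π w := fun w hw => by
    rw [mW, hr w hw]; simp [B1, π]
  have πs : Function.Surjective π := fun a => by
    have : ∀ q, ∃ μ, p μ = (B q)⁻¹ * a * B ((if a ∈ H0 then 1 else -1 : ℤˣ)⁻¹ * q) := fun q => by
      refine (a1.ge (?_ : _ ∈ H0) :)
      have := H0_index.2
      by_cases h : a ∈ H0 <;> rcases Int.units_eq_one_or q with rfl | rfl <;>
        simp [mul_mem_iff_of_index_two H0_index.1, B1, B2, h, this]
    choose u hu using this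
    exact ⟨⟨(⟨u, _⟩, a), hu⟩, rfl⟩
  let n : W := ⟨(⟨fun _ => z, 1⟩, 1), fun q => by simp [pz]⟩
  let δ : W := ⟨(⟨fun q => if q = 1 then z else 1, 1⟩, 1), fun q => by
    by_cases h : q = 1 <;> simp [h, pz]⟩
  let σ : W := ⟨(⟨1, -1⟩, mA 16), fun q => by
    rcases Int.units_eq_one_or q with rfl | rfl <;> simp [B1, B2, b2]⟩
  have ex : ∀ w w' : W, π w = π w' → w.1.1.right = w'.1.1.right → w.1.1.left 1 = w'.1.1.left 1 →
      w.1.1.left (-1) = w'.1.1.left (-1) → w = w' := fun w w' c1 c2 c3 c4 =>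
    Subtype.ext (Prod.ext (RegularWreathProduct.ext (funext fun q => by
      rcases Int.units_eq_one_or q with rfl | rfl <;> assumption) c2) c1)
  have ker : ∀ w : W, π w = 1 → w = 1 ∨ w = n ∨ w = δ ∨ w = δ * n := fun w hw => by
    have c1 := hr w (hw ▸ one_mem _)
    have c2 : ∀ q, w.1.1.left q = 1 ∨ w.1.1.left q = z := fun q => (a2 _).1 (by
      rw [mW, c1, show w.1.2 = 1 from hw]; simp)
    rcases c2 1 with c3 | c3 <;> rcases c2 (-1) with c4 | c4
    · exact .inl (ex _ _ hw c1 c3 c4)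
    · exact .inr (.inr (.inr (ex _ _ (hw.trans (mul_one _).symm) c1 (by simp [c3, δ, n, z2])
        (by simp [c4, δ, n]))))
    · exact .inr (.inr (.inl (ex _ _ hw c1 (by simp [c3, δ]) (by simp [c4, δ]))))
    · exact .inr (.inl (ex _ _ hw c1 c3 c4))
  have n2 : n * n = 1 := ex _ _ (mul_one _) rfl z2 z2
  have hn : (zpowers n).Normal := ⟨fun a ha g => by
    rcases (mem_zp2 n2).1 ha with rfl | rfl
    · simp
    · rw [show g * n = n * g from ex _ _ ((mul_one _).trans (one_mul _).symm) (by simp [n])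
        (by simp [n, zc]) (by simp [n, zc])]; simp⟩
  have hm : ∀ w : W, (w : W ⧸ zpowers n) = 1 ↔ w = 1 ∨ w = n := fun w => by
    rw [QuotientGroup.eq_one_iff, mem_zp2 n2]
  have n1 : (n : W ⧸ zpowers n) = 1 := (hm n).2 (.inr rfl)
  let π' : W ⧸ zpowers n →* A := QuotientGroup.lift _ π (zpowers_le.2 rfl)
  have hE : Ext π' (δ : W ⧸ zpowers n) := ⟨fun a => (πs a).elim fun w hw => ⟨w, hw⟩, fun h => by
    rcases (hm δ).1 h with h | h
    · exact h1 (by simpa [δ] using congrArg (·.1.1.left 1) h)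
    · exact h1 (by simpa [δ, n] using (congrArg (·.1.1.left (-1)) h).symm), fun c => by
    induction c using QuotientGroup.induction_on with | H w => ?_
    refine ⟨fun h => ?_, by rintro (h | h) <;> rw [h]; exacts [map_one _, rfl]⟩
    rcases ker w h with rfl | rfl | rfl | rfl <;> simp [n1]⟩
  have hδ : (δ : W ⧸ zpowers n) ∉ commutator _ := fun h => hE.notQ0 h (by
    obtain ⟨u, hu⟩ : mA 0 ∈ p.range := a1 ▸ x_mem
    have c1 : mA 16 * mA 0 = mA 0 * mA 16 := by
      simpa using isoA.eqW.1 (by decide +kernel : eqW runA [16, 0] [0, 16] = true)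
    have c2 : mA 0 * mA 0 = 1 := by
      simpa using isoA.eqW.1 (by decide +kernel : eqW runA [0, 0] [] = true)
    let c : W := ⟨(⟨fun _ => u, 1⟩, mA 0), fun q => by
      rcases Int.units_eq_one_or q with rfl | rfl <;> simp [B1, B2, hu, mul_assoc, ← c1]⟩
    refine (hE.Q_iff (c : W ⧸ zpowers n)).2 ?_
    rw [← QuotientGroup.mk_mul, hm]
    exact ((a2 (u * u)).1 (by simp [hu, c2])).imp (fun h => ex _ _ c2 rfl h h) fun h => ex _ _ c2 rfl h h)
  let C := (commutator (W ⧸ zpowers n)).comap (QuotientGroup.mk' (zpowers n))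
  have cA : (commutator (W ⧸ zpowers n)).map π' = H0 := by
    rw [_root_.commutator_def, map_commutator, ← MonoidHom.range_eq_map, π'.range_eq_top.2 hE.surj]
    refine le_antisymm (commutator_le.2 fun x _ y _ => by
      simp [commutatorElement_def, mul_mem_iff_of_index_two H0_index.1]; tauto) ?_
    rw [← a1, MonoidHom.range_eq_map, ← a4, _root_.commutator_def, map_commutator]
    exact commutator_mono le_top le_top
  let E := zpowers σ ⊔ C
  have nC : n ∈ C := mem_comap.2 (by rw [QuotientGroup.mk'_apply, n1]; exact one_mem _)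
  have lift : ∀ a ∈ H0, ∃ w ∈ C, π w = a := fun a ha => by
    obtain ⟨c, c1, c2⟩ : a ∈ (commutator (W ⧸ zpowers n)).map π' := cA ▸ ha
    induction c using QuotientGroup.induction_on with | H w => exact ⟨w, c1, c2⟩
  have σ2 : σ * σ = 1 := ex _ _ b2 rfl (mul_one _) (mul_one _)
  have hE' : Ext (π.comp E.subtype) ⟨n, mem_sup_right nC⟩ := ⟨fun a => by
    rcases H0_or a with h | h
    · exact (lift a h).elim fun w hw => ⟨⟨w, mem_sup_right hw.1⟩, hw.2⟩
    · obtain ⟨w, c1, c2⟩ := lift _ h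
      exact ⟨⟨σ * w, mul_mem_sup (mem_zpowers _) c1⟩, by
        change π (σ * w) = a
        rw [map_mul, c2]; exact mul_inv_cancel_left _ _⟩,
    fun h => h1 (congrArg (·.1.1.1.left 1) h), fun ⟨w, hw⟩ => by
    simp only [Subtype.ext_iff (p := (· ∈ E)), coe_one]
    refine ⟨fun h => ?_, by rintro (h | h) <;> simp [h, π, n]⟩
    replace h : π w = 1 := h
    rcases two_cosets (σ2 ▸ one_mem _) (fun k hk => Normal.conj_mem inferInstance k hk σ) hw with c | c
    · rcases ker w h with rfl | rfl | rfl | rfl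
      exacts [.inl rfl, .inr rfl, absurd c hδ, absurd ((mul_mem_cancel_right nC).1 c) hδ]
    · refine absurd ?_ H0_index.2
      have : π (σ⁻¹ * w) ∈ H0 := cA ▸ ⟨_, c, rfl⟩
      rwa [map_mul, h, mul_one, map_inv, inv_mem_iff] at this⟩
  have hz : (⟨n, mem_sup_right nC⟩ : E) ∈ commutator E := by
    let E0 : Subgroup E := H0.comap (π.comp E.subtype)
    let pr : E0 →* M := MonoidHom.mk' (fun w => w.1.1.1.1.left 1) fun a b => by
      simp [hr a.1.1 a.2]
    have c1 : Function.Surjective pr := fun μ => by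
      obtain ⟨w, c1, c2⟩ := lift _ (pH μ)
      have c3 := c2 ▸ pH μ
      rcases (a2 ((w.1.1.left 1)⁻¹ * μ)).1 (by simp [hl w c3, c2]) with c | c
      · exact ⟨⟨⟨w, mem_sup_right c1⟩, c3⟩, inv_mul_eq_one.1 c⟩
      · exact ⟨⟨⟨w * n, mem_sup_right (mul_mem c1 nC)⟩, show π (w * n) ∈ H0 by
          rw [map_mul]; exact mul_mem c3 (one_mem _)⟩, (inv_mul_eq_iff_eq_mul.1 c).symm⟩
    obtain ⟨w, c2, c3⟩ : z ∈ (commutator E0).map pr := by
      rw [_root_.commutator_def, map_commutator, ← MonoidHom.range_eq_map, pr.range_eq_top.2 c1]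
      exact a4.ge (mem_top z)
    have c4 := mem_map_of_mem E0.subtype c2
    rw [_root_.commutator_def, map_commutator] at c4
    refine ((hE'.ker w).1 ((hl w.1.1 w.2).symm.trans ((congrArg p c3).trans pz))).resolve_left
      (fun c => h1 ?_) ▸ commutator_mono le_top le_top c4
    rw [← c3, show w = 1 from Subtype.ext c, map_one]
  obtain ⟨Φ, c1, c2⟩ := hE'.good' (hE'.notQ0 hz)
    ((hE'.Q_iff ⟨σ, mem_sup_left (mem_zpowers _)⟩).2 (Subtype.ext σ2))
  have c3 : ∀ k, π (Φ.symm k) = ψ k := fun k => (c2 _).symm.trans (by simp)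
  refine ⟨fun k => (Φ.symm k).1.1.1.left 1, fun k l hk _ => by simp [hr _ (c3 k ▸ hk)],
    fun k hk => (hl _ (c3 k ▸ hk)).trans (c3 k), by rw [← c1]; simp [n]⟩

/-- Inner elements. -/
def In (k : K) : Prop := ψ k ∈ H0

/-- The configuration of a standard subgroup `2.HS`. -/
structure SD (G : Type*) [Group G] where
  /-- the embedding -/
  F : K → G
  F_mul : ∀ k l, In k → In l → F (k * l) = F k * F l
  F_inj : ∀ k, In k → F k = 1 → k = 1
  act : ∀ g, g * F (m 5) = F (m 5) * g → ∃ s, ∀ l, In l → g * F l * g⁻¹ = F (s * l * s⁻¹)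
  tight : ∀ u g, (∀ l, In l → u * F l = F l * u) → u * u = 1 → u ≠ 1 →
    (∀ l, In l → g * u * g⁻¹ * F l = F l * (g * u * g⁻¹)) → g * F (m 5) = F (m 5) * g

theorem In.conj {l : K} (h : In l) (s : K) : In (s * l * s⁻¹) := by
  simpa [In] using (normal_of_index_eq_two H0_index.1).conj_mem _ h (ψ s)
theorem In5 : In (m 5) := by simp [In, ψ5]
theorem In.mul {k l : K} (h : In k) (h' : In l) : In (k * l) := by
  simpa [In] using H0.mul_mem h h'

theorem In.inv {k : K} (h : In k) : In k⁻¹ := by simpa [In] using h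

theorem exists_sd {G : Type*} [Group G] [Finite G] (L : Subgroup G) (hL : IsStandardSubgroup L)
    (hLX : Nat.card (center L) = 2 ∧ Nonempty (L ⧸ center L ≃* Spor.HS)) : Nonempty (SD G) := by
  classical
  obtain ⟨z, hz⟩ := (Nat.card_eq_two_iff' (1 : center L)).mp hLX.1
  have z0 : (z : L) ≠ 1 := fun e => hz.1 (Subtype.ext e)
  obtain ⟨p, a1, a2, a3, -⟩ := exists_π0 (M := L) ⟨hLX.1, hLX.2, fun X hX => by
    have h1 : commutator L ≤ X := commutator_le.2 fun x _ y _ => by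
      obtain ⟨⟨⟨a, ha⟩, b, hb⟩, rfl⟩ := hX.2 x
      obtain ⟨⟨⟨c, hc⟩, d, hd⟩, rfl⟩ := hX.2 y
      have := X.mul_mem (X.mul_mem (X.mul_mem hb hd) (inv_mem hb)) (inv_mem hd)
      replace ha : a ∈ center L := ha
      replace hc : c ∈ center L := hc
      simp only
      rwa [commutatorElement_def, show (a : L) * b * (c * d) * (a * b)⁻¹ * (c * d)⁻¹ =
        a * (b * c * d * b⁻¹ * a⁻¹) * d⁻¹ * c⁻¹ by group, mem_center_iff.1 (inv_mem ha),
        mem_center_iff.1 hc b, mem_center_iff.1 (inv_mem hc), show (c : L)⁻¹ * (a * (a⁻¹ *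
        (c * b * d * b⁻¹)) * d⁻¹) = b * d * b⁻¹ * d⁻¹ by group]
    exact z0 (disjoint_def.1 hX.disjoint z.2 (h1 (hL.1.1.commutator_eq_top.ge (mem_top _))))⟩ z0 z.2
  obtain ⟨F, b1, b2, b3⟩ := exists_F z0 a1 a2 hL.1.1.commutator_eq_top
  have sj : ∀ μ : L, ∃ k, In k ∧ F k = μ := fun μ => by
    obtain ⟨k, hk⟩ := HS100.ψ_surj (p μ)
    have c1 : In k := show ψ k ∈ H0 from hk ▸ a1 ▸ ⟨μ, rfl⟩
    rcases (a2 ((F k)⁻¹ * μ)).1 (by simp [b2 k c1, show ψ k = _ from hk]) with c | c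
    · exact ⟨k, c1, inv_mul_eq_one.1 c⟩
    · exact ⟨k * m 5, c1.mul In5, by rw [b1 _ _ c1 In5, b3, ← c]; simp⟩
  have hK : ∀ u : G, (∀ l, In l → u * F l = F l * u) → u ∈ centralizer (L : Set G) := fun u h x hx => by
    obtain ⟨k, c1, c2⟩ := sj ⟨x, hx⟩
    simpa [c2] using (h k c1).symm
  have tig : ∀ u g, u ∈ centralizer (L : Set G) → u * u = 1 → u ≠ 1 →
      g * u * g⁻¹ ∈ centralizer (L : Set G) → g ∈ normalizer (L : Set G) := fun u g hu h2 h1 h => by
    rw [hL.2.2.2]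
    by_contra e
    exact (H3.B71.Inv.conj ⟨h1, h2⟩ g).not_mem_odd (hL.2.1.2 g e) ⟨h, u, hu, rfl⟩
  have zc : ∀ y ∈ L, y * z = z * y := fun y hy => congrArg Subtype.val (mem_center_iff.mp z.2 ⟨y, hy⟩)
  have z2 : (z : L) * z = 1 := ((a2 _).1 (by simp [(a2 z).2 (.inr rfl)])).resolve_right
    (by simpa using z0)
  have F1 : F 1 = 1 := by simpa using b1 1 1 (by simp) (by simp)
  refine ⟨⟨fun k => F k, fun k l hk hl => congrArg Subtype.val (b1 k l hk hl), fun k hk e => ?_,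
    fun g hg => ?_, fun u g hu h2 h1 h => ?_⟩⟩
  · replace e : F k = 1 := Subtype.ext e
    exact (ker5 (by rw [← b2 k hk, e, map_one])).resolve_right fun c => z0 (by rw [← b3, ← c, e])
  · rw [b3] at hg
    let c := L.normalizerMonoidHom ⟨g, tig z g zc (congrArg Subtype.val z2)
      (fun e => z0 (Subtype.ext e)) (by rw [hg, mul_inv_cancel_right]; exact zc)⟩
    have cz : c z = z := Subtype.ext (mul_inv_eq_iff_eq_mul.2 hg)
    let H' := H0.comap ψ
    let F' : H' →* L := MonoidHom.mk' (fun k => F k) fun k l => b1 _ _ k.2 l.2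
    have i0 : ∀ ℓ ∈ [14, 12, 10, 8, 6], In (m ℓ) := fun ℓ h => show mA ℓ ∈ H0 from H0_eq ▸ mem_gen h
    have ev' : ∀ u : List ℕ, (∀ ℓ ∈ u, ℓ ∈ [14, 12, 10, 8, 6]) → In (ev m u) ∧
        F (ev m u) = ev (fun ℓ => F (m ℓ)) u := fun u hu => by
      induction u with
      | nil => exact ⟨one_mem H', F1⟩
      | cons a u ih =>
        obtain ⟨d1, d2⟩ := ih fun ℓ h => hu ℓ (List.mem_cons_of_mem _ h)
        have d3 := i0 a (hu a List.mem_cons_self)
        exact ⟨d3.mul d1, by rw [ev_cons, b1 _ _ d3 d1, d2]; rfl⟩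
    obtain ⟨k, hk⟩ := rig0 (e' := fun ℓ => p (c (F (m ℓ)))) ⟨fun ℓ h e => by
      have : p (F (m ℓ)) = 1 := (a2 _).2 (((a2 _).1 e).imp (fun e => by simpa using e)
        fun e => c.injective (e.trans cz.symm))
      rw [b2 _ (i0 ℓ h)] at this
      exact isoA.ne (allL_true.1 (by decide +kernel : (allL [14, 12, 10, 8, 6] fun c =>
        not1 (eqW runA [c] [])) = true) ℓ h) (by simpa [mA] using this), fun u v hu hv h => by
      have k : ∀ u, ev (fun ℓ => p (c (F (m ℓ)))) u = p (c (ev (fun ℓ => F (m ℓ)) u)) :=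
        fun u => (map_ev (p.comp c.toMonoidHom) _ u).symm
      rw [k, k, ← (ev' u hu).2, ← (ev' v hv).2, h]⟩
    obtain ⟨s, rfl⟩ := HS100.ψ_surj k
    have Fi : ∀ l, In l → F l⁻¹ = (F l)⁻¹ := fun l h =>
      eq_inv_of_mul_eq_one_left (by rw [← b1 _ _ h.inv h, inv_mul_cancel, F1])
    let S : Subgroup K :=
      { carrier := {l | In l ∧ c (F l) = F (s⁻¹ * l * s⁻¹⁻¹)}
        one_mem' := ⟨one_mem H', by simp [F1]⟩
        mul_mem' := fun {a b} ha hb => ⟨ha.1.mul hb.1, by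
          rw [b1 _ _ ha.1 hb.1, map_mul, ha.2, hb.2, ← b1 _ _ (ha.1.conj _) (hb.1.conj _), conj_mul]⟩
        inv_mem' := fun {a} ha => ⟨ha.1.inv, by
          rw [Fi _ ha.1, map_inv, ha.2, ← Fi _ (ha.1.conj _), conj_inv]⟩ }
    have key : gen m (5 :: [14, 12, 10, 8, 6]) ≤ S := gen_le.2 (List.forall_mem_cons.2 ⟨⟨In5, by
      rw [mem_C1_iff_conj.1 (f_cent _), b3, cz]⟩, fun ℓ h => ⟨i0 ℓ h, by
      have d0 := (i0 ℓ h).conj s⁻¹
      have d1 : ∀ l, In l → l ^ 15 = 1 → F l ^ 15 = 1 := fun l h e =>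
        (map_pow F' ⟨l, h⟩ 15).symm.trans (by rw [show (⟨l, h⟩ : H') ^ 15 = 1 from Subtype.ext e, map_one])
      have d2 : m ℓ ^ 15 = 1 := by simpa [iso.eqW] using allL_true.1 (by decide +kernel :
        (allL [14, 12, 10, 8, 6] fun c => eqW run (pw 15 [c]) []) = true) ℓ h
      rcases (a2 ((F (s⁻¹ * m ℓ * s⁻¹⁻¹))⁻¹ * c (F (m ℓ)))).1 (by
        rw [map_mul, map_inv, b2 _ d0, map_mul, map_mul, ← mA, ← hk ℓ h]; simp [mul_assoc]) with d | d
      · exact (inv_mul_eq_one.1 d).symm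
      · have d3 := congrArg c (d1 _ (i0 ℓ h) d2)
        rw [map_pow, inv_mul_eq_iff_eq_mul.1 d, (show Commute _ _ from mem_center_iff.1 z.2 _).mul_pow,
          d1 _ d0 (by rw [conj_pow, d2]; simp), show 15 = 2 * 7 + 1 from rfl, pow_succ, pow_mul, sq, z2]
          at d3
        exact absurd (by simpa using d3) z0⟩⟩)
    refine ⟨s⁻¹, fun l hl => congrArg Subtype.val (key (x := l) ?_).2⟩
    obtain ⟨l', d1, d2⟩ : ψ l ∈ (gen m [14, 12, 10, 8, 6]).map ψ := by
      rw [map_gen]; exact H0_eq ▸ hl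
    have d3 := gen_mono (e := m) (l' := 5 :: [14, 12, 10, 8, 6]) (by decide) d1
    rcases extK.eq d2.symm with rfl | rfl
    exacts [d3, mul_mem d3 (mem_gen (by simp))]
  · rw [b3]
    have hN := tig u g (hK u hu) h2 h1 (hK _ h)
    let c := L.normalizerMonoidHom ⟨g, hN⟩
    refine mul_inv_eq_iff_eq_mul.1 (congrArg Subtype.val ((a3 (c z) (mem_center_iff.2 fun y => ?_)
      ).resolve_left (by simpa using z0)))
    obtain ⟨y, rfl⟩ := c.surjective y
    rw [← map_mul, ← map_mul, mem_center_iff.1 z.2]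

end H27.HN
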