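import Mathlib
import Cfsg.Agent.H27.HSA
import Cfsg.Agent.H27.HNU

/-!
# Facts on the model of `2.HS.2` for the standard form problem
-/

set_option autoImplicit false
set_option linter.unusedSectionVars false
set_option maxRecDepth 100000
set_option Elab.async false

namespace H27.HN

open H29 H15.KM H24 Subgroup

def Out : List ℕ := [4, 16, 21, 22, 25, 32, 34, 35, 37, 39, 40]
noncomputable def par (w : List ℕ) : Bool :=
  List.rec (motive := fun _ => Bool) true (fun c _ ih => Bool.rec ih (not1 ih) (memL c Out)) w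

theorem In_mul {k l : K} : In (k * l) ↔ (In k ↔ In l) := by
  simp only [In, map_mul, mul_mem_iff_of_index_two H0_index.1]
theorem In_inv {k : K} : In k⁻¹ ↔ In k := by simp [In]
theorem In1 : In 1 := by simp [In]
theorem In_conj {k l : K} : In (k * l * k⁻¹) ↔ In l := by simp only [In_mul, In_inv]; tauto

theorem In_ev0 : ∀ w : List ℕ, (∀ c ∈ w, (In (m c) ↔ c ∉ Out)) → (In (ev m w) ↔ par w = true)
  | [], _ => iff_of_true In1 rfl
  | c :: w, h => by
    rw [ev_cons, In_mul, h c List.mem_cons_self, In_ev0 w fun d hd => h d (List.mem_cons_of_mem _ hd),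
      show par (c :: w) = Bool.rec (par w) (not1 (par w)) (memL c Out) from rfl, ← memL_true]
    cases memL c Out <;> cases par w <;> simp [not1]

theorem In_m (c : ℕ) : In (m c) ↔ c ∉ Out := by
  induction c using Nat.strong_induction_on with | _ c ih => ?_
  have h2 : In (m 2) := by simpa [mA, In] using memA (u := [2]) [9, 11, 14, 13, 6, 12, 11, 9, 14]
  rcases chkSlp_spec hs c with h | h
  · have := base_lt c h
    interval_cases c
    · exact iff_of_true x_mem (by decide)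
    · exact iff_of_true (hiv 0 ▸ In.inv x_mem) (by decide)
    · exact iff_of_true h2 (by decide)
    · exact iff_of_true (hiv 2 ▸ h2.inv) (by decide)
    · refine iff_of_false (fun h => H0_index.2 ((mul_mem_cancel_left h).1 ?_)) (by decide)
      simpa [mA] using memA (u := [4, 16]) [15, 9, 10, 14, 8, 11, 15, 9, 6]
  rw [hdef c, In_ev0 _ fun d hd => ih d (h d hd)]
  by_cases hc : c < 44
  · have := allN_true.1 (by decide +kernel : (allN 44 fun c => beqB (par (nth [] defs c))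
      (not1 (memL c Out))) = true) c hc
    rw [beqB_true.1 this, not1_true, memL_true]
  · rw [nth_default _ (show defs.length ≤ c from not_lt.1 hc)]
    exact iff_of_true rfl fun h => hc ((by decide : ∀ c ∈ Out, c < 44) c h)

theorem In_ev (w : List ℕ) : In (ev m w) ↔ par w = true := In_ev0 w fun c _ => In_m c
theorem inn (w : List ℕ) (h : par w = true := by decide +kernel) : In (ev m w) := (In_ev w).2 h
theorem inm (c : ℕ) (h : c ∉ Out := by decide) : In (m c) := (In_m c).2 h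
theorem outm (c : ℕ) (h : c ∈ Out := by decide) : ¬ In (m c) := fun h1 => (In_m c).1 h1 h

theorem cop {G : Type*} [Group G] {s y c : G} {n : ℕ} (hn : Odd n) (h1 : s ^ n * y = y * s ^ n)
    (hc : c = s * y * s⁻¹ * y⁻¹) (h2 : s * c = c * s) (h4 : c ^ 4 = 1) : s * y = y * s := by
  have h3 : ∀ k : ℕ, s ^ k * y * (s ^ k)⁻¹ = c ^ k * y := fun k => by
    induction k with
    | zero => simp
    | succ k ih =>
      calc _ = s * (s ^ k * y * (s ^ k)⁻¹) * s⁻¹ := by group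
        _ = s * c ^ k * s⁻¹ * (s * y * s⁻¹ * y⁻¹) * y := by rw [ih]; group
        _ = _ := by rw [← hc, ((show Commute s c from h2).pow_right k).eq]; group
  have h5 := h3 n
  rw [h1, mul_inv_cancel_right, eq_comm, mul_eq_right] at h5
  have := (pow_eq_one_iff_of_coprime ((Nat.coprime_two_right.2 hn).pow_right 2)).1 ⟨h5, h4⟩
  rwa [hc, mul_inv_eq_one, mul_inv_eq_iff_eq_mul] at this

theorem fc (k : K) : k * m 5 = m 5 * k := extK.cen k

theorem pow_cen {k : K} {n : ℕ} (h : ψ k ^ n = 1) (y : K) : k ^ n * y = y * k ^ n := by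
  rcases ker5 (g := k ^ n) (by rwa [map_pow]) with h | h <;> simp [h, fc]

theorem oddc {l y : K} (h : ψ l ^ 15 = 1) (h1 : ψ l * ψ y = ψ y * ψ l) : l * y = y * l := by
  rcases ker5 (g := l * y * l⁻¹ * y⁻¹) (by simp [h1]) with a | a
  · exact cop (by decide) (pow_cen h y) a.symm (by simp) (by simp)
  · exact cop (by decide) (pow_cen h y) a.symm (fc l) (by simp [pow_succ, mod_m.f2, mul_assoc])

theorem In_odd {k : K} {n : ℕ} (hn : Odd n) (h : ψ k ^ n = 1) : In k := by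
  obtain ⟨j, rfl⟩ := hn
  rw [pow_succ, mul_comm 2, pow_mul] at h
  rw [In, eq_inv_of_mul_eq_one_right h]
  exact inv_mem (sq_mem_of_index_two H0_index.1 _)

/-- `y` centralises the odd elements of the centraliser of `υ`. -/
def PZ (υ y : K) : Prop := ∀ l, In l → l ^ 15 = 1 → l * υ = υ * l → l * y = y * l

noncomputable def chkZ (v : List ℕ) (U : List (List ℕ)) (b : Bool) : Bool :=
  and2 (allL ([6] :: U) fun u => and2 (par u) (and2 (eqW run (pw 15 u) []) (cm run u v)))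
    (allC iv W45 lD fun _ x _ => imp2 (allL U fun u => cm run u x) (or2 (eqW runA x [])
      (or2 (eqW runA x v) (or2 (and2 b (eqW runA (app x x) v))
        (and2 (par v) (and2 (not1 (par x)) (eqW runA (app x x) [])))))))

theorem chk_Za : chkZ [23] [[39, 22, 5]] true = true := by decide +kernel
theorem chk_Zb : chkZ [16] [[12], [8]] false = true := by decide +kernel
theorem chk_Zx : chkZ [16, 4] [[29, 10]] false = true := by decide +kernel
theorem chk_Zd : chkZ [25] [[38, 9, 29, 31]] false = true := by decide +kernel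

theorem PZ.chk {υ y k : K} (h : PZ υ y) {v : List ℕ} {U : List (List ℕ)} {b : Bool}
    (hc : chkZ v U b = true) (hk : ψ (k * υ * k⁻¹) = ψ (ev m v)) :
    ψ y = 1 ∨ ψ y = ψ υ ∨ (b = true ∧ ψ y * ψ y = ψ υ) ∨ (In υ ∧ ¬ In y ∧ ψ y * ψ y = 1) := by
  simp only [chkZ, and2_true, allL_true, cm_true iso, iso.eqW, ← In_ev, ev_pw, ev_nil] at hc
  have h1 : ∀ u ∈ [6] :: U, ev m u * (k * y * k⁻¹) = k * y * k⁻¹ * ev m u := fun u hu => by
    obtain ⟨a1, a2, a3⟩ := hc.1 u hu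
    have a4 : (k⁻¹ * ev m u * k⁻¹⁻¹) ^ 15 = 1 := by rw [conj_pow, a2]; simp
    have := h _ (a1.conj k⁻¹) a4 (oddc (by rw [← map_pow, a4, map_one]) (by
      have := congrArg ψ a3
      simp only [map_mul, ← hk, map_inv, inv_inv] at this ⊢
      calc _ = (ψ k)⁻¹ * (ψ (ev m u) * (ψ k * ψ υ * (ψ k)⁻¹)) * ψ k := by group
        _ = _ := by rw [this]; group))
    calc _ = k * (k⁻¹ * ev m u * k⁻¹⁻¹ * y) * k⁻¹ := by group
      _ = _ := by rw [this]; group
  obtain ⟨i, x, -, a1, -, a2⟩ := mod_m.all hc.2 (fc (k * y * k⁻¹))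
    (by simpa using (h1 [6] (by simp)).symm)
  simp only [imp2_true, or2_true, and2_true, allL_true, cm_true iso, isoA.eqW, ← In_ev, evA, not1_true,
    app_eq, ev_append, a1, In_conj, ← hk, ev_nil, map_one] at a2
  have a3 : In (ev m v) ↔ In υ := by rw [In, ← hk]; exact In_conj
  simpa [a3] using a2 fun u hu => h1 u (List.mem_cons_of_mem _ hu)

theorem PZ.res {υ y : K} (h : PZ υ y) (h2 : ψ υ * ψ υ = 1) (h1 : ψ υ ≠ 1) : ψ y = 1 ∨ ψ y = ψ υ ∨
    (Ty m [23, 24] υ ∧ ψ y * ψ y = ψ υ) ∨ (In υ ∧ ¬ In y ∧ ψ y * ψ y = 1) := by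
  obtain ⟨r, a1, k, a2, a3⟩ := Ext.clsA h2
  have a4 := congrArg ψ a3
  simp only [List.mem_cons, List.not_mem_nil, or_false] at a1
  rcases a1 with rfl | rfl | rfl | rfl | rfl | rfl | rfl
  · simp [mod_m.e99, h1] at a4
  · simp [ψ5, h1] at a4
  · exact (h.chk chk_Za (by simpa using a4)).imp_right (Or.imp_right (Or.imp_left
      fun a => ⟨⟨23, by simp, k, a2, a3⟩, a.2⟩))
  · exact (h.chk chk_Za (a4.trans (by simpa [mA] using mA24))).imp_right (Or.imp_right (Or.imp_left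
      fun a => ⟨⟨24, by simp, k, a2, a3⟩, a.2⟩))
  · exact (h.chk chk_Zx (k := m 42 * k) (by
      rw [← mod_m.eq (u := [42, 0, 42]) (v := [16, 4])]
      simp [← a3, mul_assoc, ← map_inv, inv_eq_of_mul_eq_one_right (mod_m.sq 42)])).imp_right
      (Or.imp_right (Or.imp_left fun a => absurd a.1 (by simp)))
  · exact (h.chk chk_Zb (by simpa using a4)).imp_right
      (Or.imp_right (Or.imp_left fun a => absurd a.1 (by simp)))
  · exact (h.chk chk_Zd (by simpa using a4)).imp_right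
      (Or.imp_right (Or.imp_left fun a => absurd a.1 (by simp)))

theorem flipK {s : K} (h : Ty m [0, 16, 25] s) : (∃ l, In l ∧ s * l * s⁻¹ = l * m 5) ∧
    ∃ l, In l ∧ s * l * s⁻¹ * l⁻¹ * (s * l * s⁻¹ * l⁻¹) = 1 ∧ ψ (s * l * s⁻¹ * l⁻¹) ≠ 1 := by
  obtain ⟨r, a1, k, -, a3⟩ := h
  obtain rfl : s = k⁻¹ * m r * k := by rw [← a3]; group
  have := allL_true.1 (by decide +kernel : (allL [0, 16, 25] fun r => and2
    (anyL [[0], [41, 20, 10]] fun l => and2 (par l) (eqW run (r :: app l [iv r]) (app l [5])))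
    (anyL [[6], [38]] fun l => and2 (par l) (frc (r :: app l (iv r :: invW iv l)) fun c =>
      and2 (eqW run (app c c) []) (not1 (eqW runA c []))))) = true) r a1
  simp only [and2_true, anyL_true, ← In_ev, iso.eqW, isoA.eqW, frc_eq, not1_true, evA, app_eq,
    ev_append, ev_cons, ev_nil, mul_one, hiv r, ev_invW hiv, map_one] at this
  obtain ⟨⟨l, -, b1, b2⟩, l', -, b3, b4, b5⟩ := this
  refine ⟨⟨_, b1.conj k⁻¹, ?_⟩, _, b3.conj k⁻¹, ?_⟩
  · calc _ = k⁻¹ * (m r * (ev m l * (m r)⁻¹)) * k := by group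
      _ = _ := by rw [b2, mul_assoc, mul_assoc, ← fc k]; group
  · rw [show k⁻¹ * m r * k * (k⁻¹ * ev m l' * k⁻¹⁻¹) * (k⁻¹ * m r * k)⁻¹ * (k⁻¹ * ev m l' * k⁻¹⁻¹)⁻¹ =
      k⁻¹ * (m r * (ev m l' * ((m r)⁻¹ * (ev m l')⁻¹))) * k⁻¹⁻¹ by group, conj_mul, b4,
      map_mul ψ (k⁻¹ * _), map_mul ψ k⁻¹, map_inv ψ k⁻¹]
    exact ⟨by simp, conj_eq_one_iff.not.2 (by simpa [mA, hiv r] using b5)⟩

theorem tyA_in {s : K} (h : Ty m [23, 24] s) : ∃ l, In l ∧ (l * s * l⁻¹ = m 23 ∨ l * s * l⁻¹ = m 24) := by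
  obtain ⟨r, a1, k, -, a3⟩ := h
  have a4 : r = 23 ∨ r = 24 := by simpa using a1
  by_cases a5 : In k
  · exact ⟨k, a5, by rcases a4 with rfl | rfl <;> simp [a3]⟩
  · refine ⟨m 16 * k, In_mul.2 (iff_of_false (outm 16) a5), ?_⟩
    rw [show m 16 * k * s * (m 16 * k)⁻¹ = m 16 * (k * s * k⁻¹) * (m 16)⁻¹ by group, a3]
    rcases a4 with rfl | rfl <;> simp [mod_m.comm 16 23, mod_m.comm 16 24]

theorem ty_cases {s : K} (h2 : ψ s * ψ s = 1) (h1 : ψ s ≠ 1) : Ty m [23, 24] s ∨ Ty m [0, 16, 25] s := by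
  obtain ⟨r, a1, k, a2, a3⟩ := Ext.clsA h2
  have a4 := congrArg ψ a3
  have b1 : r ≠ 99 := by rintro rfl; simp [mod_m.e99, h1] at a4
  have b2 : r ≠ 5 := by rintro rfl; simp [ψ5, h1] at a4
  by_cases b3 : r ∈ [23, 24]
  exacts [.inl ⟨r, b3, k, a2, a3⟩, .inr ⟨r, by grind, k, a2, a3⟩]

theorem tyA_of {s : K} (h2 : s * s = 1) (h1 : ψ s ≠ 1) (h : In s) : Ty m [23, 24] s := by
  refine (ty_cases (by rw [← map_mul, h2, map_one]) h1).resolve_right fun ⟨r, a1, k, _, a3⟩ => ?_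
  simp only [List.mem_cons, List.not_mem_nil, or_false] at a1
  rcases a1 with rfl | rfl | rfl
  · exact mod_m.ne (u := [0, 0]) (v := []) (by decide +kernel) (by simp [← a3, h2])
  all_goals exact absurd (a3 ▸ h.conj k) (outm _)

theorem twK {k : K} (h : ψ k * ψ k = 1) :
    ∃ y, (In y ∧ k * y * k⁻¹ = y * m 5) ∨ (¬ In y ∧ k * y * k⁻¹ = y) := by
  by_cases h1 : ψ k = 1
  · exact ⟨m 16, .inr ⟨outm 16, by rcases ker5 h1 with rfl | rfl <;> simp [← fc]⟩⟩
  rcases ty_cases h h1 with a | a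
  · obtain ⟨l, -, b⟩ := tyA_in a
    refine ⟨l⁻¹ * m 16 * l⁻¹⁻¹, .inr ⟨In_conj.not.2 (outm 16), ?_⟩⟩
    calc _ = l⁻¹ * (l * k * l⁻¹ * m 16 * (l * k * l⁻¹)⁻¹) * l := by group
      _ = _ := by rcases b with b | b <;> simp [b, mod_m.comm 23 16, mod_m.comm 24 16]
  · exact (flipK a).1.imp fun _ => .inl

/-- The element `i` with square `e`. -/
noncomputable def iK : K := ev m [38, 39, 40]

theorem i_conj {k : K} (hk : k ∈ C{m 24}) :
    ψ k * ψ iK * (ψ k)⁻¹ = ψ iK ∨ ψ k * ψ iK * (ψ k)⁻¹ = ψ iK * mA 23 := by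
  obtain ⟨w, h1, rfl⟩ := exists_word hiv (by decide +kernel) (mod_m.ca k (f_cent k) hk)
  clear hk
  induction w with
  | nil => simp
  | cons c w ih =>
    have a1 := allL_true.1 (by decide +kernel : (allL (5 :: LW) fun c => and2 (cm runA [c] [23])
      (inW runA [[38, 39, 40], [38, 39, 40, 23]] [c, 38, 39, 40, iv c])) = true) c (h1 c (by simp))
    have a2 : mA 23 * mA 23 = 1 := by rw [mA, ← map_mul, mod_m.sq 23, map_one]
    have a3 : ψ iK = mA 38 * mA 39 * mA 40 := by simp [iK, mA, mul_assoc]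
    have a4 : mA c * mA 38 * mA 39 * mA 40 = mA c * ψ iK := by simp [a3, mul_assoc]
    simp only [and2_true, cm_true isoA, inW_true isoA, List.mem_cons, List.not_mem_nil, or_false,
      exists_eq_or_imp, exists_eq_left, ev_cons, ev_nil, mul_one, hivA c, ← mul_assoc] at a1
    rw [a4, ← a3] at a1
    rw [ev_cons, map_mul, show ψ (m c) * ψ (ev m w) * ψ iK * (ψ (m c) * ψ (ev m w))⁻¹ =
      mA c * (ψ (ev m w) * ψ iK * (ψ (ev m w))⁻¹) * (mA c)⁻¹ by rw [mA]; group]
    rcases ih fun d hd => h1 d (List.mem_cons_of_mem _ hd) with b | b <;> rw [b]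
    · exact a1.2.imp Eq.symm Eq.symm
    · rw [← conj_mul, mul_inv_eq_iff_eq_mul.2 a1.1]
      rcases a1.2 with b | b <;> simp [← b, mul_assoc, a2]

/-- The elements of `⟨i⟩` modulo the centre. -/
def Cy (x : K) : Prop := ψ x = 1 ∨ ψ x = mA 23 ∨ ψ x = ψ iK ∨ ψ x = ψ iK * mA 23

theorem i_comm {k : K} (hk : k ∈ C{m 24}) {n : ℕ} (hn : Odd n) (h : ψ k ^ n = 1) : k * iK = iK * k := by
  have a1 : m 23 = m 5 * m 24 := by simpa using mod_m.eq (u := [23]) (v := [5, 24])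
  have a2 : k * iK * k⁻¹ * iK⁻¹ ∈ C{k} ∧ (k * iK * k⁻¹ * iK⁻¹) ^ 4 = 1 := by
    have b1 : m 5 ∈ C{k} := mem_C1.2 (fc k).symm
    have b2 : m 23 ∈ C{k} := a1 ▸ mul_mem b1 (mem_C1_comm.1 hk)
    have b3 : ψ iK * mA 23 * (ψ iK)⁻¹ = mA 23 := by
      rw [mul_inv_eq_iff_eq_mul, iK, ← evA]
      simpa [mul_assoc] using isoA.eqW.1 (by decide +kernel : eqW runA [38, 39, 40, 23] [23, 38, 39, 40] = true)
    have b4 := mod_m.eq (u := pw 4 [23, 5]) (v := [])
    rcases i_conj hk with b | b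
    · rcases ker5 (g := k * iK * k⁻¹ * iK⁻¹) (by simp [b]) with c | c <;>
        simp [c, b1, pow_succ, mod_m.f2]
    · rcases extK.eq (c := k * iK * k⁻¹ * iK⁻¹) (d := m 23) (by simpa [b, mA] using b3) with c | c <;> rw [c]
      · exact ⟨b2, by simp [pow_succ, mod_m.sq 23]⟩
      · exact ⟨mul_mem b2 b1, by simpa using b4⟩
  exact cop hn (pow_cen h _) rfl (mem_C1.1 a2.1).symm a2.2

noncomputable def isg (w : List ℕ) : Bool := frc w fun w =>
  lit (runA w) fun t => and2 (eqW runA (app w w) []) (and2 (not1 (Nat.beq t (runA [])))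
    (not1 (Nat.beq t (runA [23]))))

theorem chk_Pa : allM lT (fun _ x => or2 (isg x) (or2 (isg (app x x))
    (or2 (inW runA [[], [23], [38, 39, 40], [38, 39, 40, 23]] x)
    (anyL [[43, 21, 21], [22, 43, 21], [21, 43, 22], [39, 37]] fun c => and2 (and2 (par c) (cm run c [24]))
      (frc (app x (app c (app x (invW iv c)))) fun y => or2 (isg y) (isg (app y y))))))) = true := by
  decide +kernel

theorem R4 {c : K} (hc : c ∈ gen m lR) : c ^ 4 = 1 := by
  obtain ⟨n, h1, rfl⟩ := mod_m.pcR.cover hc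
  simpa [iso.eqW] using allM_sound (by decide +kernel : allM lR (fun _ x => eqW run (pw 4 x) []) = true) h1

theorem PA {N : Subgroup K} (h1 : N ≤ C{m 24})
    (h2 : ∀ c, In c → c ∈ C{m 24} → ∀ x ∈ N, c * x * c⁻¹ ∈ N)
    (h3 : ∀ x ∈ N, ψ x * ψ x = 1 → ψ x = 1 ∨ ψ x = mA 23) {x : K} (hx : x ∈ N) : Cy x := by
  have cA : ∀ k ∈ C{m 24}, ψ k * mA 23 * (ψ k)⁻¹ = mA 23 := fun k hk => by
    rw [← mA24, mA, ← map_inv, ← map_mul, ← map_mul, mem_C1_iff_conj.1 hk]
  have two : ∀ x ∈ N, x ^ 2 ^ 11 = 1 → Cy x := fun x hx h => by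
    obtain ⟨k, a1, a2⟩ := conj_into Nat.prime_two (mod_m.sylT mod_m.T_le inf_le_left)
      ⟨f_cent x, h1 hx⟩ h
    obtain ⟨n, a3, a4⟩ := mod_m.pcT.cover a2
    have a5 := allM_sound chk_Pa a3
    have key : ∀ w, k⁻¹ * ev m w * k⁻¹⁻¹ ∈ N → ¬ isg w = true := fun w hw hc => by
      simp only [isg, frc_eq, lit_eq, and2_true, not1_true, H29.beq_true, isoA _ _, isoA.eqW, evA,
        app_eq, ev_append, ev_nil, map_one, map_mul, ev_cons, mul_one] at hc
      rcases h3 _ hw (by simp only [map_mul, map_inv ψ k⁻¹, conj_mul, hc.1]; simp) with b | b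
      · exact hc.2.1 (by simpa only [map_mul, map_inv ψ k⁻¹, conj_eq_one_iff] using b)
      · rw [← cA _ (inv_mem a1.2)] at b
        exact hc.2.2 (by simpa [mA] using b)
    have k2 : ∀ w, k⁻¹ * ev m w * k⁻¹⁻¹ ∈ N → ¬ isg (app w w) = true := fun w hw =>
      key _ (by rw [app_eq, ev_append, ← conj_mul]; exact mul_mem hw hw)
    have a6 : k⁻¹ * ev m (mw lT n) * k⁻¹⁻¹ ∈ N := by simpa [a4, mul_assoc] using hx
    simp only [or2_true, eq_false (key _ a6), eq_false (k2 _ a6), false_or, anyL_true, and2_true, frc_eq, ← In_ev,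
      cm_true iso, inW_true isoA, evA, a4] at a5
    rcases a5 with ⟨w, b1, b2⟩ | ⟨c, -, ⟨b1, b2⟩, b3⟩
    · have b3 : ψ x = ψ k⁻¹ * ψ (ev m w) * (ψ k⁻¹)⁻¹ := by simp [b2, mul_assoc]
      have b4 := i_conj (inv_mem a1.2)
      have b5 := cA _ (inv_mem a1.2)
      have b6 : ev m [38, 39, 40, 23] = iK * m 23 := by simp [iK, mul_assoc]
      have a2 : mA 23 * mA 23 = 1 := by rw [mA, ← map_mul, mod_m.sq 23, map_one]
      simp only [List.mem_cons, List.not_mem_nil, or_false] at b1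
      rcases b1 with rfl | rfl | rfl | rfl
      · exact .inl (by simpa using b3)
      · exact .inr (.inl (by rw [b3, ← b5]; simp [mA]))
      · exact .inr (.inr (b3 ▸ b4))
      · rw [b6, map_mul, ← conj_mul, ← mA, b5] at b3
        rcases b4 with b | b <;> rw [b] at b3 <;> simp [Cy, b3, mul_assoc, a2]
    · have b4 : k⁻¹ * ev m (app (mw lT n) (app c (app (mw lT n) (invW iv c)))) * k⁻¹⁻¹ ∈ N := by
        have := mul_mem hx (h2 _ (b1.conj k⁻¹) (mul_mem (mul_mem (inv_mem a1.2)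
          (mem_C1.2 (by simpa using b2))) (inv_mem (inv_mem a1.2))) x hx)
        simpa [a4, ev_invW hiv, mul_assoc] using this
      exact absurd b3 (not_or.2 ⟨key _ b4, k2 _ b4⟩)
  refine two x hx ?_
  obtain ⟨s, hs⟩ : ∃ s, s = x ^ 2 ^ 11 := ⟨_, rfl⟩
  have s1 : s ∈ N := hs ▸ pow_mem hx _
  have s2 : s ^ 86625 = 1 := by
    rw [hs, ← pow_mul, show 2 ^ 11 * 86625 = Nat.card K from HK.card.symm, pow_card_eq_one']
  have s3 := i_comm (h1 s1) (n := 86625) (by decide) (by rw [← map_pow, s2, map_one])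
  have cR : ∀ y ∈ gen m lR, s * y * s⁻¹ * y⁻¹ ∈ gen m lR := fun y hy =>
    mul_mem ((mem_N.1 (mod_m.W_le ⟨f_cent s, h1 s1⟩) y).1 hy) (inv_mem hy)
  have s4 : ∀ y ∈ gen m lR, In y → s * y = y * s := fun y hy h => by
    refine cop (n := 86625) (by decide) (by simp [s2]) rfl (mem_C1.1 ?_).symm (R4 (cR y hy))
    have b1 : m 5 ∈ C{s} := mem_C1.2 (fc s).symm
    have b2 : m 23 ∈ C{s} := by
      rw [show m 23 = m 5 * m 24 by simpa using mod_m.eq (u := [23]) (v := [5, 24])]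
      exact mul_mem b1 (mem_C1_comm.1 (h1 s1))
    have b3 : iK ∈ C{s} := mem_C1.2 s3.symm
    have b4 : ∀ c d, ψ c = ψ d → d ∈ C{s} → c ∈ C{s} := fun c d b5 b6 => by
      rcases extK.eq b5 with rfl | rfl
      exacts [b6, mul_mem b6 b1]
    have := two _ (by simpa [mul_assoc] using mul_mem s1 (h2 y h ((mod_m.T_le (gen_mono (by decide) hy)).2)
      _ (inv_mem s1)) : s * y * s⁻¹ * y⁻¹ ∈ N) (by
        rw [show 2 ^ 11 = 4 * 512 from rfl, pow_mul, R4 (cR y hy), one_pow])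
    rcases this with b | b | b | b
    exacts [b4 _ 1 (by simpa using b) (one_mem _), b4 _ _ b b2, b4 _ _ b b3,
      b4 _ _ (b.trans (map_mul ψ _ _).symm) (mul_mem b3 b2)]
  have s5 := mod_m.cR s (f_cent s) fun c hc => by
    have hy : m c ∈ gen m lR := mem_gen ((by decide : ∀ c ∈ [37, 38, 39, 40, 41, 42, 24], c ∈ lR) c hc)
    exact mem_C1.2 (cop (n := 86625) (by decide) (by simp [s2]) rfl
      (s4 _ (cR _ hy) (by simp only [In_mul, In_inv]; tauto)) (R4 (cR _ hy)))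
  rw [← hs]
  exact (pow_eq_one_iff_of_coprime (by norm_num)).1 ⟨s2, R4 (gen_mono (by decide) s5)⟩

end H27.HN
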