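import Mathlib
import Cfsg.Agent.H27.HSB

/-!
# The standard form problem for `2.HS`: fusion of the central involution
-/

set_option autoImplicit false
set_option linter.unusedSectionVars false
set_option maxRecDepth 100000

namespace H27.HN

open H29 H15.KM H24 Subgroup

namespace SD

variable {G : Type*} [Group G] [Finite G] (c : SD G)

/-- the central involution -/
noncomputable def z : G := c.F (m 5)
/-- the centraliser of `L` -/
def K0 : Subgroup G := centralizer (c.F '' {l | In l})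
/-- `x` acts like `s` -/
def A (x : G) (s : K) : Prop := ∀ l, In l → x * c.F l * x⁻¹ = c.F (s * l * s⁻¹)
/-- the conjugates of `z` -/
def D (u : G) : Prop := IsConj c.z u

theorem mem_K {u : G} : u ∈ c.K0 ↔ ∀ l, In l → u * c.F l = c.F l * u :=
  ⟨fun h l hl => (h _ ⟨l, hl, rfl⟩).symm, fun h _ ⟨l, hl, e⟩ => e ▸ (h l hl).symm⟩
theorem F_one : c.F 1 = 1 := by simpa using c.F_mul 1 1 In1 In1
theorem F_inv {x : K} (hx : In x) : c.F x⁻¹ = (c.F x)⁻¹ :=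
  eq_inv_of_mul_eq_one_left (by rw [← c.F_mul _ _ hx.inv hx, inv_mul_cancel, F_one])
theorem F_eq {x y : K} (hx : In x) (hy : In y) (h : c.F x = c.F y) : x = y :=
  mul_inv_eq_one.1 (c.F_inj _ (hx.mul hy.inv) (by rw [c.F_mul _ _ hx hy.inv, c.F_inv hy, h, mul_inv_cancel]))
theorem F_sq {x : K} (hx : In x) (h : x * x = 1) : c.F x * c.F x = 1 := by
  rw [← c.F_mul _ _ hx hx, h, F_one]
theorem z_sq : c.z * c.z = 1 := c.F_sq In5 mod_m.f2
theorem z_ne : c.z ≠ 1 := fun e => extK.ne (c.F_inj _ In5 e)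
theorem F_z {l : K} (hl : In l) : c.F l * c.z = c.z * c.F l := by
  rw [z, ← c.F_mul _ _ hl In5, ← c.F_mul _ _ In5 hl, fc]
theorem z_mem : c.z ∈ c.K0 := c.mem_K.2 fun _ hl => (c.F_z hl).symm
theorem K_z {k : G} (hk : k ∈ c.K0) : k * c.z = c.z * k := c.mem_K.1 hk _ In5
theorem exA {g : G} (h : g * c.z = c.z * g) : ∃ s, c.A g s := c.act g h
theorem tig {u g : G} (hu : u ∈ c.K0) (h2 : u * u = 1) (h1 : u ≠ 1) (h : g * u * g⁻¹ ∈ c.K0) :
    g * c.z * g⁻¹ = c.z := mul_inv_eq_iff_eq_mul.2 (c.tight u g (c.mem_K.1 hu) h2 h1 (c.mem_K.1 h))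
theorem az : c.F (m 23) * c.z = c.F (m 24) := by rw [z, ← c.F_mul _ _ (inm 23) In5, mod_m.af]

variable {c}

theorem A.mul {x y : G} {s t : K} (h : c.A x s) (h' : c.A y t) : c.A (x * y) (s * t) := fun l hl => by
  rw [show x * y * c.F l * (x * y)⁻¹ = x * (y * c.F l * y⁻¹) * x⁻¹ by group, h' l hl, h _ (hl.conj t)]
  simp only [mul_assoc, mul_inv_rev]
theorem A.inv {x : G} {s : K} (h : c.A x s) : c.A x⁻¹ s⁻¹ := fun l hl => by
  have := h _ (hl.conj s⁻¹)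
  rw [show s * (s⁻¹ * l * s⁻¹⁻¹) * s⁻¹ = l by group] at this
  rw [← this]; group
theorem A_F {k : K} (hk : In k) : c.A (c.F k) k := fun l hl => by
  rw [c.F_mul _ _ (hk.mul hl) hk.inv, c.F_mul _ _ hk hl, c.F_inv hk]
theorem A.uniq {x : G} {s t : K} (h : c.A x s) (h' : c.A x t) : ψ s = ψ t :=
  (inv_mul_eq_one.1 (centH0 fun ℓ hℓ => by
    have hl : In (m ℓ) := show mA ℓ ∈ H0 from H0_eq ▸ mem_gen hℓ
    have e := congrArg ψ (c.F_eq (hl.conj s) (hl.conj t) ((h _ hl).symm.trans (h' _ hl)))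
    simp only [map_mul, map_inv] at e
    rw [mA, mul_assoc, mul_inv_eq_iff_eq_mul.1 e]; group)).symm
theorem A_K {k : G} (hk : k ∈ c.K0) : c.A k 1 := fun l hl => by simp [c.mem_K.1 hk l hl]
theorem A.congr {x : G} {s t : K} (h : c.A x s) (e : ψ t = ψ s) : c.A x t := by
  rcases extK.eq e with rfl | rfl
  · exact h
  · exact fun l hl => by
      rw [h l hl, show s * m 5 * l * (s * m 5)⁻¹ = s * (m 5 * l) * (m 5)⁻¹ * s⁻¹ by group, ← fc l]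
      congr 1; group
theorem A.mem_K {x : G} {s : K} (h : c.A x s) (e : ψ s = 1) : x ∈ c.K0 := c.mem_K.2 fun l hl => by
  simpa [mul_inv_eq_iff_eq_mul] using h.congr (t := 1) (by rw [e, map_one]) l hl
theorem A.comm_z {x : G} {s : K} (h : c.A x s) : x * c.z = c.z * x := by
  have := h _ In5
  rwa [fc, mul_inv_cancel_right, mul_inv_eq_iff_eq_mul] at this
theorem A.comm {x : G} {s l : K} (h : c.A x s) (hl : In l) : x * c.F l = c.F l * x ↔ s * l = l * s := by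
  rw [← mul_inv_eq_iff_eq_mul, h l hl, ← mul_inv_eq_iff_eq_mul]
  exact ⟨c.F_eq (hl.conj s) hl, fun e => by rw [e]⟩
theorem A.one {x : G} {s : K} (h : c.A x s) (h2 : x ∈ c.K0) : ψ s = 1 := by
  rw [h.uniq (A_K h2), map_one]
theorem A.sq {x : G} {s : K} (h : c.A x s) (h2 : x * x ∈ c.K0) : ψ s * ψ s = 1 := by
  rw [← map_mul, (h.mul h).one h2]
theorem A.pow {x : G} {s : K} (h : c.A x s) (k : ℕ) : c.A (x ^ k) (s ^ k) := by
  induction k with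
  | zero => simpa using A_K (one_mem c.K0)
  | succ k ih => rw [pow_succ, pow_succ]; exact ih.mul h
theorem A.pow1 {x : G} {s : K} (h : c.A x s) {k : ℕ} (e : x ^ k = 1) : ψ s ^ k = 1 := by
  rw [← map_pow, (h.pow k).one (e ▸ one_mem _)]
theorem F_pow {l : K} (hl : In l) {n : ℕ} (h : l ^ n = 1) (g : G) : (g * c.F l * g⁻¹) ^ n = 1 := by
  have : ∀ n : ℕ, In (l ^ n) ∧ c.F (l ^ n) = c.F l ^ n := fun n => by
    induction n with
    | zero => simpa using ⟨In1, c.F_one⟩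
    | succ n ih => exact ⟨pow_succ l n ▸ ih.1.mul hl, by rw [pow_succ, c.F_mul _ _ ih.1 hl, ih.2, pow_succ]⟩
  rw [conj_pow, ← (this n).2, h, c.F_one]; simp
theorem nK {g k : G} (h : g * c.z = c.z * g) (hk : k ∈ c.K0) : g * k * g⁻¹ ∈ c.K0 := by
  obtain ⟨s, hs⟩ := c.exA h
  exact ((hs.mul (A_K hk)).mul hs.inv).mem_K (by simp)
theorem D.conj {u : G} (h : c.D u) (g : G) : c.D (g * u * g⁻¹) := h.trans (isConj_iff.2 ⟨g, rfl⟩)
theorem D_conj {u g : G} : c.D (g * u * g⁻¹) ↔ c.D u :=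
  ⟨fun h => by simpa [mul_assoc] using h.conj g⁻¹, fun h => h.conj g⟩
theorem Dz (c : SD G) : c.D c.z := IsConj.refl _
theorem D.sq {u : G} (h : c.D u) : u * u = 1 := by
  obtain ⟨g, rfl⟩ := isConj_iff.1 h
  simp [c.z_sq]
theorem A.sqD {t : G} {s : K} (h : c.A t s) (ht : c.D t) : ψ s * ψ s = 1 := h.sq (ht.sq ▸ one_mem _)
theorem D.ex {u : G} (h : c.D u) : ∃ g, g * c.z * g⁻¹ = u := isConj_iff.1 h
theorem pull {g x : G} (h : x * (g * c.z * g⁻¹) = g * c.z * g⁻¹ * x) :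
    g⁻¹ * x * g⁻¹⁻¹ * c.z = c.z * (g⁻¹ * x * g⁻¹⁻¹) := by
  rw [show g⁻¹ * x * g⁻¹⁻¹ * c.z = g⁻¹ * (x * (g * c.z * g⁻¹)) * g by group, h]; group
theorem push {g x y : G} (h : x * (g⁻¹ * y * g⁻¹⁻¹) = g⁻¹ * y * g⁻¹⁻¹ * x) :
    g * x * g⁻¹ * y = y * (g * x * g⁻¹) := by
  rw [show g * x * g⁻¹ * y = g * (x * (g⁻¹ * y * g⁻¹⁻¹)) * g⁻¹ by group, h]; group
theorem unpush {g x y : G} (h : g * x * g⁻¹ * y = y * (g * x * g⁻¹)) :
    x * (g⁻¹ * y * g⁻¹⁻¹) = g⁻¹ * y * g⁻¹⁻¹ * x := by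
  rw [show x * (g⁻¹ * y * g⁻¹⁻¹) = g⁻¹ * (g * x * g⁻¹ * y) * g by group, h]; group
theorem swap_ne {g : G} (h : g * c.z * g⁻¹ ≠ c.z) : g⁻¹ * c.z * g⁻¹⁻¹ ≠ c.z := fun e => h (by
  nth_rw 1 [← e]; group)
theorem A.ne {u : G} {s : K} (h : c.A u s) (hu : c.D u) (h1 : u ≠ c.z) : ψ s ≠ 1 := fun e => by
  obtain ⟨g, rfl⟩ := hu.ex
  exact h1 (c.tig c.z_mem c.z_sq c.z_ne (h.mem_K e))

theorem uniq_inv {u κ : G} (hu : c.D u) (hc : u * c.z = c.z * u) (hne : u ≠ c.z) (hκ : κ ∈ c.K0)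
    (h2 : κ * κ = 1) (hκt : κ * u = u * κ) : κ = 1 ∨ κ = c.z := by
  by_contra! hh
  obtain ⟨g, rfl⟩ := hu.ex
  obtain ⟨τ, hτ⟩ := c.exA (pull hc.symm)
  obtain ⟨υ, hυ⟩ := c.exA (pull hκt)
  have kz : ∀ κ ∈ c.K0, κ * κ = 1 → κ * c.z * (κ * c.z) = 1 := fun κ hκ h2 => by
    rw [mul_assoc, ← mul_assoc c.z, ← c.K_z hκ, mul_assoc, c.z_sq, mul_one, h2]
  have kz1 : ∀ κ, κ ≠ c.z → κ * c.z ≠ 1 := fun κ h e => h (by rw [← mul_one κ, ← c.z_sq, ← mul_assoc, e, one_mul])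
  have key : ∀ κ ∈ c.K0, κ * κ = 1 → κ ≠ 1 → κ ≠ c.z → ∀ υ, c.A (g⁻¹ * κ * g⁻¹⁻¹) υ → In υ ∧ ¬ In τ :=
    fun κ hk h2 h1 h3 υ ha => by
    have n1 : ψ υ ≠ 1 := fun e => swap_ne hne (c.tig hk h2 h1 (ha.mem_K e))
    have t2 := hτ.sqD (c.Dz.conj _)
    rcases PZ.res (υ := υ) (y := τ) (fun l hl _ e => ((hτ.comm hl).1 (unpush (mul_inv_eq_iff_eq_mul.1
      (c.tig hk h2 h1 (by rwa [push ((ha.comm hl).2 e.symm).symm, mul_inv_cancel_right])))).symm).symm)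
      (ha.sq (by rw [conj_mul, h2]; simp)) n1 with e | e | e | e
    · exact absurd e (hτ.ne (c.Dz.conj _) (swap_ne hne))
    · exact absurd (c.tig (mul_mem hk c.z_mem) (kz κ hk h2) (kz1 κ h3)
        (by rw [← conj_mul]; exact (ha.mul hτ).mem_K (by rw [map_mul, ← e, t2]))) (swap_ne hne)
    · exact absurd (e.2.symm.trans t2) n1
    · exact ⟨e.1, e.2.1⟩
  have a1 := key κ hκ h2 hh.1 hh.2 υ hυ
  have a2 := key _ (mul_mem hκ c.z_mem) (kz κ hκ h2) (kz1 κ hh.2) (by simpa using hh.1) _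
    (by rw [← conj_mul]; exact hυ.mul hτ)
  exact a1.2 ((In_mul.1 a2.1).1 a1.1)

theorem A.flip {t : G} {s : K} (h : c.A t s) (hs : Ty m [0, 16, 25] s) (ht : c.D t) : c.D (t * c.z) := by
  obtain ⟨l, h1, h2⟩ := (flipK hs).1
  have := h l h1
  rw [h2, c.F_mul _ _ h1 In5, mul_inv_eq_iff_eq_mul] at this
  have := ht.conj (c.F l)⁻¹
  rwa [inv_inv, mul_assoc, ‹t * _ = _›, mul_assoc, inv_mul_cancel_left, ← z, ← h.comm_z] at this

theorem A.inL {t : G} {s : K} (h : c.A t s) (hs : Ty m [23, 24] s) (ht : c.D t) (h1 : t ≠ c.z) :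
    ∃ l, In l ∧ (c.F l * t * (c.F l)⁻¹ = c.F (m 23) ∨ c.F l * t * (c.F l)⁻¹ = c.F (m 24)) := by
  obtain ⟨l, a1, a2⟩ := tyA_in hs
  refine ⟨l, a1, ?_⟩
  have a3 := (((A_F a1).mul h).mul (A_F a1).inv).congr (t := m 23) (a2.elim (fun e => by rw [e])
    fun e => by rw [e]; exact mA24.symm)
  have a4 := ht.conj (c.F l)
  have a5 : c.F l * t * (c.F l)⁻¹ ≠ c.z := fun e => h1 (by
    rwa [mul_inv_eq_iff_eq_mul, ← c.F_z a1, mul_right_inj] at e)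
  generalize c.F l * t * (c.F l)⁻¹ = u at a3 a4 a5
  have a6 := (a3.comm (inm 23)).2 rfl
  have a7 := c.F_sq (inm 23) (mod_m.sq 23)
  rcases uniq_inv a4 a3.comm_z a5 ((a3.mul (A_F (inm 23))).mem_K (by rw [mod_m.sq 23, map_one]))
    (by rw [mul_assoc, ← mul_assoc (c.F _), ← a6, mul_assoc, a7, mul_one, a4.sq])
    (by rw [mul_assoc, a6]) with e | e
  · exact .inl (by rw [eq_inv_of_mul_eq_one_left e, inv_eq_of_mul_eq_one_left a7])
  · exact .inr (by rw [← c.az, c.F_z (inm 23), ← e, mul_assoc, a7, mul_one])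

theorem exa [IsSimpleGroup G] : c.D (c.F (m 23)) ∨ c.D (c.F (m 24)) := by
  by_contra! hh
  have k0 : ∀ t s, c.A t s → c.D t → t ≠ c.z → Ty m [0, 16, 25] s := fun t s h ht h1 =>
    (ty_cases (h.sqD ht) (h.ne ht h1)).resolve_left fun e => by
      obtain ⟨l, -, e | e⟩ := h.inL e ht h1
      exacts [hh.1 (e ▸ ht.conj _), hh.2 (e ▸ ht.conj _)]
  obtain ⟨t, a1, a2, a3⟩ := zstar c.z_ne c.z_sq (by
    have x2 : c.F (m 0) * c.F (m 0) = c.z := by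
      rw [← c.F_mul _ _ (inm 0) (inm 0), show m 0 * m 0 = m 5 by simpa using mod_m.eq (u := [0, 0]) (v := [5]), z]
    rw [← orderOf_eq_prime_pow (p := 2) (n := 1) (x := c.F (m 0)) (by simpa [sq, x2] using c.z_ne)
      (by simpa [pow_succ, mul_assoc, ← x2] using c.z_sq) |>.trans (by norm_num : 2 ^ (1 + 1) = 4)]
    exact orderOf_dvd_natCard _)
  obtain ⟨s, hs⟩ := c.exA a3
  obtain ⟨l, b1, b2, b3⟩ := (flipK (k0 t s hs a1 a2)).2
  have b4 := (b1.conj s).mul b1.inv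
  have b5 : c.F (s * l * s⁻¹ * l⁻¹) = t * (c.F l * t * (c.F l)⁻¹) := by
    rw [c.F_mul _ _ (b1.conj s) b1.inv, ← hs l b1, c.F_inv b1, inv_eq_of_mul_eq_one_left (D.sq a1)]; group
  have b6 : c.D (c.F (s * l * s⁻¹ * l⁻¹)) := by
    have b6 := c.F_sq b4 b2
    have b7 := D.conj a1 (c.F l)
    have b8 : c.F l * t * (c.F l)⁻¹ ≠ t := fun e => b3 (by
      rw [e, D.sq a1] at b5; rw [c.F_inj _ b4 b5, map_one])
    rw [b5] at b6 ⊢
    generalize c.F l * t * (c.F l)⁻¹ = u at b6 b7 b8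
    have b9 : u * t = t * u := by
      rw [eq_inv_of_mul_eq_one_left b6, mul_inv_rev, inv_eq_of_mul_eq_one_left b7.sq,
        inv_eq_of_mul_eq_one_left (D.sq a1)]
    obtain ⟨g, rfl⟩ := D.ex a1
    obtain ⟨τ, hτ⟩ := c.exA (pull b9)
    have := (hτ.flip (k0 _ _ hτ (b7.conj _) fun e => b8 (by rw [← e]; group)) (b7.conj _)).conj g
    rwa [show g * (g⁻¹ * u * g⁻¹⁻¹ * c.z) * g⁻¹ = u * (g * c.z * g⁻¹) by group, b9] at this
  obtain ⟨l', -, e | e⟩ := (A_F b4).inL (tyA_of b2 b3 b4) b6 fun e => b3 ((A_F b4).one (e ▸ c.z_mem))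
  exacts [hh.1 (e ▸ b6.conj _), hh.2 (e ▸ b6.conj _)]

/-- `x` induces an inner automorphism -/
def Inn (c : SD G) (x : G) : Prop := ∃ s, In s ∧ c.A x s
theorem Inn.mul {x y : G} (h : c.Inn x) (h' : c.Inn y) : c.Inn (x * y) :=
  h.elim fun s hs => h'.elim fun t ht => ⟨s * t, hs.1.mul ht.1, hs.2.mul ht.2⟩
theorem Inn.in {x : G} {s : K} (h : c.Inn x) (h' : c.A x s) : In s :=
  h.elim fun t ht => by rw [In, h'.uniq ht.2]; exact ht.1
theorem inn_w {g : G} {s : K} (h : c.A (g * c.z * g⁻¹) s) : ∀ W : List (List ℕ),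
    (∀ w ∈ W, In (ev m w) ∧ ev m w ^ 15 = 1 ∧ s * ev m w = ev m w * s) →
      In (ev m W.flatten) ∧ c.Inn (g⁻¹ * c.F (ev m W.flatten) * g⁻¹⁻¹)
  | [], _ => ⟨In1, 1, In1, by simpa [c.F_one] using A_K (one_mem c.K0)⟩
  | w :: W, hW => by
    obtain ⟨a1, a2, a3⟩ := hW w List.mem_cons_self
    obtain ⟨b1, b2⟩ := inn_w h W fun v hv => hW v (List.mem_cons_of_mem _ hv)
    obtain ⟨t, ht⟩ := c.exA (pull ((h.comm a1).2 a3).symm)
    rw [List.flatten_cons, ev_append, c.F_mul _ _ a1 b1, ← conj_mul]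
    exact ⟨a1.mul b1, Inn.mul ⟨t, In_odd (by decide) (ht.pow1 (F_pow a1 a2 _)), ht⟩ b2⟩
theorem chkW {s : ℕ} {W : List (List ℕ)} (h : (allL W fun w => and2 (par w)
    (and2 (eqW run (pw 15 w) []) (cm run [s] w))) = true) :
    ∀ w ∈ W, In (ev m w) ∧ ev m w ^ 15 = 1 ∧ m s * ev m w = ev m w * m s := by
  simpa only [allL_true, and2_true, iso.eqW, cm_true iso, ← In_ev, ev_pw, ev_nil, ev_cons,
    mul_one] using h

theorem FK {u : K} (hu : In u) (h : ψ u ≠ 1) : c.F u ≠ c.z := fun e => h ((A_F hu).one (e ▸ c.z_mem))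
theorem a_ne : ψ (m 23) ≠ 1 := by simpa [mA] using isoA.ne (u := [23]) (v := []) (by decide +kernel)

theorem uniqK [IsSimpleGroup G] {κ : G} (hκ : κ ∈ c.K0) (h2 : κ * κ = 1) : κ = 1 ∨ κ = c.z := by
  rcases c.exa with h | h
  · exact uniq_inv h (c.F_z (inm 23)) (FK (inm 23) a_ne) hκ h2 (c.mem_K.1 hκ _ (inm 23))
  · exact uniq_inv h (c.F_z (inm 24)) (FK (inm 24) (mA24.trans_ne a_ne)) hκ h2 (c.mem_K.1 hκ _ (inm 24))

variable [IsSimpleGroup G]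

theorem notE (c : SD G) : ¬ c.D (c.F (m 24)) := fun h => by
  obtain ⟨g, hg⟩ := h.ex
  have i0 : In iK := inn _
  have hA : c.A (g * c.z * g⁻¹) (m 24) := hg ▸ A_F (inm 24)
  have hne : g * c.z * g⁻¹ ≠ c.z := hg ▸ FK (inm 24) (mA24.trans_ne a_ne)
  have i2 : iK * iK = m 24 := by simpa [iK, mul_assoc] using mod_m.eq (u := [38, 39, 40, 38, 39, 40]) (v := [24])
  obtain ⟨τ, hτ⟩ := c.exA (pull hA.comm_z.symm)
  obtain ⟨υ, i1, hυ⟩ := (inn_w hA _ (chkW (s := 24)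
    (W := [[39, 21, 5], [43, 38, 37, 21, 43], [43, 37, 22, 43, 37, 22, 5]]) (by decide +kernel))).2
  rw [mod_m.eq (v := [38, 39, 40]), ← iK] at hυ
  have key : ∀ j, In j → m 26 * j * (m 26)⁻¹ * j⁻¹ = m 23 → g⁻¹ * c.F j * g⁻¹⁻¹ ∉ c.K0 := fun j a1 a2 a3 => by
    have a4 := mul_mem (nK (pull ((hA.comm (inm 26)).2 (mod_m.comm 24 26)).symm) a3) (inv_mem a3)
    rw [conj_mul, conj_inv, conj_inv, conj_mul, conj_mul, A_F (inm 26) j a1, ← c.F_inv a1,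
      ← c.F_mul _ _ (a1.conj _) a1.inv, a2] at a4
    rcases uniqK a4 (by rw [conj_mul, c.F_sq (inm 23) (mod_m.sq 23)]; simp) with e | e
    · exact a_ne ((A_F (inm 23)).one (conj_eq_one_iff.1 e ▸ one_mem _))
    · exact mod_m.ne (u := [23]) (v := [24]) (by decide +kernel) (by
        simpa using c.F_eq (inm 23) (inm 24) (by rw [← hg, ← e]; group))
  have a0 : m 26 * iK * (m 26)⁻¹ * iK⁻¹ = m 23 := by
    simpa [iK, mul_assoc, ev_invW hiv, hiv 26] using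
      mod_m.eq (u := app [26, 38, 39, 40, iv 26] (invW iv [38, 39, 40])) (v := [23])
  have u2 := hυ.sq (by rw [conj_mul, ← c.F_mul _ _ i0 i0, i2, ← hg]; simpa [mul_assoc] using c.z_mem)
  have t1 := hτ.ne (c.Dz.conj _) (swap_ne hne)
  have t2 := hτ.sqD (c.Dz.conj _)
  rcases PZ.res (υ := τ) (y := υ) (fun l hl e1 e => by
    obtain ⟨σ, hσ⟩ := c.exA (push ((hτ.comm hl).2 e.symm).symm)
    exact ((hυ.comm hl).1 (unpush ((hσ.comm i0).2 (i_comm (mem_C1.2 ((hσ.comm (inm 24)).1 (by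
      rw [← hg, conj_mul, conj_mul, c.F_z hl]))) (by decide) (hσ.pow1 (F_pow hl e1 g))))).symm).symm)
    t2 t1 with e | e | e | e
  · exact key _ i0 a0 (hυ.mem_K e)
  · refine key _ (i0.mul In5) (by rw [← a0, mul_inv_rev, ← mul_assoc (m 26), mul_assoc _ (m 5), ← fc]; group) ?_
    rw [c.F_mul _ _ i0 In5, ← conj_mul]
    exact (hυ.mul hτ).mem_K (by rw [map_mul, e, t2])
  · exact t1 (e.2.symm.trans u2)
  · exact e.2.1 i1

theorem Da : c.D (c.F (m 23)) := c.exa.resolve_right c.notE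

theorem A.nf {t : G} {s : K} (h : c.A t s) (hs : Ty m [23, 24] s) (ht : c.D t) (h1 : t ≠ c.z) :
    (∃ l, In l ∧ c.F l * t * (c.F l)⁻¹ = c.F (m 23)) ∧ ¬ c.D (t * c.z) := by
  obtain ⟨l, a1, a2⟩ := h.inL hs ht h1
  have a3 := a2.resolve_right fun e => c.notE (e ▸ ht.conj _)
  refine ⟨⟨l, a1, a3⟩, fun e => c.notE ?_⟩
  have := e.conj (c.F l)
  rwa [← conj_mul, a3, c.F_z a1, mul_inv_cancel_right, c.az] at this

theorem toA {t : G} (ht : c.D t) (h0 : t * c.z = c.z * t) (h1 : t ≠ c.z) (h2 : ¬ c.D (t * c.z)) :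
    ∃ l, In l ∧ c.F l * t * (c.F l)⁻¹ = c.F (m 23) := by
  obtain ⟨s, h⟩ := c.exA h0
  exact (h.nf ((ty_cases (h.sqD ht) (h.ne ht h1)).resolve_right
    fun e => h2 (h.flip e ht)) ht h1).1

theorem A.notB {t : G} {s : K} (h : c.A t s) (ht : c.D t) (h1 : In s) (h2 : s * s = m 5) : False := by
  have s1 : s * s ≠ 1 := h2 ▸ extK.ne
  have a0 : ψ s ≠ 1 := fun e => s1 (by rcases ker5 e with rfl | rfl <;> simp [mod_m.f2])
  have hne : t ≠ c.z := fun e => a0 (h.one (e ▸ c.z_mem))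
  have a1 := h.flip ((ty_cases (by rw [← map_mul, h2, ψ5]) a0).resolve_left fun ⟨r, b1, k, _, b2⟩ => s1 (by
    have : r = 23 ∨ r = 24 := by simpa using b1
    rcases this with rfl | rfl
    exacts [by simpa [← b2] using mod_m.sq 23, by simpa [← b2] using mod_m.sq 24])) ht
  have a2 := (h.comm h1).2 rfl
  have a3 : t * (t * (c.F s)⁻¹) = t * (c.F s)⁻¹ * t := by
    rw [mul_assoc, (show Commute _ _ from a2).inv_right.eq]
  have a4 : t * (c.F s)⁻¹ * (t * (c.F s)⁻¹) = c.z := by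
    rw [← mul_assoc, ← a3, ← mul_assoc t t, ht.sq, one_mul, ← mul_inv_rev, ← c.F_mul _ _ h1 h1, h2, ← z,
      inv_eq_of_mul_eq_one_left c.z_sq]
  obtain ⟨g, rfl⟩ := ht.ex
  obtain ⟨τ, hτ⟩ := c.exA (pull h.comm_z.symm)
  obtain ⟨η, hη⟩ := c.exA (pull a3.symm)
  have t1 := hτ.ne (c.Dz.conj _) (swap_ne hne)
  have t2 := hτ.sqD (c.Dz.conj _)
  have e2 : ψ η * ψ η = ψ τ := by
    have := hη.mul hη
    rw [conj_mul, a4] at this
    rw [← map_mul, this.uniq hτ]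
  rcases PZ.res (υ := τ) (y := η) (fun l hl e1 e => by
    obtain ⟨σ, hσ⟩ := c.exA (push ((hτ.comm hl).2 e.symm).symm)
    have b1 : g * c.F l * g⁻¹ * (g * c.z * g⁻¹) = g * c.z * g⁻¹ * (g * c.F l * g⁻¹) := by
      rw [conj_mul, conj_mul, c.F_z hl]
    have b2 := (hσ.comm h1).2 (oddc (hσ.pow1 (F_pow hl e1 g)) (by
      rw [← map_mul, ← map_mul, (hσ.mul h).uniq (b1 ▸ h.mul hσ)]))
    exact ((hη.comm hl).1 (unpush ((show Commute _ _ from b1).mul_right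
      (show Commute _ _ from b2).inv_right).eq).symm).symm) t2 t1 with e | e | e | e
  · exact t1 (by rw [← e2, e, one_mul])
  · exact t1 (by rw [← e2, e, t2])
  · refine (hτ.nf e.1 (c.Dz.conj _) (swap_ne hne)).2 ?_
    have := a1.conj g⁻¹
    rwa [h.comm_z, show g⁻¹ * (c.z * (g * c.z * g⁻¹)) * g⁻¹⁻¹ = g⁻¹ * c.z * g⁻¹⁻¹ * c.z by group] at this
  · exact t1 (e2.symm.trans e.2.2)

theorem A.out {t : G} {s : K} (h : c.A t s) (ht : c.D t) (h1 : t ≠ c.z) (h2 : c.D (t * c.z)) :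
    Ty m [16, 25] s ∧ ¬ In s := by
  obtain ⟨r, a1, k, a2, a3⟩ := (ty_cases (h.sqD ht) (h.ne ht h1)).resolve_left
    fun e => (h.nf e ht h1).2 h2
  have a4 : r ≠ 0 := by
    rintro rfl
    refine h.notB ht (In_conj.1 (a3 ▸ inm 0)) ?_
    rw [← mem_C1_iff_conj.1 (inv_mem a2), ← show m 0 * m 0 = m 5 by
      simpa using mod_m.eq (u := [0, 0]) (v := [5]), ← a3]; group
  have a5 : r = 16 ∨ r = 25 := by grind
  exact ⟨⟨r, by grind, k, a2, a3⟩, fun e => by rcases a5 with rfl | rfl <;> exact outm _ (by decide) (a3 ▸ e.conj k)⟩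

theorem oddK {g y : G} (h : g * c.z * g⁻¹ ≠ c.z) (h1 : y ∈ c.K0) (h2 : g * y * g⁻¹ ∈ c.K0) :
    Odd (orderOf y) := by
  by_contra e
  obtain ⟨j, hj⟩ := Nat.not_odd_iff_even.1 e
  have := orderOf_pos y
  refine h (c.tig (pow_mem h1 j) (by rw [← pow_add, ← hj, pow_orderOf_eq_one])
    (pow_ne_one_of_lt_orderOf (by omega) (by omega)) (by rw [← conj_pow]; exact pow_mem h2 j))

theorem PAg {g : G} (hg : g * c.z * g⁻¹ = c.F (m 23)) {y : G} (hy : y ∈ c.K0) :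
    ∃ s, c.A (g * y * g⁻¹) s ∧ Cy s := by
  have hA : c.A (g * c.z * g⁻¹) (m 23) := hg ▸ A_F (inm 23)
  have hne : g * c.z * g⁻¹ ≠ c.z := hg ▸ FK (inm 23) a_ne
  obtain ⟨l, a1, a2⟩ := toA (c.Dz.conj g⁻¹) (pull hA.comm_z.symm) (swap_ne hne) fun e => c.notE (by
    have := e.conj g
    rwa [show g * (g⁻¹ * c.z * g⁻¹⁻¹ * c.z) * g⁻¹ = c.z * (g * c.z * g⁻¹) by group, hg,
      ← c.F_z (inm 23), c.az] at this)
  have a3 : ∀ y ∈ c.K0, ∃ s, c.A (g * y * g⁻¹) s := fun y hy => c.exA (push (by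
    rw [show g⁻¹ * c.z * g⁻¹⁻¹ = (c.F l)⁻¹ * c.F (m 23) * c.F l by rw [← a2]; group]
    exact mem_C1.1 (mem_C1_comm.1 (mul_mem (mul_mem (inv_mem (mem_C1.2 (c.mem_K.1 hy _ a1).symm))
      (mem_C1.2 (c.mem_K.1 hy _ (inm 23)).symm)) (mem_C1.2 (c.mem_K.1 hy _ a1).symm)))))
  let N : Subgroup K :=
    { carrier := {s | ∃ y ∈ c.K0, c.A (g * y * g⁻¹) s}
      one_mem' := ⟨1, one_mem _, by simpa using A_K (one_mem c.K0)⟩
      mul_mem' := fun ⟨x, h1, h2⟩ ⟨y, h3, h4⟩ => ⟨x * y, mul_mem h1 h3, by rw [← conj_mul]; exact h2.mul h4⟩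
      inv_mem' := fun ⟨x, h1, h2⟩ => ⟨x⁻¹, inv_mem h1, by rw [← conj_inv]; exact h2.inv⟩ }
  have ea : ∀ s, s * m 23 = m 23 * s ↔ s ∈ C{m 24} := fun s => by
    rw [mem_C1, ← mod_m.af, ← mul_assoc, mul_assoc (m 23), ← fc s, ← mul_assoc, mul_left_inj]
  obtain ⟨s, hs⟩ := a3 y hy
  refine ⟨s, hs, PA (N := N) (fun s ⟨y, h1, h2⟩ => (ea s).1 ((h2.comm (inm 23)).1 (by
    rw [← hg, conj_mul, conj_mul, c.K_z h1]))) (fun k h1 h2 s ⟨y, h3, h4⟩ => ⟨_, nK (pull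
      ((hA.comm h1).2 ((ea k).2 h2).symm).symm) h3, by
        convert ((A_F h1).mul h4).mul (A_F h1).inv using 1; group⟩)
    (fun s ⟨y, h1, h2⟩ h3 => ?_) ⟨y, hy, hs⟩⟩
  obtain ⟨j, hj⟩ := oddK hne (mul_mem h1 h1) (by rw [← conj_mul]; exact (h2.mul h2).mem_K (by rwa [map_mul]))
  have b1 := h2.pow (2 * j + 1)
  rw [conj_pow] at b1
  have b2 : ψ (s ^ (2 * j + 1)) = ψ s := by rw [map_pow, pow_succ, pow_mul, sq, h3, one_pow, one_mul]
  rcases uniqK (pow_mem h1 (2 * j + 1)) (by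
    rw [← (Commute.refl y).mul_pow, ← hj, pow_orderOf_eq_one]) with e | e <;> rw [e] at b1
  · exact .inl (b2 ▸ b1.one (by simp))
  · exact .inr (b2 ▸ b1.uniq hA)

end SD

end H27.HN
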