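import Mathlib
import Cfsg.Agent.H27.HSC

/-!
# The standard form problem for `2.HS`: the centraliser of the central involution
-/

set_option autoImplicit false
set_option linter.unusedSectionVars false
set_option maxRecDepth 100000

namespace H27.HN

open H29 H15.KM H24 Subgroup

/-- `g` acts like `k` twisted by the central automorphism. -/
def Tw {G : Type*} [Group G] (φ : K →* G) (g : G) (k : K) : Prop :=
  ∀ y, (In y → g * φ y * g⁻¹ = φ (k * y * k⁻¹)) ∧ (¬ In y → g * φ y * g⁻¹ = φ (k * y * k⁻¹ * m 5))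

/-- The structure of the centraliser of `φ f`. -/
structure Cf {G : Type*} [Group G] (φ : K →* G) (O : Subgroup G) : Prop where
  inj : Function.Injective φ
  odd : ∀ o ∈ O, Odd (orderOf o)
  cO : ∀ k, ∀ o ∈ O, φ k * o = o * φ k
  cen : ∀ g, g * φ (m 5) = φ (m 5) * g → (∃ k, ∃ o ∈ O, g = φ k * o) ∨ ∃ k, Tw φ g k
  sub : ∀ u, IsConj (φ (m 5)) u → u * φ (m 5) = φ (m 5) * u → u ∈ φ.range
  aD : IsConj (φ (m 5)) (φ (m 23))
  eD : ¬ IsConj (φ (m 5)) (φ (m 24))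
  bd : IsConj (φ (m 5)) (φ (m 16)) ↔ ¬ IsConj (φ (m 5)) (φ (m 25))

theorem ty_to {s : K} {r : ℕ} {R : List ℕ} (h : Ty m (r :: R) s) (x cx : List ℕ)
    (hc : ty run iv [] [r] cx x = true := by decide +kernel) :
    (∃ k, k * s * k⁻¹ = ev m x) ∨ Ty m R s := by
  obtain ⟨r', a1, k, a2, a3⟩ := h
  obtain ⟨r'', b1, l, -, b3⟩ := mod_m.ty hc
  rcases List.mem_cons.1 a1 with rfl | a1
  · exact .inl ⟨l⁻¹ * k, by
      rw [List.mem_singleton.1 b1, ← a3] at b3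
      rw [mul_inv_eq_iff_eq_mul.1 (show l⁻¹ * k * s * (l⁻¹ * k)⁻¹ * l⁻¹ = l⁻¹ * (k * s * k⁻¹) by group), ← b3]
      group⟩
  · exact .inr ⟨r', a1, k, a2, a3⟩

theorem ty2 {s : K} (h : Ty m [16, 25] s) (x cx y cy : List ℕ)
    (h1 : ty run iv [] [16] cx x = true := by decide +kernel)
    (h2 : ty run iv [] [25] cy y = true := by decide +kernel) :
    ∃ k, k * s * k⁻¹ = ev m x ∨ k * s * k⁻¹ = ev m y :=
  (ty_to h x cx h1).elim (fun a => a.imp fun _ => .inl) fun a =>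
    (ty_to a y cy h2).elim (fun a => a.imp fun _ => .inr) fun a => by simp [Ty] at a

namespace SD

variable {G : Type*} [Group G] [Finite G] [IsSimpleGroup G] {c : SD G}

theorem exφ (c : SD G) : ∃ φ : K →* G, (∀ k, c.A (φ k) k) ∧ (∀ k, In k → φ k = c.F k) ∧
    ∃ s, Ty m [16, 25] s ∧ c.D (φ s) := by
  classical
  obtain ⟨g, hg⟩ := c.Da.ex
  have dF : ∀ x w, par w = true → par x = true → eqW run (app w (app x (invW iv w))) [23] = true →
      c.D (c.F (ev m x)) := fun x w h1 h2 h3 => by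
    have b3 := A_F (c := c) (inn w h1) _ (inn x h2)
    rw [show ev m w * ev m x * (ev m w)⁻¹ = m 23 by
      simpa [ev_invW hiv, mul_assoc] using iso.eqW.1 h3] at b3
    exact D_conj.1 (b3 ▸ c.Da)
  have d1 := dF [26] [8, 11] (by decide +kernel) (by decide +kernel) (by decide +kernel)
  have d2 := dF [26, 23] [10, 9] (by decide +kernel) (by decide +kernel) (by decide +kernel)
  simp only [ev_cons, ev_nil, mul_one] at d1 d2
  obtain ⟨s, hs⟩ := c.exA (pull (g := g) (x := c.F (m 26)) (by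
    rw [hg]; exact ((A_F (inm 26)).comm (inm 23)).2 (mod_m.comm 26 23)))
  have d3 := d1.conj g⁻¹
  obtain ⟨a1, a2⟩ := hs.out d3 (fun e => mod_m.ne (u := [26]) (v := [23]) (by decide +kernel) (by
    simpa using c.F_eq (inm 26) (inm 23) (by rw [← hg, ← e]; group))) (by
      have := d2.conj g⁻¹
      rwa [c.F_mul _ _ (inm 26) (inm 23), ← hg, show g⁻¹ * (c.F (m 26) * (g * c.z * g⁻¹)) * g⁻¹⁻¹ =
        g⁻¹ * c.F (m 26) * g⁻¹⁻¹ * c.z by group] at this)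
  generalize g⁻¹ * c.F (m 26) * g⁻¹⁻¹ = u at hs d3
  have s2 : s * s = 1 := by
    obtain ⟨k, e | e⟩ := ty2 a1 [16] [16] [25] [25] <;> simp only [ev_cons, ev_nil, mul_one] at e
    exacts [by simpa [← e] using mod_m.sq 16, by simpa [← e] using mod_m.sq 25]
  have si := inv_eq_of_mul_eq_one_left s2
  have o : ∀ k, ¬ In k → In (k * s) := fun k h => In_mul.2 (iff_of_false h a2)
  have mv : ∀ l, In l → u * c.F l = c.F (s * l * s) * u := fun l h => by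
    rw [← mul_inv_eq_iff_eq_mul, hs l h, si]
  have i2 : ∀ l, In l → In (s * l * s) := fun l h => by simpa [si] using h.conj s
  refine ⟨MonoidHom.mk' (fun k => if In k then c.F k else c.F (k * s) * u) fun a b => ?_,
    fun k => ?_, fun k h => if_pos h, s, a1, ?_⟩
  · by_cases ha : In a <;> by_cases hb : In b <;> simp only [In_mul, ha, hb, if_true, if_false, iff_true,
      iff_false, iff_self, not_true]
    · exact c.F_mul _ _ ha hb
    · rw [mul_assoc a, c.F_mul _ _ ha (o b hb), mul_assoc]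
    · rw [mul_assoc _ u, mv b hb, ← mul_assoc, ← c.F_mul _ _ (o a ha) (i2 b hb)]
      simp only [mul_assoc, ← mul_assoc s s, s2, one_mul]
    · rw [mul_assoc _ u, ← mul_assoc u, mv _ (o b hb), mul_assoc _ u, d3.sq, mul_one,
        ← c.F_mul _ _ (o a ha) (i2 _ (o b hb))]
      simp only [mul_assoc, ← mul_assoc s s, s2, one_mul, mul_one]
  · change c.A (if In k then _ else _) k
    split_ifs with h
    exacts [A_F h, by simpa [mul_assoc, s2] using (A_F (o k h)).mul hs]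
  · simpa [a2, s2, c.F_one] using d3

theorem Cy.four {s : K} (h : Cy s) : ψ s ^ 4 = 1 := by
  have := allL_true.1 (by decide +kernel : (allL [[], [23], [38, 39, 40], [38, 39, 40, 23]] fun w =>
    eqW runA (pw 4 w) []) = true)
  simp only [isoA.eqW, ev_pw, List.forall_mem_cons, ev_nil, evA, map_one] at this
  rcases h with h | h | h | h <;> rw [h]
  exacts [one_pow _, by simpa [mA] using this.2.1, this.2.2.1,
    by simpa [mA, iK, mul_assoc] using this.2.2.2.1]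

theorem oddmove {g y : G} (hg : g * c.z * g⁻¹ = c.F (m 23)) (hy : y ∈ c.K0) (h : Odd (orderOf y)) :
    g * y * g⁻¹ ∈ c.K0 := by
  obtain ⟨s, h1, h2⟩ := PAg hg hy
  exact h1.mem_K ((pow_eq_one_iff_of_coprime ((Nat.coprime_two_right.2 h).pow_right 2)).1
    ⟨h1.pow1 (by rw [conj_pow, pow_orderOf_eq_one]; simp), Cy.four h2⟩)

theorem exO (c : SD G) : ∃ O : Subgroup G, (∀ y, y ∈ O ↔ y ∈ c.K0 ∧ Odd (orderOf y)) ∧
    ∀ κ ∈ c.K0, ¬ (κ ∈ O ∨ κ * c.z ∈ O) → κ * κ * c.z ∈ O ∧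
      ∀ κ' ∈ c.K0, ¬ (κ' ∈ O ∨ κ' * c.z ∈ O) → κ * κ' ∈ O ∨ κ * κ' * c.z ∈ O := by
  obtain ⟨g, hg⟩ := c.Da.ex
  have hA : c.A (g * c.z * g⁻¹) (m 23) := hg ▸ A_F (inm 23)
  let O := c.K0 ⊓ c.K0.comap (MulAut.conj g).toMonoidHom
  have a2 : mA 23 * mA 23 = 1 := by rw [mA, ← map_mul, mod_m.sq 23, map_one]
  have Z : ∀ κ ∈ c.K0, ∀ s, c.A (g * κ * g⁻¹) s → (ψ s = 1 → κ ∈ O) ∧ (ψ s = mA 23 → κ * c.z ∈ O) :=
    fun κ h s hs => ⟨fun e => ⟨h, hs.mem_K e⟩, fun e => ⟨mul_mem h c.z_mem, by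
      change g * (κ * c.z) * g⁻¹ ∈ c.K0
      rw [← conj_mul]
      exact (hs.mul hA).mem_K (by rw [map_mul, e]; exact a2)⟩⟩
  have W : ∀ κ ∈ c.K0, ¬ (κ ∈ O ∨ κ * c.z ∈ O) → ∃ s, c.A (g * κ * g⁻¹) s ∧
      (ψ s = ψ iK ∨ ψ s = ψ iK * mA 23) := fun κ h e => by
    obtain ⟨s, h1, h2⟩ := PAg hg h
    exact ⟨s, h1, (h2.resolve_left fun a => e (.inl ((Z κ h s h1).1 a))).resolve_left
      fun a => e (.inr ((Z κ h s h1).2 a))⟩
  have := allL_true.1 (by decide +kernel : (allL [([38, 39, 40], [38, 39, 40], [23]),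
    ([38, 39, 40], [38, 39, 40, 23], []), ([38, 39, 40, 23], [38, 39, 40], []),
    ([38, 39, 40, 23], [38, 39, 40, 23], [23])] fun w => eqW runA (app w.1 w.2.1) w.2.2) = true)
  have b6 : ev m [38, 39, 40, 23] = iK * m 23 := by simp [iK, mul_assoc]
  simp only [isoA.eqW, List.forall_mem_cons, app_eq, ev_append, evA, b6, ← iK.eq_1, map_mul, ← mA.eq_1,
    ev_nil, map_one, show ev m [23] = m 23 by simp] at this
  refine ⟨O, fun y => ⟨fun h => ⟨h.1, oddK (hg ▸ FK (inm 23) a_ne) h.1 h.2⟩,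
    fun h => ⟨h.1, oddmove hg h.1 h.2⟩⟩, fun κ h1 h2 => ?_⟩
  obtain ⟨s, b1, b2⟩ := W κ h1 h2
  refine ⟨(Z _ (mul_mem h1 h1) (s * s) (by rw [← conj_mul]; exact b1.mul b1)).2 (by
    rcases b2 with b | b <;> simp only [map_mul, b, this]), fun κ' h3 h4 => ?_⟩
  obtain ⟨s', b3, b4⟩ := W κ' h3 h4
  have b5 := Z _ (mul_mem h1 h3) (s * s') (by rw [← conj_mul]; exact b1.mul b3)
  rcases b2 with b | b <;> rcases b4 with b' | b' <;> simp only [map_mul, b, b', this] at b5 <;> tauto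

theorem bdA {u : G} (h : c.A u (m 16)) (hu : c.D u) : ¬ c.D (u * c.F (m 23)) := fun e => by
  obtain ⟨g, rfl⟩ := hu.ex
  have a1 := (inn_w h _ (chkW (W := [[8], [11], [9], [10], [8]]) (by decide +kernel))).2
  rw [mod_m.eq (v := [23]), ev_cons, ev_nil, mul_one] at a1
  obtain ⟨s, a2, a3⟩ := a1
  refine (a3.out (c.Da.conj _) (fun e => outm 16 (by decide) ?_) ?_).2 a2
  · rw [In, h.uniq (t := m 23) (by rw [← e]; simpa [mul_assoc] using A_F (inm 23))]; exact inm 23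
  · have := e.conj g⁻¹
    rwa [(h.comm (inm 23)).2 (mod_m.comm 16 23), show g⁻¹ * (c.F (m 23) * (g * c.z * g⁻¹)) * g⁻¹⁻¹ =
      g⁻¹ * c.F (m 23) * g⁻¹⁻¹ * c.z by group] at this

theorem exCf (c : SD G) : ∃ (φ : K →* G) (O : Subgroup G), Cf φ O ∧
    (∀ g, g * φ (m 5) * g⁻¹ * φ (m 5) = φ (m 5) * (g * φ (m 5) * g⁻¹) → g ∈ N[O]) ∧
    ∀ κ, Tw φ κ 1 → κ * κ * φ (m 5) ∈ O := by
  obtain ⟨φ, hA, hF, s0, hs0, hD⟩ := c.exφ
  obtain ⟨O, hO, h4⟩ := c.exO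
  have hz : φ (m 5) = c.z := hF _ In5
  have ha : φ (m 23) = c.F (m 23) := hF _ (inm 23)
  have φz : ∀ k, φ k * c.z = c.z * φ k := fun k => (hA k).comm_z
  have n0 : ∀ g, g * c.z = c.z * g → g ∈ N[O] := fun g h => mem_N_of_finite fun y hy =>
    (hO _).2 ⟨nK h ((hO y).1 hy).1, by rw [orderOf_conj]; exact ((hO y).1 hy).2⟩
  have n1 : ∀ g, g * c.z * g⁻¹ * c.z = c.z * (g * c.z * g⁻¹) → ¬ c.D (g * c.z * g⁻¹ * c.z) → g ∈ N[O] :=
    fun g h1 h2 => by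
    by_cases h3 : g * c.z * g⁻¹ = c.z
    · exact n0 g (mul_inv_eq_iff_eq_mul.1 h3)
    obtain ⟨l, a1, a2⟩ := toA (c.Dz.conj g) h1 h3 h2
    exact (mul_mem_cancel_left (n0 _ (c.F_z a1))).1 (mem_N_of_finite fun y hy => (hO _).2
      ⟨oddmove (by rw [← a2]; group) ((hO y).1 hy).1 ((hO y).1 hy).2, by
        rw [orderOf_conj]; exact ((hO y).1 hy).2⟩)
  have bd2 : ∀ u r, r = 16 ∨ r = 25 → c.A u (m r) → c.D u → ¬ c.D (u * c.F (m 23)) := by
    rintro u r (rfl | rfl) h1 h2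
    · exact bdA h1 h2
    · exact fun e => bdA (((h1.mul (A_F (inm 23)))).congr (by
        rw [mod_m.e25, mul_assoc, mod_m.sq 23, mul_one])) e (by
          rwa [mul_assoc, c.F_sq (inm 23) (mod_m.sq 23), mul_one])
  have nO : ∀ g, g * c.z * g⁻¹ * c.z = c.z * (g * c.z * g⁻¹) → g ∈ N[O] := fun g h1 => by
    by_cases h2 : c.D (g * c.z * g⁻¹ * c.z)
    swap; · exact n1 g h1 h2
    by_cases h3 : g * c.z * g⁻¹ = c.z
    · exact n0 g (mul_inv_eq_iff_eq_mul.1 h3)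
    obtain ⟨s, hs⟩ := c.exA h1
    obtain ⟨r, a1, k, -, a2⟩ := (hs.out (c.Dz.conj g) h3 h2).1
    have a3 := ((hA k).mul hs).mul (hA k).inv
    rw [a2, show φ k * (g * c.z * g⁻¹) * (φ k)⁻¹ = φ k * g * c.z * (φ k * g)⁻¹ by group] at a3
    have a4 : r = 16 ∨ r = 25 := by simpa using a1
    have a5 := (a3.comm (inm 23)).2 (by rcases a4 with rfl | rfl; exacts [mod_m.comm 16 23, mod_m.comm 25 23])
    obtain ⟨h, hh⟩ := c.Da.ex
    have a6 : (φ k * g)⁻¹ * h * c.z * ((φ k * g)⁻¹ * h)⁻¹ = (φ k * g)⁻¹ * c.F (m 23) * (φ k * g)⁻¹⁻¹ := by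
      rw [← hh]; group
    have a7 := n1 ((φ k * g)⁻¹ * h) (by rw [a6]; exact pull a5.symm) fun e =>
      bd2 _ r a4 a3 (c.Dz.conj _) (by
        have := e.conj (φ k * g)
        rwa [a6, ← conj_mul, show φ k * g * ((φ k * g)⁻¹ * c.F (m 23) * (φ k * g)⁻¹⁻¹) * (φ k * g)⁻¹ =
          c.F (m 23) by group, ← a5] at this)
    rwa [mul_mem_cancel_right (n1 h (by rw [hh, c.F_z (inm 23)]) (by rw [hh, c.az]; exact c.notE)),
      inv_mem_iff, mul_mem_cancel_left (n0 _ (φz k))] at a7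
  have dO : ∀ u, c.D u → u * c.z = c.z * u → ∀ o ∈ O, u * o = o * u := fun u h1 h2 o ho => by
    obtain ⟨g, rfl⟩ := h1.ex
    exact push (c.K_z ((hO _).1 ((mem_N.1 (inv_mem (nO g h2)) o).1 ho)).1).symm
  have s0o : ¬ In s0 := fun e => by
    obtain ⟨k, a | a⟩ := ty2 hs0 [16] [16] [25] [25]
    exacts [outm 16 (by decide) (by simpa [a] using e.conj k), outm 25 (by decide) (by simpa [a] using e.conj k)]
  have split : ∀ y, ¬ In y → ∃ l, In l ∧ φ y = c.F l * φ s0 := fun y h =>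
    have := In_mul.2 (iff_of_false h (In_inv.not.2 s0o))
    ⟨_, this, by rw [← hF _ this, ← map_mul, inv_mul_cancel_right]⟩
  have cO : ∀ k, ∀ o ∈ O, φ k * o = o * φ k := fun k o ho => by
    by_cases h : In k
    · rw [hF k h, c.mem_K.1 ((hO o).1 ho).1 k h]
    · obtain ⟨l, a1, a2⟩ := split k h
      rw [a2, mul_assoc, dO _ hD (φz _) o ho, ← mul_assoc, ← c.mem_K.1 ((hO o).1 ho).1 l a1, mul_assoc]
  have cZ : ∀ u κ, u * c.z = c.z * u → (∀ o ∈ O, u * o = o * u) → κ ∈ O ∨ κ * c.z ∈ O → u * κ = κ * u := by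
    rintro u κ h1 h2 (h | h)
    · exact h2 κ h
    · simpa [← mul_assoc, mul_assoc κ c.z, ← h1] using h2 _ h
  have twD : ∀ u κ, c.D u → u * c.z = c.z * u → u ≠ c.z → c.D (u * c.z) → κ ∈ c.K0 →
      ¬ (κ ∈ O ∨ κ * c.z ∈ O) → u * κ * u⁻¹ = κ * c.z := fun u κ h1 h2 h3 h5 h6 h7 => by
    have nu := mem_N.1 (n0 u h2)
    have a1 := cZ u _ h2 (dO u h1 h2) ((h4 κ⁻¹ (inv_mem h6) (by
      rwa [inv_mem_iff, ← inv_mem_iff (x := _ * _), mul_inv_rev, inv_inv, inv_eq_of_mul_eq_one_left c.z_sq,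
        ← c.K_z h6])).2 _ (nK h2 h6) (by
      rwa [← nu, ← mul_inv_eq_iff_eq_mul.2 h2, conj_mul, ← nu]))
    rcases uniqK (mul_mem (inv_mem h6) (nK h2 h6)) (by
      calc _ = κ⁻¹ * u * κ * (u⁻¹ * (κ⁻¹ * (u * κ * u⁻¹))) := by group
        _ = κ⁻¹ * u * κ * (κ⁻¹ * (u * κ * u⁻¹) * u⁻¹) := by rw [(show Commute _ _ from a1).inv_left]
        _ = κ⁻¹ * (u * u) * κ * (u * u)⁻¹ := by group
        _ = 1 := by simp [h1.sq]) with e | e
    swap; · exact inv_mul_eq_iff_eq_mul.1 e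
    exfalso
    obtain ⟨g, rfl⟩ := h1.ex
    obtain ⟨τ, hτ⟩ := c.exA (pull h2.symm)
    obtain ⟨η, hη⟩ := c.exA (pull (mul_inv_eq_iff_eq_mul.1 (inv_mul_eq_one.1 e).symm).symm)
    refine (hτ.out (c.Dz.conj _) (swap_ne h3) (by
      have := h5.conj g⁻¹
      rwa [h2, show g⁻¹ * (c.z * (g * c.z * g⁻¹)) * g⁻¹⁻¹ = g⁻¹ * c.z * g⁻¹⁻¹ * c.z by group] at this)).2 ?_
    have b1 := ((hη.mul hη).mul hτ).one (by
      rw [conj_mul, conj_mul]; exact ((hO _).1 ((mem_N.1 (inv_mem (nO g h2)) _).1 (h4 κ h6 h7).1)).1)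
    exact (In_mul.1 (show In (η * η * τ) by rw [In, b1]; exact one_mem _)).1 (by simp [In_mul])
  have nz : ∀ s, ¬ In s → φ s ≠ c.z := fun s h e => h (by rw [In, (hA s).one (e ▸ c.z_mem)]; exact one_mem _)
  have t0 : ∀ {s}, Ty m [16, 25] s → Ty m [0, 16, 25] s := fun ⟨r, a, b⟩ => ⟨r, List.mem_cons_of_mem _ a, b⟩
  have tw0 := fun κ => twD _ κ hD (φz _) (nz _ s0o) ((hA s0).flip (t0 hs0) hD)
  have zi := inv_eq_of_mul_eq_one_left c.z_sq
  refine ⟨φ, O, ⟨(injective_iff_map_eq_one φ).2 fun k h => (ker5 ((hA k).one (h ▸ one_mem _))).resolve_right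
    fun e => c.z_ne (by rw [← hz, ← e, h]), fun o ho => ((hO o).1 ho).2, cO, fun g hg => ?_,
    fun v h1 h2 => ?_, hz ▸ ha ▸ c.Da, hz ▸ hF _ (inm 24) ▸ c.notE, ?_⟩, hz ▸ nO, fun κ h => ?_⟩
  · obtain ⟨k, hk⟩ := c.exA (hz ▸ hg)
    have a1 := ((hA k).inv.mul hk).mem_K (by simp)
    by_cases a2 : (φ k)⁻¹ * g ∈ O ∨ (φ k)⁻¹ * g * c.z ∈ O
    · refine .inl (a2.elim (fun a => ⟨k, _, a, by simp⟩) fun a => ⟨k * m 5, _, a, ?_⟩)
      rw [map_mul, hz, c.K_z a1, ← mul_assoc, mul_assoc (φ k) c.z, c.z_sq]; simp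
    refine .inr ⟨k, fun y => ⟨fun h => by rw [hF y h, hk y h, hF _ (h.conj k)], fun h => ?_⟩⟩
    obtain ⟨l, b1, b2⟩ := split y h
    have b3 := tw0 _ a1 a2
    have b4 := c.mem_K.1 a1 l b1
    have b5 := c.K_z a1
    obtain ⟨κ, rfl⟩ : ∃ κ, g = φ k * κ := ⟨(φ k)⁻¹ * g, by simp⟩
    simp only [inv_mul_cancel_left, map_mul, map_inv, hz, b2] at *
    calc _ = φ k * (κ * c.F l) * (φ s0 * κ * (φ s0)⁻¹)⁻¹ * (φ s0 * κ * (φ s0)⁻¹) * φ s0 * κ⁻¹ * (φ k)⁻¹ := by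
          group
      _ = φ k * c.F l * (κ * (κ * c.z)⁻¹) * φ s0 * (κ * (φ s0)⁻¹ * φ s0 * κ⁻¹) * (φ k)⁻¹ := by
          rw [b4]; nth_rw 1 [b3]; group
      _ = φ k * c.F l * (c.z * (φ s0 * (φ k)⁻¹)) := by rw [b5, mul_inv_rev, ← mul_assoc κ, zi]; group
      _ = _ := by rw [← map_inv, ← map_mul, ← φz, map_mul]; group
  · rw [hz] at h1 h2
    by_cases h3 : v = c.z
    · exact ⟨_, hz.trans h3.symm⟩
    by_cases h5 : c.D (v * c.z)
    swap
    · obtain ⟨l, a1, a2⟩ := toA h1 h2 h3 h5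
      exact ⟨l⁻¹ * m 23 * l, by rw [map_mul, map_mul, map_inv, ha, hF l a1, ← a2]; group⟩
    obtain ⟨s, hs⟩ := c.exA h2
    obtain ⟨k, hk⟩ := ty2 (hs.out h1 h3 h5).1 [4] [16, 18] [4, 28] [25, 1, 21, 35]
    obtain ⟨k0, hk0⟩ := ty2 hs0 [16] [16] [16, 28] [25, 13, 13]
    have a1 := ((hA k).mul hs).mul (hA k).inv
    have a2 := D.conj h1 (φ k)
    have a3 := hD.conj (φ k0)
    rw [← map_inv, ← map_mul, ← map_mul] at a3
    suffices φ k * v * (φ k)⁻¹ ∈ φ.range by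
      simpa [mul_assoc] using mul_mem (mul_mem (inv_mem (⟨k, rfl⟩ : φ k ∈ φ.range)) this) ⟨k, rfl⟩
    obtain ⟨a4, a5, a6, a7⟩ : k0 * s0 * k0⁻¹ * (k * s * k⁻¹) * (k0 * s0 * k0⁻¹)⁻¹ = k * s * k⁻¹ * m 5 ∧
        k * s * k⁻¹ * (k * s * k⁻¹) = 1 ∧ ¬ In (k * s * k⁻¹) ∧
        k * s * k⁻¹ * (k0 * s0 * k0⁻¹) * (k * s * k⁻¹ * (k0 * s0 * k0⁻¹)) = m 5 := by
      have := allL_true.1 (by decide +kernel : (allL [[16], [16, 28]] fun x => allL [[4], [4, 28]] fun y =>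
        and2 (eqW run (app (app x y) (invW iv x)) (app y [5])) (and2 (eqW run (app y y) [])
          (and2 (not1 (par y)) (eqW run (app (app y x) (app y x)) [5])))) = true)
      simp only [allL_true, and2_true, iso.eqW, app_eq, ev_append, ev_invW hiv, not1_true, ← In_ev,
        ev_nil, show ev m [5] = m 5 by simp, List.forall_mem_cons] at this
      rcases hk with a | a <;> rcases hk0 with b | b <;> rw [a, b] <;> tauto
    have a8 : ¬ In (k0 * s0 * k0⁻¹) := In_conj.not.2 s0o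
    have a9 := (hA _).flip (Mod.Ty.conj mod_m (k := k0⁻¹) (f_cent _) (by simpa [mul_assoc] using t0 hs0)) a3
    have a10 := Mod.Ty.conj mod_m (x := k * s * k⁻¹) (k := k⁻¹) (f_cent _) (by
      simpa [mul_assoc] using t0 (hs.out h1 h3 h5).1)
    generalize k0 * s0 * k0⁻¹ = x at *
    generalize k * s * k⁻¹ = y at *
    generalize φ k * v * (φ k)⁻¹ = w at *
    have b1 := ((hA y).inv.mul a1).mem_K (by simp)
    obtain ⟨κ, rfl⟩ : ∃ κ, w = φ y * κ := ⟨(φ y)⁻¹ * w, by simp⟩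
    rw [inv_mul_cancel_left] at b1
    by_cases b2 : κ ∈ O ∨ κ * c.z ∈ O
    · have b3 := a2.sq
      rw [mul_assoc, ← mul_assoc κ, ← cZ _ κ (φz y) (cO y) b2, mul_assoc, ← mul_assoc, ← map_mul, a5,
        map_one, one_mul] at b3
      rcases uniqK b1 b3 with rfl | rfl
      exacts [⟨y, by simp⟩, ⟨y * m 5, by simp [hz]⟩]
    exfalso
    have b3 : φ y * κ * φ x = φ x * (φ y * κ) := by
      rw [eq_comm, ← mul_inv_eq_iff_eq_mul, ← conj_mul, twD _ κ a3 (φz x) (nz x a8) a9 b1 b2, ← map_inv,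
        ← map_mul, ← map_mul, a4, map_mul, hz, c.K_z b1, mul_assoc, ← mul_assoc c.z, c.z_sq, one_mul]
    obtain ⟨g, hg⟩ := a3.ex
    have key : ∀ w t, c.A w t → c.D w → w * φ x = φ x * w → ¬ In t → t * x * (t * x) = m 5 →
        c.Inn (g⁻¹ * w * g⁻¹⁻¹) := fun w t d1 d2 d3 d4 d5 => by
      have d6 := (d1.mul (hA x)).notB
      obtain ⟨l, e1, e2⟩ := toA (d2.conj g⁻¹) (pull (hg ▸ d3)) (fun e => by
        rw [show w = φ x by rw [← hg, ← e]; group] at d1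
        exact extK.ne (by rw [← d5, extK.sq_eq (c := t * x) (d := 1) (by
          rw [map_mul, d1.uniq (hA x), (hA x).sqD (hg ▸ c.Dz.conj g), map_one]), one_mul])) fun e => by
        have := e.conj g
        rw [← conj_mul, hg, show g * (g⁻¹ * w * g⁻¹⁻¹) * g⁻¹ = w by group] at this
        exact d6 this (In_mul.2 (iff_of_false d4 a8)) d5
      have e3 := ((A_F (c := c) e1).inv.mul (A_F (inm 23))).mul (A_F e1)
      rw [← e2] at e3
      exact ⟨_, (e1.inv.mul (inm 23)).mul e1, by convert e3 using 1; group⟩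
    have c1 := (key _ _ a1 a2 b3 a6 a7).mul (key _ _ (a1.mul (hA (m 5))) (by
      rw [hz]; exact a1.flip a10 a2) (by rw [hz, mul_assoc, ← φz, ← mul_assoc, b3, mul_assoc (φ x)])
      (by simpa [In_mul, In5] using a6) (by
        rw [mul_assoc y, ← fc x, ← mul_assoc y, extK.sq_z, a7]))
    rw [conj_mul, ← mul_assoc (φ y * κ), a2.sq, one_mul, hz] at c1
    obtain ⟨τ, c2, c3⟩ := c1
    refine (c3.out (c.Dz.conj _) (swap_ne (hg ▸ nz x a8)) ?_).2 c2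
    have := a9.conj g⁻¹
    rwa [φz, ← hg, show g⁻¹ * (c.z * (g * c.z * g⁻¹)) * g⁻¹⁻¹ = g⁻¹ * c.z * g⁻¹⁻¹ * c.z by group] at this
  · rw [hz]
    have a1 : φ (m 25) = φ (m 16) * c.F (m 23) := by rw [mod_m.e25, map_mul, ha]
    refine ⟨fun h => a1 ▸ bdA (hA _) h, fun h => ?_⟩
    obtain ⟨k, a | a⟩ := ty2 hs0 [16] [16] [25] [25] <;> have := hD.conj (φ k) <;>
      rw [← map_inv, ← map_mul, ← map_mul, a, ev_cons, ev_nil, mul_one] at this
    exacts [this, absurd this h]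
  · have a1 : κ ∈ c.K0 := c.mem_K.2 fun l hl => by
      simpa [mul_inv_eq_iff_eq_mul, hF l hl] using (h l).1 hl
    refine hz ▸ (h4 κ a1 fun e => c.z_ne ?_).1
    simpa [← cZ _ κ (φz s0) (cO s0) e, hz] using (h s0).2 s0o

end SD

end H27.HN
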