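import Mathlib
import Cfsg.Agent.H27.HNA
import Cfsg.Agent.H18.HND2

/-! The standard form problem for `2.HS`: the fake fusion pattern. -/

set_option autoImplicit false

namespace H27.HN

section
open H24 Subgroup H18.HNA

theorem exists_central' {H : Type*} [Group H] [Finite H] {x y : H} (hx : x * x = 1) (hy : y * y = 1)
    (he : ¬ Odd (orderOf (x * y))) : ∃ k, k * k = 1 ∧ k ≠ 1 ∧ k * x = x * k ∧ k * y = y * k ∧
      (IsConj y (x * k) ∨ IsConj y (y * k)) := by
  obtain ⟨h1, h2, h3⟩ := H6.central_involution hx hy (Nat.not_odd_iff_even.1 he)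
  refine ⟨_, H6.mul_self_of_orderOf_two h1, H6.ne_one_of_orderOf_two h1, h2, h3, ?_⟩
  have e1 : y * x = (x * y)⁻¹ := by
    rw [mul_inv_rev, H6.inv_eq_of_mul_self hx, H6.inv_eq_of_mul_self hy]
  rw [← zpow_natCast]
  obtain ⟨j, e | e⟩ := Int.even_or_odd' (orderOf (x * y) / 2 : ℕ) <;> rw [e] <;>
    obtain ⟨d, -, e⟩ := (H6.exists_conj_left_iff hy hx).2 ⟨-j, rfl⟩
  · exact .inr (isConj_iff.2 ⟨d, e.trans (by rw [e1, inv_zpow']; congr 2; ring)⟩)
  · refine .inl (isConj_iff.2 ⟨d, e.trans ?_⟩)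
    rw [e1, inv_zpow', add_comm, zpow_add, zpow_one, ← mul_assoc, ← mul_assoc, hx, one_mul]
    congr 2; ring

theorem four_normal' {H : Type*} [Group H] [Finite H] (V : Set H) {a b β τ : H}
    (hV : ∀ v, v ∈ V ↔ IsConj a v) (ha : orderOf a = 2) (hb : b ∈ V) (hab : a * b ∈ V)
    (hc : a * b = b * a)
    (hVC : ∀ v ∈ V, v * a = a * v → v = a ∨ v = b ∨ v = a * b)
    (hβa : β * a = a * β) (hβb : β * b = b * β)
    (hN : ∀ g, g * a * g⁻¹ ∈ Subgroup.closure {a, b} → g * b * g⁻¹ ∈ Subgroup.closure {a, b} →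
      g * β * g⁻¹ * β⁻¹ ∈ Subgroup.closure {a, b})
    (hF : ∀ w, w * w = 1 → w * a = a * w → w * b = b * w → w * β = β * w → w ∈ Subgroup.closure {a, b} ∨
      β⁻¹ * w ∈ Subgroup.closure {a, b})
    (hτ2 : τ * τ = 1) (hτV : τ ∉ V) (hτa : τ * a = a * τ) (hτb : τ * b = b * τ) (hτβ : τ * β ≠ β * τ) :
    ∀ v ∈ V, v = a ∨ v = b ∨ v = a * b := by
  obtain ⟨E, hE⟩ : ∃ E, E = closure ({a, b} : Set H) := ⟨_, rfl⟩
  rw [← hE] at hN hF
  have ord : ∀ v ∈ V, orderOf v = 2 := fun v hv => H6.orderOf_of_isConj ((hV v).1 hv) ▸ ha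
  have sq : ∀ v ∈ V, v * v = 1 := fun v hv => H6.mul_self_of_orderOf_two (ord v hv)
  have ne : ∀ v ∈ V, v ≠ 1 := fun v hv => H6.ne_one_of_orderOf_two (ord v hv)
  have haV : a ∈ V := (hV a).2 (IsConj.refl a)
  have cjV : ∀ v ∈ V, ∀ w, IsConj v w → w ∈ V := fun v hv w e => (hV w).2 (((hV v).1 hv).trans e)
  have cj' : ∀ v ∈ V, ∀ g, g * v * g⁻¹ ∈ V := fun v hv g => cjV v hv _ (isConj_iff.2 ⟨g, rfl⟩)
  have aE : a ∈ E := hE ▸ subset_closure (by simp)
  have bE : b ∈ E := hE ▸ subset_closure (by simp)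
  have centE : ∀ w, w * a = a * w → w * b = b * w → w ∈ C[E] := fun w h1 h2 => by
    rw [mem_C_iff_le_C1, hE, closure_le]
    rintro z (rfl | rfl)
    · exact mem_C1.2 h1.symm
    · exact mem_C1.2 h2.symm
  have Eab : E ≤ C[E] := by
    conv_lhs => rw [hE]
    rw [closure_le]
    rintro z (rfl | rfl)
    · exact centE _ rfl hc
    · exact centE _ hc.symm rfl
  have memE : ∀ z ∈ E, z = 1 ∨ z = a ∨ z = b ∨ z = a * b := fun z hz => by
    rw [hE] at hz
    have a2 := sq a haV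
    have b2 := sq b hb
    induction hz using closure_induction'' with
    | mem x hx => rcases hx with rfl | rfl <;> simp
    | inv_mem x hx =>
      rcases hx with rfl | rfl
      · simp [H6.inv_eq_of_mul_self a2]
      · simp [H6.inv_eq_of_mul_self b2]
    | one => simp
    | mul x y _ _ hx hy =>
      have e1 : a * (a * b) = b := by rw [← mul_assoc, a2, one_mul]
      have e2 : b * (a * b) = a := by rw [hc, ← mul_assoc, b2, one_mul]
      have e3 : a * b * a = b := by rw [hc, mul_assoc, a2, mul_one]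
      have e4 : a * b * b = a := by rw [mul_assoc, b2, mul_one]
      rcases hx with rfl | rfl | rfl | rfl <;> rcases hy with rfl | rfl | rfl | rfl <;>
        simp [a2, b2, e1, e2, e3, e4, sq _ hab, ← hc]
  have EV : ∀ z ∈ E, z ≠ 1 → z ∈ V := fun z hz h1 => by
    rcases memE z hz with rfl | rfl | rfl | rfl
    exacts [absurd rfl h1, haV, hb, hab]
  have VE : ∀ v ∈ V, v * a = a * v → v ∈ E := fun v hv e => by
    rcases hVC v hv e with rfl | rfl | rfl
    exacts [aE, bE, mul_mem aE bE]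
  have pull : ∀ g w : H, w * (g * a * g⁻¹) = (g * a * g⁻¹) * w →
      (g⁻¹ * w * g⁻¹⁻¹) * a = a * (g⁻¹ * w * g⁻¹⁻¹) := fun g w e => by
    calc _ = g⁻¹ * (w * (g * a * g⁻¹)) * g := by group
      _ = _ := by rw [e]; group
  have N1 : ∀ g, g * a * g⁻¹ ∈ E → g ∈ N[E] := fun g hg => by
    refine mem_N_of_le_cj fun z hz => mem_cj.2 ?_
    by_cases h1 : z = 1
    · simp [h1]
    · simpa using VE _ (cj' z (EV z hz h1) g⁻¹) (pull g z (mem_C'.1 (Eab hz) _ hg))
  have C1 : ∀ v ∈ V, v ∈ E → ∀ w ∈ V, w * v = v * w → w ∈ E := fun v hv hE w hw e => by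
    obtain ⟨g, rfl⟩ := isConj_iff.1 ((hV v).1 hv)
    exact (conj_mem_iff (inv_mem (N1 g hE))).1 (VE _ (cj' w hw _) (pull g w e))
  have odd : ∀ v ∈ V, v ∈ E → ∀ v' ∈ V, v' ∉ E → Odd (orderOf (v * v')) :=
    fun v hv hE v' hv' h' => by
      by_contra e
      obtain ⟨k, -, h1, h2, h3, h4⟩ := exists_central (sq v hv) (sq v' hv') e
      have h5 : k ∈ E := (mul_mem_cancel_left hE).1 (C1 v hv hE _
        (h4.elim (cjV v hv _) (cjV v' hv' _)) (by rw [mul_assoc, h2]))
      exact h' (C1 k (EV k h5 h1) h5 v' hv' h3.symm)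
  have two : ∀ q ∈ C[E], ∀ v' ∈ V, v' ∉ E → q * v' = v' * q → q * β = β * q :=
    fun q hq v' hv' h' e => by
      by_contra h0
      have hy := hN q ((conj_eq_of_mem_C hq aE).symm ▸ aE) ((conj_eq_of_mem_C hq bE).symm ▸ bE)
      obtain ⟨y, hy'⟩ : ∃ y, y = q * β * q⁻¹ * β⁻¹ := ⟨_, rfl⟩
      rw [← hy'] at hy
      have hyV := EV y hy fun e => h0 (by
        calc q * β = (q * β * q⁻¹ * β⁻¹) * (β * q) := by group
          _ = _ := by rw [← hy', e, one_mul])
      obtain ⟨z, hz, hzV, hne⟩ : ∃ z ∈ E, z ∈ V ∧ z ≠ y := by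
        by_cases h1 : a = y
        · exact ⟨a * b, mul_mem aE bE, hab, fun e => ne b hb (by simpa [← h1] using e)⟩
        · exact ⟨a, aE, haV, h1⟩
      have aux : ∀ v ∈ V, v ∈ E → ∃ d ∈ C{q}, d * v * d⁻¹ = v' := fun v hv hE => by
        obtain ⟨d, hd, h1⟩ := H6.exists_conj_of_odd (sq v hv) (sq v' hv') (odd v hv hE v' hv' h')
        refine ⟨d, (closure_le _).2 ?_ hd, h1⟩
        rintro w (rfl | rfl)
        · exact mem_C1.2 (mem_C.1 hq _ hE)
        · exact mem_C1.2 e.symm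
      obtain ⟨d1, hd1, e1⟩ := aux y hyV hy
      obtain ⟨d2, hd2, e2⟩ := aux z hzV hz
      obtain ⟨g, hg⟩ : ∃ g, g = d2⁻¹ * d1 := ⟨_, rfl⟩
      have hgq : g * q * g⁻¹ = q := mem_C1_iff_conj.1 (hg ▸ mul_mem (inv_mem hd2) hd1)
      have e3 : g * y * g⁻¹ = z := by
        calc _ = d2⁻¹ * (d1 * y * d1⁻¹) * d2 := by rw [hg]; group
          _ = _ := by rw [e1, ← e2]; group
      have hgN : g ∈ N[E] := by
        obtain ⟨u, hu⟩ := isConj_iff.1 ((hV y).1 hyV)
        refine (mul_mem_cancel_right (N1 u (hu ▸ hy))).1 (N1 _ ?_)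
        rw [show g * u * a * (g * u)⁻¹ = g * (u * a * u⁻¹) * g⁻¹ by group, hu, e3]
        exact hz
      have h1 := hN g (conj_mem hgN aE) (conj_mem hgN bE)
      obtain ⟨w, hw⟩ : ∃ w, w = g * β * g⁻¹ * β⁻¹ := ⟨_, rfl⟩
      rw [← hw] at h1
      refine hne ?_
      calc z = (g * q * g⁻¹) * (w * β) * (g * q * g⁻¹)⁻¹ * (w * β)⁻¹ := by
            rw [← e3, hy', hw]; group
        _ = (q * w * q⁻¹) * y * w⁻¹ := by rw [hgq, hy']; group
        _ = _ := by rw [conj_eq_of_mem_C hq h1, conj_eq_of_mem_C (Eab h1) hy]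
  have hτ := centE τ hτa hτb
  intro v hv
  by_contra h0
  have hvE : v ∉ E := fun e => h0 ((memE v e).resolve_left (ne v hv))
  obtain ⟨k, hk, h1, h2, h3, h6⟩ := exists_central' hτ2 (sq v hv) fun e =>
    hτV (cjV v hv τ (H6.isConj_of_odd hτ2 (sq v hv) e).symm)
  have h4 : k * a * k⁻¹ ∈ E := by
    by_contra e
    refine hτβ (two τ hτ _ (cj' a haV k) e ?_)
    calc _ = (τ * k) * a * k⁻¹ := by group
      _ = k * (a * τ) * k⁻¹ := by rw [← h2, ← hτa]; group
      _ = k * a * k⁻¹ * (k * τ) * k⁻¹ := by group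
      _ = _ := by rw [h2]; group
  obtain ⟨z, z1, z2, z3⟩ : ∃ z ∈ E, z ≠ 1 ∧ k * z = z * k := by
    have e1 := H6.inv_eq_of_mul_self hk
    by_cases e : a * (k * a * k⁻¹) = 1
    · refine ⟨a, aE, ne a haV, ?_⟩
      calc k * a = a⁻¹ * (a * (k * a * k⁻¹)) * k := by group
        _ = _ := by rw [e, H6.inv_eq_of_mul_self (sq a haV), mul_one]
    · refine ⟨_, mul_mem aE h4, e, ?_⟩
      calc _ = (k * a * k⁻¹) * ((k * k) * a) * k⁻¹ := by group
        _ = (k * a * k⁻¹) * a * k := by rw [hk, one_mul, e1]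
        _ = _ := by rw [mem_C'.1 (Eab h4) a aE]
  have h5 : k ∈ C[E] := by
    rcases h6 with e | e
    · exact (mul_mem_cancel_left hτ).1 (Eab (C1 z (EV z z1 z2) z1 _ (cjV v hv _ e) (by
        rw [mul_assoc, z3, ← mul_assoc, mem_C'.1 hτ z z1, mul_assoc])))
    · obtain ⟨g, rfl⟩ := isConj_iff.1 ((hV v).1 hv)
      have e1 := (mul_mem_cancel_left aE).1 (show a * (g⁻¹ * k * g⁻¹⁻¹) ∈ E by
        convert VE _ (cj' _ (cjV _ hv _ e) g⁻¹) (pull g _ (by rw [mul_assoc _ k, h3])) using 1; group)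
      have e2 := cj' _ (EV _ e1 (conj_eq_one_iff.not.2 h1)) g
      rw [show g * (g⁻¹ * k * g⁻¹⁻¹) * g⁻¹ = k by group] at e2
      exact Eab (C1 z (EV z z1 z2) z1 k e2 z3)
  rcases hF k hk (mem_C'.1 h5 a aE) (mem_C'.1 h5 b bE) (two k h5 v hv hvE h3) with e | e
  · exact hvE (C1 k (EV k e h1) e v hv h3.symm)
  · refine hτβ ?_
    have e1 := mem_C'.1 hτ _ (inv_mem e)
    calc τ * β = (τ * k) * (β⁻¹ * k)⁻¹ := by group
      _ = k * (τ * (β⁻¹ * k)⁻¹) := by rw [← h2]; group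
      _ = _ := by rw [e1]; group

end

open Subgroup H18.HND

theorem fake' {G : Type*} [Group G] [Finite G] {f β a a' a3 s ρ : G} {U : Subgroup G}
    (hU : ∀ u, IsConj f u → u * f = f * u → u ∈ U)
    (hf1 : f ≠ 1) (ha1 : a ≠ 1) (hfa : f ≠ a)
    (hf2 : f * f = 1) (hβ2 : β * β = 1) (ha2 : a * a = 1) (ha'2 : a' * a' = 1) (hs2 : s * s = 1)
    (cfβ : f * β = β * f) (cfa : f * a = a * f) (cfa' : f * a' = a' * f) (cβa : β * a = a * β)
    (cβa' : β * a' = a' * β) (caa' : a * a' = a' * a) (cfs : f * s = s * f) (cas : a * s = s * a)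
    (hsβ : s * β * s⁻¹ = β * f) (cfa3 : f * a3 = a3 * f) (cβa3 : β * a3 = a3 * β)
    (ha3 : a * a3 ≠ a3 * a) (ha32 : a3 * a3 = 1)
    (cρ : ∀ u ∈ [f, β, a, a', a3, s], u * ρ = ρ * u)
    (hD : ∀ u ∈ [a, a', a * a', a3, β * a, β * f * a, β * a', β * f * a', β * a * a', β * f * a * a',
      β * a3, β * f * a3], IsConj f u)
    (hN : ∀ u ∈ [β, β * f, f * a, f * a', f * a * a', s], ¬ IsConj f u)
    (h3 : ∀ u, u * f = f * u → IsConj ρ u → ∃ k, k * f = f * k ∧ k * u * k⁻¹ = ρ)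
    (hCR : ∀ u ∈ U, u * f = f * u → u * ρ = ρ * u → u * u = 1 →
      ∃ g, g * f = f * g ∧ g * ρ = ρ * g ∧ g * u * g⁻¹ ∈ [1, f, β, a, f * a, β * a, s])
    (hA : ∀ u, u * f = f * u → u * ρ = ρ * u → u * a = a * u → u * u = 1 → IsConj f u →
      IsConj f (u * (f * a)) → u ∈ Subgroup.closure {f, a, β * a'})
    (hsb : s * (β * a') * s⁻¹ = β * a' ∨ s * (β * a') * s⁻¹ = β * a' * (f * a))
    (hH2 : ∀ w, w * f = f * w → w * ρ = ρ * w → w * a = a * w → (w * w = 1 ∨ w * w = f * a) →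
      (w * β = β * w ∨ w * (β * a') = β * a' * w) →
      (w * (β * a') * w⁻¹ = β * a' ∨ w * (β * a') * w⁻¹ = β * a' * (f * a)) →
      w ∈ Subgroup.closure {f, a, β * a'} ∨ β⁻¹ * w ∈ Subgroup.closure {f, a, β * a'})
    (hH4 : ∀ g, g * f = f * g → g * ρ = ρ * g → g * β * g⁻¹ = β ∨ g * β * g⁻¹ = β * f) :
    False := by
  simp only [List.mem_cons, List.not_mem_nil, or_false, forall_eq_or_imp, forall_eq] at cρ hD hN hCR
  obtain ⟨fρ, βρ, aρ, a'ρ, a3ρ, sρ⟩ := cρ
  obtain ⟨Da, Da', Daa', Da3, Dβa, Dβfa, Db, Dβfa', Dβaa', Dβfaa', Dβa3, -⟩ := hD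
  obtain ⟨Nβ, Nβf, Ne, Nfa', Nfaa', Ns⟩ := hN
  obtain ⟨e, he⟩ : ∃ e, e = f * a := ⟨_, rfl⟩
  obtain ⟨b, hb⟩ : ∃ b, b = β * a' := ⟨_, rfl⟩
  have fe : f * e = a := by rw [he, ← mul_assoc, hf2, one_mul]
  have ae : a * e = f := by rw [he, cfa, ← mul_assoc, ha2, one_mul]
  have e2 : e * e = 1 := by rw [he, mul_assoc, ← he, ae, hf2]
  have e1 : e ≠ 1 := fun h => hfa (by rw [← fe, h, mul_one])
  have cfe : f * e = e * f := by rw [he]; exact (mul_comm' rfl cfa.symm).symm
  have cβe : β * e = e * β := by rw [he]; exact (mul_comm' cfβ cβa.symm).symm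
  have ca'e : a' * e = e * a' := by rw [he]; exact (mul_comm' cfa' caa').symm
  have cse : s * e = e * s := by rw [he]; exact (mul_comm' cfs cas).symm
  have cbe : b * e = e * b := by rw [hb]; exact mul_comm' cβe ca'e
  have cbf : b * f = f * b := by rw [hb]; exact mul_comm' cfβ.symm cfa'.symm
  have cbβ : b * β = β * b := by rw [hb]; exact mul_comm' rfl cβa'.symm
  have eρ : e * ρ = ρ * e := by rw [he]; exact mul_comm' fρ aρ
  have bρ : b * ρ = ρ * b := by rw [hb]; exact mul_comm' βρ a'ρ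
  have b2 : b * b = 1 := sq_of_conj hf2 (hb ▸ Db)
  have fV : VV f e f := ⟨cfe, IsConj.refl f, fe ▸ Da⟩
  have bV : VV f e b := ⟨cbe, hb ▸ Db, by
    rw [← show β * f * a * a' = b * e by rw [hb, mul_assoc β a', ca'e, he]; group]; exact Dβfaa'⟩
  have fbV : VV f e (f * b) := ⟨mul_comm' cfe cbe, by
    rw [← show β * f * a' = f * b by rw [hb, ← cfβ]; group]; exact Dβfa', by
    rw [← show β * a * a' = f * b * e by rw [mul_assoc f, cbe, ← mul_assoc f, fe, hb, cβa]; group]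
    exact Dβaa'⟩
  rw [← he, ← hb] at hA hsb hH2
  rw [← he] at Ne hCR
  have cA : ∀ {w}, w * f = f * w → w * e = e * w → w * a = a * w := fun h1 h2 => by
    rw [← fe]; exact (mul_comm' h1.symm h2.symm).symm
  have nD : ∀ {u v} (g : G), ¬ IsConj f u → g * v * g⁻¹ = u → ¬ IsConj f v := fun g h1 h2 h =>
    h1 (h2 ▸ isConj_conj g h)
  have nD' : ∀ {u v} (g : G), IsConj f u → g * v * g⁻¹ = u → IsConj f v := fun g h1 h2 =>
    h1.trans (isConj_iff.2 ⟨g, h2⟩).symm
  -- the four group `V0`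
  have cls : ∀ u ∈ closure ({f, a, b} : Set G), Me e u 1 ∨ Me e u f ∨ Me e u b ∨ Me e u (f * b) := by
    have a1 : ∀ y, Me e y 1 ∨ Me e y f ∨ Me e y b ∨ Me e y (f * b) →
        Me e (f * y) 1 ∨ Me e (f * y) f ∨ Me e (f * y) b ∨ Me e (f * y) (f * b) := by
      rintro y (hy | hy | hy | hy)
      · exact .inr (.inl (by simpa using (Me.rfl' (a := f)).mul e2 (by simp) hy))
      · exact .inl (by simpa [hf2] using (Me.rfl' (a := f)).mul e2 cfe hy)
      · exact .inr (.inr (.inr ((Me.rfl' (a := f)).mul e2 cbe hy)))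
      · exact .inr (.inr (.inl (by
          simpa [← mul_assoc, hf2] using (Me.rfl' (a := f)).mul e2 fbV.1 hy)))
    have a2 : ∀ y, Me e y 1 ∨ Me e y f ∨ Me e y b ∨ Me e y (f * b) →
        Me e (b * y) 1 ∨ Me e (b * y) f ∨ Me e (b * y) b ∨ Me e (b * y) (f * b) := by
      rintro y (hy | hy | hy | hy)
      · exact .inr (.inr (.inl (by simpa using (Me.rfl' (a := b)).mul e2 (by simp) hy)))
      · exact .inr (.inr (.inr (cbf ▸ (Me.rfl' (a := b)).mul e2 cfe hy)))
      · exact .inl (b2 ▸ (Me.rfl' (a := b)).mul e2 cbe hy)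
      · exact .inr (.inl (by
          have := (Me.rfl' (a := b)).mul e2 fbV.1 hy
          rwa [← cbf, ← mul_assoc b b, b2, one_mul] at this))
    have a3 : ∀ y, Me e y 1 ∨ Me e y f ∨ Me e y b ∨ Me e y (f * b) →
        Me e (a * y) 1 ∨ Me e (a * y) f ∨ Me e (a * y) b ∨ Me e (a * y) (f * b) := by
      intro y hy
      have hy' : y * e = e * y := by
        rcases hy with hy | hy | hy | hy
        exacts [hy.comm_e (by simp), hy.comm_e cfe, hy.comm_e cbe, hy.comm_e fbV.1]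
      have : Me e (a * y) (f * y) := (fe ▸ Me.mul_e : Me e a f).mul e2 hy' Me.rfl'
      exact (a1 y hy).imp (this.trans e2) (Or.imp (this.trans e2) (Or.imp (this.trans e2) (this.trans e2)))
    intro t ht
    refine closure_induction_left (p := fun t _ => Me e t 1 ∨ Me e t f ∨ Me e t b ∨ Me e t (f * b))
      (Or.inl Me.rfl') ?_ ?_ ht
    · rintro x hx y - hy
      rcases hx with hx | hx | hx <;> rw [hx]
      exacts [a1 y hy, a3 y hy, a2 y hy]
    · rintro x hx y - hy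
      rcases hx with hx | hx | hx <;> rw [hx]
      · rw [← eq_inv_of_mul_eq_one_left hf2]; exact a1 y hy
      · rw [← eq_inv_of_mul_eq_one_left ha2]; exact a3 y hy
      · rw [← eq_inv_of_mul_eq_one_left b2]; exact a2 y hy
  have n1 : ∀ {u}, IsConj f u → ¬ Me e u 1 := fun hu h => by
    rcases me_iff.1 h with h | h
    · exact ne_one_of_conj hf1 hu h
    · exact Ne (by rwa [h, one_mul] at hu)
  have com : ∀ {u v}, (Me e u f ∨ Me e u b ∨ Me e u (f * b)) → (Me e v f ∨ Me e v b ∨ Me e v (f * b)) →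
      u * v = v * u := by
    have : ∀ {x v}, x * e = e * x → x * f = f * x → x * b = b * x →
        (Me e v f ∨ Me e v b ∨ Me e v (f * b)) → v * x = x * v := by
      rintro x v h1 h2 h3 (h | h | h) <;> rw [h.comm h1]
      exacts [h2.symm, h3.symm, mul_comm' h2.symm h3.symm]
    intro u v hu hv
    refine this ?_ (this cfe rfl cbf.symm hv) (this cbe cbf rfl hv) hu
    rcases hv with h | h | h
    exacts [h.comm_e cfe, h.comm_e cbe, h.comm_e fbV.1]
  have B0 : ∀ u, IsConj f u → u * ρ = ρ * u → ∃ g, g * ρ = ρ * g ∧ g * u * g⁻¹ = f := by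
    intro u hu huρ
    obtain ⟨g, hg⟩ := isConj_iff.1 hu.symm
    obtain ⟨k, k1, k2⟩ := h3 (g * ρ * g⁻¹) (by have := comm_conj g huρ.symm; rwa [hg] at this)
      (isConj_iff.2 ⟨g, rfl⟩)
    refine ⟨k * g, comm_of_conj (Eq.trans (by group) k2), ?_⟩
    calc _ = k * (g * u * g⁻¹) * k⁻¹ := by group
      _ = f := by rw [hg, conj_eq k1]
  have Nsf : ¬ IsConj f (s * f) := nD β Ns (by
    rw [← cfs, show f = β⁻¹ * (β * f) by group, ← hsβ]; group)
  have tr : ∀ {k x y : G}, k * f = f * k → k * x * k⁻¹ = y → k * (x * f) * k⁻¹ = y * f := by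
    intro k x y h1 h2
    rw [← h2, ← mul_assoc, mul_assoc _ f, ← inv_comm h1, mul_assoc]; group
  have B1 : ∀ u, VV f e u → u * ρ = ρ * u → ∃ g, g * ρ = ρ * g ∧ g * e = e * g ∧ g * u * g⁻¹ = f := by
    intro u hu huρ
    obtain ⟨g, gρ, hg⟩ := B0 u hu.2.1 huρ
    have d1 : IsConj f (g * e * g⁻¹ * f) := by
      have := isConj_conj g hu.2.2
      rwa [hu.1, show g * (e * u) * g⁻¹ = g * e * g⁻¹ * (g * u * g⁻¹) by group, hg] at this
    have d2 : ¬ IsConj f (g * e * g⁻¹) := nD g⁻¹ Ne (by group)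
    have d3 : g * e * g⁻¹ * f = f * (g * e * g⁻¹) := by have := comm_conj g hu.1.symm; rwa [hg] at this
    obtain ⟨k, k1, k2, k3⟩ := hCR (g * e * g⁻¹) ((mul_mem_cancel_right (hU f (IsConj.refl f) rfl)).1
      (hU _ d1 (mul_comm' d3 rfl))) d3
      (conj_comm_e gρ eρ) (sq_of_conj e2 (isConj_iff.2 ⟨g, rfl⟩))
    rcases k3 with k3 | k3 | k3 | k3 | k3 | k3 | k3
    · exact absurd (by simpa using k3) e1
    · exact absurd (nD' k (IsConj.refl f) k3) d2
    · exact absurd d1 (nD k Nβf (tr k1 k3))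
    · exact absurd (nD' k Da k3) d2
    · refine ⟨k * g, mul_comm' k2 gρ, comm_of_conj (Eq.trans (by group) k3), ?_⟩
      calc _ = k * (g * u * g⁻¹) * k⁻¹ := by group
        _ = f := by rw [hg, conj_eq k1]
    · exact absurd (nD' k Dβa k3) d2
    · exact absurd d1 (nD k Nsf (tr k1 k3))
  have A : ∀ v, VV f e v → v * ρ = ρ * v → v * f = f * v → Me e v f ∨ Me e v b ∨ Me e v (f * b) :=
    fun v hv vρ vf => (cls v (hA v vf vρ (cA vf hv.1) (sq_of_conj hf2 hv.2.1) hv.2.1 hv.2.2)).resolve_left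
      (n1 hv.2.1)
  have C : ∀ w, w * ρ = ρ * w → w * e = e * w → Me e (w * w) 1 → w * f * w⁻¹ = f * e →
      Me e (w * b * w⁻¹) b := by
    intro w wρ we w2 wf
    have wa : w * (f * e) * w⁻¹ = f := by
      calc _ = w * f * w⁻¹ * (w * e * w⁻¹) := by group
        _ = f := by rw [wf, conj_eq we, mul_assoc, e2, mul_one]
    rcases A _ (bV.conj we) (conj_comm_e wρ bρ) (by
      have := comm_conj w (mul_comm' cbf.symm cbe.symm).symm; rwa [wa] at this) with h | h | h
    · exfalso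
      have h1 : Me e b (f * e) := by
        have := (h.trans e2 (Me.of_eq wa.symm)).conj (inv_comm we)
        convert this using 1 <;> group
      have := (Me.rfl' (a := f)).mul e2 cfe (h1.trans e2 Me.mul_e)
      rw [hf2] at this
      exact n1 fbV.2.1 this
    · exact h
    exfalso
    obtain ⟨t, ht⟩ := h
    apply e1
    have : b = e * b := by
      calc b = (w * w) * b * (w * w)⁻¹ := (conj_eq ((w2.comm cbe).2 (by simp))).symm
        _ = w * (w * b * w⁻¹) * w⁻¹ := by group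
        _ = w * (f * b * E e t) * w⁻¹ := by rw [ht]
        _ = (w * f * w⁻¹) * (w * b * w⁻¹) * (w * E e t * w⁻¹) := by group
        _ = (f * e) * f * b * (E e t * E e t) := by rw [ht, wf, conj_eq (E_comm we t)]; group
        _ = e * (f * f) * b := by rw [cfe, E_mul e2]; simp [mul_assoc]
        _ = e * b := by rw [hf2, mul_one]
    exact right_eq_mul.1 this
  -- the quotient
  let H : Subgroup G := centralizer {ρ} ⊓ centralizer {e}
  have mH : ∀ {x : G}, x ∈ H ↔ x * ρ = ρ * x ∧ x * e = e * x :=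
    mem_inf.trans (and_congr mem_centralizer_singleton_iff mem_centralizer_singleton_iff)
  let e' : H := ⟨e, mH.2 ⟨eρ, rfl⟩⟩
  have : (zpowers e').Normal := ⟨by
    rintro _ ⟨k, rfl⟩ g
    refine ⟨k, ?_⟩
    have : Commute g e' := Subtype.ext (mH.1 g.2).2
    simp only [(this.zpow_right k).eq, mul_inv_cancel_right]⟩
  let π : H →* H ⧸ zpowers e' := QuotientGroup.mk' _
  have πs : Function.Surjective π := QuotientGroup.mk'_surjective _
  have πe : ∀ x y : H, π x = π y ↔ Me e (x : G) y := by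
    intro x y
    rw [eq_comm]
    refine QuotientGroup.eq.trans ⟨fun hh => ?_, fun hh => ?_⟩
    · obtain ⟨k, hk⟩ := hh
      refine Me.of_zpowers e2 (mH.1 y.2).2 ⟨k, ?_⟩
      have h1 : e ^ k = (y : G)⁻¹ * x := by simpa using congrArg Subtype.val hk
      have h2 : Commute (y : G) e := (mH.1 y.2).2
      calc e ^ k = y * e ^ k * (y : G)⁻¹ := (conj_eq (h2.zpow_right k).eq).symm
        _ = _ := by rw [h1]; group
    · rcases me_iff.1 hh with h1 | h1
      · rw [Subtype.ext h1]; simp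
      · refine ⟨1, Subtype.ext ?_⟩
        simp [h1, e']
  let f' : H := ⟨f, mH.2 ⟨fρ, cfe⟩⟩
  let b' : H := ⟨b, mH.2 ⟨bρ, cbe⟩⟩
  let β' : H := ⟨β, mH.2 ⟨βρ, cβe⟩⟩
  let s' : H := ⟨s, mH.2 ⟨sρ, cse⟩⟩
  have mV : ∀ x : H, IsConj (π f') (π x) ↔ VV f e x := by
    intro x
    constructor
    · intro hh
      obtain ⟨g, hg⟩ := isConj_iff.1 hh
      obtain ⟨g, rfl⟩ := πs g
      rw [← map_inv, ← map_mul, ← map_mul, πe] at hg
      exact (fV.conj (mH.1 g.2).2).me e2 (hg.symm e2)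
    · intro hh
      obtain ⟨g, gρ, hg, h1⟩ := B1 _ hh (mH.1 x.2).1
      refine IsConj.symm (isConj_iff.2 ⟨π ⟨g, mH.2 ⟨gρ, hg⟩⟩, ?_⟩)
      rw [← map_inv, ← map_mul, ← map_mul]
      exact congrArg π (Subtype.ext h1)
  have fW : f ∈ closure ({f, a, b} : Set G) := subset_closure (by simp)
  have bW : b ∈ closure ({f, a, b} : Set G) := subset_closure (by simp)
  have eW : e ∈ closure ({f, a, b} : Set G) := he ▸ mul_mem fW (subset_closure (by simp))
  have mW : ∀ x : H, π x ∈ closure {π f', π b'} ↔ (x : G) ∈ closure ({f, a, b} : Set G) := by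
    intro x
    constructor
    · intro hx
      have : closure {π f', π b'} ≤ ((closure ({f, a, b} : Set G)).subgroupOf H).map π :=
        (closure_le _).2 (by
          rintro _ (rfl | rfl)
          exacts [⟨f', fW, rfl⟩, ⟨b', bW, rfl⟩])
      obtain ⟨y, hy, h1⟩ := this hx
      rcases me_iff.1 ((πe _ _).1 h1.symm) with h2 | h2 <;> rw [h2]
      exacts [hy, mul_mem hy eW]
    · intro hx
      have h1 : π f' ∈ closure {π f', π b'} := subset_closure (by simp)
      have h2 : π b' ∈ closure {π f', π b'} := subset_closure (by simp)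
      rcases cls _ hx with h | h | h | h
      · rw [(πe x 1).2 h, map_one]; exact one_mem _
      · rw [(πe x f').2 h]; exact h1
      · rw [(πe x b').2 h]; exact h2
      · rw [(πe x (f' * b')).2 h, map_mul]; exact mul_mem h1 h2
  have cj : ∀ w x : H, π w * π x = π x * π w ↔ Me e (w * x * (w : G)⁻¹) x := fun w x => by
    rw [← mul_inv_eq_iff_eq_mul, ← map_inv, ← map_mul, ← map_mul, πe]; rfl
  have sq : ∀ w : H, π w * π w = 1 ↔ Me e ((w : G) * w) 1 := fun w => by
    rw [← map_mul, ← map_one π, πe]; rfl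
  have βW : ∀ x ∈ closure ({f, a, b} : Set G), x * β = β * x := fun x hx =>
    mem_centralizer_singleton_iff.1 ((closure_le (centralizer {β})).2 (by
      rintro x hx
      rcases hx with hx | hx | hx <;> rw [hx] <;> apply mem_centralizer_singleton_iff.2
      exacts [cfβ, cβa.symm, cbβ]) hx)
  have key := four_normal' {v | IsConj (π f') v} (a := π f') (b := π b') (β := π β') (τ := π s')
    (fun _ => Iff.rfl) ?_ ((mV b').2 bV) (by rw [← map_mul]; exact (mV _).2 fbV)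
    ((cj _ _).2 (Me.of_eq (conj_eq cbf.symm))) ?_ ((cj _ _).2 (Me.of_eq (conj_eq cfβ.symm)))
    ((cj _ _).2 (Me.of_eq (conj_eq cbβ.symm))) ?_ ?_ ((sq _).2 (Me.of_eq hs2))
    (fun h => Ns ((mV s').1 h).2.1) ((cj _ _).2 (Me.of_eq (conj_eq cfs.symm)))
    ((cj _ _).2 (me_iff.2 hsb)) ?_
  · have K : ∀ v, VV f e v → v * ρ = ρ * v → Me e v f ∨ Me e v b ∨ Me e v (f * b) := by
      intro v hv vρ
      have := key _ ((mV ⟨v, mH.2 ⟨vρ, hv.1⟩⟩).2 hv)
      rwa [← map_mul, πe, πe, πe] at this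
    have Dβ : ∀ x, IsConj f x → x * f = f * x → x * ρ = ρ * x → x * β = β * x := by
      intro x hx xf xρ
      obtain ⟨k, k1, k2, k3⟩ := hCR x (hU x hx xf) xf xρ (sq_of_conj hf2 hx)
      have : k * x * k⁻¹ * β = β * (k * x * k⁻¹) := by
        rcases k3 with k3 | k3 | k3 | k3 | k3 | k3 | k3
        · rw [k3]; simp
        · rw [k3, cfβ]
        · rw [k3]
        · rw [k3, cβa]
        · rw [k3, cβe]
        · rw [k3]; exact mul_comm' rfl cβa.symm
        · exact absurd hx (nD k Ns k3)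
      have h1 : k * x * k⁻¹ * (k * β * k⁻¹) = k * β * k⁻¹ * (k * x * k⁻¹) := by
        rcases hH4 k k1 k2 with h | h <;> rw [h]
        · exact this
        · exact (mul_comm' this.symm (conj_comm_e k1 xf).symm).symm
      have := comm_conj k⁻¹ h1
      convert this using 1 <;> group
    obtain ⟨g, gρ, hg⟩ := B0 (β * e) (by rw [he, ← mul_assoc]; exact Dβfa) (mul_comm' βρ eρ)
    have c1 : ∀ {x}, x * β = β * x → x * e = e * x → g * x * g⁻¹ * f = f * (g * x * g⁻¹) := by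
      intro x h1 h2
      have := comm_conj g (mul_comm' h1.symm h2.symm).symm
      rwa [hg] at this
    have cae : a * e = e * a := (cA cfe.symm rfl).symm
    have d1 : g * e * g⁻¹ * β = β * (g * e * g⁻¹) := by
      rw [he, show g * (f * a) * g⁻¹ = g * f * g⁻¹ * (g * a * g⁻¹) by group]
      exact mul_comm' (Dβ _ (isConj_conj g (IsConj.refl f)) (c1 cfβ cfe) (conj_comm_e gρ fρ))
        (Dβ _ (isConj_conj g Da) (c1 cβa.symm cae) (conj_comm_e gρ aρ))
    have d2 : ¬ IsConj f (g * e * g⁻¹) := nD g⁻¹ Ne (by group)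
    have d3 : ¬ IsConj f (g * e * g⁻¹ * f) := nD g⁻¹ Nβ (by
      rw [← hg, cβe]
      calc _ = (e * e) * β := by group
        _ = β := by rw [e2, one_mul])
    obtain ⟨k, k1, k2, k3⟩ := hCR (g * e * g⁻¹) (by
      rw [he, show g * (f * a) * g⁻¹ = g * f * g⁻¹ * (g * a * g⁻¹) by group]
      exact mul_mem (hU _ (isConj_conj g (IsConj.refl f)) (c1 cfβ cfe))
        (hU _ (isConj_conj g Da) (c1 cβa.symm cae))) (c1 cβe.symm rfl) (conj_comm_e gρ eρ)
      (sq_of_conj e2 (isConj_iff.2 ⟨g, rfl⟩))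
    rcases k3 with k3 | k3 | k3 | k3 | k3 | k3 | k3
    · exact e1 (by simpa using k3)
    · exact d2 (nD' k (IsConj.refl f) k3)
    · obtain ⟨m, hm⟩ : ∃ m, m = (k * g)⁻¹ := ⟨_, rfl⟩
      have mρ : m * ρ = ρ * m := hm ▸ inv_comm (mul_comm' k2 gρ)
      have me : m * β * m⁻¹ = e := by rw [hm, ← k3]; group
      have V : ∀ x, x * β = β * x → IsConj f x → IsConj f (β * x) → VV f e (m * x * m⁻¹) := by
        intro x h1 h2 h3
        refine ⟨me ▸ comm_conj m h1, isConj_conj m h2, ?_⟩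
        rw [← me, show m * x * m⁻¹ * (m * β * m⁻¹) = m * (x * β) * m⁻¹ by group, h1]
        exact isConj_conj m h3
      have := comm_conj m⁻¹ (com (K _ (V a cβa.symm Da Dβa) (conj_comm_e mρ aρ))
        (K _ (V a3 cβa3.symm Da3 Dβa3) (conj_comm_e mρ a3ρ)))
      apply ha3
      convert this using 1 <;> group
    · exact d2 (nD' k Da k3)
    · exact d3 (nD' k (by rw [← cfe, fe]; exact Da) (tr k1 k3))
    · exact d2 (nD' k Dβa k3)
    · have h1 := comm_conj k d1
      rw [k3] at h1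
      apply hf1
      rcases hH4 k k1 k2 with h | h <;> rw [h] at h1
      · rw [conj_eq h1] at hsβ
        exact left_eq_mul.1 hsβ
      · have h2 : s * β = β * s := by
          have := mul_comm' h1.symm cfs
          rw [mul_assoc β f f, hf2, mul_one] at this
          exact this.symm
        rw [conj_eq h2] at hsβ
        exact left_eq_mul.1 hsβ
  · refine orderOf_eq_prime ?_ ?_
    · rw [pow_two, sq]; exact Me.of_eq hf2
    · rw [← map_one π]
      exact fun h => n1 (IsConj.refl f) ((πe _ _).1 h)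
  · intro v hv hg
    obtain ⟨v, rfl⟩ := πs v
    rw [← map_mul, πe, πe, πe]
    have hv := (mV v).1 hv
    have vρ := (mH.1 v.2).1
    rcases me_iff.1 ((cj _ _).1 hg) with h1 | h1
    · exact A v hv vρ (comm_of_conj h1)
    exfalso
    obtain ⟨u, uV, uρ, uf, uv⟩ : ∃ u, VV f e u ∧ u * ρ = ρ * u ∧ f * u = u * f ∧ v * u = u * v := by
      rcases me_iff.1 (C v vρ hv.1 (Me.of_eq (sq_of_conj hf2 hv.2.1)) h1) with h2 | h2
      · exact ⟨b, bV, bρ, cbf.symm, comm_of_conj h2⟩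
      · refine ⟨f * b, fbV, mul_comm' fρ bρ, (mul_comm' rfl cbf).symm, comm_of_conj ?_⟩
        calc _ = (v * f * (v : G)⁻¹) * (v * b * (v : G)⁻¹) := by group
          _ = f * (e * b) * e := by rw [h2, show v * f * (v : G)⁻¹ = f * e from h1]; group
          _ = f * b := by rw [← cbe, mul_assoc, mul_assoc, e2, mul_one]
    obtain ⟨g, gρ, ge, hg⟩ := B1 u uV uρ
    have h2 := comm_conj g⁻¹ (com (A _ (hv.conj ge) (conj_comm_e gρ vρ) (by
      have := comm_conj g uv; rwa [hg] at this)) (A _ (fV.conj ge) (conj_comm_e gρ fρ) (by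
      have := comm_conj g uf; rw [hg] at this; exact this)))
    have h4 : v * f = f * v := by convert h2 using 1 <;> group
    rw [show (v * f' * (v : G)⁻¹ : G) = v * f * (v : G)⁻¹ from rfl, conj_eq h4] at h1
    exact e1 (left_eq_mul.1 h1)
  · intro g h1 h2
    obtain ⟨g, rfl⟩ := πs g
    rw [← map_inv, ← map_mul, ← map_mul, mW] at h1 h2
    rw [← map_inv, ← map_inv, ← map_mul, ← map_mul, ← map_mul, mW]
    obtain ⟨gρ, ge⟩ := mH.1 g.2
    have N := conj_inv_of_finite (K := closure ({f, a, b} : Set G)) (g := g) (fun q hq =>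
      (closure_le ((closure ({f, a, b} : Set G)).comap (MulAut.conj (g : G)).toMonoidHom)).2 (by
        rintro x hx
        rcases hx with hx | hx | hx <;> rw [hx]
        · exact h1
        · show (g : G) * a * (g : G)⁻¹ ∈ closure ({f, a, b} : Set G)
          rw [show (g : G) * a * (g : G)⁻¹ = g * f * (g : G)⁻¹ * (g * e * (g : G)⁻¹) by rw [← fe]; group,
            conj_eq ge]
          exact mul_mem h1 eW
        · exact h2) hq)
    have Z : ∀ x ∈ closure ({f, a, b} : Set G), g * β * (g : G)⁻¹ * x = x * (g * β * (g : G)⁻¹) := by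
      intro x hx
      have := comm_conj (g : G) (βW _ (N x hx))
      convert this.symm using 1 <;> group
    rcases hH2 _ (Z f fW) (conj_comm_e gρ βρ) (Z a (subset_closure (by simp)))
      (.inl (sq_of_conj hβ2 (isConj_iff.2 ⟨g, rfl⟩))) (.inr (Z b bW))
      (.inl (conj_eq (Z b bW))) with h | h
    · exfalso
      have d : ¬ IsConj f (g * β * (g : G)⁻¹) := nD (g : G)⁻¹ Nβ (by group)
      rcases cls _ h with h | h | h | h
      · have h4 : Me e β 1 := by
          have := h.conj (inv_comm ge)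
          convert this using 1 <;> group
        rw [conj_eq ((h4.comm cse).2 (by simp)).symm] at hsβ
        exact hf1 (left_eq_mul.1 hsβ)
      exacts [d (fV.me e2 h).2.1, d (bV.me e2 h).2.1, d (fbV.me e2 h).2.1]
    · show g * β * (g : G)⁻¹ * β⁻¹ ∈ _
      rw [show g * β * (g : G)⁻¹ * β⁻¹ = β * (β⁻¹ * (g * β * (g : G)⁻¹)) * β⁻¹ by group,
        conj_eq (βW _ h).symm]
      exact h
  · intro w w2 wf wb wβ
    obtain ⟨w, rfl⟩ := πs w
    obtain ⟨wρ, we⟩ := mH.1 w.2
    rw [← map_inv, ← map_mul, mW, mW]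
    have h0 : w * β * (w : G)⁻¹ = β := (me_iff.1 ((cj _ _).1 wβ)).resolve_right fun h =>
      Nβ (nD' (w : G) (u := β * e) (by rw [he, ← mul_assoc]; exact Dβfa) h)
    rcases me_iff.1 ((cj _ _).1 wf) with h1 | h1
    · exact hH2 w (comm_of_conj h1) wρ (cA (comm_of_conj h1) we)
        ((me_iff.1 ((sq _).1 w2)).imp id fun h => h.trans (one_mul e)) (.inl (comm_of_conj h0))
        (me_iff.1 ((cj _ _).1 wb))
    exfalso
    have h1 : w * f * (w : G)⁻¹ = f * e := h1
    have h2 : Me e (w * a' * (w : G)⁻¹) a' := by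
      have := (Me.of_eq (congrArg Inv.inv h0)).mul e2 cbe (C w wρ we ((sq _).1 w2) h1)
      rw [hb] at this
      convert this using 1 <;> group
    rcases me_iff.1 h2 with h4 | h4
    · refine Nfa' ?_
      have := isConj_conj (w : G) Daa'
      rwa [show w * (a * a') * (w : G)⁻¹ = w * f * (w : G)⁻¹ * (w * e * (w : G)⁻¹) * (w * a' * (w : G)⁻¹) by
        rw [← fe]; group, h1, h4, conj_eq we, mul_assoc f, e2, mul_one] at this
    · refine Nfaa' ?_
      rw [← he, ← ca'e, ← h4]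
      exact isConj_conj _ Da'
  · intro h
    have := (cj _ _).1 h
    rw [show (s' * β' * (s' : G)⁻¹ : G) = s * β * s⁻¹ from rfl, hsβ] at this
    have h1 := (Me.rfl' (a := β⁻¹)).mul e2 cβe this
    rw [inv_mul_cancel_left, inv_mul_cancel] at h1
    exact n1 (IsConj.refl f) h1

end H27.HN
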