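import Mathlib
import Cfsg.Agent.H27.HSD
import Cfsg.Agent.H27.HSE

/-!
# The standard form problem for `2.HS`: the fusion pattern
-/

set_option autoImplicit false
set_option linter.unusedSectionVars false
set_option maxRecDepth 100000

namespace H27.HN

open H29 H15.KM H24 Subgroup

theorem cenK {k : K} (h : ∀ l, In l → k * l = l * k) : k = 1 ∨ k = m 5 :=
  ker5 (centH0 fun c hc => by
    rw [mA, ← map_mul, h _ (show mA c ∈ H0 from H0_eq ▸ mem_gen hc), map_mul])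

theorem In_f {y : K} : In (y * m 5) ↔ In y := by simp [In_mul, In5]

section
variable {G : Type*} [Group G] {φ : K →* G}

theorem Tw.mul {g g' g'' : G} {k k' k'' : K} (h : Tw φ g k) (h' : Tw φ g' k') (h'' : Tw φ g'' k'') :
    Tw φ (g * g' * g'') (k * k' * k'') := fun y => by
  have e : ∀ x : G, g * g' * g'' * x * (g * g' * g'')⁻¹ = g * (g' * (g'' * x * g''⁻¹) * g'⁻¹) * g⁻¹ :=
    fun x => by group
  refine ⟨fun a => ?_, fun a => ?_⟩
  · rw [e, (h'' y).1 a, (h' _).1 (a.conj _), (h _).1 ((a.conj _).conj _)]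
    simp only [mul_assoc, mul_inv_rev]
  · rw [e, (h'' y).2 a, (h' _).2 (by simpa [In_f, In_conj] using a), (h _).2 (by
      simpa [In_f, In_conj] using a)]
    simp only [mul_assoc, mul_inv_rev, ← fc, mod_m.f2, mul_one]

theorem ty_conj (φ : K →* G) {R : List ℕ} {u : K} (h : Ty m R u) :
    ∃ r ∈ R, ∃ k, φ k * φ u * (φ k)⁻¹ = φ (m r) :=
  h.imp fun _ h => ⟨h.1, h.2.elim fun k h => ⟨k, by rw [← h.2]; simp⟩⟩

theorem φf (φ : K →* G) (k : K) : φ k * φ (m 5) = φ (m 5) * φ k := by rw [← map_mul, fc, map_mul]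
theorem φeq (φ : K →* G) (u v : List ℕ) (hc : eqW run u v = true := by decide +kernel) :
    φ (ev m u) = φ (ev m v) := congrArg φ (mod_m.eq hc)
theorem φcm (φ : K →* G) (c d : ℕ) (hc : eqW run [c, d] [d, c] = true := by decide +kernel) :
    φ (m c) * φ (m d) = φ (m d) * φ (m c) := by simpa using φeq φ _ _ hc
theorem φsq (φ : K →* G) (c : ℕ) (hc : eqW run [c, c] [] = true := by decide +kernel) :
    φ (m c) * φ (m c) = 1 := by simpa using φeq φ _ _ hc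
theorem φcl (φ : K →* G) {S : Set K} {k : K} (h : k ∈ closure S) : φ k ∈ closure (φ '' S) :=
  φ.map_closure S ▸ mem_map_of_mem φ h

namespace Cf

variable [Finite G] {O : Subgroup G} (h : Cf φ O)
include h

theorem ne (u v : List ℕ) (hc : not1 (eqW run u v) = true := by decide +kernel) :
    φ (ev m u) ≠ φ (ev m v) := h.inj.ne (mod_m.ne hc)
theorem f1 : φ (m 5) ≠ 1 := by simpa using h.ne [5] []
theorem cm {k l : K} : φ k * φ l = φ l * φ k ↔ k * l = l * k := by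
  rw [← map_mul, ← map_mul, h.inj.eq_iff]
theorem o4 {o : G} (ho : o ∈ O) (e : o ^ 4 = 1) : o = 1 :=
  (pow_eq_one_iff_of_coprime ((Nat.coprime_two_right.2 (h.odd o ho)).pow_right 2)).1
    ⟨pow_orderOf_eq_one o, e⟩
theorem o2 {o : G} (ho : o ∈ O) (e : o * o = 1) : o = 1 :=
  h.o4 ho (by rw [show 4 = 2 * 2 from rfl, pow_mul, sq o, e, one_pow])
theorem inO {k : K} (hk : φ k ∈ O) : k = 1 :=
  h.inj ((h.o2 hk (by
    rcases cenK fun l _ => h.cm.1 (h.cO l _ hk).symm with e | e <;> simp [e, φsq φ 5])).trans (map_one φ).symm)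
theorem sqO {k l : K} {o : G} (ho : o ∈ O) (e : φ k * o * (φ k * o) = φ l) : o = 1 := by
  have a1 : φ ((k * k)⁻¹ * l) = o * o := by
    rw [map_mul, ← e, map_inv, map_mul, mul_assoc (φ k), ← mul_assoc o, ← h.cO k o ho]; group
  exact h.o2 ho (by rw [← a1, h.inO (k := (k * k)⁻¹ * l) (a1 ▸ mul_mem ho ho), map_one])

theorem notTw {l k : K} : ¬ Tw φ (φ l) k := fun t => by
  have a1 : ∀ y, In y → k⁻¹ * l * y = y * (k⁻¹ * l) := fun y hy => by
    have := (t y).1 hy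
    rw [← map_inv, ← map_mul, ← map_mul, h.inj.eq_iff] at this
    rw [mul_assoc, mul_inv_eq_iff_eq_mul.1 this]; group
  have a2 := (t _).2 (outm 16)
  rw [← map_inv, ← map_mul, ← map_mul, h.inj.eq_iff, show l = k * (k⁻¹ * l) by group] at a2
  rcases cenK a1 with e | e <;> rw [e] at a2
  · exact extK.ne (by simpa using a2)
  · rw [show k * m 5 * m 16 * (k * m 5)⁻¹ = k * (m 5 * m 16 * (m 5)⁻¹) * k⁻¹ by group, ← fc,
      mul_inv_cancel_right] at a2
    exact extK.ne (by simpa using a2)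

theorem act {g : G} (hg : g * φ (m 5) = φ (m 5) * g) : ∃ k,
    (∀ y, In y → g * φ y * g⁻¹ = φ (k * y * k⁻¹)) ∧
      ∀ y, g * φ y * g⁻¹ = φ (k * y * k⁻¹) ∨ g * φ y * g⁻¹ = φ (k * y * k⁻¹ * m 5) := by
  rcases h.cen g hg with ⟨k, o, ho, rfl⟩ | ⟨k, t⟩
  · have : ∀ y, φ k * o * φ y * (φ k * o)⁻¹ = φ (k * y * k⁻¹) := fun y => by
      rw [mul_assoc (φ k), ← h.cO y o ho, map_mul, map_mul, map_inv]; group
    exact ⟨k, fun y _ => this y, fun y => .inl (this y)⟩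
  · exact ⟨k, fun y => (t y).1, fun y => (em (In y)).imp (t y).1 (t y).2⟩

theorem fixc {g : G} {k : K} (hk : ∀ y, In y → g * φ y * g⁻¹ = φ (k * y * k⁻¹)) (c : ℕ)
    (e : g * φ (m c) = φ (m c) * g) (hc : c ∉ Out := by decide) : k * m c = m c * k :=
  mul_inv_eq_iff_eq_mul.1 (h.inj (by rw [← hk _ (inm c hc), e, mul_inv_cancel_right]))

end Cf

theorem beta0 [Finite G] (h : Cf φ ⊥) : IsConj (φ (m 5)) (φ (m 16)) := by
  by_contra nβ
  have hd : IsConj (φ (m 5)) (φ (m 25)) := not_not.1 (mt h.bd.2 nβ)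
  have k1 : ∀ u, Ty m [23, 25] u → IsConj (φ (m 5)) (φ u) := fun u hu => by
    obtain ⟨r, d1, k, d2⟩ := ty_conj φ hu
    have := h.aD
    exact IsConj.trans (by grind) (isConj_iff.2 ⟨_, d2⟩).symm
  have k2 : ∀ u, Ty m [16, 24] u → ¬ IsConj (φ (m 5)) (φ u) := fun u hu h1 => by
    obtain ⟨r, d1, k, d2⟩ := ty_conj φ hu
    have := h1.trans (isConj_iff.2 ⟨_, d2⟩)
    have := h.eD
    grind
  have cen : ∀ g, g * φ (m 5) = φ (m 5) * g → (∃ k, g = φ k) ∨ ∃ k, Tw φ g k := fun g hg =>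
    (h.cen g hg).imp_left fun ⟨k, o, a, b⟩ => ⟨k, by rw [b, mem_bot.1 a, mul_one]⟩
  have cl : ∀ {k}, k ∈ closure {m 5, m 23, m 16 * m 26} →
      φ k ∈ closure {φ (m 5), φ (m 23), φ (m 16) * φ (m 26)} := fun a => by
    simpa [Set.image_insert_eq] using φcl φ a
  refine fake' (f := φ (m 5)) (β := φ (m 16)) (a := φ (m 23)) (a' := φ (m 26)) (a3 := φ (m 27))
    (s := φ (m 4)) (ρ := φ (m 6)) (U := φ.range) h.sub h.f1
    (by simpa using h.ne [23] []) (by simpa using h.ne [5] [23]) (φsq φ 5)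
    (φsq φ 16) (φsq φ 23) (φsq φ 26) (φsq φ 4) (φcm φ 5 16) (φcm φ 5 23) (φcm φ 5 26) (φcm φ 16 23)
    (φcm φ 16 26) (φcm φ 23 26) (φcm φ 5 4) (φcm φ 23 4)
    (by simpa [mul_assoc, inv_eq_of_mul_eq_one_right (φsq φ 4)] using φeq φ [4, 16, 4] [16, 5])
    (φcm φ 5 27) (φcm φ 16 27) (by simpa using h.ne [23, 27] [27, 23]) (φsq φ 27)
    (by simp [φcm φ 5 6, φcm φ 16 6, φcm φ 23 6, φcm φ 26 6, φcm φ 27 6, φcm φ 4 6])
    (by simpa [mul_assoc] using fun u hu => k1 u (mod_m.tyL _ [([23], [23]), ([26], [23, 8, 11]),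
      ([23, 26], [23, 10, 9]), ([27], [23, 10]), ([16, 23], [25]), ([16, 5, 23], [25, 1]),
      ([16, 26], [25, 8, 11]), ([16, 5, 26], [25, 1, 8, 11]), ([16, 23, 26], [25, 10, 9]),
      ([16, 5, 23, 26], [25, 1, 10, 9]), ([16, 27], [25, 10]), ([16, 5, 27], [25, 1, 10])]
      (by decide +kernel) u hu))
    (by simpa [mul_assoc] using fun u hu => k2 u (mod_m.tyL _ [([16], [16]), ([16, 5], [16, 1]),
      ([5, 23], [24]), ([5, 26], [24, 8, 11]), ([5, 23, 26], [24, 10, 9]), ([4], [16, 18])]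
      (by decide +kernel) u hu))
    (fun u a1 a2 => ?_) ?_ (fun u a1 a2 a3 a4 a5 a6 => ?_) ?_ (fun w a1 a2 a3 a4 a5 a6 => ?_)
    fun g a1 a2 => ?_
  · obtain ⟨g, hg⟩ := isConj_iff.1 a2
    have a3 : u ^ 3 = 1 := by
      rw [← hg, conj_pow, ← map_pow, (mod_m.cube (mem_gen (by decide))).1]; simp
    rcases cen u a1 with ⟨k, rfl⟩ | ⟨k, t⟩
    · obtain ⟨l, -, b⟩ := mod_m.ord3 k (fc k) (h.inj (by simpa using a3)) (by
        rintro rfl; exact absurd (by simpa using hg) (h.ne [6] []))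
      exact ⟨φ l, φf φ l, by rw [← b]; simp⟩
    · have := t.mul t t
      rw [← sq, ← pow_succ, a3, ← map_one φ] at this
      exact absurd this h.notTw
  · rintro _ ⟨k, rfl⟩ - a2 a3
    obtain ⟨l, -, b1, b2⟩ := mod_m.CR k (fc k) (h.cm.1 a2) (h.inj (by simpa using a3))
    exact ⟨φ l, φf φ l, h.cm.2 b1, by simpa using List.mem_map_of_mem (f := φ) b2⟩
  · obtain ⟨k, rfl⟩ := h.sub u a5 a1
    exact cl (((mod_m.Ha k (fc k) (h.cm.1 a2) (h.cm.1 a3)).2.2 (h.inj (by simpa using a4))).resolve_right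
      fun a7 => a7.elim (fun a => k2 _ a a5) fun a => k2 _ a (by simpa using a6))
  · simpa using (mod_m.Ha _ (fc _) (mod_m.comm 4 6) (mod_m.comm 4 23)).1.imp (congrArg φ) (congrArg φ)
  · simp only [← map_mul] at a4 a5 a6
    rcases cen w a1 with ⟨k, rfl⟩ | ⟨k, t⟩
    · simp only [← map_mul, ← map_one φ, h.inj.eq_iff] at a4 a5
      simpa using ((mod_m.Ha k (fc k) (h.cm.1 a2) (h.cm.1 a3)).2.1 a4 a5).imp cl cl
    · have b1 := (mod_m.Ha k (fc k) (h.fixc (fun y => (t y).1) 6 a2) (h.fixc (fun y => (t y).1) 23 a3)).1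
      rw [(t _).2 (by simp [In_mul, In_m, Out]), h.inj.eq_iff, h.inj.eq_iff] at a6
      have := allL_true.1 (by decide +kernel : (allL [[5], [5, 23, 5]] fun u => allL [[], [5, 23]] fun v =>
        not1 (eqW run u v)) = true)
      simp only [allL_true, not1_true, iso.eqW, List.forall_mem_cons, ev_cons, ev_nil, mul_one] at this
      rcases b1 with b | b <;> rw [b] at a6 <;> simp only [mul_assoc, mul_right_inj, mul_eq_left] at a6 <;> tauto
  · obtain ⟨k, b1, b2⟩ := h.act a1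
    rcases mod_m.H4 k (fc k) (h.fixc b1 6 a2) with b | b <;> rcases b2 (m 16) with c | c <;>
      simp [c, b, mul_assoc, φsq φ 5]

theorem Cf.beta [Finite G] {O : Subgroup G} (h : Cf φ O)
    (nO : ∀ g, g * φ (m 5) * g⁻¹ * φ (m 5) = φ (m 5) * (g * φ (m 5) * g⁻¹) → g ∈ N[O]) :
    IsConj (φ (m 5)) (φ (m 16)) := by
  have n0 : ∀ k, φ k ∈ N[O] := fun k => nO _ (by rw [φf, mul_inv_cancel_right])
  let π := QuotientGroup.mk' (O.subgroupOf N[O])
  let φ1 := φ.codRestrict N[O] n0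
  have πs : Function.Surjective π := QuotientGroup.mk'_surjective _
  have πe : ∀ x y, π x = π y ↔ ∃ o ∈ O, (y : G) = x * o := fun x y =>
    QuotientGroup.eq.trans ⟨fun a => ⟨_, a, by simp⟩, fun ⟨o, a, b⟩ => by simpa [mem_subgroupOf, b] using a⟩
  have ex : ∀ (x : N[O]) k, π x = π (φ1 k) → (x : G) * x = 1 → x = φ k := fun x k a b => by
    obtain ⟨o, a1, a2⟩ := (πe _ _).1 a.symm
    rw [a2] at b ⊢
    rw [h.sqO (l := 1) a1 (b.trans (map_one φ).symm), mul_one]; rfl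
  have cf : ∀ x : N[O], π x * π (φ1 (m 5)) = π (φ1 (m 5)) * π x → x * φ (m 5) = φ (m 5) * x :=
    fun x a => mul_inv_eq_iff_eq_mul.1 (ex (x * φ1 (m 5) * x⁻¹) _ (by simp [a]) (by simp [φ1, φsq φ 5]))
  have ic : ∀ k, IsConj ((π.comp φ1) (m 5)) ((π.comp φ1) k) ↔ IsConj (φ (m 5)) (φ k) := fun k => by
    simp only [isConj_iff]
    refine ⟨fun ⟨g, a⟩ => ?_, fun ⟨g, a⟩ => ⟨π ⟨g, nO g (by rw [a, φf])⟩, ?_⟩⟩
    · obtain ⟨g, rfl⟩ := πs g
      exact ⟨g, ex (g * φ1 (m 5) * g⁻¹) k (by simpa using a) (by simp [φ1, φsq φ 5])⟩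
    · rw [MonoidHom.comp_apply, ← map_inv, ← map_mul, ← map_mul]
      exact congrArg π (Subtype.ext a)
  refine (ic _).1 (beta0 ⟨(injective_iff_map_eq_one _).2 fun k a => ?_, by simp, by simp, fun g a => ?_,
    fun u a b => ?_, (ic _).2 h.aD, (ic _).not.2 h.eD, by rw [ic, ic]; exact h.bd⟩)
  · exact h.inO ((QuotientGroup.eq_one_iff (φ1 k)).1 a)
  · obtain ⟨g, rfl⟩ := πs g
    rcases h.cen g (cf g a) with ⟨k, o, b1, b2⟩ | ⟨k, t⟩
    · exact .inl ⟨k, 1, one_mem _, ((mul_one _).trans ((πe _ _).2 ⟨o, b1, b2⟩)).symm⟩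
    · refine .inr ⟨k, fun y => ?_⟩
      simp only [MonoidHom.comp_apply, ← map_inv π, ← map_mul π]
      exact ⟨fun b => congrArg π (Subtype.ext ((t y).1 b)), fun b => congrArg π (Subtype.ext ((t y).2 b))⟩
  · obtain ⟨g, rfl⟩ := isConj_iff.1 a
    obtain ⟨g, rfl⟩ := πs g
    obtain ⟨k, c⟩ := h.sub _ (isConj_iff.2 ⟨g, rfl⟩) (cf (g * φ1 (m 5) * g⁻¹) (by simpa using b))
    refine ⟨k, ?_⟩
    simp only [MonoidHom.comp_apply, ← map_inv π, ← map_mul π]
    exact congrArg π (Subtype.ext c)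

end

end H27.HN
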