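import Mathlib
import Cfsg.Agent.H18.HND3

/-! The standard form problem for `2.HS`: the group `Q = 2 ^ (1 + 8)`. -/

set_option autoImplicit false

namespace H27.HS

open Subgroup H18.HND

variable {G : Type*} [Group G]

theorem sub4 {c : ℕ → G} {e a : G} {N : ℕ} (h : Fam c e N) (ha : a ∈ h.Sub) : a ^ 4 = 1 := by
  rw [show 4 = 2 * 2 from rfl, pow_mul, sq, sq]
  simpa using (h.Sub_sq ha).sq h.e2 (by simp)

theorem sq4 {a : G} (ha : a * a = 1) : a ^ 4 = 1 := by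
  rw [show 4 = 2 * 2 from rfl, pow_mul, sq a, ha, one_pow]

/-- the hypotheses -/
structure Hy (G1 O : Subgroup G) (c : ℕ → G) (f e w1 w2 : G) : Prop where
  F : Fam c e 7
  c6 : c 6 = f
  f1 : f ≠ 1
  fe : ¬ IsConj f e
  nO : ∀ g, g * f * g⁻¹ * f = f * (g * f * g⁻¹) → g ∈ G1
  GO : ∀ g ∈ G1, ∀ o ∈ O, g * o * g⁻¹ ∈ O
  odd : ∀ o ∈ O, o ^ 4 = 1 → o = 1
  dO : ∀ u, IsConj f u → u * f = f * u → ∀ o ∈ O, u * o = o * u
  eO : ∀ o ∈ O, e * o = o * e
  hcl : ∀ u, u * f = f * u → u * u = 1 → u ≠ 1 → (∃ g ∈ G1, g * u * g⁻¹ = f ∨ g * u * g⁻¹ = e) ∨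
    (IsConj u (u * f) ∧ ¬ IsConj f (u * f) ∧ u ∉ F.Sub)
  hE : ∀ u, u * f = f * u → IsConj e u → IsConj f (u * f) → ∃ k, k * f = f * k ∧ k * u * k⁻¹ = e
  hV : ∀ u, u * f = f * u → VV f e u → u ∈ F.Sub
  hm : ∀ n < 2 ^ 7, VV f e (ι c n) ↔ D0.testBit n = true
  hCR : ∀ g, (∀ i < 7, g * c i = c i * g) → g * e = e * g → ∃ o ∈ O, g * o ∈ F.Sub
  hy : ∀ u ∈ F.Sub, VV f e u → IsConj f (u * f) →
      ∃ w, w * f = f * w ∧ w * e = e * w ∧ w * u * w⁻¹ = c 0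
  hfix : ∀ w, w * f = f * w → w * e = e * w → w * w ∈ F.Sub →
      ∃ y ∈ F.Sub, VV f e y ∧ IsConj f (y * f) ∧ (Me e (w * y * w⁻¹) y ∨ Me e (w * y * w⁻¹) (f * y))
  hw1 : w1 * e = e * w1 ∧ ∀ i < 7, Me e (w1 * c i * w1⁻¹) (ι c (t1 i))
  hw2 : w2 * e = e * w2 ∧ ∀ i < 7, Me e (w2 * c i * w2⁻¹) (ι c (t2 i))

namespace Hy

variable {G1 O : Subgroup G} {c : ℕ → G} {f e w1 w2 : G} (h : Hy G1 O c f e w1 w2)
include h

theorem e2 : e * e = 1 := h.F.e2
theorem f2 : f * f = 1 := h.c6 ▸ (h.F.sq 6 (by norm_num)).1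
theorem cfe : f * e = e * f := h.c6 ▸ (h.F.sq 6 (by norm_num)).2
theorem ce {i : ℕ} (hi : i < 7) : c i * e = e * c i := (h.F.sq i hi).2
theorem cf {i : ℕ} (hi : i < 7) : c i * f = f * c i := by
  rw [← h.c6]
  refine (h.F.rel i hi 6 (by norm_num)).1 ?_
  interval_cases i <;> decide

theorem cV {i : ℕ} (hi : i < 7) : VV f e (c i) :=
  ι_pow c (show i < 8 by omega) ▸ (h.hm _ (Nat.pow_lt_pow_right (by norm_num) hi)).2 (d_pow i hi)

theorem fV : VV f e f := h.c6 ▸ h.cV (by norm_num)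

theorem yfV : VV f e (c 0 * f) := by
  have := (h.hm 65 (by norm_num)).2 (by decide +kernel)
  rwa [ι_65, h.c6] at this

theorem cR {i : ℕ} (hi : i < 7) : c i ∈ h.F.Sub := h.F.c_mem (by norm_num) hi

theorem fR : f ∈ h.F.Sub := h.c6 ▸ h.cR (by norm_num)

theorem Rf {r : G} (hr : r ∈ h.F.Sub) : r * f = f * r :=
  mem_centralizer_singleton_iff.1 (h.F.Sub_le (K := centralizer {f})
    (mem_centralizer_singleton_iff.2 h.cfe.symm)
    (fun _ hi => mem_centralizer_singleton_iff.2 (h.cf hi)) hr)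

theorem Vsq {u : G} (hu : IsConj f u) : u * u = 1 := sq_of_conj h.f2 hu

theorem hK (g : G) (hg : g * f = f * g) : g ∈ G1 := h.nO g (by rw [conj_eq hg])

theorem B0 {u : G} (hu : IsConj f u) (huf : u * f = f * u) : ∃ g ∈ G1, g * u * g⁻¹ = f := by
  obtain ⟨g, rfl⟩ := isConj_iff.1 hu
  exact ⟨g⁻¹, inv_mem (h.nO g huf), by group⟩

theorem RO {r o : G} (hr : r ∈ h.F.Sub) (ho : o ∈ O) : r * o = o * r :=
  mem_centralizer_singleton_iff.1 (h.F.Sub_le (K := centralizer {o})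
    (mem_centralizer_singleton_iff.2 (h.eO o ho))
    (fun _ hi => mem_centralizer_singleton_iff.2 (h.dO _ (h.cV hi).2.1 (h.cf hi) o ho)) hr)

theorem vO {v o : G} (hv : IsConj f v) (h0 : v * c 0 = c 0 * v) (ho : o ∈ O) : v * o = o * v := by
  obtain ⟨g, hg, h1⟩ := h.B0 (h.cV (i := 0) (by norm_num)).2.1 (h.cf (by norm_num))
  have := comm_conj g⁻¹ (h.dO _ (isConj_conj g hv) (h1 ▸ comm_conj g h0) _ (h.GO g hg o ho))
  convert this using 1 <;> group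

theorem two {g o : G} (ho : o ∈ O) (h1 : g * o * o = o * (g * o)) (h2 : (g * o) ^ 4 = 1) (h3 : g ^ 4 = 1) :
    g * o = g := by
  have h4 : Commute g o := by rw [← mul_assoc, mul_left_inj] at h1; exact h1
  rw [h4.mul_pow, h3, one_mul] at h2
  rw [h.odd o ho h2, mul_one]

theorem B1 {u : G} (hu : VV f e u) : ∃ g, g * e = e * g ∧ g * u * g⁻¹ = f := by
  obtain ⟨g, hg⟩ := isConj_iff.1 hu.2.1.symm
  obtain ⟨k, k1, k2⟩ := h.hE (g * e * g⁻¹) (by rw [← hg]; exact comm_conj g hu.1.symm)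
    (isConj_iff.2 ⟨g, rfl⟩) (by
      have := isConj_conj g hu.2.2
      rwa [hu.1, show g * (e * u) * g⁻¹ = g * e * g⁻¹ * (g * u * g⁻¹) by group, hg] at this)
  refine ⟨k * g, comm_of_conj (Eq.trans (by group) k2), ?_⟩
  calc k * g * u * (k * g)⁻¹ = k * (g * u * g⁻¹) * k⁻¹ := by group
    _ = f := by rw [hg, conj_eq k1]

/-- `N0` normalises `R` -/
theorem normR {g : G} (hg : g * e = e * g) (hf : Me e (g * f * g⁻¹) f) {r : G} (hr : r ∈ h.F.Sub) :
    g * r * g⁻¹ ∈ h.F.Sub := by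
  have : h.F.Sub ≤ h.F.Sub.comap (MulAut.conj g).toMonoidHom := by
    refine h.F.Sub_le ?_ fun i hi => ?_
    · show g * e * g⁻¹ ∈ h.F.Sub
      rw [conj_eq hg]; exact h.F.e_mem
    · show g * c i * g⁻¹ ∈ h.F.Sub
      refine h.hV _ ?_ ((h.cV hi).conj hg)
      exact ((hf.comm (conj_comm_e hg (h.ce hi))).1 (comm_conj g (h.cf hi).symm)).symm
  exact this hr

theorem S2 {v : G} (hv : VV f e v) (hy : v * c 0 = c 0 * v) (hf : v * f * v⁻¹ = f * e) :
    ∀ i < 7, Me e (v * c i * v⁻¹) (c i) := by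
  obtain ⟨g, hg, hgy⟩ := h.B1 (h.cV (i := 0) (by norm_num))
  have inR : ∀ u, VV f e u → u * c 0 = c 0 * u → g * u * g⁻¹ ∈ h.F.Sub := fun u hu hu0 =>
    h.hV _ (by rw [← hgy]; exact comm_conj g hu0) (hu.conj hg)
  have A : ∀ i < 7, i ≠ 1 → Me e (v * c i * v⁻¹) (c i) := by
    intro i hi hi1
    have h1 := h.F.Sub_conj (inR v hv hy) (inR (c i) (h.cV hi)
      ((h.F.rel 0 (by norm_num) i hi).1 hi1).symm)
    have h2 := h1.conj (inv_comm hg)
    convert h2 using 1 <;> group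
  intro i hi
  by_cases hi1 : i ≠ 1
  · exact A i hi hi1
  obtain rfl : i = 1 := not_not.1 hi1
  obtain ⟨m, hm, hx⟩ := h.normR hv.1 ⟨true, hf⟩ (h.cR hi)
  have h1 : sg m m = false := (h.F.me_sq hm hx).1 (h.Vsq (isConj_conj v (h.cV hi).2.1))
  have h2 : ∀ j < 6, j ≠ 1 → bb m (2 ^ j) = bb 2 (2 ^ j) := by
    intro j hj hj1
    have hj' : 2 ^ j < 2 ^ 7 := Nat.pow_lt_pow_right (by norm_num) (by omega)
    have e1 := h.F.me_comm hm hj' hx ((A j (by omega) hj1).trans h.e2 (me_c (by omega)))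
    have e2 := h.F.me_comm (n := 2 ^ 1) (by norm_num) hj' (me_c (by norm_num)) (me_c (show j < 8 by omega))
    have e3 : v * c 1 * v⁻¹ * (v * c j * v⁻¹) = v * c j * v⁻¹ * (v * c 1 * v⁻¹) ↔
        c 1 * c j = c j * c 1 :=
      ⟨fun hh => by have := comm_conj v⁻¹ hh; convert this using 1 <;> group, comm_conj v⟩
    have e4 : bb m (2 ^ j) = false ↔ bb 2 (2 ^ j) = false := by rw [← e1, e3, e2]; rfl
    revert e4
    cases bb m (2 ^ j) <;> cases bb 2 (2 ^ j) <;> simp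
  rcases d_S2 m hm h1 h2 with rfl | rfl
  · exact ι_pow c (show 1 < 8 by norm_num) ▸ hx
  exfalso
  rw [ι_66, h.c6] at hx
  obtain ⟨s, hs⟩ := hx
  have v2 := h.Vsq hv.2.1
  have vE : v * E e s * v⁻¹ = E e s := conj_eq (E_comm hv.1 s)
  apply h.F.e1
  have : c 1 = c 1 * e := by
    calc c 1 = (v * v) * c 1 * (v * v)⁻¹ := by rw [v2]; group
      _ = v * (v * c 1 * v⁻¹) * v⁻¹ := by group
      _ = v * (c 1 * f * E e s) * v⁻¹ := by rw [hs]
      _ = (v * c 1 * v⁻¹) * (v * f * v⁻¹) * (v * E e s * v⁻¹) := by group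
      _ = c 1 * f * (E e s * (f * e)) * E e s := by rw [hs, hf, vE]; group
      _ = c 1 * (f * f) * e * (E e s * E e s) := by
        rw [← E_comm (mul_comm' h.cfe rfl)]; group
      _ = c 1 * e := by rw [h.f2, E_mul h.e2]; simp
  exact left_eq_mul.1 this

theorem exists_h : ∃ v, VV f e v ∧ v * c 0 = c 0 * v ∧ v * f * v⁻¹ = f * e := by
  obtain ⟨g, hg, hgy⟩ := h.B1 (h.cV (i := 0) (by norm_num))
  obtain ⟨m, hm, hx⟩ := h.hV (g * f * g⁻¹)
    (by have := comm_conj g (h.cf (i := 0) (by norm_num)).symm; rwa [hgy] at this) (h.fV.conj hg)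
  have h1 : ∃ j < 6, bb m (2 ^ j) = true := by
    by_contra hc
    push Not at hc
    rcases d_rad m hm (fun j hj => by simpa using hc j hj) with rfl | rfl
    · rw [ι_zero] at hx
      rcases me_iff.1 hx with h2 | h2
      · exact ne_one_of_conj h.f1 (isConj_iff.2 ⟨g, rfl⟩) h2
      · exact h.fe (isConj_iff.2 ⟨g, by rw [h2, one_mul]⟩)
    · rw [show 64 = 2 ^ 6 from rfl, ι_pow c (by norm_num), h.c6] at hx
      have h2 : Me e f (c 0) := by
        have := hx.conj (inv_comm hg)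
        rw [← hgy] at this
        convert this using 1
        · rw [hgy]; group
        · group
      have h3 := (h2.comm (h.ce (i := 1) (by norm_num))).1 (h.cf (by norm_num)).symm
      rw [(h.F.rel 0 (by norm_num) 1 (by norm_num)).2 rfl] at h3
      exact h.F.e1 (mul_eq_left.1 h3)
  obtain ⟨j, hj, hb⟩ := h1
  have hj7 : j < 7 := by omega
  have hj' : 2 ^ j < 2 ^ 7 := Nat.pow_lt_pow_right (by norm_num) hj7
  have h2 : c j * (g * f * g⁻¹) * (c j)⁻¹ = g * f * g⁻¹ * e := by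
    rcases me_iff.1 (h.F.Sub_conj (h.cR hj7) ⟨m, hm, hx⟩) with h3 | h3
    · have := (h.F.me_comm hm hj' hx (Me.of_eq (ι_pow c (show j < 8 by omega)).symm)).1
        (comm_of_conj h3).symm
      rw [hb] at this
      exact absurd this (by simp)
    · exact h3
  refine ⟨g⁻¹ * c j * g⁻¹⁻¹, (h.cV hj7).conj (inv_comm hg), ?_, ?_⟩
  · have := comm_conj g⁻¹ (h.cf hj7)
    rw [← hgy] at this
    convert this using 1 <;> group
  · calc _ = g⁻¹ * (c j * (g * f * g⁻¹) * (c j)⁻¹) * g := by group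
      _ = f * (g⁻¹ * e * g⁻¹⁻¹) := by rw [h2]; group
      _ = _ := by rw [conj_eq (inv_comm hg)]

/-- correcting by an element of `R` -/
theorem dual {g : G} (hg : g * e = e * g) (hc : ∀ i < 6, Me e (g * c i * g⁻¹) (c i)) :
    ∃ r ∈ h.F.Sub, ∀ i < 6, (g * r) * c i = c i * (g * r) := by
  choose! b hb using hc
  obtain ⟨m, hm, hd⟩ := d_dual (b 0) (b 1) (b 2) (b 3) (b 4) (b 5)
  refine ⟨ι c m, h.F.ι_mem_Sub hm, fun i hi => ?_⟩
  have hi' : 2 ^ i < 2 ^ 7 := Nat.pow_lt_pow_right (by norm_num) (by omega)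
  have h1 := h.F.comm hm hi'
  have h2 : bb m (2 ^ i) = b i := by
    rw [hd i (by omega)]
    interval_cases i <;> rfl
  rw [ι_pow c (by omega), h2] at h1
  calc g * ι c m * c i = g * (ι c m * c i) := by group
    _ = (g * c i * g⁻¹) * g * (ι c m * E e (b i)) := by rw [h1]; group
    _ = c i * (E e (b i) * (g * ι c m)) * E e (b i) := by rw [hb i hi]; group
    _ = c i * (g * ι c m) * (E e (b i) * E e (b i)) := by
      rw [← E_comm (mul_comm' hg (h.F.ι_e hm))]; group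
    _ = _ := by rw [E_mul h.e2]; simp

theorem mem_R' {g : G} (hg : g * e = e * g) (hf : g * f = f * g)
    (hc : ∀ i < 6, Me e (g * c i * g⁻¹) (c i)) : ∃ o ∈ O, g * o ∈ h.F.Sub := by
  obtain ⟨r, hr, h1⟩ := h.dual hg hc
  obtain ⟨o, ho, h2⟩ := h.hCR (g * r) (fun i hi => by
    rcases Nat.lt_succ_iff_lt_or_eq.1 hi with h2 | rfl
    · exact h1 i h2
    · rw [h.c6]; exact mul_comm' hf (h.Rf hr)) (mul_comm' hg (h.F.Sub_e hr))
  rw [mul_assoc, h.RO hr ho, ← mul_assoc] at h2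
  exact ⟨o, ho, (mul_mem_cancel_right hr).1 h2⟩

theorem mem_R {g : G} (hg : g * e = e * g) (hf : g * f = f * g)
    (hc : ∀ i < 6, Me e (g * c i * g⁻¹) (c i)) (h4 : g ^ 4 = 1) : g ∈ h.F.Sub := by
  obtain ⟨o, ho, h1⟩ := h.mem_R' hg hf hc
  exact h.two ho (h.RO h1 ho) (sub4 h.F h1) h4 ▸ h1

theorem exists_h0 : ∃ v, (VV f e v ∧ v * c 0 = c 0 * v) ∧ ∃ r ∈ h.F.Sub, (v * r) * (v * r) = 1 ∧
    (∀ i < 6, v * r * c i = c i * (v * r)) ∧ v * r * f * (v * r)⁻¹ = f * e := by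
  obtain ⟨v, hv, hy, hf⟩ := h.exists_h
  obtain ⟨r, hr, h1⟩ := h.dual hv.1 fun i hi => h.S2 hv hy hf i (by omega)
  have he : v * r * e = e * (v * r) := mul_comm' hv.1 (h.F.Sub_e hr)
  have hf' : v * r * f * (v * r)⁻¹ = f * e := by
    rw [← hf, ← conj_eq (h.Rf hr)]; rw [conj_eq (h.Rf hr), mul_assoc v, h.Rf hr]; group
  obtain ⟨x, hx⟩ : ∃ x, x = v * r := ⟨_, rfl⟩
  rw [← hx] at h1 he hf'
  obtain ⟨m, hm, hs⟩ : x * x ∈ h.F.Sub := by
    have := mul_mem (h.normR hv.1 ⟨true, hf⟩ hr) hr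
    rwa [← eq_inv_of_mul_eq_one_left (h.Vsq hv.2.1), mul_assoc (v * r), ← hx] at this
  rcases d_rad m hm (fun j hj => (h.F.me_comm hm (Nat.pow_lt_pow_right (by norm_num) (by omega)) hs
    (me_c (by omega))).1 (mul_comm' (h1 j hj) (h1 j hj))) with rfl | rfl
  · rw [ι_zero] at hs
    rcases me_iff.1 hs with h2 | h2
    · exact ⟨v, ⟨hv, hy⟩, r, hr, hx ▸ h2, hx ▸ h1, hx ▸ hf'⟩
    · refine ⟨v, ⟨hv, hy⟩, r * f, mul_mem hr h.fR, ?_, ?_, ?_⟩ <;> rw [← mul_assoc v r f, ← hx]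
      · calc x * f * (x * f) = (x * f * x⁻¹) * (x * x) * f := by group
          _ = f * (e * e) * f := by rw [hf', h2]; group
          _ = 1 := by rw [h.e2, mul_one, h.f2]
      · exact fun i hi => mul_comm' (h1 i hi) (h.cf (by omega)).symm
      · rw [← hf']; group
  · exfalso
    rw [show 64 = 2 ^ 6 from rfl, ι_pow c (by norm_num), h.c6] at hs
    have h2 := (hs.comm he).1 (mul_assoc _ _ _)
    rw [conj_eq h2.symm] at hf'
    exact h.F.e1 (left_eq_mul.1 hf')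

theorem congr {c' : ℕ → G} (hc : ∀ i < 7, c' i = c i) : Hy G1 O c' f e w1 w2 := by
  have F' : Fam c' e 7 := ⟨h.e2, h.F.e1, fun i hi => hc i hi ▸ h.F.sq i hi,
    fun i hi j hj => by rw [hc i hi, hc j hj]; exact h.F.rel i hi j hj⟩
  have hι : ∀ n < 2 ^ 7, ι c' n = ι c n := fun n hn => ι_congr hn hc
  have hS : F'.Sub = h.F.Sub := by
    ext x
    exact ⟨fun ⟨n, hn, hx⟩ => ⟨n, hn, hι n hn ▸ hx⟩, fun ⟨n, hn, hx⟩ => ⟨n, hn, (hι n hn).symm ▸ hx⟩⟩
  have ht : ∀ i < 7, t1 i < 2 ^ 7 ∧ t2 i < 2 ^ 7 := by decide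
  refine ⟨F', (hc 6 (by norm_num)).trans h.c6, h.f1, h.fe, h.nO, h.GO, h.odd, h.dO, h.eO,
    hS ▸ h.hcl, h.hE, hS ▸ h.hV, ?_, ?_, ?_,
    hS ▸ h.hfix, ⟨h.hw1.1, ?_⟩, h.hw2.1, ?_⟩
  · intro n hn
    rw [hι n hn]; exact h.hm n hn
  · intro g hg
    rw [hS]
    exact h.hCR g fun i hi => hc i hi ▸ hg i hi
  · rw [hS, hc 0 (by norm_num)]; exact h.hy
  · intro i hi
    rw [hc i hi, hι _ (ht i hi).1]; exact h.hw1.2 i hi
  · intro i hi
    rw [hc i hi, hι _ (ht i hi).2]; exact h.hw2.2 i hi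

end Hy

/-- the hypotheses with the eighth generator -/
structure H8 (G1 O : Subgroup G) (c : ℕ → G) (f e w1 w2 : G) : Prop extends Hy G1 O c f e w1 w2 where
  F8 : Fam c e 8
  c7 : ∃ v, VV f e v ∧ ∃ r ∈ F.Sub, c 7 = v * r
  c7O : ∀ o ∈ O, c 7 * o = o * c 7

theorem Hy.exists_H8 {G1 O : Subgroup G} {c : ℕ → G} {f e w1 w2 : G} (h : Hy G1 O c f e w1 w2) :
    ∃ c', (∀ i < 7, c' i = c i) ∧ H8 G1 O c' f e w1 w2 := by
  obtain ⟨v, ⟨hv, hy⟩, r, hr, h1, h2, h3⟩ := h.exists_h0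
  have hc : ∀ i < 7, Function.update c 7 (v * r) i = c i := fun i hi =>
    Function.update_of_ne (by omega) _ _
  have h7 : Function.update c 7 (v * r) 7 = v * r := Function.update_self _ _ _
  have h' := h.congr hc
  have he := mul_comm' hv.1 (h.F.Sub_e hr)
  have h4 : v * r * f = f * (v * r) * e := by
    rw [mul_inv_eq_iff_eq_mul.1 h3, mul_assoc f e, ← he]; group
  refine ⟨_, hc, h', ⟨h.e2, h.F.e1, fun i hi => ?_, fun i hi j hj => ?_⟩, ⟨v, hv, r, ?_, h7⟩,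
    fun o ho => h7.symm ▸ mul_comm' (h.vO hv.2.1 hy ho) (h.RO hr ho)⟩
  · rcases Nat.lt_succ_iff_lt_or_eq.1 hi with h4 | rfl
    · exact h'.F.sq i h4
    · rw [h7]; exact ⟨h1, he⟩
  · rcases Nat.lt_succ_iff_lt_or_eq.1 hi with hi7 | rfl <;>
      rcases Nat.lt_succ_iff_lt_or_eq.1 hj with hj7 | rfl
    · exact h'.F.rel i hi7 j hj7
    · rw [h7, hc i hi7]
      rcases Nat.lt_succ_iff_lt_or_eq.1 hi7 with hi6 | rfl
      · exact ⟨fun _ => (h2 i hi6).symm, fun hh => by interval_cases i <;> simp at hh⟩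
      · refine ⟨fun hh => absurd rfl hh, fun _ => ?_⟩
        rw [h.c6, h4, mul_assoc _ e, h.e2, mul_one]
    · rw [h7, hc j hj7]
      rcases Nat.lt_succ_iff_lt_or_eq.1 hj7 with hj6 | rfl
      · exact ⟨fun _ => h2 j hj6, fun hh => by interval_cases j <;> simp at hh⟩
      · exact ⟨fun hh => absurd rfl hh, fun _ => by rw [h.c6, h4]⟩
    · exact ⟨fun _ => rfl, fun hh => by simp at hh⟩
  · obtain ⟨n, hn, hr⟩ := hr
    exact ⟨n, hn, (ι_congr hn hc).symm ▸ hr⟩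

namespace H8

variable {G1 O : Subgroup G} {c : ℕ → G} {f e w1 w2 : G} (h : H8 G1 O c f e w1 w2)
include h

theorem RQ : h.F.Sub ≤ h.F8.Sub := h.F.Sub_le h.F8.e_mem fun _ hi => h.F8.c_mem le_rfl (by omega)

theorem cQ {i : ℕ} (hi : i < 8) : c i ∈ h.F8.Sub := h.F8.c_mem le_rfl hi

theorem c7f : c 7 * f * (c 7)⁻¹ = f * e := by
  have := (h.F8.rel 7 (by norm_num) 6 (by norm_num)).2 rfl
  rw [h.c6] at this
  rw [this, mul_assoc f, (h.F8.sq 7 (by norm_num)).2]; group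

theorem QO {q o : G} (hq : q ∈ h.F8.Sub) (ho : o ∈ O) : q * o = o * q :=
  mem_centralizer_singleton_iff.1 (h.F8.Sub_le (K := centralizer {o})
    (mem_centralizer_singleton_iff.2 (h.eO o ho)) (fun i hi => mem_centralizer_singleton_iff.2 (by
      rcases Nat.lt_succ_iff_lt_or_eq.1 hi with h1 | rfl
      exacts [h.toHy.RO (h.toHy.cR h1) ho, h.c7O o ho])) hq)

theorem Qchar {g : G} (hg : g * e = e * g) (hc : ∀ i < 7, Me e (g * c i * g⁻¹) (c i)) (h4 : g ^ 4 = 1) :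
    g ∈ h.F8.Sub := by
  have h6 := hc 6 (by norm_num)
  rw [h.c6] at h6
  rcases me_iff.1 h6 with h1 | h1
  · exact h.RQ (h.toHy.mem_R hg (comm_of_conj h1) (fun i hi => hc i (by omega)) h4)
  · have h7 := h.cQ (i := 7) (by norm_num)
    obtain ⟨o, ho, h2⟩ : ∃ o ∈ O, g * c 7 * o ∈ h.F.Sub := by
      refine h.toHy.mem_R' (mul_comm' hg (h.F8.Sub_e h7)) (comm_of_conj ?_) fun i hi => ?_
      · calc _ = g * (c 7 * f * (c 7)⁻¹) * g⁻¹ := by group
          _ = g * (f * e) * g⁻¹ := by rw [h.c7f]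
          _ = g * f * g⁻¹ * (g * e * g⁻¹) := by group
          _ = f := by rw [h1, conj_eq hg, mul_assoc, h.toHy.e2, mul_one]
      · have := ((h.F8.Sub_conj h7 (h.cQ (i := i) (by omega))).conj hg).trans h.toHy.e2 (hc i (by omega))
        convert this using 1
        group
    rw [mul_assoc, h.c7O o ho, ← mul_assoc] at h2
    have h3 := (mul_mem_cancel_right h7).1 (h.RQ h2)
    exact h.toHy.two ho (h.QO h3 ho) (sub4 h.F8 h3) h4 ▸ h3

theorem QfR {g : G} (hg : g ∈ h.F8.Sub) (hf : g * f = f * g) : g ∈ h.F.Sub :=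
  h.toHy.mem_R (h.F8.Sub_e hg) hf (fun _ hi => h.F8.Sub_conj hg (h.cQ (by omega))) (sub4 h.F8 hg)

theorem normQ {g : G} (hg : g * e = e * g) (hf : Me e (g * f * g⁻¹) f) {q : G} (hq : q ∈ h.F8.Sub) :
    g * q * g⁻¹ ∈ h.F8.Sub := by
  refine h.Qchar (conj_comm_e hg (h.F8.Sub_e hq)) (fun i hi => ?_) (by rw [conj_pow, sub4 h.F8 hq]; simp)
  have h1 := h.toHy.normR (inv_comm hg) (hf.conj_inv h.toHy.e2 hg) (h.toHy.cR hi)
  have h2 := (h.F8.Sub_conj hq (h.RQ h1)).conj hg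
  convert h2 using 1 <;> group

theorem fixY {z : G} (hz : z * e = e * z) (z2 : z * z = 1) (hf : z * f * z⁻¹ = f * e) :
    ∃ y ∈ h.F.Sub, VV f e y ∧ IsConj f (y * f) ∧ z * y = y * z := by
  have e2 := h.toHy.e2
  have h7 := h.cQ (i := 7) (by norm_num)
  have hwe := mul_comm' hz (h.F8.Sub_e h7)
  have hwf : z * c 7 * f = f * (z * c 7) := comm_of_conj (by
    calc _ = z * (c 7 * f * (c 7)⁻¹) * z⁻¹ := by group
      _ = z * (f * e) * z⁻¹ := by rw [h.c7f]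
      _ = z * f * z⁻¹ * (z * e * z⁻¹) := by group
      _ = f := by rw [hf, conj_eq hz, mul_assoc, e2, mul_one])
  have hww : z * c 7 * (z * c 7) ∈ h.F.Sub := by
    refine h.QfR ?_ (mul_comm' hwf hwf)
    have := mul_mem (h.normQ hz ⟨true, hf⟩ h7) h7
    rwa [← eq_inv_of_mul_eq_one_left z2, mul_assoc (z * c 7)] at this
  obtain ⟨y, hy, yV, yf, h1⟩ := h.hfix _ hwf hwe hww
  have h2 : Me e (z * c 7 * y * (z * c 7)⁻¹) (z * y * z⁻¹) := by
    have := (h.F8.Sub_conj h7 (h.RQ hy)).conj hz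
    convert this using 1
    group
  rcases h1 with h1 | h1
  · rcases me_iff.1 ((h2.symm e2).trans e2 h1) with h3 | h3
    · exact ⟨y, hy, yV, yf, comm_of_conj h3⟩
    · refine ⟨y * f, mul_mem hy h.toHy.fR, ⟨mul_comm' yV.1 h.toHy.cfe, yf, ?_⟩, ?_, comm_of_conj ?_⟩
      · obtain ⟨w, w1, w2, w3⟩ := h.hy y hy yV yf
        refine h.toHy.yfV.2.2.trans (isConj_iff.2 ⟨w⁻¹, ?_⟩)
        rw [← w3, mul_assoc _ f e, mul_assoc _ w⁻¹, inv_comm (mul_comm' (a := w) w1.symm w2.symm).symm]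
        group
      · rw [mul_assoc, h.toHy.f2, mul_one]; exact yV.2.1
      · calc _ = (z * y * z⁻¹) * (z * f * z⁻¹) := by group
          _ = y * (e * f) * e := by rw [h3, hf]; group
          _ = y * f := by rw [← h.toHy.cfe, mul_assoc, mul_assoc, e2, mul_one]
  · exfalso
    obtain ⟨s, hs⟩ := (h2.symm e2).trans e2 h1
    apply h.F.e1
    have zE : z * E e s * z⁻¹ = E e s := conj_eq (E_comm hz s)
    have : y = e * y := by
      calc y = (z * z) * y * (z * z)⁻¹ := by rw [z2]; group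
        _ = z * (z * y * z⁻¹) * z⁻¹ := by group
        _ = z * (f * y * E e s) * z⁻¹ := by rw [hs]
        _ = (z * f * z⁻¹) * (z * y * z⁻¹) * (z * E e s * z⁻¹) := by group
        _ = (f * e) * f * y * (E e s * E e s) := by rw [hs, hf, zE]; group
        _ = e * (f * f) * y := by rw [h.toHy.cfe, E_mul e2]; simp [mul_assoc]
        _ = e * y := by rw [h.toHy.f2, mul_one]
    exact right_eq_mul.1 this

theorem hVC {v : G} (hv : VV f e v) (hf : Me e (v * f * v⁻¹) f) : v ∈ h.F8.Sub := by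
  rcases me_iff.1 hf with h1 | h1
  · exact h.RQ (h.hV v (comm_of_conj h1) hv)
  obtain ⟨y, hy, yV, yf, vy⟩ := h.fixY hv.1 (h.toHy.Vsq hv.2.1) h1
  obtain ⟨w, w1, w2, w3⟩ := h.hy y hy yV yf
  have h2 : w * v * w⁻¹ ∈ h.F8.Sub := by
    refine h.Qchar (conj_comm_e w2 hv.1) (h.toHy.S2 (hv.conj w2) (w3 ▸ comm_conj w vy) ?_)
      (sq4 (h.toHy.Vsq (isConj_conj w hv.2.1)))
    calc _ = w * (v * (w⁻¹ * f * w⁻¹⁻¹) * v⁻¹) * w⁻¹ := by group
      _ = w * (f * e) * w⁻¹ := by rw [conj_eq (inv_comm w1), h1]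
      _ = _ := conj_eq (mul_comm' w1.symm w2.symm).symm
  have := h.normQ (inv_comm w2) (Me.of_eq (conj_eq (inv_comm w1))) h2
  convert this using 1
  group

theorem exists_up : ∃ v, VV f e v ∧ v ∈ h.F8.Sub ∧ ∃ r ∈ h.F.Sub, c 7 = v * r := by
  obtain ⟨v, hv, r, hr, h1⟩ := h.c7
  exact ⟨v, hv, (mul_mem_cancel_right (h.RQ hr)).1 (h1 ▸ h.cQ (by norm_num)), r, hr, h1⟩

theorem hT [Finite G] {g : G} (hg : g * e = e * g) (hq : g * f * g⁻¹ ∈ h.F8.Sub) :
    ∀ q ∈ h.F8.Sub, g * q * g⁻¹ ∈ h.F8.Sub := by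
  have A : ∀ u, VV f e u → u ∈ h.F8.Sub → u ∈ h.F8.Sub.comap (MulAut.conj g⁻¹).toMonoidHom := by
    intro u hu huq
    show g⁻¹ * u * g⁻¹⁻¹ ∈ h.F8.Sub
    refine h.hVC (hu.conj (inv_comm hg)) ?_
    have := (h.F8.Sub_conj huq hq).conj (inv_comm hg)
    convert this using 1 <;> group
  have he : e ∈ h.F8.Sub.comap (MulAut.conj g⁻¹).toMonoidHom := by
    show g⁻¹ * e * g⁻¹⁻¹ ∈ h.F8.Sub
    rw [conj_eq (inv_comm hg)]; exact h.F8.e_mem
  have B : h.F.Sub ≤ h.F8.Sub.comap (MulAut.conj g⁻¹).toMonoidHom :=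
    h.F.Sub_le he fun i hi => A _ (h.toHy.cV hi) (h.cQ (by omega))
  have C : h.F8.Sub ≤ h.F8.Sub.comap (MulAut.conj g⁻¹).toMonoidHom := by
    refine h.F8.Sub_le he fun i hi => ?_
    rcases Nat.lt_succ_iff_lt_or_eq.1 hi with h1 | rfl
    · exact B (h.toHy.cR h1)
    · obtain ⟨v, hv, vq, r, hr, h1⟩ := h.exists_up
      rw [h1]
      exact mul_mem (A v hv vq) (B hr)
  intro q hq
  have := conj_inv_of_finite (K := h.F8.Sub) (g := g⁻¹) (fun q hq => C hq) q hq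
  rwa [inv_inv] at this

theorem p_lin {w : G} {t : ℕ → ℕ} (ht : ∀ i < 8, t i < 2 ^ 8) (h6 : t 6 = 64)
    (hd : ∀ m < 2 ^ 8, sg m m = false → (∀ i < 6, bb m (t i) = false) → bb m 64 = true → m = t 7)
    (hw : w * e = e * w ∧ ∀ i < 7, Me e (w * c i * w⁻¹) (ι c (t i))) :
    ∀ n < 2 ^ 8, VV f e (ι c n) ↔ VV f e (ι c (lin t n)) := by
  have e2 := h.toHy.e2
  have hf : Me e (w * f * w⁻¹) f := by
    have := hw.2 6 (by norm_num)
    rwa [h6, show 64 = 2 ^ 6 from rfl, ι_pow c (by norm_num), h.c6] at this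
  obtain ⟨m, hm, hx⟩ := h.normQ hw.1 hf (h.cQ (i := 7) (by norm_num))
  have h7 : m = t 7 := by
    refine hd m hm ((h.F8.me_sq hm hx).1 ?_) (fun i hi => ?_) ?_
    · calc _ = w * (c 7 * c 7) * w⁻¹ := by group
        _ = 1 := by rw [(h.F8.sq 7 (by norm_num)).1]; group
    · refine (h.F8.me_comm hm (ht i (by omega)) hx (hw.2 i (by omega))).1 (comm_conj w ?_)
      refine (h.F8.rel 7 (by norm_num) i (by omega)).1 ?_
      interval_cases i <;> decide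
    · rw [← Bool.not_eq_false, ← h6, ← h.F8.me_comm hm (ht 6 (by omega)) hx (hw.2 6 (by omega)), h.c6]
      intro hh
      have h1 : c 7 * f = f * c 7 := by
        have := comm_conj w⁻¹ hh
        convert this using 1 <;> group
      have h2 := h.c7f
      rw [conj_eq h1] at h2
      exact h.F.e1 (left_eq_mul.1 h2)
  intro n hn
  obtain ⟨-, h1⟩ := h.F8.conj_lin (g := w) (t := t) (fun i hi => ⟨ht i hi, by
    rcases Nat.lt_succ_iff_lt_or_eq.1 hi with h1 | rfl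
    · exact hw.2 i h1
    · exact h7 ▸ hx⟩) hn
  refine ⟨fun hh => (hh.conj hw.1).me e2 (h1.symm e2), fun hh => ?_⟩
  have := (hh.me e2 h1).conj (inv_comm hw.1)
  convert this using 1
  group

theorem p_iff : ∀ n < 2 ^ 8, VV f e (ι c n) ↔ P0.testBit n = true := by
  classical
  have e2 := h.toHy.e2
  have A1 := h.p_lin (fun i hi => (d_t i hi).1) rfl d_t1 h.hw1
  have A2 := h.p_lin (fun i hi => (d_t i hi).2) rfl d_t2 h.hw2
  have C24 := chain (p := fun n => VV f e (ι c n)) A1 A2 L24 d_24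
  have C40 := chain (p := fun n => VV f e (ι c n)) A1 A2 L40 d_40
  have N40 : ¬ VV f e (ι c 129) := by
    intro hh
    obtain ⟨g, hg, hgy⟩ := h.toHy.B1 (h.toHy.cV (i := 0) (by norm_num))
    have B : ∀ n ∈ (Finset.range (2 ^ 8)).filter fun n =>
        ((n < 2 ^ 7 ∧ D0.testBit n = true) ∨ n ∈ L40) ∧ bb n 1 = false,
        ∃ m ∈ (Finset.range (2 ^ 7)).filter fun n => D0.testBit n = true,
          Me e (g * ι c n * g⁻¹) (ι c m) := by
      intro n hn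
      obtain ⟨h1, h2, h3⟩ := Finset.mem_filter.1 hn
      have h1 := Finset.mem_range.1 h1
      have hv : VV f e (ι c n) := h2.elim (fun h2 => (h.hm n h2.1).2 h2.2) fun h2 => (C40 n h2).2.2 hh
      have hc : ι c n * c 0 = c 0 * ι c n :=
        (h.F8.me_comm (m := 2 ^ 0) h1 (by norm_num) Me.rfl' (me_c (by norm_num))).2 h3
      obtain ⟨m, hm, hx⟩ := h.hV _ (by rw [← hgy]; exact comm_conj g hc) (hv.conj hg)
      exact ⟨m, Finset.mem_filter.2 ⟨Finset.mem_range.2 hm,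
        (h.hm m hm).1 ((hv.conj hg).me e2 (hx.symm e2))⟩, hx⟩
    choose! φ hφ hφ' using B
    have := Finset.card_le_card_of_injOn φ hφ (by
      intro n hn m hm hnm
      have h1 := ((hφ' n hn).trans e2 (hnm ▸ (hφ' m hm).symm e2)).conj (inv_comm hg)
      refine h.F8.inj (Finset.mem_range.1 (Finset.mem_filter.1 hn).1)
        (Finset.mem_range.1 (Finset.mem_filter.1 hm).1) ?_
      convert h1 using 1 <;> group)
    rw [d_44, d_36] at this
    omega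
  have U : ∀ n < 2 ^ 8, 2 ^ 7 ≤ n → VV f e (ι c n) → n ∈ L24 := fun n hn hn' hv =>
    (d_up n hn hn' ((h.F8.sq_iff hn).1 (h.toHy.Vsq hv.2.1))).resolve_right fun h1 => N40 ((C40 n h1).2.1 hv)
  have Y24 : VV f e (ι c 128) := by
    obtain ⟨v, hv, ⟨n, hn, hx⟩, r, hr, h1⟩ := h.exists_up
    have hn' : 2 ^ 7 ≤ n := by
      by_contra hc
      have h2 : c 7 ∈ h.F.Sub := h1 ▸ mul_mem ⟨n, not_le.1 hc, hx⟩ hr
      have h3 := h.c7f
      rw [conj_eq (h.toHy.Rf h2)] at h3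
      exact h.F.e1 (left_eq_mul.1 h3)
    have hv' := hv.me e2 (hx.symm e2)
    exact (C24 n (U n hn hn' hv')).2.1 hv'
  intro n hn
  obtain ⟨d1, d2, d3⟩ := d_P0 n hn
  rcases lt_or_ge n (2 ^ 7) with h1 | h1
  · rw [d1 h1]; exact h.hm n h1
  · exact ⟨fun hv => d2 (U n hn h1 hv), fun hp => (C24 n (d3 h1 hp)).2.2 Y24⟩

theorem main [Finite G] {v : G} (hv : VV f e v) : v ∈ h.F8.Sub := by
  classical
  have e2 := h.toHy.e2
  let Ce : Subgroup G := centralizer {e}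
  have mC : ∀ {x : G}, x ∈ Ce ↔ x * e = e * x := mem_centralizer_singleton_iff
  let e' : Ce := ⟨e, mC.2 rfl⟩
  have : (zpowers e').Normal := ⟨by
    rintro _ ⟨k, rfl⟩ g
    refine ⟨k, ?_⟩
    have : Commute g e' := Subtype.ext (mC.1 g.2)
    simp only [(this.zpow_right k).eq, mul_inv_cancel_right]⟩
  let π : Ce →* Ce ⧸ zpowers e' := QuotientGroup.mk' _
  have πs : Function.Surjective π := QuotientGroup.mk'_surjective _
  have πe : ∀ x y : Ce, π x = π y ↔ Me e (x : G) y := by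
    intro x y
    rw [eq_comm]
    refine QuotientGroup.eq.trans ⟨fun hh => ?_, fun hh => ?_⟩
    · obtain ⟨k, hk⟩ := hh
      refine Me.of_zpowers e2 (mC.1 y.2) ⟨k, ?_⟩
      have h1 : e ^ k = (y : G)⁻¹ * x := by simpa using congrArg Subtype.val hk
      have h2 : Commute (y : G) e := mC.1 y.2
      calc e ^ k = y * e ^ k * (y : G)⁻¹ := (conj_eq (h2.zpow_right k).eq).symm
        _ = _ := by rw [h1]; group
    · rcases me_iff.1 hh with h1 | h1
      · rw [Subtype.ext h1]; simp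
      · refine ⟨1, Subtype.ext ?_⟩
        simp [h1, e']
  have ιC : ∀ n, ι c n ∈ Ce := fun n => by
    have : ∀ i < 8, pp c n i ∈ Ce := fun i hi => by
      unfold pp
      cases n.testBit i
      · exact Ce.one_mem
      · exact mC.2 (h.F8.sq i hi).2
    unfold ι
    refine mul_mem (mul_mem ?_ ?_) (mul_mem (mul_mem ?_ ?_) (mul_mem (mul_mem ?_ ?_) (mul_mem ?_ ?_))) <;>
      exact this _ (by norm_num)
  let j : ℕ → Ce ⧸ zpowers e' := fun n => π ⟨ι c n, ιC n⟩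
  let f' : Ce := ⟨f, mC.2 h.toHy.cfe⟩
  let Q : Subgroup (Ce ⧸ zpowers e') := (h.F8.Sub.subgroupOf Ce).map π
  have mQ : ∀ x : Ce, π x ∈ Q ↔ (x : G) ∈ h.F8.Sub := by
    intro x
    refine ⟨?_, fun hx => ⟨x, hx, rfl⟩⟩
    rintro ⟨y, ⟨n, hn, hy⟩, hxy⟩
    exact ⟨n, hn, (((πe _ _).1 hxy).symm e2).trans e2 hy⟩
  have mQ' : ∀ v, v ∈ Q ↔ ∃ n < 2 ^ 8, v = j n := by
    intro v
    obtain ⟨x, rfl⟩ := πs v
    rw [mQ]
    exact ⟨fun ⟨n, hn, hx⟩ => ⟨n, hn, (πe _ _).2 hx⟩, fun ⟨n, hn, hx⟩ => ⟨n, hn, (πe _ _).1 hx⟩⟩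
  have mV : ∀ x : Ce, IsConj (π f') (π x) ↔ VV f e x := by
    intro x
    constructor
    · intro hh
      obtain ⟨g, hg⟩ := isConj_iff.1 hh
      obtain ⟨g, rfl⟩ := πs g
      rw [← map_inv, ← map_mul, ← map_mul, πe] at hg
      exact (h.toHy.fV.conj (mC.1 g.2)).me e2 (hg.symm e2)
    · intro hh
      obtain ⟨g, hg, h1⟩ := h.toHy.B1 hh
      refine IsConj.symm (isConj_iff.2 ⟨π ⟨g, mC.2 hg⟩, ?_⟩)
      rw [← map_inv, ← map_mul, ← map_mul]
      exact congrArg π (Subtype.ext h1)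
  let B : Ce ⧸ zpowers e' → Ce ⧸ zpowers e' → Prop := fun a b =>
    ∀ x y : Ce, π x = a → π y = b → (x : G) * y = y * x
  have mB : ∀ x y : Ce, B (π x) (π y) ↔ (x : G) * y = y * x := by
    intro x y
    refine ⟨fun hh => hh x y rfl rfl, fun hh x' y' hx hy => ?_⟩
    rw [((πe _ _).1 hx).comm (mC.1 y'.2), eq_comm, ((πe _ _).1 hy).comm (mC.1 x.2), hh]
  have jmul : ∀ n < 2 ^ 8, ∀ m < 2 ^ 8, j n * j m = j (n ^^^ m) := fun n hn m hm => by
    show π _ * π _ = π _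
    rw [← map_mul, πe]
    exact ⟨_, h.F8.mul hn hm⟩
  have j0 : j 0 = 1 := by
    show π _ = 1
    rw [← map_one π]
    exact congrArg π (Subtype.ext (ι_zero c))
  have jV : ∀ n < 2 ^ 8, IsConj (π f') (j n) ↔ P0.testBit n = true := fun n hn =>
    (mV _).trans (h.p_iff n hn)
  have cnt : ∀ (S : Set (Ce ⧸ zpowers e')) (ψ : ℕ → Prop) [DecidablePred ψ], (∀ v ∈ S, v ∈ Q) →
      (∀ n < 2 ^ 8, j n ∈ S ↔ ψ n) → S.ncard = ((Finset.range (2 ^ 8)).filter ψ).card := by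
    intro S ψ _ h1 h2
    rw [← Set.ncard_coe_finset, ← Set.InjOn.ncard_image (f := j)]
    · congr 1
      ext v
      constructor
      · intro hv
        obtain ⟨n, hn, rfl⟩ := (mQ' v).1 (h1 v hv)
        exact ⟨n, Finset.mem_coe.2 (Finset.mem_filter.2 ⟨Finset.mem_range.2 hn, (h2 n hn).1 hv⟩), rfl⟩
      · rintro ⟨n, hn, rfl⟩
        obtain ⟨h3, h4⟩ := Finset.mem_filter.1 (Finset.mem_coe.1 hn)
        exact (h2 n (Finset.mem_range.1 h3)).2 h4
    · intro n hn m hm hnm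
      exact h.F8.inj (Finset.mem_range.1 (Finset.mem_filter.1 (Finset.mem_coe.1 hn)).1)
        (Finset.mem_range.1 (Finset.mem_filter.1 (Finset.mem_coe.1 hm)).1) ((πe _ _).1 hnm)
  have jQ : ∀ n < 2 ^ 8, j n ∈ Q := fun n hn => (mQ' _).2 ⟨n, hn, rfl⟩
  have key := H27.HN.endgame {v | IsConj (π f') v} Q (π f') B (fun _ => Iff.rfl) ?_
    ((mQ f').2 (h.RQ h.toHy.fR)) ?_ ?_ ?_ ?_ ?_ ?_ ?_ ?_ ?_ ?_
  · exact (mQ ⟨v, mC.2 hv.1⟩).1 (key _ ((mV ⟨v, mC.2 hv.1⟩).2 hv))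
  · refine orderOf_eq_prime ?_ ?_
    · rw [← map_pow, ← map_one π]
      exact congrArg π (Subtype.ext (by simpa [pow_two] using h.toHy.f2))
    · rw [← map_one π, Ne, πe]
      intro hh
      rcases me_iff.1 hh with h1 | h1
      · exact h.f1 h1
      · exact h.fe (by rw [show f = e by simpa using h1])
  · intro q hq
    obtain ⟨n, hn, rfl⟩ := (mQ' q).1 hq
    rw [jmul n hn n hn, Nat.xor_self, j0]
  · have := cnt Q (fun _ => True) (fun _ hv => hv) fun n hn => iff_true_intro (jQ n hn)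
    rw [← Nat.card_coe_set_eq] at this
    simpa using this
  · intro g hg q hq
    obtain ⟨g, rfl⟩ := πs g
    obtain ⟨q, rfl⟩ := πs q
    rw [← map_inv, ← map_mul, ← map_mul, mQ]
    rw [← mul_inv_eq_iff_eq_mul, ← map_inv, ← map_mul, ← map_mul, πe] at hg
    exact h.normQ (mC.1 g.2) hg ((mQ _).1 hq)
  · intro v hv hg
    obtain ⟨v, rfl⟩ := πs v
    rw [← mul_inv_eq_iff_eq_mul, ← map_inv, ← map_mul, ← map_mul, πe] at hg
    exact (mQ _).2 (h.hVC ((mV _).1 hv) hg)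
  · intro v hv hq
    obtain ⟨g, hg⟩ := isConj_iff.1 hv
    refine ⟨g, fun q hq' => ?_, hg⟩
    obtain ⟨g, rfl⟩ := πs g
    obtain ⟨q, rfl⟩ := πs q
    rw [← hg, ← map_inv, ← map_mul, ← map_mul, mQ] at hq
    rw [← map_inv, ← map_mul, ← map_mul, mQ]
    exact h.hT (mC.1 g.2) hq q ((mQ _).1 hq')
  · rw [← d_60]
    exact cnt _ _ (fun _ hv => hv.2) fun n hn => ⟨fun hh => (jV n hn).1 hh.1, fun hh =>
      ⟨(jV n hn).2 hh, jQ n hn⟩⟩
  · intro k hk hkV hk1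
    obtain ⟨k, hk', rfl⟩ := (mQ' k).1 hk
    refine le_of_eq_of_le (cnt _ _ (fun _ hv => hv.2.1) fun n hn => ?_)
      (d_12 k hk' (by simpa using mt (jV k hk').2 hkV) (by rintro rfl; exact hk1 j0))
    simp only [Set.mem_ofPred_eq, jmul n hn k hk', jV n hn, jV _ (Nat.xor_lt_two_pow hn hk'), jQ n hn,
      Bool.and_eq_true, true_and]
  · intro g a b hab
    obtain ⟨g, rfl⟩ := πs g
    obtain ⟨a, rfl⟩ := πs a
    obtain ⟨b, rfl⟩ := πs b
    rw [← map_inv, ← map_mul, ← map_mul, ← map_mul, ← map_mul, mB]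
    exact comm_conj (g : G) ((mB _ _).1 hab)
  · intro v hv k hk k' hk'
    obtain ⟨v, rfl⟩ := πs v
    obtain ⟨k, rfl⟩ := πs k
    obtain ⟨k', rfl⟩ := πs k'
    rw [← map_mul, mB, mB, mB]
    obtain ⟨s, hs⟩ := h.F8.Sub_comm ((mQ _).1 hv) ((mQ _).1 hk)
    obtain ⟨t, ht⟩ := h.F8.Sub_comm ((mQ _).1 hv) ((mQ _).1 hk')
    have h1 : (v : G) * (k * k') = k * k' * v * E e (s ^^ t) := by
      rw [← mul_assoc, hs, mul_assoc _ (E e s), ← E_comm (mC.1 k'.2), Bool.xor_comm, ← E_mul e2]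
      calc (k : G) * v * (k' * E e s) = k * (v * k') * E e s := by group
        _ = _ := by rw [ht]; group
    rw [Subgroup.coe_mul, h1, hs, ht]
    have := h.F.e1
    cases s <;> cases t <;> simp [this]
  · intro k hk hkV hk1
    obtain ⟨k, hk', rfl⟩ := (mQ' k).1 hk
    refine (cnt _ _ (fun _ hv => hv.2.1) fun n hn => ?_).trans
      (d_28 k hk' (by simpa using mt (jV k hk').2 hkV) (by rintro rfl; exact hk1 j0))
    have : B (j n) (j k) ↔ bb n k = false := (mB _ _).trans (h.F8.comm_iff hn hk')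
    simp only [Set.mem_ofPred_eq, jV n hn, jQ n hn, this, Bool.and_eq_true, true_and,
      Bool.not_eq_true']

end H8

end H27.HS
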