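import Mathlib

/-! Two lemmas: a transfer computation and the character of a grid. -/

set_option autoImplicit false

namespace H27.HS

open Subgroup MulAction

theorem prod_fix {P Q : Type*} [Group P] [Finite P] [Fintype Q] [MulAction P Q] (hP : IsPGroup 2 P)
    (f : Q → ℤˣ) (hf : ∀ (p : P) q, f (p • q) = f q) (q0 : Q) (h0 : f q0 = -1) (h1 : ∀ p : P, p • q0 = q0)
    (h2 : ∀ q, f q = -1 → (∀ p : P, p • q = q) → q = q0) : ∏ q, f q = -1 := by
  classical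
  let B : SubMulAction P Q := ⟨{q | f q = -1}, fun p q h => (hf p q).trans h⟩
  have a1 := hP.card_modEq_card_fixedPoints B
  have a2 : Nat.card (fixedPoints P B) = 1 := Nat.card_eq_one_iff_exists.2
    ⟨⟨⟨q0, h0⟩, fun p => Subtype.ext (h1 p)⟩, fun q => Subtype.ext (Subtype.ext
      (h2 _ q.1.2 fun p => congrArg Subtype.val (q.2 p)))⟩
  have a3 : Nat.card B = (Finset.univ.filter (f · = -1)).card := Nat.subtype_card _ fun _ => Finset.mem_filter_univ _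
  have a4 : ∏ q, f q = (-1) ^ (Finset.univ.filter (f · = -1)).card := by
    rw [← Finset.prod_const, Finset.prod_filter]
    exact Finset.prod_congr rfl fun q _ => by rcases Int.units_eq_one_or (f q) with h | h <;> simp [h]
  rw [a4, ← a3, Odd.neg_one_pow (Nat.odd_iff.2 (by rw [a2] at a1; exact a1))]

theorem no_char {G : Type*} [Group G] [Finite G] [IsSimpleGroup G] {M P : Subgroup G} (χ : M →* ℤˣ)
    {κ : G} (hP : IsPGroup 2 P) (hκ : ∀ p ∈ P, p * κ * p⁻¹ = κ ∨ p * κ * p⁻¹ = κ⁻¹)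
    (k4 : κ ^ 4 = 1) (k2 : κ ^ 2 ≠ 1) (κM : κ ∈ M) (PM : P ≤ M) (hχ : χ ⟨κ, κM⟩ = -1)
    (hfix : ∀ g, g⁻¹ * κ ^ 2 * g ∈ M → (∀ p ∈ P, ∃ k ∈ zpowers κ, g⁻¹ * k⁻¹ * p * g ∈ M) → g ∈ M) :
    False := by
  classical
  let n : G ⧸ M → ℕ := fun x => Function.minimalPeriod (κ • ·) x
  have hn : ∀ (g : G) k, n g ∣ k ↔ g⁻¹ * κ ^ k * g ∈ M := fun g k => by
    rw [← pow_smul_eq_iff_minimalPeriod_dvd, eq_comm, mul_assoc]; exact QuotientGroup.eq
  let v : G → ℤˣ := fun g => χ ⟨_, (hn g _).1 dvd_rfl⟩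
  have V : ∀ p, p * κ * p⁻¹ = κ ∨ p * κ * p⁻¹ = κ⁻¹ → ∀ g g' : G, (g' : G ⧸ M) = p • (g : G ⧸ M) →
      v g' = v g := fun p hp g g' e => by
    obtain ⟨m, hm, rfl⟩ : ∃ m ∈ M, g' = p * g * m := ⟨(p * g)⁻¹ * g', QuotientGroup.eq.1 e.symm, by group⟩
    have b1 : ∀ k, (p * g * m)⁻¹ * κ ^ k * (p * g * m) = m⁻¹ * (g⁻¹ * κ ^ k * g) * m ∨
        (p * g * m)⁻¹ * κ ^ k * (p * g * m) = (m⁻¹ * (g⁻¹ * κ ^ k * g) * m)⁻¹ := fun k => by
      rcases hp with h | h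
      · left; nth_rw 1 [← h]; rw [conj_pow]; group
      · right; nth_rw 1 [← inv_inv κ, ← h]; rw [inv_pow, conj_pow]; group
    have b2 : n (p * g * m : G) = n g := Nat.dvd_right_iff_eq.1 fun k => by
      rw [hn, hn]
      rcases b1 k with b | b <;> simp only [b, inv_mem_iff, mul_mem_cancel_right hm,
        mul_mem_cancel_left (inv_mem hm)]
    have b3 : v g = χ (⟨m, hm⟩⁻¹ * ⟨_, (hn g _).1 dvd_rfl⟩ * ⟨m, hm⟩) := by
      rw [map_mul, map_mul, mul_right_comm, ← map_mul, inv_mul_cancel, map_one, one_mul]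
    rw [b3]
    rcases b1 (n g) with b | b
    · exact congrArg χ (Subtype.ext (by simp only [b2]; exact b))
    · rw [← Int.units_inv_eq_self (χ _), ← map_inv]
      exact congrArg χ (Subtype.ext (by simp only [b2]; exact b))
  have Z : ∀ k ∈ zpowers κ, k * κ * k⁻¹ = κ := by
    rintro _ ⟨j, rfl⟩; group
  let _ : MulAction P (Quotient (orbitRel (zpowers κ) (G ⧸ M))) :=
    { smul := fun p => Quotient.map' ((p : G) • ·) (by
        rintro _ y ⟨⟨_, j, rfl⟩, rfl⟩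
        refine ⟨⟨p * κ ^ j * (p : G)⁻¹, ?_⟩, ?_⟩
        · rw [← conj_zpow]
          rcases hκ p p.2 with h | h <;> simp [h]
        · change (_ : G) • (p : G) • y = (p : G) • κ ^ j • y
          simp [mul_smul])
      one_smul := fun q => Quotient.inductionOn' q fun x => congrArg _ (one_smul G x)
      mul_smul := fun a b q => Quotient.inductionOn' q fun x => congrArg _ (mul_smul (a : G) b x) }
  have sm : ∀ (p : P) (x : G ⧸ M), p • (Quotient.mk'' x : Quotient (orbitRel (zpowers κ) (G ⧸ M))) =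
      Quotient.mk'' ((p : G) • x) := fun _ _ => rfl
  have W : ∀ p, p * κ * p⁻¹ = κ ∨ p * κ * p⁻¹ = κ⁻¹ → ∀ g : G, v (Quotient.mk'' (p • (g : G ⧸ M)) :
      Quotient (orbitRel (zpowers κ) (G ⧸ M))).out.out = v g := fun p hp g => by
    obtain ⟨k, e⟩ := Quotient.mk_out' (s₁ := orbitRel (zpowers κ) (G ⧸ M)) (p • (g : G ⧸ M))
    rw [V k (.inl (Z _ k.2)) (p * g) _ ((QuotientGroup.out_eq' _).trans e.symm), V p hp g (p * g) rfl]
  have := Fintype.ofFinite (Quotient (orbitRel (zpowers κ) (G ⧸ M)))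
  have T : χ.transfer κ = -1 := by
    rw [MonoidHom.transfer_eq_prod_quotient_orbitRel_zpowers_quot]
    refine Eq.trans ?_ (prod_fix hP (fun q : Quotient (orbitRel (zpowers κ) (G ⧸ M)) => v q.out.out)
      (fun p q => ?_) (Quotient.mk'' (1 : G)) ?_ (fun p => ?_) fun q h1 h2 => ?_)
    · exact Finset.prod_congr rfl fun q _ => congrArg χ (Subtype.ext (by simp [n]))
    · rw [← W p (hκ p p.2) q.out.out, QuotientGroup.out_eq', ← sm, Quotient.out_eq']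
    · rw [← one_smul G ((1 : G) : G ⧸ M), W 1 (by simp), ← hχ]
      exact congrArg χ (Subtype.ext (by simp [Nat.dvd_one.1 ((hn 1 1).2 (by simpa using κM))]))
    · exact congrArg _ (QuotientGroup.eq.2 (by simpa using PM p.2))
    · rw [← Quotient.out_eq' q, ← QuotientGroup.out_eq' q.out]
      refine congrArg _ (QuotientGroup.eq.2 (mul_mem (inv_mem
        (hfix q.out.out ((hn _ _).1 ?_) fun p hp => ?_)) (one_mem _)))
      · have b1 : n q.out.out ∣ 2 ^ 2 := (hn _ _).2 (by simp [k4])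
        obtain ⟨j, b2, b3⟩ := (Nat.dvd_prime_pow Nat.prime_two).1 b1
        interval_cases j
        · rw [b3]; simp
        · rw [b3]; simp
        · refine absurd (h1.symm.trans ?_) (by decide : (-1 : ℤˣ) ≠ 1)
          exact (congrArg χ (Subtype.ext (by simp only [b3]; simp [k4]))).trans (map_one χ)
      · have b1 := h2 ⟨p, hp⟩
        rw [← Quotient.out_eq' q, ← QuotientGroup.out_eq' q.out, sm] at b1
        obtain ⟨k, e⟩ := Quotient.exact' b1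
        exact ⟨k, k.2, by simpa [mul_assoc] using QuotientGroup.eq.1 e⟩
  rcases χ.transfer.normal_ker.eq_bot_or_eq_top with h | h
  · exact k2 (mem_bot.1 (h ▸ (show χ.transfer _ = 1 by simp [T])))
  · exact absurd (T.symm.trans (h ▸ mem_top κ : κ ∈ χ.transfer.ker)) (by decide)

theorem grid {G : Type*} [Group G] (M : Subgroup G) (S : G → Prop) (A : G → G → Prop) (r c : G → ℕ)
    (hS : ∀ g ∈ M, ∀ x, S x → S (g * x * g⁻¹)) (hA : ∀ g ∈ M, ∀ x y, A x y → A (g * x * g⁻¹) (g * y * g⁻¹))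
    (h1 : ∀ x y, S x → S y → (A x y ↔ r x = r y ∨ c x = c y))
    (h2 : ∀ x y, S x → S y → ∃ z, S z ∧ r z = r x ∧ c z = c y) {x0 y0 w0 : G} (sx : S x0) (sy : S y0)
    (sw : S w0) (e1 : r x0 = r y0) (e2 : c x0 ≠ c y0) (e3 : r w0 ≠ r x0) :
    ∃ χ : M →* ℤˣ, ∀ g : M, r (g * x0 * (g : G)⁻¹) ≠ r (g * y0 * (g : G)⁻¹) → χ g = -1 := by
  classical
  have A' : ∀ g ∈ M, ∀ x y, A (g * x * g⁻¹) (g * y * g⁻¹) ↔ A x y := fun g hg x y =>
    ⟨fun h => by simpa [mul_assoc] using hA _ (inv_mem hg) _ _ h, hA g hg x y⟩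
  have ex : ∀ g ∈ M, ∀ p : G → Prop, (∃ z, S z ∧ p z) ↔ ∃ z, S z ∧ p (g * z * g⁻¹) := fun g hg p =>
    ⟨fun ⟨z, a, b⟩ => ⟨_, hS _ (inv_mem hg) z a, by simpa [mul_assoc] using b⟩,
      fun ⟨z, a, b⟩ => ⟨_, hS g hg z a, b⟩⟩
  let V : G → G → Prop := fun x y => S x ∧ S y ∧ A x y ∧ ∃ z, S z ∧ A z x ∧ ¬ A z y
  let R : G → G → G → G → Prop := fun x y u v => (A x u ∧ A x v ∧ A y u ∧ A y v) ∨
    ¬ ∃ z, S z ∧ A z x ∧ A z y ∧ A z u ∧ A z v
  have V0 : ∀ g ∈ M, V (g * x0 * g⁻¹) (g * y0 * g⁻¹) := fun g hg => by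
    obtain ⟨z, a1, a2, a3⟩ := h2 w0 x0 sw sx
    refine ⟨hS g hg _ sx, hS g hg _ sy, hA g hg _ _ ((h1 _ _ sx sy).2 (.inl e1)), _, hS g hg z a1, ?_⟩
    rw [A' g hg, A' g hg, h1 _ _ a1 sx, h1 _ _ a1 sy]; omega
  have key : ∀ x y u v, V x y → V u v → (R x y u v ↔ (r x = r y ↔ r u = r v)) := by
    rintro x y u v ⟨a1, a2, a3, z, a4, a5⟩ ⟨b1, b2, b3, w, b4, b5⟩
    obtain ⟨p, p1, p2⟩ := h2 x u a1 b1
    obtain ⟨q, q1, q2⟩ := h2 u x b1 a1
    have E : ∀ t, S t → (A t x ∧ A t y ∧ A t u ∧ A t v ↔ _) := fun t h =>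
      and_congr (h1 _ _ h a1) (and_congr (h1 _ _ h a2) (and_congr (h1 _ _ h b1) (h1 _ _ h b2)))
    rw [h1 _ _ a1 a2] at a3
    rw [h1 _ _ b1 b2] at b3
    rw [h1 _ _ a4 a1, h1 _ _ a4 a2] at a5
    rw [h1 _ _ b4 b1, h1 _ _ b4 b2] at b5
    simp only [R, h1 _ _ a1 b1, h1 _ _ a1 b2, h1 _ _ a2 b1, h1 _ _ a2 b2]
    refine ⟨fun h => h.elim (by omega) fun h => by_contra fun h' => h ?_, fun h => by_contra fun h' => ?_⟩
    · by_cases e : r x = r y
      exacts [⟨p, p1, (E p p1).2 (by omega)⟩, ⟨q, q1, (E q q1).2 (by omega)⟩]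
    · obtain ⟨h3, h4⟩ := not_or.1 h'
      obtain ⟨t, t1, t2⟩ := not_not.1 h4
      have := (E t t1).1 t2
      omega
  refine ⟨MonoidHom.mk' (fun g => if r (g * x0 * (g : G)⁻¹) = r (g * y0 * (g : G)⁻¹) then 1 else -1)
    fun a b => ?_, fun g h => if_neg h⟩
  have a1 := key _ _ _ _ (V0 _ (mul_mem a.2 b.2)) (V0 _ a.2)
  have a2 := key _ _ _ _ (V0 _ b.2) (V0 _ (one_mem M))
  have a3 : ∀ x, (a : G) * b * x * ((a : G) * b)⁻¹ = a * (b * x * (b : G)⁻¹) * (a : G)⁻¹ := fun x => by group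
  have a4 : ∀ x y u v, R (a * x * (a : G)⁻¹) (a * y * (a : G)⁻¹) (a * u * (a : G)⁻¹) (a * v * (a : G)⁻¹) ↔
      R x y u v := fun x y u v => by
    simp only [R]
    rw [ex a a.2]
    simp only [A' _ a.2]
  rw [a3, a3, a4] at a1
  simp only [one_mul, inv_one, mul_one, e1, iff_true] at a2
  rw [a2] at a1
  simp only [coe_mul, a3]
  split_ifs <;> first | rfl | tauto

end H27.HS
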