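import Mathlib
import Cfsg.Agent.H27.HSG
import Cfsg.Agent.H27.HSH
import Cfsg.Agent.H27.HND

/-! The standard form problem for `2.HS`: the centraliser of the `2`-central involution. -/

set_option autoImplicit false

namespace H27.HS

open Subgroup H18.HND H18.HNA

def M0 : ℕ := 61216340425360042295564524755821246380356858821177265036937562277955231581760
def rT (n : ℕ) : ℕ := 17859742567737613967124486199814135323864172879553668908348232586786911199161271058123954698532547910337093524018859506148664978401262433570766871027282819891128976058784668132229295252512148043596717488887191585417942301409280 >>> (3 * n) % 8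
def cT (n : ℕ) : ℕ := 776273208693373108196145445498168448105111298707248133007898923460783628590361522066027870341092217108444070593153032294091532512739511418477071264855331293347488439000381439572627243234299302227890403963198077523939927237108695040 >>> (3 * n) % 8

theorem d_M0 : ∀ n < 2 ^ 8, (M0.testBit n = true ↔ sg n n = false ∧ ¬ P0.testBit n = true ∧ n ≠ 0) ∧
    rT n < 5 ∧ cT n < 5 := by decide +kernel
set_option synthInstance.maxSize 1000 in
theorem d_adj : ∀ n < 2 ^ 8, M0.testBit n = true → ∀ m < 2 ^ 8, M0.testBit m = true →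
    (sg (n ^^^ m) (n ^^^ m) = false ∧ ¬ P0.testBit (n ^^^ m) = true ↔ rT n = rT m ∨ cT n = cT m) := by
  decide +kernel
theorem d_pt : ∀ i < 5, ∀ j < 5, ∃ n < 2 ^ 8, M0.testBit n = true ∧ rT n = i ∧ cT n = j := by decide +kernel

namespace H8

variable {G : Type*} [Group G] [Finite G]
variable {G1 O : Subgroup G} {c : ℕ → G} {f e w1 w2 : G} (h : H8 G1 O c f e w1 w2)
include h

theorem nQ {g q : G} (hg : g * e = e * g) (hq : q ∈ h.F8.Sub) : g * q * g⁻¹ ∈ h.F8.Sub :=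
  h.hT hg (h.main (h.toHy.fV.conj hg)) q hq

theorem exχ : ∃ χ : centralizer {e} →* ℤˣ, ∀ g : centralizer {e}, Me e (g * ι c 9 * (g : G)⁻¹) (ι c 9) →
    Me e (g * ι c 6 * (g : G)⁻¹) (ι c 70) → χ g = -1 := by
  have e2 := h.toHy.e2
  choose! k k1 k2 using fun x (hx : x ∈ h.F8.Sub) => hx
  have k3 : ∀ x, ∀ n < 2 ^ 8, Me e x (ι c n) → k x = n := fun x n a b =>
    h.F8.inj (k1 x ⟨n, a, b⟩) a (((k2 x ⟨n, a, b⟩).symm e2).trans e2 b)
  have vv : ∀ x, ∀ n < 2 ^ 8, Me e x (ι c n) → (VV f e x ↔ P0.testBit n = true) := fun x n a b =>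
    ⟨fun d => (h.p_iff n a).1 (d.me e2 (b.symm e2)), fun d => ((h.p_iff n a).2 d).me e2 b⟩
  have vc : ∀ g x, g * e = e * g → VV f e (g * x * g⁻¹) → VV f e x := fun g x a b => by
    simpa [mul_assoc] using b.conj (inv_comm a)
  have S : ∀ x, ∀ n < 2 ^ 8, Me e x (ι c n) → ((x ∈ h.F8.Sub ∧ x * x = 1 ∧ ¬ VV f e x ∧ ¬ Me e x 1) ↔
      M0.testBit n = true) := fun x n a b => by
    rw [(d_M0 n a).1, h.F8.me_sq a b, vv x n a b, ← ι_zero c]
    exact ⟨fun d => ⟨d.2.1, d.2.2.1, fun d' => d.2.2.2 (d' ▸ b)⟩, fun d => ⟨⟨n, a, b⟩, d.1, d.2.1, fun d' =>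
      d.2.2 ((k3 x n a b).symm.trans (k3 x 0 (by norm_num) d'))⟩⟩
  have S' := fun n a => (S _ n a Me.rfl').2
  have k4 := fun n a => k3 _ n a Me.rfl'
  refine Exists.imp (fun χ hχ g a b => hχ g (by rw [k3 _ 9 _ a, k3 _ 70 _ b] <;> decide +kernel))
    (grid (centralizer {e}) (fun x => x ∈ h.F8.Sub ∧ x * x = 1 ∧ ¬ VV f e x ∧ ¬ Me e x 1)
    (fun x y => x * y * (x * y) = 1 ∧ ¬ VV f e (x * y)) (fun x => rT (k x)) (fun x => cT (k x))
    (fun g hg x hx => ?_) (fun g hg x y hx => ?_) (fun x y hx hy => ?_) (fun x y hx hy => ?_)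
    (S' 9 (by norm_num) (by decide +kernel)) (S' 6 (by norm_num) (by decide +kernel))
    (S' 70 (by norm_num) (by decide +kernel)) (by rw [k4, k4] <;> decide +kernel)
    (by rw [k4, k4] <;> decide +kernel) (by rw [k4, k4] <;> decide +kernel))
  · have hg := mem_centralizer_singleton_iff.1 hg
    refine ⟨h.nQ hg hx.1, by simp [hx.2.1], mt (vc g x hg) hx.2.2.1, fun a => hx.2.2.2 ?_⟩
    simpa [mul_assoc] using a.conj (inv_comm hg)
  · rw [conj_mul]
    exact ⟨by simp [hx.1], mt (vc g _ (mem_centralizer_singleton_iff.1 hg)) hx.2⟩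
  · have a1 := Nat.xor_lt_two_pow (k1 x hx.1) (k1 y hy.1)
    have a2 := h.F8.mul_me (k1 x hx.1) (k1 y hy.1) (k2 x hx.1) (k2 y hy.1)
    rw [h.F8.me_sq a1 a2, vv _ _ a1 a2]
    exact d_adj _ (k1 x hx.1) ((S _ _ (k1 x hx.1) (k2 x hx.1)).1 hx) _ (k1 y hy.1)
      ((S _ _ (k1 y hy.1) (k2 y hy.1)).1 hy)
  · obtain ⟨n, a1, a2, a3⟩ := d_pt _ (d_M0 _ (k1 x hx.1)).2.1 _ (d_M0 _ (k1 y hy.1)).2.2
    exact ⟨_, S' n a1 a2, by rwa [k4 n a1]⟩

theorem ce_le {g : G} (hg : g * e = e * g) : g ∈ G1 := by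
  have hv := h.toHy.fV.conj hg
  rcases me_iff.1 (h.F8.Sub_conj (h.main hv) (h.RQ h.toHy.fR)) with h1 | h1
  · exact h.nO g (comm_of_conj h1)
  obtain ⟨y, hy, yV, -, vy⟩ := h.fixY hv.1 (h.toHy.Vsq hv.2.1) h1
  obtain ⟨a, ha, h2⟩ := h.toHy.B0 yV.2.1 (h.toHy.Rf hy)
  refine (mul_mem_cancel_left ha).1 (h.nO _ ?_)
  have := comm_conj a vy
  rw [h2] at this
  convert this using 2 <;> group

theorem invc {z : G} (ze : z * e = e * z) (z2 : z * z = 1) :
    ∃ v, (∃ g ∈ G1, g * v * g⁻¹ = f) ∧ z * v = v * z := by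
  by_contra hc
  have e2 := h.toHy.e2
  have cz : ∀ {x g}, g ∈ G1 → (∃ a ∈ G1, a * z * a⁻¹ = x) → ∃ a ∈ G1, a * z * a⁻¹ = g * x * g⁻¹ :=
    fun hg ⟨a, a1, a2⟩ => ⟨_, mul_mem hg a1, by rw [← a2]; group⟩
  have s2 : ∀ {x}, (∃ a ∈ G1, a * z * a⁻¹ = x) → x * x = 1 := fun ⟨a, _, a2⟩ => by simp [← a2, z2]
  have N0 : ∀ x v, (∃ a ∈ G1, a * z * a⁻¹ = x) → (∃ g ∈ G1, g * v * g⁻¹ = f) → x * v ≠ v * x := by
    rintro _ v ⟨a, a1, rfl⟩ ⟨g, g1, g2⟩ hh
    refine hc ⟨a⁻¹ * v * a, ⟨g * a, mul_mem g1 a1, by rw [← g2]; group⟩, ?_⟩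
    have := comm_conj a⁻¹ hh
    convert this using 1 <;> group
  have N1 : ∀ x v, (∃ a ∈ G1, a * z * a⁻¹ = x) → VV f e v → x * e = e * x → x * v * x⁻¹ ≠ v * e := by
    intro x v hx hv xe hh
    obtain ⟨g, hg, h1⟩ := h.toHy.B1 hv
    obtain ⟨y, hy, yV, -, h2⟩ := h.fixY (conj_comm_e hg xe) (s2 (cz (h.ce_le hg) hx)) (by
      calc _ = g * (x * (g⁻¹ * f * g) * x⁻¹) * g⁻¹ := by group
        _ = g * (x * v * x⁻¹) * g⁻¹ := by rw [← h1]; group
        _ = g * v * g⁻¹ * (g * e * g⁻¹) := by rw [hh]; group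
        _ = _ := by rw [h1, conj_eq hg])
    exact N0 _ y (cz (h.ce_le hg) hx) (h.toHy.B0 yV.2.1 (h.toHy.Rf hy)) h2
  have hx : ∃ a ∈ G1, a * z * a⁻¹ = z := ⟨1, one_mem _, by simp⟩
  obtain ⟨x, rfl⟩ : ∃ x, x = z := ⟨_, rfl⟩
  have x2 := z2
  have xe := ze
  have N2 : ∀ u, VV f e u → u * (x * u * x⁻¹) ≠ x * u * x⁻¹ * u := by
    intro u uV hh
    have hu := uV.2.1
    have u2 := h.toHy.Vsq hu
    have u'2 := h.toHy.Vsq (isConj_conj x hu)
    have ku : u * (x * u * x⁻¹) * u = u * (u * (x * u * x⁻¹)) := by rw [mul_assoc, ← hh]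
    have kx : x * (u * (x * u * x⁻¹)) * x⁻¹ = u * (x * u * x⁻¹) := by
      calc _ = x * u * x⁻¹ * ((x * x) * u * (x * x)⁻¹) := by group
        _ = _ := by rw [x2, hh]; group
    have k2 : u * (x * u * x⁻¹) * (u * (x * u * x⁻¹)) = 1 := by
      rw [← mul_assoc, ku, ← mul_assoc u u, u2, one_mul, u'2]
    obtain ⟨g, hg, h0⟩ := h.toHy.B1 uV
    have k1 : u * (x * u * x⁻¹) ≠ 1 := fun h1 => N0 x u hx ⟨g, h.ce_le hg, h0⟩ (comm_of_conj (by
      rw [eq_inv_of_mul_eq_one_right h1, ← eq_inv_of_mul_eq_one_right u2]))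
    have k3 := comm_conj g ku
    rw [h0] at k3
    obtain ⟨b, hb, h1⟩ := (h.hcl _ k3 (by simp [k2]) (conj_eq_one_iff.not.2 k1)).resolve_right fun d =>
      d.2.2 (h.QfR (h.nQ hg (mul_mem (h.main uV) (h.main (uV.conj xe)))) k3)
    obtain ⟨a, ha1, ha⟩ : ∃ a ∈ G1, a * (u * (x * u * x⁻¹)) * a⁻¹ = b * (g * (u * (x * u * x⁻¹)) * g⁻¹) * b⁻¹ :=
      ⟨b * g, mul_mem hb (h.ce_le hg), by group⟩
    rcases h1 with h1 | h1 <;> rw [h1] at ha
    · exact N0 x _ hx ⟨a, ha1, ha⟩ (comm_of_conj kx)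
    have uk : u * (u * (x * u * x⁻¹)) = x * u * x⁻¹ := by rw [← mul_assoc, u2, one_mul]
    have h2 : a * u * a⁻¹ * e = a * (x * u * x⁻¹) * a⁻¹ := by
      conv_rhs => rw [← uk]
      rw [← ha]; group
    refine N1 (a * x * a⁻¹) (a * u * a⁻¹) (cz ha1 hx) ⟨ha ▸ comm_conj a ku.symm, isConj_conj a hu,
      h2 ▸ isConj_conj a (isConj_conj x hu)⟩ (ha ▸ comm_conj a (comm_of_conj kx)) ?_
    rw [h2]; group
  have yV := h.toHy.cV (i := 0) (by norm_num)
  have fV := h.toHy.fV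
  obtain ⟨y, hy⟩ : ∃ y, y = c 0 := ⟨_, rfl⟩
  have yfV := h.toHy.yfV
  rw [← hy] at yV yfV
  have nc : ∀ u v, VV f e u → VV f e v → u * v ≠ v * u → u * v = v * u * e := fun u v hu hv hh =>
    (me_iff.1 (h.F8.Sub_comm (h.main hu) (h.main hv))).resolve_left hh
  have a1 := nc _ _ fV (fV.conj xe) (N2 f fV)
  have a2 := nc _ _ yV (yV.conj xe) (N2 y yV)
  obtain ⟨u, hu⟩ : ∃ u, u = x * f * x⁻¹ := ⟨_, rfl⟩
  obtain ⟨w, hw⟩ : ∃ w, w = x * y * x⁻¹ := ⟨_, rfl⟩
  have uV : VV f e u := hu ▸ fV.conj xe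
  have wV : VV f e w := hw ▸ yV.conj xe
  have b1 : f * w = w * f ↔ y * u = u * y := by
    have i1 : x * u * x⁻¹ = f := by
      calc _ = (x * x) * f * (x * x)⁻¹ := by rw [hu]; group
        _ = f := by rw [x2]; group
    have i2 : x * w * x⁻¹ = y := by
      calc _ = (x * x) * y * (x * x)⁻¹ := by rw [hw]; group
        _ = y := by rw [x2]; group
    constructor
    · intro hh
      have := comm_conj x hh
      rw [i2, ← hu] at this
      exact this.symm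
    · intro hh
      have := comm_conj x hh
      rw [i1, ← hw] at this
      exact this.symm
  apply N2 (y * f) yfV
  rw [show x * (y * f) * x⁻¹ = w * u by rw [hu, hw]; group]
  rw [← hu] at a1
  rw [← hw] at a2
  have ue := uV.1
  have fe := fV.1
  by_cases b2 : f * w = w * f
  · calc y * f * (w * u) = y * (f * w) * u := by group
      _ = (y * w) * (f * u) := by rw [b2]; group
      _ = w * y * (e * u) * (f * e) := by rw [a1, a2]; group
      _ = w * (y * u) * (e * e) * f := by rw [← ue, fe]; group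
      _ = _ := by rw [b1.1 b2, e2]; group
  · have b3 := nc _ _ fV wV b2
    have b4 := nc _ _ yV uV (mt b1.2 b2)
    calc y * f * (w * u) = y * (f * w) * u := by group
      _ = (y * w) * f * (e * u) := by rw [b3]; group
      _ = (y * w) * (f * u) * e := by rw [← ue]; group
      _ = w * y * (e * u) * (f * (e * e)) := by rw [a1, a2]; group
      _ = w * (y * u) * e * f := by rw [← ue, e2]; group
      _ = w * u * y * (e * e) * f := by rw [b4]; group
      _ = _ := by rw [e2]; group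

theorem eq_top [IsSimpleGroup G] : G1 = ⊤ := by
  have A : ∀ g, g * e * g⁻¹ ∈ G1 := by
    intro g
    have h1 : g * e * g⁻¹ * (g * e * g⁻¹) = 1 := sq_of_conj h.toHy.e2 (isConj_iff.2 ⟨g, rfl⟩)
    obtain ⟨k, k2, k1, kf, ke, k3⟩ := exists_central h.toHy.f2 h1
      (H18.HND.H8.even_of h.toHy.f2 h1 fun hh => h.fe (hh.trans (isConj_iff.2 ⟨g, rfl⟩).symm))
    obtain ⟨a, ha, h2⟩ : ∃ a ∈ G1, a * k * a⁻¹ = f ∨ a * k * a⁻¹ = e := by
      refine (h.hcl k kf k2 k1).elim id fun ⟨d1, d2, _⟩ => ?_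
      obtain ⟨a, ha⟩ := isConj_iff.1 ((d1.trans (kf ▸ k3.resolve_left (kf ▸ d2)).symm).trans
        (isConj_iff.2 ⟨g, rfl⟩).symm)
      obtain ⟨v, ⟨b, b1, b2⟩, b3⟩ := h.invc (ha ▸ comm_conj a kf.symm) (by simp [h.toHy.f2])
      refine ⟨a, (mul_mem_cancel_left b1).1 (h.nO _ ?_), .inr ha⟩
      have := comm_conj b b3
      rw [b2] at this
      convert this using 2 <;> group
    have h3 : a * (g * e * g⁻¹) * a⁻¹ ∈ G1 := by
      rcases h2 with h2 | h2
      · exact h.toHy.hK _ (h2 ▸ comm_conj a ke.symm)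
      · exact h.ce_le (by have := comm_conj a ke.symm; rwa [h2] at this)
    exact (mul_mem_cancel_left ha).1 ((mul_mem_cancel_right (inv_mem ha)).1 h3)
  rcases (normalCore_normal G1).eq_bot_or_eq_top with h1 | h1
  · have : e ∈ G1.normalCore := A
    rw [h1] at this
    exact absurd this h.F.e1
  · exact eq_top_iff.2 (h1 ▸ normalCore_le G1)

end H8

end H27.HS
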