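import Mathlib
import Cfsg.Agent.H27.HSF
import Cfsg.Agent.H27.HSI
import Cfsg.Agent.H27.HNZ

/-!
# The standard form problem for `2.HS`
-/

set_option autoImplicit false
set_option linter.unusedSectionVars false
set_option maxRecDepth 100000

namespace H27.HN

open H29 H15.KM H24 Subgroup Cfsg
open H18.HND (Me Fam ι VV t1 t2 me_iff)

theorem four {z : K} (hz : z ∈ gen m [5, 24]) : z = 1 ∨ z = m 24 ∨ z = m 5 ∨ z = m 24 * m 5 := by
  obtain ⟨n, h1, rfl⟩ := (mod_m.pcR.drop 6).cover (gen_mono (by decide) hz)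
  have : n < 4 := h1
  interval_cases n <;> simp [lR, mw]

theorem recogφ {G : Type*} [Group G] [Finite G] [IsSimpleGroup G] (φ : K →* G) (a1 : Function.Injective φ)
    (a2 : φ.range = C{φ (m 5)}) : Nonempty (HNP.P.G ≃* G) := by
  have h := mod_hom φ a1 a2
  obtain ⟨r, r0, r1, r2, r3⟩ := h.exists_r (rig_hom φ a1 a2)
  obtain ⟨Φ, b1, b2⟩ := h.exΦ r0 r1 r2 r3
  obtain ⟨c1, -⟩ := h.main r0 r1 (X := Φ.range) (by
    rw [← a2, MonoidHom.range_eq_map, ← HK.top5, map_gen]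
    exact gen_le.2 fun c hc => by
      have h3 : c < 5 := (by decide : ∀ c ∈ HK.L5, c < 5) c hc
      exact m_base h3 ▸ b2 c h3) b1
  have := H29.HN.simple
  refine ⟨MulEquiv.ofBijective Φ ⟨(MonoidHom.ker_eq_bot_iff Φ).1 (Φ.normal_ker.eq_bot_or_eq_top.resolve_right
    fun d => h.f1 ?_), MonoidHom.range_eq_top.1 c1⟩⟩
  obtain ⟨g, hg⟩ : φ (m 5) ∈ Φ.range := c1 ▸ mem_top _
  exact hg.symm.trans (d ▸ mem_top g : g ∈ Φ.ker)

variable {G : Type*} [Group G] [Finite G] {φ : K →* G} {O : Subgroup G}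

theorem Tw.one {g : G} {k : K} (t : Tw φ g k) : Tw φ ((φ k)⁻¹ * g) 1 := fun y => by
  rw [show (φ k)⁻¹ * g * φ y * ((φ k)⁻¹ * g)⁻¹ = (φ k)⁻¹ * (g * φ y * g⁻¹) * φ k by group]
  exact ⟨fun a => by simp [(t y).1 a, mul_assoc], fun a => by simp [(t y).2 a, mul_assoc, ← φf]⟩

theorem ιφ (φ : K →* G) {n : ℕ} (hn : n < 128) :
    ι (fun i => φ (m (nth 99 lI i))) n = φ (ev m (mw lI n)) := by
  rw [← H18.HND.ev_eq_ι _ hn, map_ev, show mw lI n = _ from mw_map (nth 99 lI) [0, 1, 2, 3, 4, 5, 6] n,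
    ev, ev, List.map_map]; rfl

namespace Cf

variable (h : Cf φ O) (nO : ∀ g, g * φ (m 5) * g⁻¹ * φ (m 5) = φ (m 5) * (g * φ (m 5) * g⁻¹) → g ∈ N[O])
include h

theorem cenR {g : G} {k : K} (h2 : ∀ y, g * φ y * g⁻¹ = φ (k * y * k⁻¹) ∨ g * φ y * g⁻¹ = φ (k * y * k⁻¹ * m 5))
    (h3 : ∀ c ∈ [37, 38, 39, 40, 41, 42, 24], g * φ (m c) * g⁻¹ = φ (m c) ∨
      g * φ (m c) * g⁻¹ = φ (m c * m 5)) : k ∈ gen m [5, 24] :=
  centR (mem_XU.2 fun c hc => mul_inv_eq_iff_eq_mul.1 (by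
    rcases h2 (m c) with a | a <;> rcases h3 c hc with b | b <;>
      simpa [ψ5] using congrArg ψ (h.inj (a.symm.trans b))))

theorem Dsq {u : G} (h1 : IsConj (φ (m 5)) u) : u * u = 1 ∧ u ≠ 1 := by
  obtain ⟨g, rfl⟩ := isConj_iff.1 h1
  simp [φsq φ 5, h.f1]

theorem subf {u : G} (h1 : u * φ (m 5) = φ (m 5) * u) (h2 : IsConj (φ (m 5)) (u * φ (m 5))) : u ∈ φ.range :=
  (mul_mem_cancel_right (show φ (m 5) ∈ φ.range from ⟨_, rfl⟩)).1 (h.sub _ h2 (by rw [← mul_assoc, h1]))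

theorem one {k : K} : φ k = 1 ↔ k = 1 := map_eq_one_iff φ h.inj

include nO

theorem yes {u : K} (hu : Ty m [5, 23, 16] u) : IsConj (φ (m 5)) (φ u) := by
  obtain ⟨r, d1, k, d2⟩ := ty_conj φ hu
  have := h.aD
  have := h.beta nO
  have := IsConj.refl (φ (m 5))
  exact IsConj.trans (by grind) (isConj_iff.2 ⟨_, d2⟩).symm

theorem no {u : K} (hu : Ty m [99, 24, 25] u) : ¬ IsConj (φ (m 5)) (φ u) := fun h1 => by
  obtain ⟨r, d1, k, d2⟩ := ty_conj φ hu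
  have := h1.trans (isConj_iff.2 ⟨_, d2⟩)
  have := h.eD
  have := h.bd.1 (h.beta nO)
  have := fun a => (h.Dsq (u := φ (m 99)) a).2 (by simp [mod_m.e99])
  grind

theorem toF {u : G} (h1 : IsConj (φ (m 5)) u) (h2 : u * φ (m 5) = φ (m 5) * u) :
    ∃ g ∈ N[O], g * u * g⁻¹ = φ (m 5) := by
  obtain ⟨g, rfl⟩ := isConj_iff.1 h1
  exact ⟨g⁻¹, inv_mem (nO g h2), by group⟩

theorem φN (k : K) : φ k ∈ N[O] := nO _ (by rw [φf, mul_inv_cancel_right])

theorem toE {k : K} (h1 : k * k = 1) (h2 : k ≠ 1) (h3 : ¬ IsConj (φ (m 5)) (φ k)) :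
    Ty m [24] k ∨ Ty m [25] k := by
  obtain ⟨r, a1, b⟩ := (mod_m.inv_ty (fc k) h1 h2).resolve_left fun a => h3 (a ▸ IsConj.refl _)
  have : r ∉ [5, 23, 16] := fun a => h3 (h.yes nO ⟨r, a, b⟩)
  by_cases r = 24
  exacts [.inl ⟨r, by grind, b⟩, .inr ⟨r, by grind, b⟩]

theorem df {k : K} (h1 : Ty m [25] k) : ¬ IsConj (φ (m 5)) (φ k * φ (m 5)) := by
  obtain ⟨r, a1, l, a2, a3⟩ := h1
  rw [← map_mul]
  refine h.no nO (Mod.Ty.conj mod_m a2 ?_)
  rw [← conj_mul, a3, mem_C1_iff_conj.1 a2, List.mem_singleton.1 a1]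
  simpa using mod_m.ty (x := [25, 5]) (c := [25, 1]) (U := []) (by decide +kernel)

theorem de : ∃ g ∈ N[O], g * φ (m 25) * g⁻¹ = φ (m 24) := by
  obtain ⟨g, a1, a2⟩ := h.toF nO (h.beta nO) (φf φ _)
  have a3 : g * φ (m 23) * g⁻¹ * φ (m 5) = g * φ (m 25) * g⁻¹ := by
    rw [← a2, conj_mul, mod_m.e25, map_mul, φcm φ 16 23]
  have a4 := H18.HND.isConj_conj g h.aD
  obtain ⟨k, a5⟩ := h.sub _ a4 (by rw [← a2, conj_mul, conj_mul, φcm φ 16 23])
  have a6 : ¬ IsConj (φ (m 5)) (φ (k * m 5)) := fun a => h.bd.1 (h.beta nO)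
    (a.trans (by rw [map_mul, a5, a3]; exact (isConj_iff.2 ⟨g, rfl⟩).symm))
  rw [← a5] at a3 a4
  have a7 := h.Dsq a4
  rcases h.toE nO (k := k * m 5) ((extK.sq_z _).trans (h.one.1 (by simpa using a7.1))) (fun a => by
    rw [← map_mul, a, map_one, eq_comm, conj_eq_one_iff] at a3
    exact absurd (by simpa using a3) (h.ne [25] [])) a6 with a | a
  · obtain ⟨r, b1, l, b2⟩ := ty_conj φ a
    exact ⟨φ l * g, mul_mem (h.φN nO l) a1, by
      rw [← List.mem_singleton.1 b1, ← b2, map_mul, a3]; group⟩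
  · exact absurd (by rwa [map_mul, mul_assoc, φsq φ 5, mul_one]) (h.df nO a)

theorem hy : HS.Hy N[O] O (fun i => φ (m (nth 99 lI i))) (φ (m 5)) (φ (m 24)) (φ (m 21)) (φ (m 43)) ∧
    ∀ F : Fam (fun i => φ (m (nth 99 lI i))) (φ (m 24)) 7, F.Sub = (gen m lR).map φ := by
  have e1 : φ (m 24) ≠ 1 := by simpa using h.ne [24] []
  have F : Fam (fun i => φ (m (nth 99 lI i))) (φ (m 24)) 7 := ⟨φsq φ 24, e1, fun i hi => ?_, fun i hi j hj => ?_⟩
  rotate_left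
  · have := allN_true.1 (by decide +kernel : (allN 7 fun i => and2
      (eqW run [nth 99 lI i, nth 99 lI i] []) (eqW run [nth 99 lI i, 24] [24, nth 99 lI i])) = true) i hi
    rw [and2_true] at this
    exact ⟨φsq φ _ this.1, φcm φ _ _ this.2⟩
  · have := allN_true.1 (allN_true.1 (by decide +kernel : (allN 7 fun i => allN 7 fun j => and2
      (or2 (Nat.beq j (Nat.xor i 1)) (eqW run [nth 99 lI i, nth 99 lI j] [nth 99 lI j, nth 99 lI i]))
      (imp2 (Nat.beq j (Nat.xor i 1))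
        (eqW run [nth 99 lI i, nth 99 lI j] [nth 99 lI j, nth 99 lI i, 24]))) = true) i hi) j hj
    simp only [and2_true, or2_true, imp2_true, H29.beq_true] at this
    exact ⟨fun a => φcm φ _ _ (this.1.resolve_left a), fun a => by
      simpa [mul_assoc] using φeq φ _ _ (this.2 a)⟩
  have hR : F.Sub = (gen m lR).map φ := le_antisymm (F.Sub_le (mem_map_of_mem _ (mem_gen (by decide)))
    fun i hi => mem_map_of_mem _ (mem_gen ((by decide +kernel : ∀ i < 7, nth 99 lI i ∈ lR) i hi))) (by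
      have := fun i => F.c_mem (i := i) (by norm_num)
      rw [map_gen]
      refine gen_le.2 ?_
      simp only [lR, List.forall_mem_cons]
      exact ⟨this 0 (by omega), this 1 (by omega), this 2 (by omega), this 3 (by omega), this 4 (by omega),
        this 5 (by omega), F.e_mem, this 6 (by omega), by simp⟩)
  have hw : ∀ (w : ℕ) (t : ℕ → ℕ), (allN 7 fun i => and2 (Nat.blt (t i) 128) (anyL [[], [24]] fun z =>
      eqW run [w, nth 99 lI i, HN.iv w] (app (mw lI (t i)) z))) = true → ∀ i < 7,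
      Me (φ (m 24)) (φ (m w) * φ (m (nth 99 lI i)) * (φ (m w))⁻¹) (ι (fun i => φ (m (nth 99 lI i))) (t i)) :=
    fun w t hc i hi => by
    obtain ⟨a0, a1⟩ := and2_true.1 (allN_true.1 hc i hi)
    obtain ⟨z, a1, a2⟩ := anyL_true.1 a1
    have a3 := φeq φ _ _ a2
    rw [ιφ φ (Nat.blt_eq ▸ a0), me_iff]
    simp only [List.mem_cons, List.not_mem_nil, or_false] at a1
    rcases a1 with rfl | rfl <;> simp only [ev_cons, ev_nil, mul_one, hiv w, app_eq, ev_append, map_mul,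
      map_inv, ← mul_assoc] at a3 <;> simp [a3]
  have y16 : ∀ {u}, Ty m [16] u → IsConj (φ (m 5)) (φ u) := fun ⟨c, a1, a2⟩ => h.yes nO ⟨c, by grind, a2⟩
  refine ⟨⟨F, rfl, h.f1, h.eD, nO, fun g a o => (mem_N.1 a o).1, fun o => h.o4, fun u a b o ho => ?_,
    h.cO _, fun u a1 a2 a3 => ?_, fun u a1 a2 a3 => ?_, fun u a1 a2 => ?_, fun n hn => ?_, fun g a1 a2 => ?_,
    fun u a1 a2 a3 => ?_, fun w a1 a2 a3 => ?_, ⟨φcm φ 21 24, hw 21 _ (by decide +kernel)⟩,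
    φcm φ 43 24, hw 43 _ (by decide +kernel)⟩, fun _ => hR⟩
  · obtain ⟨k, rfl⟩ := h.sub u a b
    exact h.cO k o ho
  · rcases h.cen u a1 with ⟨k, o, b1, rfl⟩ | ⟨k, t⟩
    · obtain rfl := h.sqO b1 (a2.trans (map_one φ).symm)
      rw [mul_one] at *
      by_cases b2 : IsConj (φ (m 5)) (φ k)
      · exact .inl ((h.toF nO b2 a1).imp fun _ a => ⟨a.1, .inl a.2⟩)
      rcases h.toE nO (h.one.1 (by simpa using a2)) (h.one.not.1 a3) b2 with b | b <;>
        obtain ⟨r, b3, l, b4⟩ := ty_conj φ b <;> rw [List.mem_singleton.1 b3] at b4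
      · exact .inl ⟨_, h.φN nO l, .inr b4⟩
      · obtain ⟨g, c1, c2⟩ := h.de nO
        exact .inl ⟨g * φ l, mul_mem c1 (h.φN nO l), .inr (by rw [← c2, ← b4]; group)⟩
    · have b1 : u ∉ φ.range := fun ⟨l, e⟩ => h.notTw (e ▸ t)
      refine .inr ⟨?_, fun b => b1 (h.subf a1 b), fun b => b1 (map_le_range _ _ (hR ▸ b))⟩
      obtain ⟨y, b2⟩ := twK (k := k) (by
        rcases cenK (k := k * k) (fun y hy => mul_inv_eq_iff_eq_mul.1 (h.inj (by
          rw [show k * k * y * (k * k)⁻¹ = k * (k * y * k⁻¹) * k⁻¹ by simp [mul_assoc],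
            ← (t _).1 (hy.conj k), ← (t _).1 hy, show u * (u * φ y * u⁻¹) * u⁻¹ = u * u * φ y * (u * u)⁻¹ by group,
            a2]; simp))) with e | e <;> rw [← map_mul, e]
        exacts [map_one _, ψ5])
      have b3 : u * φ y * u⁻¹ = φ y * φ (m 5) := by
        rcases b2 with b | b
        exacts [by rw [(t y).1 b.1, b.2, map_mul], by rw [(t y).2 b.1, b.2, map_mul]]
      exact isConj_iff.2 ⟨(φ y)⁻¹, by rw [inv_inv, mul_assoc, mul_inv_eq_iff_eq_mul.1 b3, a1]; group⟩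
  · obtain ⟨k, rfl⟩ := h.subf a1 a3
    obtain ⟨g, b1⟩ := isConj_iff.1 a2
    obtain ⟨r, b3, l, b4⟩ := ty_conj φ ((h.toE nO (h.one.1 (by simp [← b1, φsq φ 24]))
      (h.one.not.1 (by simpa [← b1] using e1)) fun b => h.eD (b.trans a2.symm)).resolve_right
        fun b => h.df nO b a3)
    exact ⟨φ l, φf φ l, List.mem_singleton.1 b3 ▸ b4⟩
  · obtain ⟨k, rfl⟩ := h.sub u a2.2.1 a1
    refine hR ▸ mem_map_of_mem φ ((mod_m.inR ⟨f_cent k, mem_C1.2 (h.cm.1 a2.1)⟩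
      (h.one.1 (by simpa using (h.Dsq a2.2.1).1))).resolve_right ?_)
    rintro (⟨c, b1, b2⟩ | ⟨c, b1, b2⟩)
    exacts [h.no nO ⟨c, by grind, b2⟩ a2.2.1, h.no nO ⟨c, by grind, b2⟩ (by simpa using a2.2.2)]
  · refine ⟨fun a => by_contra fun b => ?_, fun a => ⟨F.ι_e hn, ?_⟩⟩
    · rw [ιφ φ hn, VV, ← map_mul] at a
      rcases (mod_m.mask hn).2 b with b | b | b
      exacts [b (h.one.1 (by simpa using (h.Dsq a.2.1).1)), h.no nO b a.2.1, h.no nO b a.2.2]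
    · rw [ιφ φ hn, ← map_mul]
      exact ((mod_m.mask hn).1 a).imp (h.yes nO) (h.yes nO)
  · have b1 : ∀ c ∈ [37, 38, 39, 40, 41, 42, 24], g * φ (m c) * g⁻¹ = φ (m c) := by
      simp only [List.forall_mem_cons, mul_inv_eq_iff_eq_mul]
      exact ⟨a1 0 (by omega), a1 1 (by omega), a1 2 (by omega), a1 3 (by omega), a1 4 (by omega),
        a1 5 (by omega), a2, by simp⟩
    rcases h.cen g (a1 6 (by omega)) with ⟨k, o, b2, rfl⟩ | ⟨k, t⟩
    · refine ⟨o⁻¹, inv_mem b2, hR ▸ ⟨k, gen_mono (by decide) (h.cenR (fun y => .inl ?_)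
        fun c hc => .inl (b1 c hc)), by simp⟩⟩
      rw [mul_assoc (φ k), ← h.cO y o b2, map_mul, map_mul, map_inv]; group
    · have b2 := mem_C1.1 (gen_le.2 (show ∀ c ∈ [5, 24], m c ∈ C{m 37} by
        simp [mem_C1, mod_m.comm 5 37, mod_m.comm 24 37]) (h.cenR (fun y => (em (In y)).imp (t y).1 (t y).2)
          fun c hc => .inl (b1 c hc)))
      have b3 := h.inj (((t _).2 (outm 37)).symm.trans (b1 37 (by simp)))
      exact absurd (by simpa [b2] using b3) extK.ne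
  · obtain ⟨k, b1, rfl⟩ : u ∈ (gen m lR).map φ := hR ▸ a1
    rcases mod_m.toB b1 (h.one.1 (by simpa using (h.Dsq a2.2.1).1)) with ⟨l, b1, b2⟩ | b | b | b
    exacts [⟨φ l, φf φ l, h.cm.2 (mem_C1.1 b1.2), by simpa [nth_eq, lI] using congrArg φ b2⟩, (h.no nO b a2.2.1).elim,
      (h.no nO b (by simpa using a2.2.2)).elim, (h.no nO b (by simpa using a3)).elim]
  · obtain ⟨k, b1, b2⟩ := h.act a1
    obtain ⟨r, b3, b4⟩ : w * w ∈ (gen m lR).map φ := hR ▸ a3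
    obtain ⟨y, c1, c2, c3, c4, c5⟩ := mod_m.fix ⟨f_cent k, mem_C1.2 (h.fixc b1 24 a2)⟩ (by
      refine (mul_mem_cancel_left (inv_mem b3)).1 ?_
      rcases cenK (k := r⁻¹ * (k * k)) (fun y hy => mul_inv_eq_iff_eq_mul.1 (h.inj (by
        rw [show r⁻¹ * (k * k) * y * (r⁻¹ * (k * k))⁻¹ = r⁻¹ * (k * (k * y * k⁻¹) * k⁻¹) * r by
          simp [mul_assoc], map_mul, map_mul, ← b1 _ (hy.conj k), ← b1 _ hy, map_inv, b4]; group)))
        with e | e <;> rw [e]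
      exacts [one_mem _, mem_gen (by decide)])
    have c6 := hR ▸ mem_map_of_mem φ c1
    refine ⟨φ y, c6, ⟨F.Sub_e c6, y16 c2, by simpa using y16 c3⟩, by simpa using y16 c4, ?_⟩
    have c7 := F.Sub_e c6
    have c8 : _ ∈ gen m [5, 24] := (closure_le _).2 (Set.insert_subset (mem_gen (by simp))
      (Set.singleton_subset_iff.2 (mem_gen (by simp)))) c5
    obtain ⟨z, c9, b⟩ : ∃ z ∈ gen m [5, 24], w * φ y * w⁻¹ = φ z * φ y := (b2 y).elim
      (fun b => ⟨_, c8, by simp [b]⟩) fun b => ⟨_, mul_mem (mem_gen (c := 5) (by simp)) c8, by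
        rw [b, fc]; simp [mul_assoc]⟩
    rcases four c9 with rfl | rfl | rfl | rfl <;> rw [b]
    exacts [.inl (.of_eq (by simp)), .inl (c7 ▸ .mul_e), .inr .rfl', .inr ⟨true, by
      rw [map_mul, φcm φ 24 5, mul_assoc, ← c7, mul_assoc]; rfl⟩]

theorem iso [IsSimpleGroup G] (tw : ∀ κ, Tw φ κ 1 → κ * κ * φ (m 5) ∈ O) : Nonempty (HNP.P.G ≃* G) := by
  obtain ⟨c, hc, H⟩ := (h.hy nO).1.exists_H8
  obtain rfl : O = ⊥ := (normalizer_eq_top_iff.1 H.eq_top).eq_bot_or_eq_top.resolve_right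
    fun a => h.f1 (h.o2 (a ▸ mem_top _) (φsq φ 5))
  have tw2 : ∀ κ, Tw φ κ 1 → κ * κ = φ (m 5) := fun κ t => by
    rw [eq_inv_of_mul_eq_one_left (mem_bot.1 (tw κ t)), inv_eq_of_mul_eq_one_left (φsq φ 5)]
  refine recogφ φ h.inj (le_antisymm (by rintro _ ⟨k, rfl⟩; exact mem_C1.2 (φf φ k)) fun g hg =>
    (h.cen g (mem_C1.1 hg)).elim (fun ⟨k, o, a, b⟩ => ⟨k, by rw [b, mem_bot.1 a, mul_one]⟩)
      fun ⟨k, t⟩ => False.elim ?_)
  have t := t.one
  generalize (φ k)⁻¹ * g = κ at t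
  have k2 := tw2 κ t
  have kI : ∀ y, In y → κ * φ y = φ y * κ := fun y a => by simpa [mul_inv_eq_iff_eq_mul] using (t y).1 a
  obtain ⟨χ, hχ⟩ := H.exχ
  have k4 : κ ^ 4 = 1 := by rw [show 4 = 2 * 2 from rfl, pow_mul, sq, sq, k2, φsq φ 5]
  refine HS.no_char (P := (gen m lR).map φ) χ (fun ⟨_, y, a, rfl⟩ => ⟨2, Subtype.ext (by simp [← map_pow, R4 a])⟩)
    ?_ k4 (by rw [sq, k2]; exact h.f1) (mem_C1.2 (kI _ (inm 24))) ?_ (hχ _ ?_ ?_) fun g a1 a2 => ?_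
  · rintro _ ⟨y, -, rfl⟩
    refine (em (In y)).imp (fun a => by rw [← kI y a, mul_inv_cancel_right]) fun a => ?_
    have := (t y⁻¹).2 (In_inv.not.2 a)
    rw [mul_inv_eq_iff_eq_mul, map_mul, ← k2] at this
    rw [mul_assoc, ← map_inv, this, eq_inv_iff_mul_eq_one, ← k4]
    simp [pow_succ, mul_assoc]
  · rintro _ ⟨y, a, rfl⟩
    exact mem_C1.2 (h.cm.2 (mem_C1.1 (mod_m.T_le (gen_mono (by decide) a)).2))
  · rw [H18.HND.ι_congr (by norm_num) hc, ιφ φ (by norm_num)]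
    exact .of_eq (by rw [kI _ (inn _), mul_inv_cancel_right])
  · rw [H18.HND.ι_congr (by norm_num) hc, H18.HND.ι_congr (by norm_num) hc, ιφ φ (by norm_num),
      ιφ φ (by norm_num)]
    exact .of_eq (((t _).2 (by rw [In_ev]; decide +kernel)).trans (by
      simpa using φeq φ (app (mw lI 6) [5]) (mw lI 70)))
  obtain ⟨u, hu⟩ : ∃ u, u = g * φ (m 24) * g⁻¹ := ⟨_, rfl⟩
  have cu : ∀ x, g⁻¹ * x * g ∈ C{φ (m 24)} → x * u * x⁻¹ = u := fun x a => by
    rw [hu]; nth_rw 2 [← mem_C1_iff_conj.1 a]; group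
  have u2 : u * u = 1 := by simp [hu, φsq φ 24]
  have ui := inv_eq_of_mul_eq_one_left u2
  have key : ∀ l, (∀ y, In y → u * φ y * u⁻¹ = φ (l * y * l⁻¹)) → (∀ y, u * φ y * u⁻¹ = φ (l * y * l⁻¹) ∨
      u * φ y * u⁻¹ = φ (l * y * l⁻¹ * m 5)) → l ∈ gen m [5, 24] := fun l b1 b2 => h.cenR b2 fun c hc => by
    obtain ⟨_, ⟨j, rfl⟩, b3⟩ := a2 _ (mem_map_of_mem φ (mem_gen
      ((by decide : ∀ c ∈ [37, 38, 39, 40, 41, 42, 24], c ∈ lR) c hc)))
    have b4 := cu ((κ ^ j)⁻¹ * φ (m c)) (by simpa [mul_assoc] using b3)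
    obtain ⟨x, b5⟩ : ∃ x, u * φ (m c) * u⁻¹ = φ (x * m c) :=
      (b2 (m c)).elim (fun a => ⟨_, by rw [a, inv_mul_cancel_right]⟩) fun a => ⟨_, by rw [a, inv_mul_cancel_right]⟩
    have b6 : φ x = u * κ ^ j * u⁻¹ * (κ ^ j)⁻¹ := by
      rw [map_mul, ← mul_inv_eq_iff_eq_mul] at b5
      rw [← b5, ui]; nth_rw 4 [← b4]; group
    have b7 : ∀ y, In y → Commute (κ ^ j) (φ y) := fun y a => (show Commute _ _ from kI y a).zpow_left j
    rcases cenK (k := x) (fun y a => h.cm.1 (by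
      refine b6 ▸ (Commute.mul_left ?_ (b7 y a).inv_left).eq
      rw [show φ y = u * φ (l⁻¹ * y * l⁻¹⁻¹) * u⁻¹ by rw [b1 _ (a.conj _)]; simp [mul_assoc]]
      exact (b7 _ (a.conj _)).conj u)) with e | e <;> rw [e] at b5
    exacts [.inl (by simpa using b5), .inr (by rw [b5, fc])]
  have e0 : ¬ IsConj (φ (m 5)) u := fun a => h.eD (a.trans (isConj_iff.2 ⟨g, hu.symm⟩).symm)
  rcases h.cen u (mul_inv_eq_iff_eq_mul.1 (cu _ (by rwa [sq, k2] at a1))).symm with ⟨l, o, b1, b2⟩ | ⟨l, s⟩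
  · rw [mem_bot.1 b1, mul_one] at b2
    rcases four (key l (fun y _ => by simp [b2]) fun y => .inl (by simp [b2])) with e | e | e | e <;>
      rw [e] at b2
    · exact absurd (by simpa [hu] using b2) (h.ne [24] [])
    · exact mem_C1_iff_conj.2 (hu ▸ b2)
    · exact absurd (b2 ▸ IsConj.refl _) e0
    · exact absurd (by rw [b2, ← mod_m.af, mul_assoc, mod_m.f2, mul_one]; exact h.aD) e0
  · have b1 := four (key l (fun y => (s y).1) fun y => (em (In y)).imp (s y).1 (s y).2)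
    have b2 : In l ∧ l * l = 1 := by
      rcases b1 with rfl | rfl | rfl | rfl
      exacts [⟨In1, one_mul _⟩, ⟨inm 24, mod_m.sq 24⟩, ⟨In5, mod_m.f2⟩,
        ⟨In_f.2 (inm 24), (extK.sq_z _).trans (mod_m.sq 24)⟩]
    have b3 := tw2 _ s.one
    have b4 : u * φ l = φ l * u := by simpa [mul_inv_eq_iff_eq_mul] using (s l).1 b2.1
    rw [mul_assoc, ← mul_assoc u, (show Commute _ _ from b4).inv_right.eq, mul_assoc, u2, mul_one,
      ← mul_inv_rev, ← map_mul, b2.2, map_one, inv_one] at b3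
    exact absurd b3.symm h.f1

end Cf

theorem std {G : Type*} [Group G] [Finite G] [IsSimpleGroup G] (L : Subgroup G) (hL : IsStandardSubgroup L)
    (hLX : Nat.card (center L) = 2 ∧ Nonempty (L ⧸ center L ≃* Spor.HS)) : Spor.IsoHN G := by
  obtain ⟨c⟩ := exists_sd L hL hLX
  obtain ⟨φ, O, h, nO, tw⟩ := c.exCf
  exact ⟨(h.iso nO tw).some.symm⟩

end H27.HN
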