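import Mathlib
import Cfsg.Agent.H27.K3A0

/-!
# Thin groups with three primes: the configuration `2^4 A5`, the endgame
-/

set_option autoImplicit false
set_option linter.unusedSectionVars false
set_option linter.unusedVariables false

namespace H27.K3A

open Cfsg H24 H26 H26.Gold H23.TC Subgroup

universe u

variable {G : Type u} [Group G] [Finite G] {A B Q Q' T Z S X : Subgroup G} {a b x y z w : G}

theorem ea_cj (h : EA A) (g : G) : EA (cj g A) := ea_of_sq fun x hx => by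
  obtain ⟨y, hy, rfl⟩ := mem_cj'.1 hx
  rw [← H23.TC.conj_mul, h.sq hy]; group

theorem ea_sup' (hA : EA A) (hB : EA B) (h : B ≤ C[A]) : EA (A ⊔ B) := ea_of_sq fun x hx => by
  obtain ⟨u, hu, t, ht, rfl⟩ := (mem_sup_of_norm (norm_of_cent h)).1 hx
  exact sq_mul (hA.sq hu) (hB.sq ht) (mem_C.1 (h ht) u hu)

theorem pow3 (hx : orderOf x = 3) : x * x * x = 1 := by
  have := pow_orderOf_eq_one x
  rw [hx] at this
  rw [← this, pow_succ, pow_two]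

theorem card_mod3 (hx : orderOf x = 3) (hn : x ∈ N[B]) : ♯B ≡ ♯(B ⊓ C{x} : Subgroup G) [MOD 3] := by
  classical
  have : Fact (Nat.Prime 3) := ⟨by norm_num⟩
  have := Fintype.ofFinite B
  let f : Function.End B := fun b => ⟨x * b * x⁻¹, cN hn b.2⟩
  have hf : f ^ 3 ^ 1 = 1 := by
    funext b
    apply Subtype.ext
    show x * (x * (x * b * x⁻¹) * x⁻¹) * x⁻¹ = b
    have : x * (x * (x * (b : G) * x⁻¹) * x⁻¹) * x⁻¹ = (x * x * x) * b * (x * x * x)⁻¹ := by group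
    rw [this, pow3 hx]; group
  have h := Equiv.Perm.card_fixedPoints_modEq hf
  rw [← Nat.card_eq_fintype_card, ← Nat.card_eq_fintype_card] at h
  have e : Nat.card f.fixedPoints = ♯(B ⊓ C{x} : Subgroup G) := by
    refine Nat.card_congr ⟨fun b => ⟨b.1.1, b.1.2, mem_C1.2 (comm_of_conj
      (congrArg Subtype.val b.2)).symm⟩, fun c => ⟨⟨c.1, c.2.1⟩, Subtype.ext
      (conj_of_comm (mem_C1.1 c.2.2).symm)⟩, fun b => rfl, fun c => rfl⟩
  rwa [e] at h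

/-- an elementary abelian subgroup centralised by an element of order three has order `≤ 2` -/
theorem Th.le_two (h : Th G) (hx : orderOf x = 3) (hA : EA A) (hc : A ≤ C{x}) : ♯A ≤ 2 := by
  by_cases h1 : A = ⊥
  · rw [h1, card_bot]; norm_num
  obtain ⟨a, ha, a1⟩ := exists_ne_one h1
  have : A ≤ zpowers a := fun b hb => by
    by_cases b1 : b = 1
    · rw [b1]; exact one_mem _
    · rw [h.rk x hx b (hc hb) a (hc ha) b1 (hA.sq hb) a1 (hA.sq ha) (hA.comm hb ha)]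
      exact mem_zpowers a
  have := card_le this
  rwa [card_zpowers', ord2 a1 (hA.sq ha)] at this

theorem Th.not16 (h : Th G) (hx : orderOf x = 3) (hB : EA B) (h16 : ♯B = 16) (hn : x ∈ N[B])
    (hz : z ∈ B) (z1 : z ≠ 1) (hc : x ∈ C{z}) : False := by
  have h1 := card_mod3 hx hn
  have h2 := h.le_two hx (hB.of_le (inf_le_left : B ⊓ C{x} ≤ B)) inf_le_right
  have h3 := one_lt_card (ne_bot_of_mem (show z ∈ B ⊓ C{x} from ⟨hz, mem_C1_comm.1 hc⟩) z1)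
  rw [h16, show ♯(B ⊓ C{x} : Subgroup G) = 2 by omega] at h1
  revert h1; decide

/-- a normal subgroup `X` of `C(w)` centralised by an element outside `O_2(C(w))` is small -/
theorem Th.small (h : Th G) (w1 : w ≠ 1) (w2 : w * w = 1) (hX : EA X) (hn : C{w} ≤ N[X])
    (hb : b ∈ C{w}) (hc : b ∈ C[X]) (hO : b ∉ O[{2}, C{w}]) : ♯X ≤ 2 := by
  rcases h.three w w1 w2 (C{w} ⊓ C[X]) inf_le_left with h2 | ⟨x, hx, x3⟩
  · exact absurd (pcore_max h2 (nml_inf_of_norm (norm_C hn)) ⟨hb, hc⟩) hO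
  · exact h.le_two x3 hX (mem_C_iff_le_C1.1 hx.2)

theorem Fr.ne (h : Fr Q Q' T Z S y) : Q ≠ Q' := fun e => by
  have := h.inf
  rw [← e, inf_idem] at this
  have h1 := h.cQ
  rw [this, h.cZ] at h1
  omega

theorem A5c.ZQ (h : A5c Q T Z y) : Z ≤ Q := h.eZ ▸ inf_le_left

theorem Fr.ZQ' (h : Fr Q Q' T Z S y) : Z ≤ Q' := h.inf ▸ inf_le_right

theorem Fr.ea_le (h : Fr Q Q' T Z S y) (hX : EA X) (hT : X ≤ T) : X ≤ Q ∨ X ≤ Q' := by
  by_contra hh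
  rw [not_or] at hh
  obtain ⟨a, ha, aQ⟩ := SetLike.not_le_iff_exists.1 hh.1
  obtain ⟨b, hb, bQ⟩ := SetLike.not_le_iff_exists.1 hh.2
  have hb' : b ∈ Q := (h.invo b (hT hb) (hX.sq hb)).resolve_right bQ
  have : b ∈ Z := h.cs a (hT ha) aQ ▸ (⟨hb', mem_C1.2 (hX.comm hb ha)⟩ : b ∈ Q ⊓ C{a})
  exact bQ (h.ZQ' this)

/-- an element of order three normalising a subgroup of `S` containing an `E16` normalises it -/
theorem Fr.norm3 (h : Fr Q Q' T Z S y) (hx : orderOf x = 3) (hA : A ≤ S) (hn : x ∈ N[A])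
    (hB : B = Q ∨ B = Q') (hBA : B ≤ A) : x ∈ N[B] := by
  have eB : EA B := by rcases hB with rfl | rfl; exacts [h.ea, h.ea']
  have cB : ♯B = 16 := by rcases hB with rfl | rfl; exacts [h.cQ, h.cQ']
  have l1 : cj x B ≤ A := cj_le_of_mem_N hBA hn
  have l2 : cj x (cj x B) ≤ A := cj_le_of_mem_N l1 hn
  have h1 := h.e16 _ (l1.trans hA) (ea_cj eB x) (by rw [card_cj, cB])
  have h2 := h.e16 _ (l2.trans hA) (ea_cj (ea_cj eB x) x) (by rw [card_cj, card_cj, cB])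
  rw [mem_N_iff_cj]
  by_contra hne
  have e2 : cj x (cj x B) = B := by
    have : cj x (cj x B) ≠ cj x B := fun e => hne (cj_inj.1 e)
    rcases hB with rfl | rfl <;> rcases h1 with h1 | h1 <;> rcases h2 with h2 | h2 <;>
      first | exact h2 | exact absurd h1 hne | exact absurd (h2.trans h1.symm) this
  have e3 : cj x (cj x (cj x B)) = B := by rw [← cj_mul, ← cj_mul, pow3 hx, cj_one]
  rw [e2] at e3
  exact hne e3

/-- block A -/
theorem Fr.sy (ht : Th G) (h : Fr Q Q' T Z S y) (hz : z ∈ Z) (z1 : z ≠ 1) (hS : z ∈ C[S])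
    (hx : x ∈ C{z}) (x3 : orderOf x = 3) : Sy z := by
  have z2 : z * z = 1 := h.ea.sq (h.ZQ hz)
  have SC : S ≤ C{z} := mem_C_iff_le_C1.1 hS
  have sy : Syl 2 C{z} S := h.syl.of_le SC le_top
  have OS : O[{2}, C{z}] ≤ S := pcore_le_Hall sy
  have ix := ht.ix z z1 z2 S h.syl.pi SC
  have nO : ∀ B, B = Q ∨ B = Q' → ¬ B ≤ O[{2}, C{z}] := fun B hB hBO => by
    have hn := h.norm3 x3 OS ((pcore_nml _ _).norm hx) hB hBO
    rcases hB with rfl | rfl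
    · exact ht.not16 x3 h.ea h.cQ hn (h.ZQ hz) z1 hx
    · exact ht.not16 x3 h.ea' h.cQ' hn (h.ZQ' hz) z1 hx
  refine ⟨z1, z2, fun X hX eX nX => ?_, ?_⟩
  · have XT : X ≤ T := h.nml X (hX.trans OS) eX ((h.TS.trans SC).trans nX)
    rcases h.ea_le eX XT with hq | hq
    · obtain ⟨b, hb, bO⟩ := SetLike.not_le_iff_exists.1 (nO Q (Or.inl rfl))
      exact ht.small z1 z2 eX nX (SC (h.TS (h.QT hb))) (C_anti hq (h.ea.le_C hb)) bO
    · obtain ⟨b, hb, bO⟩ := SetLike.not_le_iff_exists.1 (nO Q' (Or.inr rfl))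
      exact ht.small z1 z2 eX nX (SC (h.TS (h.QT' hb))) (C_anti hq (h.ea'.le_C hb)) bO
  · obtain ⟨b, hb, bO⟩ := SetLike.not_le_iff_exists.1 (nO Q (Or.inl rfl))
    have := ix.card OS (h.TS (h.QT hb)) bO
    rcases h.cS with e | e | e <;> omega

theorem Th.perf (h : Th G) : ⁅(⊤ : Subgroup G), (⊤ : Subgroup G)⁆ = (⊤ : Subgroup G) := by
  have := h.simple
  rcases (Subgroup.commutator_normal (⊤ : Subgroup G) (⊤ : Subgroup G)).eq_bot_or_eq_top with e | e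
  · exact absurd ⟨⟨fun a b => (der1_eq_bot.1 e).comm (mem_top a) (mem_top b)⟩⟩ h.na
  · exact e

/-- block B1, the class in `Q'` -/
theorem Fr.b1w (ht : Th G) (h : Fr Q Q' T Z S y)
    (hz : ∀ a ∈ Q, a ≠ 1 → ∀ x ∈ C{a}, orderOf x ≠ 3) (hw : w ∈ Q') (w1 : w ≠ 1)
    (hx : x ∈ C{w}) : orderOf x ≠ 3 := by
  intro x3
  obtain ⟨R0, hR0, QR0⟩ := Sylow_superset p2 h.ea'.two (mem_C_iff_le_C1.1 (h.ea'.le_C hw))
  obtain ⟨g, -, hg⟩ := Sylow_Jsub p2 h.syl hR0.pi le_top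
  have hR : Syl 2 C{g * w * g⁻¹} (cj g R0) := cj_C1 g w ▸ hR0.cj g
  have hx' : g * x * g⁻¹ ∈ C{g * w * g⁻¹} := cj_C1 g w ▸ conj_mem_cj g hx
  have x3' : orderOf (g * x * g⁻¹) = 3 := by rw [orderOf_conj, x3]
  have hw' : g * w * g⁻¹ ∈ cj g Q' := conj_mem_cj g hw
  have QR : cj g Q' ≤ cj g R0 := cj_mono g QR0
  have w1' := conj_ne w1 g
  have wQ : g * w * g⁻¹ ∉ Q := fun hq => hz _ hq w1' _ hx' x3'
  have e : cj g Q' = Q' := (h.e16 _ (QR.trans hg) (ea_cj h.ea' g)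
    (by rw [card_cj, h.cQ'])).resolve_left fun e => wQ (e ▸ hw')
  rw [e] at hw' QR
  generalize g * w * g⁻¹ = v at *
  generalize g * x * g⁻¹ = t at *
  generalize cj g R0 = R at *
  have v2 := h.ea'.sq hw'
  have OR : O[{2}, C{v}] ≤ R := pcore_le_Hall hR
  have ZN : S ≤ N[Z] := fun s hs => by
    rw [← h.inf, mem_N_iff_cj, cj_inf]
    rcases h.nt s (h.SN hs) with e | e
    · rw [cj_of_mem_N e.1, cj_of_mem_N e.2]
    · rw [e.1, e.2, inf_comm]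
  obtain ⟨z, zZ, zS, z1, z2⟩ := two_cent h.syl.pi (h.ea.of_le h.ZQ).two ZN
    (fun e => by have := h.cZ; rw [e, card_bot] at this; omega)
  have zv : z ∈ C{v} := mem_C1.2 (h.ea'.comm (h.ZQ' zZ) hw')
  have zO : z ∈ O[{2}, C{v}] := ht.loc v w1' v2 ⟨zv, C_anti (OR.trans hg) zS⟩
  have vO : v ∈ O[{2}, C{v}] := ht.loc v w1' v2 ⟨self_mem_C1 v,
    mem_C_iff_le_C1.2 (pcore_le _ _)⟩
  have ab := abl_center O[{2}, C{v}]
  have eX : EA (Om Z[O[{2}, C{v}]]) := ea_Om ab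
  have nX : C{v} ≤ N[Om Z[O[{2}, C{v}]]] := (norm_Z (pcore_nml _ _).norm).trans (N_le_N_Om _)
  have zX : z ∈ Om Z[O[{2}, C{v}]] := mem_Om' ⟨zO, C_anti (OR.trans hg) zS⟩ z2
  have vX : v ∈ Om Z[O[{2}, C{v}]] := mem_Om' ⟨vO, mem_C_iff_le_C1.2 (pcore_le _ _)⟩ v2
  have XO : Om Z[O[{2}, C{v}]] ≤ O[{2}, C{v}] := (Om_le _).trans inf_le_left
  have XC : Om Z[O[{2}, C{v}]] ≤ C[O[{2}, C{v}]] := (Om_le _).trans inf_le_right
  generalize Om Z[O[{2}, C{v}]] = X at *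
  by_cases hQ : Q' ≤ O[{2}, C{v}]
  · exact ht.not16 x3' h.ea' h.cQ' (h.norm3 x3' (OR.trans hg) ((pcore_nml _ _).norm hx')
      (Or.inr rfl) hQ) hw' w1' hx'
  obtain ⟨b, hb, bO⟩ := SetLike.not_le_iff_exists.1 hQ
  have XQ : X ≤ Q' := by
    by_contra hn
    have ix := (ht.ix v w1' v2 Q' h.ea'.two (QR.trans hR.le)).card_le
    rw [h.cQ'] at ix
    have e1 : EA (O[{2}, C{v}] ⊓ Q' ⊔ X) :=
      ea_sup' (h.ea'.of_le inf_le_right) eX (XC.trans (C_anti inf_le_left))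
    have lt : O[{2}, C{v}] ⊓ Q' < O[{2}, C{v}] ⊓ Q' ⊔ X :=
      lt_of_le_of_ne le_sup_left fun e => hn ((le_sup_right.trans e.ge).trans inf_le_right)
    have c1 := card_lt lt
    obtain ⟨k, hk⟩ := card_dvd lt.le
    have c2 : 16 ≤ ♯(O[{2}, C{v}] ⊓ Q' ⊔ X : Subgroup G) := by
      rw [hk] at c1 ⊢
      rcases k with _ | _ | k
      · omega
      · omega
      · nlinarith
    rcases h.e16 _ (sup_le (inf_le_left.trans (OR.trans hg)) (XO.trans (OR.trans hg))) e1 c2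
      with e | e
    · exact wQ (e ▸ (le_sup_right : X ≤ O[{2}, C{v}] ⊓ Q' ⊔ X) vX)
    · exact hn (le_sup_right.trans e.le)
  have c := ht.small w1' v2 eX nX (hR.le (QR hb)) (C_anti XQ (h.ea'.le_C hb)) bO
  have : zpowers z = X := eq_of_card_ge (zpowers_le.2 zX) (by rw [card_zpowers', ord2 z1 z2]; exact c)
  rcases (mem_zp z2).1 (this ▸ vX : v ∈ zpowers z) with e | e
  · exact w1' e
  · exact wQ (e ▸ h.ZQ zZ)

/-- block B1 -/
theorem Fr.cit (ht : Th G) (h : Fr Q Q' T Z S y) (ix : Ix2 T S)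
    (hz : ∀ a ∈ Q, a ≠ 1 → ∀ x ∈ C{a}, orderOf x ≠ 3) (t : G) (t2 : orderOf t = 2) :
    IsPGroup 2 C{t} := by
  have t1 : t ≠ 1 := fun e => by rw [e, orderOf_one] at t2; omega
  have tt : t * t = 1 := by rw [← pow_two, ← t2, pow_orderOf_eq_one]
  rcases ht.three t t1 tt C{t} le_rfl with h2 | ⟨x, hx, x3⟩
  · exact h2.isPGroup p2
  exfalso
  obtain ⟨g, -, hg⟩ := conj_into h.syl (mem_top t) (twoE_of_sq tt)
  obtain ⟨k, -, hk⟩ := thompson ht.perf h.syl ix hg (by rw [← H23.TC.conj_mul, tt]; group)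
  have e : k * (g * t * g⁻¹) * k⁻¹ = (k * g) * t * (k * g)⁻¹ := by group
  rw [e] at hk
  have hx' : (k * g) * x * (k * g)⁻¹ ∈ C{(k * g) * t * (k * g)⁻¹} :=
    cj_C1 (k * g) t ▸ conj_mem_cj (k * g) hx
  have x3' : orderOf ((k * g) * x * (k * g)⁻¹) = 3 := by rw [orderOf_conj, x3]
  rcases h.invo _ hk (by rw [← H23.TC.conj_mul, tt]; group) with hq | hq
  · exact hz _ hq (conj_ne t1 _) _ hx' x3'
  · exact h.b1w ht hz hq (conj_ne t1 _) hx' x3'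

theorem A5c.yZ (h : A5c Q T Z y) : y ∈ N[Z] := by
  rw [h.eZ, mem_N_iff_cj, cj_inf, cj_C, cj_of_mem_N h.yQ, cj_of_mem_N h.yT]

theorem A5c.Zne (h : A5c Q T Z y) : Z ≠ ⊥ := fun e => by
  have := h.cZ; rw [e, card_bot] at this; omega

/-- an element inverting `y` modulo `T` does not centralise `Z` -/
theorem A5c.nc (h : A5c Q T Z y) (ha : a * y * a⁻¹ * y ∈ T) : a ∉ C[Z] := fun hc => by
  have TZ : T ≤ C[Z] := cents_symm (h.eZ ▸ inf_le_right)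
  have h1 : y * a⁻¹ * y⁻¹ ∈ C[Z] := cN (N_le_NC _ h.yZ) (inv_mem hc)
  have h2 : y * y ∈ C[Z] := by
    have := mul_mem (inv_mem (mul_mem hc h1)) (TZ ha)
    convert this using 1; group
  have h3 : y ∈ C[Z] := by
    have := inv_mem h2
    rwa [show (y * y)⁻¹ = y from inv_eq_of_mul_eq_one_right (pow3 h.y3)] at this
  exact h.Zne (eq_bot_of_le h.yf (le_inf (h.ZQ.trans h.QT) (mem_C_iff_le_C1.1 h3)))

theorem A5c.yT' (h : A5c Q T Z y) : y * y ∉ T := fun h4 => by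
  have h3 : y ∈ T := by
    have := inv_mem h4
    rwa [show (y * y)⁻¹ = y from inv_eq_of_mul_eq_one_right (pow3 h.y3)] at this
  have : y ∈ T ⊓ C{y} := ⟨h3, self_mem_C1 y⟩
  rw [h.yf, mem_bot] at this
  have h7 := h.y3
  rw [this, orderOf_one] at h7
  omega

theorem A5c.ixM (h : A5c Q T Z y) (hS : TwoG S) (hN : S ≤ N[T]) : Ix2 T (S ⊓ N[Q]) :=
  fun a ha b hb aT bT => by
    by_contra hab
    have h1 := h.inv a ha.2 (hN ha.1) (hS.piElt ha.1) aT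
    have h2 := h.inv b hb.2 (hN hb.1) (hS.piElt hb.1) bT
    have h3 := h.inv (a * b) (mul_mem ha.2 hb.2) (hN (mul_mem ha.1 hb.1))
      (hS.piElt (mul_mem ha.1 hb.1)) hab
    apply h.yT'
    have := mul_mem (mul_mem (inv_mem (cN (hN ha.1) h2)) h3) (cN' h.yT h1)
    convert this using 1; group

/-- block B2 -/
theorem Fr.ix (ht : Th G) (h : Fr Q Q' T Z S y) : Ix2 T S := by
  by_contra hix
  have ixM := h.ixM h.syl.pi h.SN
  obtain ⟨s, hs, sQ, sQ'⟩ : ∃ s ∈ S, cj s Q = Q' ∧ cj s Q' = Q := by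
    by_contra hn
    refine hix (ixM.mono fun s hs => ⟨hs, ?_⟩)
    rcases h.nt s (h.SN hs) with e | e
    · exact e.1
    · exact absurd ⟨s, hs, e⟩ hn
  obtain ⟨a, ha, aQ, aT⟩ : ∃ a ∈ S, a ∈ N[Q] ∧ a ∉ T := by
    by_contra hn
    push Not at hn
    refine hix fun a ha b hb aT bT => hn _ (mul_mem ha hb) ?_
    have e1 := (h.nt a (h.SN ha)).resolve_left fun e => aT (hn a ha e.1)
    have e2 := (h.nt b (h.SN hb)).resolve_left fun e => bT (hn b hb e.1)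
    rw [mem_N_iff_cj, cj_mul, e2.1, e1.2]
  obtain ⟨f, hf, f2⟩ := h.out a aQ (h.SN ha) (h.syl.pi.piElt ha) aT
  have ef : f = a * (a⁻¹ * f) := by group
  have fS : f ∈ S := ef ▸ mul_mem ha (h.TS hf)
  have fQ : f ∈ N[Q] := ef ▸ mul_mem aQ (h.TN hf)
  have fT : f ∉ T := fun e => aT (by
    have := mul_mem e (inv_mem hf)
    convert this using 1; group)
  have f1 : f ≠ 1 := fun e => fT (e ▸ one_mem T)
  have fQ' : f ∈ N[Q'] := by
    rcases h.nt f (h.SN fS) with e | e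
    · exact e.2
    · exact absurd ((cj_of_mem_N fQ).symm.trans e.1) h.ne
  obtain ⟨x, xQ, xf, x3, hx⟩ := h.tp f fQ (h.SN fS) f2 fT
  obtain ⟨x2, x2Q, x2f, x23, -⟩ := h.tp (s * f * s⁻¹)
    (by rw [← sQ', ← cj_N]; exact conj_mem_cj s fQ') (h.SN (cmem hs fS))
    (by rw [← H23.TC.conj_mul, f2]; group) (fun e => fT ((H24.conj_mem_iff (h.SN hs)).1 e))
  have eQ : cj s⁻¹ Q = Q' := by rw [← sQ', cj_inv_cj]
  have x'f : s⁻¹ * x2 * s⁻¹⁻¹ ∈ C{f} := by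
    have := conj_mem_cj s⁻¹ x2f
    rwa [cj_C1, show s⁻¹ * (s * f * s⁻¹) * s⁻¹⁻¹ = f by group] at this
  have x'Q : s⁻¹ * x2 * s⁻¹⁻¹ ∈ N[Q'] := by rw [← eQ, ← cj_N]; exact conj_mem_cj _ x2Q
  have x'3 : orderOf (s⁻¹ * x2 * s⁻¹⁻¹) = 3 := by rw [orderOf_conj, x23]
  have x'b : Q' ⊓ C{s⁻¹ * x2 * s⁻¹⁻¹} = ⊥ := by
    rw [← eQ, ← cj_C1, ← cj_inf, h.fpf x2 x2Q x23, cj_bot]
  generalize s⁻¹ * x2 * s⁻¹⁻¹ = r at *
  have rV : r ∈ N[Q' ⊓ C{f}] := by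
    rw [mem_N_iff_cj, cj_inf, cj_of_mem_N x'Q, cj_of_mem x'f]
  have c1 := card_mod3 x'3 rV
  rw [eq_bot_of_le x'b (inf_le_inf_right _ inf_le_left : Q' ⊓ C{f} ⊓ C{r} ≤ Q' ⊓ C{r}),
    card_bot] at c1
  obtain ⟨u0, u0Q, u0f, u01, -⟩ := two_cent1 (twoE_of_sq f2) h.ea'.two fQ'
    (ne_bot_of_le h.Zne h.ZQ')
  have c2 := one_lt_card (ne_bot_of_mem (show u0 ∈ Q' ⊓ C{f} from ⟨u0Q, mem_C1.2 u0f.symm⟩) u01)
  have c3 : 4 ≤ ♯(Q' ⊓ C{f} : Subgroup G) := by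
    unfold Nat.ModEq at c1; omega
  have nZ : ¬ Q' ⊓ C{f} ≤ Z := fun e => by
    have := eq_of_card_ge e (by rw [h.cZ]; exact c3)
    exact h.nc (h.inv f fQ (h.SN fS) (twoE_of_sq f2) fT)
      (mem_C_iff_le_C1.2 (this ▸ inf_le_right))
  obtain ⟨v, hv, vZ⟩ := SetLike.not_le_iff_exists.1 nZ
  have vQ : v ∉ Q := fun e => vZ (h.inf ▸ (⟨e, hv.1⟩ : v ∈ Q ⊓ Q'))
  have vO : v ∈ O[{2}, C{f}] := by
    obtain ⟨u, hu, rfl⟩ := surj_of_inj (T := Q' ⊓ C{f}) (W := Q' ⊓ C{f})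
      (fun u => u⁻¹ * (r * u * r⁻¹)) (fun u hu => mul_mem (inv_mem hu) (cN rV hu))
      (fun u hu t ht e => by
        have : t * u⁻¹ ∈ Q' ⊓ C{r} := ⟨Q'.mul_mem ht.1 (Q'.inv_mem hu.1), mem_C1_comm.1
          (mem_C1_iff_conj.2 (by
            have e' : u⁻¹ * (r * u * r⁻¹) = t⁻¹ * (r * t * r⁻¹) := e
            calc r * (t * u⁻¹) * r⁻¹ = t * (t⁻¹ * (r * t * r⁻¹)) * (r * u * r⁻¹)⁻¹ := by group
              _ = t * u⁻¹ := by rw [← e']; group))⟩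
        rw [x'b, mem_bot, mul_inv_eq_one] at this
        exact this.symm) le_rfl hv
    by_cases uO : u ∈ O[{2}, C{f}]
    · exact mul_mem (inv_mem uO) (cN ((pcore_nml _ _).norm x'f) uO)
    · exact (ht.ix f f1 f2 _ (h.ea'.two.inf_left _) inf_le_right).inv_mul hu (cN rV hu) uO
        fun e => uO ((H24.conj_mem_iff ((pcore_nml _ _).norm x'f)).1 e)
  have q := hx v (h.QT' hv.1) hv.2 vQ
  have eO : x * v * x⁻¹ * v⁻¹ ∈ O[{2}, C{f}] :=
    mul_mem (cN ((pcore_nml _ _).norm xf) vO) (inv_mem vO)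
  have vN : v ∈ N[Q] := h.TN (h.QT' hv.1)
  have eN : x * v * x⁻¹ * v⁻¹ ∈ N[Q] := mul_mem (cmem xQ vN) (inv_mem vN)
  have two : TwoG (Q ⊔ zpowers (x * v * x⁻¹ * v⁻¹)) :=
    h.ea.two.sup ((pcore_pi _ _).piElt eO).isPi (zpowers_le.2 eN)
  have xx : x * x ∈ Q ⊔ zpowers (x * v * x⁻¹ * v⁻¹) := by
    have := mul_mem (mem_sup_right (mem_zpowers (x * v * x⁻¹ * v⁻¹)) : _ ∈ Q ⊔ _) (mem_sup_left q)
    convert this using 1; group
  have := twoE_of_sq2 (two.piElt xx) 3 (by norm_num) (by rw [x3])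
  revert this; simp

theorem Fr.main (ht : Th G) (h : Fr Q Q' T Z S y) :
    (∀ t : G, orderOf t = 2 → IsPGroup 2 C{t}) ∨ ∃ z : G, Sy z := by
  by_cases hz : ∀ a ∈ Q, a ≠ 1 → ∀ x ∈ C{a}, orderOf x ≠ 3
  · exact Or.inl (h.cit ht (h.ix ht) hz)
  right
  push Not at hz
  obtain ⟨a, ha, a1, x, hx, x3⟩ := hz
  have ZN : S ≤ N[Z] := fun s hs => by
    rw [← h.inf, mem_N_iff_cj, cj_inf]
    rcases h.nt s (h.SN hs) with e | e
    · rw [cj_of_mem_N e.1, cj_of_mem_N e.2]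
    · rw [e.1, e.2, inf_comm]
  obtain ⟨z, zZ, zS, z1, z2⟩ := two_cent h.syl.pi (h.ea.of_le h.ZQ).two ZN h.Zne
  obtain ⟨g, -, rfl⟩ := h.tr a ha z (h.ZQ zZ) a1 z1
  exact ⟨_, h.sy ht zZ z1 zS (cj_C1 g a ▸ conj_mem_cj g hx) (by rw [orderOf_conj, x3])⟩

end H27.K3A
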