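import Mathlib
import Cfsg.Agent.H27.K3A2

/-!
# Thin groups with three primes: the configuration `2^4 A5`, the Sylow subgroup
-/

set_option autoImplicit false
set_option linter.unusedSectionVars false
set_option linter.unusedVariables false

namespace H27.K3A

open Cfsg H24 H26 H26.Gold H23.TC Subgroup
open scoped commutatorElement

universe u

variable {G : Type u} [Group G] [Finite G] {A B Q Q' T Z S X : Subgroup G} {a b s x y z w : G}

theorem hom_card (hA : EA A) (hs : s ∈ N[A]) : ∃ W : Subgroup G,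
    (∀ w, w ∈ W ↔ ∃ q ∈ A, w = q * (s * q * s⁻¹)) ∧ ♯A = ♯(A ⊓ C{s} : Subgroup G) * ♯W := by
  let φ : A →* G := MonoidHom.mk' (fun q => (q : G) * (s * q * s⁻¹)) (fun p q => by
    have := hA.comm q.2 (cN hs p.2)
    show (p : G) * q * (s * (p * q) * s⁻¹) = p * (s * p * s⁻¹) * (q * (s * q * s⁻¹))
    calc (p : G) * q * (s * (p * q) * s⁻¹) = p * (q * (s * p * s⁻¹)) * (s * q * s⁻¹) := by group
      _ = _ := by rw [this]; group)
  refine ⟨φ.range, fun w => ⟨fun ⟨q, e⟩ => ⟨q, q.2, e.symm⟩, fun ⟨q, hq, e⟩ => ⟨⟨q, hq⟩, e.symm⟩⟩, ?_⟩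
  have e : φ.ker = (C{s}).subgroupOf A := by
    ext q
    rw [MonoidHom.mem_ker, mem_subgroupOf, mem_C1_comm, mem_C1_iff_conj]
    show (q : G) * (s * q * s⁻¹) = 1 ↔ _
    constructor
    · intro h; rw [← inv_eq_of_mul_eq_one_right h, hA.inv q.2]
    · intro h; rw [h, hA.sq q.2]
  rw [← index_ker, e, inf_comm, ← card_subgroupOf, card_mul_index]

theorem fpf3 (hy : orderOf y = 3) (hn : y ∈ N[T]) (hf : T ⊓ C{y} = ⊥) (hx : x ∈ T) :
    x * (y * x * y⁻¹) * (y * (y * x * y⁻¹) * y⁻¹) = 1 := by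
  obtain ⟨u, hu, rfl⟩ := surj_of_inj (T := T) (W := T)
    (fun u => u⁻¹ * (y * u * y⁻¹)) (fun u hu => mul_mem (inv_mem hu) (cN hn hu))
    (fun u hu t ht e => by
      have : t * u⁻¹ ∈ T ⊓ C{y} := ⟨T.mul_mem ht (T.inv_mem hu), mem_C1_comm.1
        (mem_C1_iff_conj.2 (by
          have e' : u⁻¹ * (y * u * y⁻¹) = t⁻¹ * (y * t * y⁻¹) := e
          calc y * (t * u⁻¹) * y⁻¹ = t * (t⁻¹ * (y * t * y⁻¹)) * (y * u * y⁻¹)⁻¹ := by group
            _ = t * u⁻¹ := by rw [← e']; group))⟩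
      rw [hf, mem_bot, mul_inv_eq_one] at this
      exact this.symm) le_rfl hx
  calc _ = u⁻¹ * ((y * y * y) * u * (y * y * y)⁻¹) := by group
    _ = 1 := by rw [pow3 hy]; group

/-- the second `E16` -/
structure P0 (Q Q' T Z : Subgroup G) (y : G) : Prop extends A5c Q T Z y where
  ea' : EA Q'
  cQ' : ♯Q' = 16
  QT' : Q' ≤ T
  inf : Q ⊓ Q' = Z
  sup : Q ⊔ Q' = T

theorem A5c.ZC (h : A5c Q T Z y) : Z ≤ C[T] := h.eZ ▸ inf_le_right

theorem A5c.twoT (h : A5c Q T Z y) : TwoG T := isPi_of_card (n := 6) p2 (by rw [h.cT]; norm_num)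

theorem A5c.exists_inv (h : A5c Q T Z y) : ∃ u ∈ T, u ∉ Q ∧ u * u = 1 := by
  obtain ⟨s, hs, sQ⟩ : ∃ s ∈ T, s ∉ Q := by
    by_contra hn
    push Not at hn
    have := card_le (show T ≤ Q from hn)
    rw [h.cT, h.cQ] at this; omega
  obtain ⟨W, hW, c⟩ := hom_card h.ea (h.TN hs)
  rw [h.cs s hs sQ, h.cQ, h.cZ] at c
  have WZ : W ≤ Z := fun w hw => by
    obtain ⟨q, hq, rfl⟩ := (hW w).1 hw
    have := h.cm q (h.QT hq) s hs
    rw [h.ea.inv hq] at this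
    have h2 := h.cm s hs q (h.QT hq)
    rw [h.ea.inv hq, ← h.ea.comm hq (cN (h.TN hs) hq)] at h2
    exact h2
  have e : W = Z := eq_of_card_ge WZ (by rw [h.cZ]; omega)
  obtain ⟨q, hq, e2⟩ := (hW _).1 (e ▸ h.sq s hs)
  refine ⟨q * s, mul_mem (h.QT hq) hs, fun e3 => sQ (by
    have := mul_mem (inv_mem hq) e3
    rwa [inv_mul_cancel_left] at this), ?_⟩
  calc q * s * (q * s) = q * (s * q * s⁻¹) * (s * s) := by group
    _ = 1 := by rw [← e2]; exact h.ea.sq (h.ZQ (h.sq s hs))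

theorem card_sup_inv (hA : EA A) (hu : x * x = 1) (hc : x ∈ C[A]) (hn : x ∉ A) :
    EA (A ⊔ zpowers x) ∧ ♯(A ⊔ zpowers x : Subgroup G) = ♯A * 2 := by
  have x1 : x ≠ 1 := fun e => hn (e ▸ one_mem A)
  have ex : EA (zpowers x) := ea_of_sq fun a ha => by
    rcases (mem_zp hu).1 ha with rfl | rfl
    · simp
    · exact hu
  refine ⟨ea_sup' hA ex (zpowers_le.2 hc), ?_⟩
  rw [card_sup_of_inf (norm_of_cent (zpowers_le.2 hc)), card_zpowers', ord2 x1 hu]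
  refine (eq_bot_iff_forall _).2 fun a ha => ?_
  rcases (mem_zp hu).1 ha.2 with e | e
  · exact e
  · exact absurd (e ▸ ha.1) hn

theorem A5c.p0 (h : A5c Q T Z y) : ∃ Q', P0 Q Q' T Z y := by
  obtain ⟨u, hu, uQ, u2⟩ := h.exists_inv
  have f := fpf3 h.y3 h.yT h.yf hu
  have hu' : y * u * y⁻¹ ∈ T := cN h.yT hu
  have u2' : y * u * y⁻¹ * (y * u * y⁻¹) = 1 := by rw [← H23.TC.conj_mul, u2]; group
  have u2'' : y * (y * u * y⁻¹) * y⁻¹ * (y * (y * u * y⁻¹) * y⁻¹) = 1 := by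
    rw [← H23.TC.conj_mul, u2']; group
  have uQ' : y * u * y⁻¹ ∉ Q := fun e => uQ ((H24.conj_mem_iff h.yQ).1 e)
  have uQ'' : y * (y * u * y⁻¹) * y⁻¹ ∉ Q := fun e => uQ' ((H24.conj_mem_iff h.yQ).1 e)
  generalize y * u * y⁻¹ = v at *
  generalize y * v * y⁻¹ = w at *
  have e : u * v = w := by rw [← inv_sq u2'']; exact eq_inv_of_mul_eq_one_left f
  have cm : u * v = v * u := by
    have : (u * v)⁻¹ = u * v := by rw [e]; exact inv_sq u2''
    rw [mul_inv_rev, inv_sq u2, inv_sq u2'] at this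
    exact this.symm
  have eZ : EA Z := h.ea.of_le h.ZQ
  obtain ⟨e1, c1⟩ := card_sup_inv eZ u2 (cents_symm h.ZC hu) fun e => uQ (h.ZQ e)
  have vC : v ∈ C[Z ⊔ zpowers u] := by
    rw [C_sup, C_zpowers]; exact ⟨cents_symm h.ZC hu', mem_C1.2 cm.symm⟩
  have vn : v ∉ Z ⊔ zpowers u := fun hv => by
    obtain ⟨c, hc, d, hd, e3⟩ := (mem_sup_of_norm (norm_of_cent (zpowers_le.2
      (cents_symm h.ZC hu)))).1 hv
    rcases (mem_zp u2).1 hd with rfl | rfl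
    · exact uQ' (by rw [e3, mul_one]; exact h.ZQ hc)
    · apply uQ''
      rw [← e, cm, e3, mul_assoc, u2, mul_one]; exact h.ZQ hc
  obtain ⟨e2, c2⟩ := card_sup_inv e1 u2' vC vn
  rw [c1, h.cZ] at c2
  have le : Z ⊔ zpowers u ⊔ zpowers v ≤ T :=
    sup_le (sup_le (h.ZQ.trans h.QT) (zpowers_le.2 hu)) (zpowers_le.2 hu')
  have um : u ∈ Z ⊔ zpowers u ⊔ zpowers v := mem_sup_left (mem_sup_right (mem_zpowers u))
  have inf : Q ⊓ (Z ⊔ zpowers u ⊔ zpowers v) = Z := le_antisymm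
    (fun a ha => h.cs u hu uQ ▸ (⟨ha.1, mem_C1.2 (e2.comm ha.2 um)⟩ : a ∈ Q ⊓ C{u}))
    (le_inf h.ZQ (le_sup_left.trans le_sup_left))
  refine ⟨_, h, e2, c2, le, inf, eq_of_card_ge (sup_le h.QT le) ?_⟩
  have := card_sup (le.trans h.TN)
  rw [inf, c2, h.cQ, h.cZ] at this
  rw [h.cT]; omega

namespace P0

theorem ZQ' (h : P0 Q Q' T Z y) : Z ≤ Q' := h.inf ▸ inf_le_right

theorem memZ (h : P0 Q Q' T Z y) (ha : a ∈ Q) (ha' : a ∈ Q') : a ∈ Z :=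
  h.inf ▸ (⟨ha, ha'⟩ : a ∈ Q ⊓ Q')

theorem ne (h : P0 Q Q' T Z y) : Q ≠ Q' := fun e => by
  have := h.inf
  rw [← e, inf_idem] at this
  have h1 := h.cQ
  rw [this, h.cZ] at h1
  omega

theorem dec (h : P0 Q Q' T Z y) (hs : s ∈ T) : ∃ q ∈ Q, ∃ r ∈ Q', s = q * r :=
  (mem_sup_of_norm (h.QT'.trans h.TN)).1 (h.sup ▸ hs)

theorem cmZ (h : P0 Q Q' T Z y) (ha : a ∈ Q) (hb : b ∈ T) (hbQ : b ∉ Q) (e : a * b = b * a) :
    a ∈ Z := h.cs b hb hbQ ▸ (⟨ha, mem_C1.2 e⟩ : a ∈ Q ⊓ C{b})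

theorem invo (h : P0 Q Q' T Z y) : ∀ s ∈ T, s * s = 1 → s ∈ Q ∨ s ∈ Q' := fun s hs s2 => by
  obtain ⟨q, hq, r, hr, rfl⟩ := h.dec hs
  by_cases rQ : r ∈ Q
  · exact Or.inl (mul_mem hq rQ)
  · have : q * r = r * q := by
      have := inv_sq s2
      rw [mul_inv_rev, h.ea.inv hq, h.ea'.inv hr] at this
      exact this.symm
    exact Or.inr (mul_mem (h.ZQ' (h.cmZ hq (h.QT' hr) rQ this)) hr)

theorem cs' (h : P0 Q Q' T Z y) : ∀ s ∈ T, s ∉ Q' → Q' ⊓ C{s} = Z := fun s hs sQ => by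
  refine le_antisymm (fun b hb => ?_) (le_inf h.ZQ' (h.ZC.trans (C_le_C1 hs)))
  obtain ⟨q, hq, r, hr, rfl⟩ := h.dec hs
  by_cases bQ : b ∈ Q
  · exact h.memZ bQ hb.1
  · refine absurd (mul_mem (h.ZQ' (h.cmZ hq (h.QT' hb.1) bQ ?_)) hr) sQ
    have e1 := mem_C1.1 hb.2
    have e2 := h.ea'.comm hb.1 hr
    calc q * b = q * r * b * (b⁻¹ * r⁻¹ * b) := by group
      _ = b * (q * r) * (b⁻¹ * r⁻¹ * b) := by rw [e1]
      _ = b * q * (r * b⁻¹ * r⁻¹ * b) := by group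
      _ = b * q * (b⁻¹ * (b * r) * b⁻¹ * r⁻¹ * b) := by group
      _ = b * q := by rw [e2]; group

theorem ea_le (h : P0 Q Q' T Z y) (hX : EA X) (hT : X ≤ T) : X ≤ Q ∨ X ≤ Q' := by
  by_contra hh
  rw [not_or] at hh
  obtain ⟨a, ha, aQ⟩ := SetLike.not_le_iff_exists.1 hh.1
  obtain ⟨b, hb, bQ⟩ := SetLike.not_le_iff_exists.1 hh.2
  have hb' : b ∈ Q := (h.invo b (hT hb) (hX.sq hb)).resolve_right bQ
  exact bQ (h.ZQ' (h.cmZ hb' (hT ha) aQ (hX.comm hb ha)))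

theorem e16T (h : P0 Q Q' T Z y) (hX : EA X) (hT : X ≤ T) (c : 16 ≤ ♯X) : X = Q ∨ X = Q' :=
  (h.ea_le hX hT).imp (fun e => eq_of_card_ge e (h.cQ ▸ c)) fun e => eq_of_card_ge e (h.cQ' ▸ c)

theorem nt (h : P0 Q Q' T Z y) : ∀ g ∈ N[T],
    (g ∈ N[Q] ∧ g ∈ N[Q']) ∨ (cj g Q = Q' ∧ cj g Q' = Q) := fun g hg => by
  have h1 := h.e16T (ea_cj h.ea g) (cj_le_of_mem_N h.QT hg) (by rw [card_cj, h.cQ])
  have h2 := h.e16T (ea_cj h.ea' g) (cj_le_of_mem_N h.QT' hg) (by rw [card_cj, h.cQ'])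
  have h3 : cj g Q ≠ cj g Q' := fun e => h.ne (cj_inj.1 e)
  rcases h1 with h1 | h1 <;> rcases h2 with h2 | h2
  · exact absurd (h1.trans h2.symm) h3
  · exact Or.inl ⟨mem_N_iff_cj.2 h1, mem_N_iff_cj.2 h2⟩
  · exact Or.inr ⟨h1, h2⟩
  · exact absurd (h1.trans h2.symm) h3

theorem nQ' (h : P0 Q Q' T Z y) (ha : a ∈ N[T]) (hQ : a ∈ N[Q]) : a ∈ N[Q'] := by
  rcases h.nt a ha with e | e
  · exact e.2
  · exact absurd ((cj_of_mem_N hQ).symm.trans e.1) h.ne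

theorem nZ (h : P0 Q Q' T Z y) : N[T] ≤ N[Z] := fun s hs => by
  rw [← h.inf, mem_N_iff_cj, cj_inf]
  rcases h.nt s hs with e | e
  · rw [cj_of_mem_N e.1, cj_of_mem_N e.2]
  · rw [e.1, e.2, inf_comm]

/-- an element inverting `y` modulo `T` moves `B / Z` -/
theorem ncB (h : P0 Q Q' T Z y) (hB : B = Q ∨ B = Q') (ha : a * y * a⁻¹ * y ∈ T) (aT : a ∈ N[T])
    (hc : ∀ b ∈ B, a * b * a⁻¹ * b⁻¹ ∈ Z) : False := by
  have BT : B ≤ T := by rcases hB with rfl | rfl; exacts [h.QT, h.QT']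
  have eB : EA B := by rcases hB with rfl | rfl; exacts [h.ea, h.ea']
  have cB : ♯B = 16 := by rcases hB with rfl | rfl; exacts [h.cQ, h.cQ']
  have yB : y ∈ N[B] := by rcases hB with rfl | rfl; exacts [h.yQ, h.nQ' h.yT h.yQ]
  have BZ : B ≤ N[Z] := BT.trans ((norm_self T).trans h.nZ)
  have TK : T ≤ centQ B Z := fun t ht => (mem_centQ BZ).2 ⟨h.nZ (norm_self T ht),
    fun b hb => h.cm t ht b (BT hb)⟩
  have aK : a ∈ centQ B Z := (mem_centQ BZ).2 ⟨h.nZ aT, hc⟩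
  have yK : y ∈ N[centQ B Z] :=
    norm_centQ (zpowers_le.2 yB) (zpowers_le.2 h.yZ) (mem_zpowers y)
  have h1 : y * a⁻¹ * y⁻¹ ∈ centQ B Z := cN yK (inv_mem aK)
  have h2 : y * y ∈ centQ B Z := by
    have := mul_mem (inv_mem (mul_mem aK h1)) (TK ha)
    convert this using 1; group
  have h3 : y ∈ centQ B Z := by
    have := inv_mem h2
    rwa [show (y * y)⁻¹ = y from inv_eq_of_mul_eq_one_right (pow3 h.y3)] at this
  have h4 := ((mem_centQ BZ).1 h3).2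
  have : B ≤ Z := fun b hb => by
    have f := fpf3 h.y3 h.yT h.yf (BT hb)
    have z1 : y * b * y⁻¹ * b⁻¹ ∈ Z := h4 b hb
    have z2 : y * (y * b * y⁻¹) * y⁻¹ * (y * b * y⁻¹)⁻¹ ∈ Z := h4 _ (cN yB hb)
    have b2 := eB.sq (cN yB hb)
    have e : b = (y * (y * b * y⁻¹) * y⁻¹ * (y * b * y⁻¹)⁻¹)⁻¹ := by
      have c := eB.comm (cN yB (cN yB hb)) (cN yB hb)
      generalize y * (y * b * y⁻¹) * y⁻¹ = b2' at *
      generalize y * b * y⁻¹ = b1 at *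
      rw [inv_sq b2, c]
      exact eq_inv_of_mul_eq_one_left (by rw [← mul_assoc]; exact f)
    rw [e]; exact inv_mem z2
  have := card_le this
  rw [cB, h.cZ] at this; omega

theorem nml (h : P0 Q Q' T Z y) (hS : TwoG S) (SN : S ≤ N[T]) (XS : X ≤ S) (eX : EA X)
    (TX : T ≤ N[X]) : X ≤ T := fun x hx => by
  by_contra xT
  have cX : ∀ t ∈ T, x * t * x⁻¹ * t⁻¹ ∈ X ⊓ T := fun t ht =>
    ⟨by
      have := X.mul_mem hx (cN (TX ht) (X.inv_mem hx))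
      rw [← mul_assoc, ← mul_assoc] at this
      exact this,
      T.mul_mem (cN (SN (XS hx)) ht) (T.inv_mem ht)⟩
  rcases h.nt x (SN (XS hx)) with e | e
  · have hi := h.inv x e.1 (SN (XS hx)) (hS.piElt (XS hx)) xT
    rcases h.ea_le (eX.of_le (inf_le_left : X ⊓ T ≤ X)) inf_le_right with l | l
    · exact h.ncB (Or.inr rfl) hi (SN (XS hx)) fun b hb =>
        h.memZ (l (cX b (h.QT' hb))) (mul_mem (cN e.2 hb) (inv_mem hb))
    · exact h.ncB (Or.inl rfl) hi (SN (XS hx)) fun b hb =>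
        h.memZ (mul_mem (cN e.1 hb) (inv_mem hb)) (l (cX b (h.QT hb)))
  · obtain ⟨q, hq, qZ⟩ : ∃ q ∈ Q, q ∉ Z := by
      by_contra hn
      push Not at hn
      have := card_le (show Q ≤ Z from hn)
      rw [h.cZ, h.cQ] at this; omega
    have q' : x * q * x⁻¹ ∈ Q' := e.1 ▸ conj_mem_cj x hq
    have c := cX q (h.QT hq)
    rcases h.invo _ c.2 (eX.sq c.1) with l | l
    · have : x * q * x⁻¹ ∈ Q := by
        have := mul_mem l hq
        rwa [inv_mul_cancel_right] at this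
      exact qZ ((H24.conj_mem_iff (h.nZ (SN (XS hx)))).1 (h.memZ this q'))
    · have : q⁻¹ ∈ Q' := by
        have := mul_mem (inv_mem q') l
        rwa [inv_mul_cancel_left] at this
      exact qZ (h.memZ hq (inv_mem_iff.1 this))

theorem ixS (h : P0 Q Q' T Z y) (SN : S ≤ N[T]) : Ix2 N[Q] S := fun a ha b hb aQ bQ => by
  have e1 := (h.nt a (SN ha)).resolve_left fun e => aQ e.1
  have e2 := (h.nt b (SN hb)).resolve_left fun e => bQ e.1
  rw [mem_N_iff_cj, cj_mul, e2.1, e1.2]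

theorem e16 (h : P0 Q Q' T Z y) (hS : TwoG S) (SN : S ≤ N[T]) (AS : A ≤ S) (eA : EA A)
    (c : 16 ≤ ♯A) : A = Q ∨ A = Q' := by
  refine h.e16T eA (fun a ha => ?_) c
  by_contra aT
  have i1 := ((h.ixS SN).mono AS).card_le
  have i2 := ((h.ixM hS SN).mono (show N[Q] ⊓ A ≤ S ⊓ N[Q] from
    le_inf (inf_le_right.trans AS) inf_le_left)).card_le
  have l := h.ea_le (eA.of_le (inf_le_right.trans inf_le_right : T ⊓ (N[Q] ⊓ A) ≤ A)) inf_le_left
  by_cases hA : A ≤ N[Q]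
  · rw [inf_eq_right.2 hA] at i2 l
    have hi := h.inv a (hA ha) (SN (AS ha)) (hS.piElt (AS ha)) aT
    have key : ∀ B, B = Q ∨ B = Q' → T ⊓ A ≤ B → False := fun B hB l => by
      have eB : EA B := by rcases hB with rfl | rfl; exacts [h.ea, h.ea']
      have cB : ♯B = 16 := by rcases hB with rfl | rfl; exacts [h.cQ, h.cQ']
      have ZB : Z ≤ B := by rcases hB with rfl | rfl; exacts [h.ZQ, h.ZQ']
      have lt : T ⊓ A ⊓ Z < Z := lt_of_le_of_ne inf_le_right fun e => h.nc hi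
        (mem_C_iff_le_C1.2 fun z hz => mem_C1.2 (eA.comm (e.ge hz).1.2 ha))
      have c1 := card_lt lt
      have c2 := card_dvd lt.le
      rw [h.cZ] at c1 c2
      have c3 := card_sup (A := T ⊓ A) (B := Z) (eB.abl.norm ZB l)
      rw [h.cZ] at c3
      have c4 : ♯(T ⊓ A ⊓ Z : Subgroup G) ≤ 2 := by
        by_contra hh
        have : ♯(T ⊓ A ⊓ Z : Subgroup G) = 3 := by omega
        rw [this] at c2; revert c2; decide
      have e : T ⊓ A ⊔ Z = B := eq_of_card_ge (sup_le l ZB) (by rw [cB]; nlinarith)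
      refine h.ncB hB hi (SN (AS ha)) fun b hb => ?_
      obtain ⟨u, hu, c, hc, rfl⟩ := (mem_sup_of_norm (eB.abl.norm ZB l)).1 (e ▸ hb)
      have e1 : a * u * a⁻¹ = u := conj_of_comm (eA.comm ha hu.2)
      have m := mul_mem (cN (h.nZ (SN (AS ha))) hc) (inv_mem hc)
      have := cN (h.nZ (norm_self T hu.1)) m
      convert this using 1
      calc a * (u * c) * a⁻¹ * (u * c)⁻¹ = (a * u * a⁻¹) * (a * c * a⁻¹) * (u * c)⁻¹ := by group
        _ = _ := by rw [e1]; group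
    exact l.elim (key Q (Or.inl rfl)) (key Q' (Or.inr rfl))
  · obtain ⟨s, hs, sQ⟩ := SetLike.not_le_iff_exists.1 hA
    have e := (h.nt s (SN (AS hs))).resolve_left fun e => sQ e.1
    have lZ : T ⊓ (N[Q] ⊓ A) ≤ Z := fun u hu => by
      have e1 : s * u * s⁻¹ = u := conj_of_comm (eA.comm hs hu.2.2)
      rcases l with l | l
      · exact h.memZ (l hu) (e1 ▸ e.1 ▸ conj_mem_cj s (l hu))
      · exact h.memZ (e1 ▸ e.2 ▸ conj_mem_cj s (l hu)) (l hu)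
    have eZ : T ⊓ (N[Q] ⊓ A) = Z := eq_of_card_ge lZ (by rw [h.cZ]; omega)
    obtain ⟨b, hb, bT⟩ : ∃ b ∈ N[Q] ⊓ A, b ∉ T := by
      by_contra hn
      push Not at hn
      rw [inf_eq_right.2 (show N[Q] ⊓ A ≤ T from hn)] at eZ
      rw [eZ, h.cZ] at i1; omega
    exact h.nc (h.inv b hb.1 (SN (AS hb.2)) (hS.piElt (AS hb.2)) bT)
      (mem_C_iff_le_C1.2 fun z hz => mem_C1.2 (eA.comm (eZ.ge hz).2.2 hb.2))

theorem fr (h : P0 Q Q' T Z y) : ∃ S, Fr Q Q' T Z S y := by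
  obtain ⟨S, hS, TS⟩ := Sylow_superset p2 h.twoT (norm_self T)
  have syl : Syl 2 ⊤ S := by
    refine syl_of_max p2 hS.pi le_top fun R hR SR _ => ?_
    by_contra hn
    obtain ⟨g, gR, gN, gS⟩ := exists_norm_lt hR SR hn
    have h1 := h.e16 hS.pi hS.le (cj_le_of_mem_N (h.QT.trans TS) gN) (ea_cj h.ea g)
      (by rw [card_cj, h.cQ])
    have h2 := h.e16 hS.pi hS.le (cj_le_of_mem_N (h.QT'.trans TS) gN) (ea_cj h.ea' g)
      (by rw [card_cj, h.cQ'])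
    have h3 : cj g Q ≠ cj g Q' := fun e => h.ne (cj_inj.1 e)
    refine gS (mem_syl hS ?_ (hR.piElt gR) gN)
    rw [mem_N_iff_cj, ← h.sup, cj_sup]
    rcases h1 with h1 | h1 <;> rcases h2 with h2 | h2
    · exact absurd (h1.trans h2.symm) h3
    · rw [h1, h2]
    · rw [h1, h2, sup_comm]
    · exact absurd (h1.trans h2.symm) h3
  refine ⟨S, h.toA5c, h.ea', h.cQ', h.QT', h.inf, h.invo, h.cs', h.nt, syl, TS, hS.le,
    fun A AS eA c => h.e16 hS.pi hS.le AS eA c, fun X XS eX TX => h.nml hS.pi hS.le XS eX TX, ?_⟩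
  have i1 := (h.ixS hS.le).card_le
  have i2 := (h.ixM hS.pi hS.le).card_le
  have i3 := card_le (inf_le_left : T ⊓ (S ⊓ N[Q]) ≤ T)
  rw [inf_comm N[Q] S] at i1
  have i4 := card_le TS
  rw [h.cT] at i3 i4
  obtain ⟨k, hk⟩ := hS.pi.card_eq_pow p2
  rw [hk] at i1 i4 ⊢
  have k1 : k < 9 := (Nat.pow_lt_pow_iff_right (a := 2) (by norm_num)).1 (by omega)
  interval_cases k <;> omega

end P0

theorem main (ht : Th G) (h : A5c Q T Z y) :
    (∀ t : G, orderOf t = 2 → IsPGroup 2 C{t}) ∨ ∃ z : G, Sy z := by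
  obtain ⟨Q', h1⟩ := h.p0
  obtain ⟨S, h2⟩ := h1.fr
  exact h2.main ht

end H27.K3A
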