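import Mathlib
import Cfsg.Agent.H27.PF1
import Cfsg.Agent.H24.S16Defs
import Cfsg.Agent.H26.Coprime
import Cfsg.Agent.H1.BG33

/-!
# Peterfalvi §8, first part: pure group theory of the types of subgroups
-/

set_option autoImplicit false
set_option linter.unusedSectionVars false

namespace H27

open Cfsg H24 H25

universe u

variable {G : Type u} [Group G] [Finite G]
variable {M U V W W₁ W₂ : Subgroup G}

theorem Fc_nml (M : Subgroup G) : Fc M ⊴ M := Fcore_nml M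
theorem Fc_nil (M : Subgroup G) : Nil (Fc M) := Fcore_nil M
theorem Fc_isHall (M : Subgroup G) : IsHall M (Fc M) := Fcore_isHall M
theorem Fc_max {H : Subgroup G} (h1 : H ⊴ M) (h2 : Nil H) (h3 : IsHall M H) : H ≤ Fc M :=
  Fcore_max h3 h1.norm h2
theorem Fc_le_Fit (M : Subgroup G) : Fc M ≤ F[M] := Fcore_le_Fitting M
theorem Fc_cj (g : G) (M : Subgroup G) : Fc (cj g M) = cj g (Fc M) := Fcore_cj g M
theorem norm_Fc {X : Subgroup G} (h : X ≤ N[M]) : X ≤ N[Fc M] := norm_Fcore h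

/-! ### type `F` -/

theorem TypeF.to24 (h : TypeF M U) : H24.TypeF M U :=
  ⟨h.ne, h.neU, h.sd, h.inert.imp fun _ h => ⟨h.nml, h.abl, h.cent⟩,
    h.compl.imp fun _ h => ⟨h.le, h.exp, h.frob⟩⟩

theorem typeF_of24 (h : H24.TypeF M U) : TypeF M U :=
  ⟨h.ne_bot, h.compl_ne, h.sd, h.inertia.imp fun _ h => ⟨h.nml, h.abl, h.cent⟩,
    h.compl.imp fun _ h => ⟨h.le, h.exp, h.frob⟩⟩

theorem TypeF.cj (h : TypeF M U) (g : G) : TypeF (cj g M) (cj g U) := typeF_of24 (h.to24.cj g)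

theorem exponent_map_subtype (U : Subgroup M) :
    Monoid.exponent (U.map M.subtype) = Monoid.exponent U :=
  (Monoid.exponent_eq_of_mulEquiv (U.equivMapOfInjective _ M.subtype_injective)).symm

theorem ne_bot_of_exponent {U₀ : Subgroup G} (h : Monoid.exponent U₀ = Monoid.exponent U)
    (hU : U ≠ ⊥) : U₀ ≠ ⊥ := by
  rintro rfl
  rw [Monoid.exp_eq_one_of_subsingleton, eq_comm, Monoid.exp_eq_one_iff] at h
  exact hU (Subgroup.eq_bot_of_subsingleton U)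

theorem typeF_of_frozen (h : IsOfTypeF M) : ∃ U, TypeF M U := by
  obtain ⟨-, -, h1, -, U, hU, hc, ⟨U₁, h11, h12, h13, h14⟩, U₀, h01, h02, h03⟩ := h
  have inj := M.subtype_injective
  have hF : Fc M ≠ ⊥ := fun e => h1 ((Subgroup.map_eq_bot_iff_of_injective _ inj).1 e)
  have hU' : U.map M.subtype ≠ ⊥ := fun e => hU ((Subgroup.map_eq_bot_iff_of_injective _ inj).1 e)
  have hsd : SD (Fc M) (U.map M.subtype) M := by
    have : SD (fittingHall M) U ⊤ :=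
      ⟨le_top.trans (nml_top _).norm, hc.disjoint.eq_bot, hc.sup_eq_top⟩
    have := this.map inj
    rwa [← MonoidHom.range_eq_map, Subgroup.range_subtype] at this
  have e : Monoid.exponent (U₀.map M.subtype) = Monoid.exponent (U.map M.subtype) := by
    rw [exponent_map_subtype, exponent_map_subtype, h02]
  refine ⟨U.map M.subtype, hF, hU', hsd, ⟨U₁.map M.subtype, (Nml.mk h11 h12).map _, Abl.map h13 _,
    ?_⟩, U₀.map M.subtype, Subgroup.map_mono h01, e, Frob.mk' ((Subgroup.map_mono h01).trans hsd.norm)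
      hF (ne_bot_of_exponent e hU') (semireg_iff.2 ?_)⟩
  · rintro _ ⟨x, hx, rfl⟩ hx1 _ ⟨⟨y, hy, rfl⟩, hC⟩
    exact Subgroup.mem_map_of_mem _ (h14 x hx (fun e => hx1 (by simp [e]))
      ⟨hy, mem_C1.2 (Subtype.ext (mem_C1.1 hC))⟩)
  · rintro _ ⟨u, hu, rfl⟩ hu1 _ ⟨x, hx, rfl⟩ e
    rw [h03 u hu (fun e => hu1 (by simp [e])) x hx (Subtype.ext e.symm), map_one]

theorem TypeF.frozen (h : TypeF M U) (hs : Sol M) (ho : Odd (Nat.card M)) : IsOfTypeF M := by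
  have inj := M.subtype_injective
  obtain ⟨U₁, h1⟩ := h.inert
  obtain ⟨U₀, h0⟩ := h.compl
  have hU := h.sd.right_le
  have eF : (Fc M).subgroupOf M = fittingHall M := Subgroup.comap_map_eq_self_of_injective inj _
  have eE : ∀ X : Subgroup G, X ≤ M → Monoid.exponent (X.subgroupOf M) = Monoid.exponent X :=
    fun X hX => Monoid.exponent_eq_of_mulEquiv (Subgroup.subgroupOfEquivOfLe hX)
  refine ⟨hs, ho, fun e => h.ne ?_, fun e => h.neU ?_, U.subgroupOf M, fun e => h.neU ?_, ?_,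
    ⟨U₁.subgroupOf M, Subgroup.comap_mono h1.nml.le, ?_, ?_, fun x hx hx1 y hy => ?_⟩,
    U₀.subgroupOf M, Subgroup.comap_mono h0.le, ?_, fun u hu hu1 x hx e => ?_⟩
  · rw [Fc, fittingHallOf, e, Subgroup.map_bot]
  · have : Fc M = M := by
      rw [Fc, fittingHallOf, e, ← MonoidHom.range_eq_map, Subgroup.range_subtype]
    rw [← h.sd.inf, this, inf_eq_right.2 hU]
  · rw [← inf_eq_left.2 hU, ← Subgroup.subgroupOf_map_subtype, e, Subgroup.map_bot]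
  · rw [← eF]
    refine Subgroup.isComplement'_of_disjoint_and_mul_eq_univ ?_ ?_
    · rw [disjoint_iff, Subgroup.subgroupOf, Subgroup.subgroupOf, ← Subgroup.comap_inf, h.sd.inf]
      exact Subgroup.bot_subgroupOf M
    · refine Set.eq_univ_of_forall fun m => ?_
      obtain ⟨a, ha, b, hb, e⟩ := h.sd.isProd.mul m m.2
      exact ⟨⟨a, h.sd.left_le ha⟩, ha, ⟨b, hU hb⟩, hb, Subtype.ext e.symm⟩
  · exact le_N_iff.2 fun a ha x hx => h1.nml.conj_mem ha hx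
  · exact Abl.subgroupOf h1.abl M
  · exact h1.cent x (Subgroup.mem_map_of_mem _ hx) (fun e => hx1 (Subtype.ext e))
      ⟨hy.1, mem_C1.2 (congrArg Subtype.val (mem_C1.1 hy.2))⟩
  · rw [eE _ (h0.le.trans hU), eE _ hU, h0.exp]
  · exact Subtype.ext (semireg_iff.1 h0.frob.reg u hu (fun e => hu1 (Subtype.ext e)) x
      (Subgroup.mem_map_of_mem _ hx) (congrArg Subtype.val e).symm)

theorem Fc_compl_conj (hU : SD (Fc M) U M) (hV : SD (Fc M) V M) : ∃ k ∈ Fc M, U = cj k V :=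
  H26.SchurZassenhaus_trans hV hU (hV.coprime_of_isHall_left (Fc_isHall M))
    (Or.inl (Fc_nil M).sol)

theorem compl_of_typeF (hU : SD (Fc M) U M) (h : TypeF M V) : TypeF M U := by
  obtain ⟨k, hk, rfl⟩ := Fc_compl_conj hU h.sd
  have := h.cj k
  rwa [cj_of_mem (Fcore_le M hk)] at this

theorem Frobenius_of_typeF (h : Frob M (Fc M) U) : TypeF M U :=
  ⟨h.ker_ne, h.compl_ne, h.sd, ⟨⊥, Nml.bot U, abl_bot, fun x hx h1 y hy => by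
      have := h.cent1_ker hx h1 ⟨h.compl_le hy.1, hy.2⟩
      rw [← h.sd.inf]; exact ⟨this, hy.1⟩⟩,
    U, le_rfl, rfl, by rw [h.sd.sup]; exact h⟩

/-- (8.2)(a). -/
theorem TypeF.card_compl (h : TypeF M U) (ho : Odd (Nat.card M)) {U₀ : Subgroup G}
    (h0 : TypeFCompl M U U₀) : Nat.card U₀ = Monoid.exponent U := by
  have := H1.odd_regular_Zgroup (odd_of_le ho (h0.le.trans h.sd.right_le)) h.ne h0.frob.norm
    h0.frob.reg
  rw [← h0.exp, IsZGroup.exponent_eq_card]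

/-- (8.2)(b). -/
theorem TypeF.frob_iff (h : TypeF M U) (ho : Odd (Nat.card M)) :
    Frob M (Fc M) U ↔ ∀ p P, p.Prime → Syl p U P → Cyc P := by
  refine ⟨fun hF p P hp hP => H1.cyc_of_isZGroup (H1.odd_regular_Zgroup
    (odd_of_le ho h.sd.right_le) h.ne hF.norm hF.reg) hp hP.pi hP.le, fun hc => ?_⟩
  obtain ⟨U₀, h0⟩ := h.compl
  have hZ : IsZGroup U := H1.isZGroup_of_syl fun p P hp hPU hP => by
    obtain ⟨S, hS, hPS⟩ := Sylow_superset hp (isPi_of_isPGroup hp hP) hPU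
    exact (hc p S hp hS).of_le hPS
  have e : U₀ = U := eq_of_card_eq h0.le (by rw [h.card_compl ho h0, IsZGroup.exponent_eq_card])
  have := h0.frob
  rwa [e, h.sd.sup] at this

/-- (8.2)(c). -/
theorem TypeF.inertia_le (h : TypeF M U) {U₁ : Subgroup G} (h1 : TypeFInertia M U U₁) {θ : G → ℂ}
    (hθ : θ ∈ Irr (Fc M)) (hn : θ ≠ cfOne (Fc M)) : inertia U θ ≤ U₁ := by
  intro g hg
  obtain ⟨x, hx, hx1⟩ := exists_ne_one ((exists_fix_irr_iff (Fc_nml M) (Fc_isHall M)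
    (h.sd.right_le hg.1)).1 ⟨θ, hθ, hn, hg.2⟩)
  exact h1.cent x hx.1 hx1 ⟨hg.1, mem_C1.2 (mem_C1.1 hx.2).symm⟩

/-! ### type `P` -/

theorem cycV_eq_Zhat (h : DP W₁ W₂ W) : cycV W W₁ W₂ = Zhat W₁ W₂ := by
  ext x; rw [mem_Zhat, h.sup]; rfl

theorem selfNorm_normedTI (h : IsSelfNormalizingCyclic W₁ W₂) :
    NormedTI (Zhat W₁ W₂) (W₁ ⊔ W₂) := by
  obtain ⟨n1, n2, hi, -, hc, hN⟩ := h
  have hne : (Zhat W₁ W₂).Nonempty := by
    obtain ⟨a, ha, ha1⟩ := exists_ne_one n1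
    obtain ⟨b, hb, hb1⟩ := exists_ne_one n2
    refine ⟨a * b, mem_Zhat.2 ⟨Subgroup.mul_mem_sup ha hb, fun h => hb1 ?_, fun h => ha1 ?_⟩⟩
    · exact Subgroup.mem_bot.1 (hi ▸ ⟨(W₁.mul_mem_cancel_left ha).1 h, hb⟩)
    · exact Subgroup.mem_bot.1 (hi ▸ ⟨ha, (W₂.mul_mem_cancel_right hb).1 h⟩)
  have hV := hN _ subset_rfl hne
  have hC : ∀ a ∈ Zhat W₁ W₂, C{a} = W₁ ⊔ W₂ := fun a ha => by
    rw [← hN {a} (Set.singleton_subset_iff.2 ha) (Set.singleton_nonempty a)]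
    ext g
    rw [mem_C1, Subgroup.mem_set_normalizer_iff]
    refine ⟨fun e x => ?_, fun e => ?_⟩
    · simp only [Set.mem_singleton_iff]
      rw [mul_inv_eq_iff_eq_mul, ← e, mul_right_inj]
    · exact mul_inv_eq_iff_eq_mul.1 ((e a).1 rfl)
  refine ⟨hne, hV.ge, fun a ha g hg => ?_⟩
  have hg' : g ∈ N[W₁ ⊔ W₂] := mem_N_iff_cj.2 (by rw [← hC a ha, cj_C1, hC _ hg, hC a ha])
  rw [← hV]
  refine fun x => ?_
  change x ∈ Zhat W₁ W₂ ↔ g * x * g⁻¹ ∈ Zhat W₁ W₂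
  rw [← conj_mem_Zhat_cj (g := g), cj_of_mem_N (cyc_N_le hc le_sup_left hg'),
    cj_of_mem_N (cyc_N_le hc le_sup_right hg')]

theorem selfNorm_of_normedTI (h : DP W₁ W₂ W) (n1 : W₁ ≠ ⊥) (n2 : W₂ ≠ ⊥) (hc : Cyc W)
    (hT : NormedTI (Zhat W₁ W₂) W) : IsSelfNormalizingCyclic W₁ W₂ := by
  obtain rfl := h.sup
  refine ⟨n1, n2, h.inf, fun a ha b hb => (comm_of_cent h.cent hb ha).symm, hc,
    fun X hX hne => le_antisymm (hT.normalizer_le hX hne) 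
      (H24.le_normalizer_of_conj_mem fun g hg x hx => ?_)⟩
  rwa [hc.abl.comm hg (hX hx).1, mul_inv_cancel_right]

theorem typeP_of_frozen (h : IsTypePWith M W₁ U W₂) : TypeP M U (W₁ ⊔ W₂) W₁ W₂ :=
  ⟨h, DP.mk_sup (fun b hb => mem_C.2 fun a ha => h.selfNormalizing.2.2.2.1 a ha b hb)
    h.selfNormalizing.2.2.1⟩

theorem TypeP.to24 (h : TypeP M U W W₁ W₂) : H24.TypeP M U W W₁ W₂ where
  dp := h.dp
  cyc1 := h.tp.W₁_cyclic
  hall1 := ⟨h.tp.W₁_compl.2.1, h.tp.W₁_hall⟩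
  ne1 := h.tp.W₁_ne
  sdM := SD.of_isComplIn h.tp.W₁_compl (der1_nml M).norm
  nilU := h.tp.U_nilpotent
  normU := h.tp.U_normal
  sdU := SD.of_isComplIn h.tp.U_compl ((der1_le M).trans (Fc_nml M).norm)
  not_cyc := h.tp.H_not_cyclic
  der2_le := h.tp.fitting_eq ▸ h.tp.derived_two_le
  fit_eq := h.tp.fitting_eq
  fit_le := h.tp.fitting_le
  cyc2 := Cyc.of_le h.tp.selfNormalizing.2.2.2.2.1 le_sup_right
  ne2 := h.tp.selfNormalizing.2.1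
  le2 := h.tp.W₂_le.trans inf_le_left
  le_der2 := h.tp.W₂_le.trans inf_le_right
  cent := h.tp.W₂_centralizer
  ti := h.dp.sup ▸ selfNorm_normedTI h.tp.selfNormalizing

theorem typeP_of24 (h : H24.TypeP M U W W₁ W₂) : TypeP M U W W₁ W₂ :=
  ⟨⟨h.ne1, h.cyc1, h.hall1.coprime, h.sdM.isComplIn, h.nilU, h.normU, h.sdU.isComplIn, h.not_cyc,
    h.fit_eq ▸ h.der2_le, h.fit_eq, h.fit_le, le_inf h.le2 h.le_der2, h.cent,
    selfNorm_of_normedTI h.dp h.ne1 h.ne2 h.cyc h.ti⟩, h.dp⟩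

namespace TypeP
variable (h : TypeP M U W W₁ W₂)
include h

theorem defW : W = W₁ ⊔ W₂ := h.to24.W_eq
theorem cyc1 : Cyc W₁ := h.to24.cyc1
theorem hall1 : IsHall M W₁ := h.to24.hall1
theorem ne1 : W₁ ≠ ⊥ := h.to24.ne1
theorem sdM : SD ⁅M, M⁆ W₁ M := h.to24.sdM
theorem nilU : Nil U := h.to24.nilU
theorem leU : U ≤ ⁅M, M⁆ := h.to24.U_le
theorem leUM : U ≤ M := h.to24.U_leM
theorem le1 : W₁ ≤ M := h.to24.le1
theorem leW : W ≤ M := h.to24.W_le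
theorem normU : W₁ ≤ N[U] := h.to24.normU
theorem sdHU : SD (Fc M) U ⁅M, M⁆ := h.to24.sdU
theorem Fc_le : Fc M ≤ ⁅M, M⁆ := h.to24.core_le
theorem ncyc : ¬ Cyc (Fc M) := h.to24.not_cyc
theorem Fc_ne : Fc M ≠ ⊥ := h.to24.core_ne_bot
theorem der2_le : ⁅⁅M, M⁆, ⁅M, M⁆⁆ ≤ F[M] := h.to24.der2_le
theorem defF : Fc M ⊔ (M ⊓ C[Fc M]) = F[M] := h.to24.fit_eq
theorem F_le : F[M] ≤ ⁅M, M⁆ := h.to24.fit_le
theorem cyc2 : Cyc W₂ := h.to24.cyc2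
theorem ne2 : W₂ ≠ ⊥ := h.to24.ne2
theorem le2 : W₂ ≤ Fc M := h.to24.le2
theorem le2der2 : W₂ ≤ ⁅⁅M, M⁆, ⁅M, M⁆⁆ := h.to24.le_der2
theorem cent : ∀ x ∈ W₁, x ≠ 1 → ⁅M, M⁆ ⊓ C{x} = W₂ := h.to24.cent
theorem normedTI : NormedTI (cycV W W₁ W₂) W := (cycV_eq_Zhat h.dp).symm ▸ h.to24.ti
theorem sol : Sol M := h.sdM.sol (h.sdHU.sol (Fc_nil M).sol h.nilU.sol) h.cyc1.sol
theorem cent_compl : ⁅M, M⁆ ⊓ C[W₁] = W₂ := h.to24.der_inf_C
theorem cent_core_compl : Fc M ⊓ C[W₁] = W₂ := h.to24.core_inf_C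
theorem regU : Semireg U W₁ := h.to24.semireg
theorem cycW : Cyc W := h.to24.cyc
theorem sdF : SD (Fc M) (U ⊔ W₁) M := h.to24.sdF
theorem cop_der : (♯⁅M, M⁆).Coprime ♯W₁ := h.to24.coprime_der
theorem cent1 {x : G} (hx : x ∈ W₁) (h1 : x ≠ 1) : M ⊓ C{x} = W := h.to24.cent1 hx h1

theorem not_typeF (K : Subgroup G) : ¬ TypeF M K := fun hF => by
  obtain ⟨U₀, h0⟩ := hF.compl
  obtain ⟨p, hp, hd⟩ := H24.exists_prime_dvd_card h.ne1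
  have := Fact.mk hp
  have h1 : p ∣ ♯K := by
    have := hd.trans (card_dvd h.le1)
    rw [hF.sd.card] at this
    refine (hp.dvd_mul.1 this).resolve_left fun h2 => hp.one_lt.ne' ?_
    exact Nat.eq_one_of_dvd_coprimes h.cop_der (h2.trans (card_dvd h.Fc_le)) hd
  have h2 : p ∣ ♯U₀ := by
    obtain ⟨x, hx⟩ := exists_prime_orderOf_dvd_card' (G := K) p h1
    have h3 : p ∣ Monoid.exponent U₀ := h0.exp ▸ hx ▸ Monoid.order_dvd_exponent x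
    exact h3.trans Group.exponent_dvd_nat_card
  obtain ⟨x, hx⟩ := exists_prime_orderOf_dvd_card' (G := U₀) p h2
  have hxo : orderOf (x : G) = p := by rw [Subgroup.orderOf_coe, hx]
  have hx1 : (x : G) ≠ 1 := fun e => hp.one_lt.ne' (by rw [← hxo, e, orderOf_one])
  obtain ⟨g, hg, hle⟩ := H26.Hall_Jsub h.sol h.hall1.hall (K := Subgroup.zpowers (x : G))
    (Subgroup.zpowers_le.2 (hF.sd.right_le (h0.le x.2))) (fun q hq hqd => by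
      rw [Nat.card_zpowers, hxo, Nat.prime_dvd_prime_iff_eq hq hp] at hqd
      exact hqd ▸ ⟨hp, hd⟩)
  have h4 := h.to24.core_inf_C1 (hle (conj_mem_cj g (Subgroup.mem_zpowers _)))
    (by rwa [Ne, conj_eq_one_iff'])
  rw [← cj_C1, ← cj_of_mem_N ((Fcore_nml M).norm hg), ← cj_inf, h0.frob.reg x x.2 hx1, cj_bot] at h4
  exact h.ne2 h4.symm

theorem not_typeI : ¬ IsOfTypeI M := fun ⟨K, hK⟩ => h.not_typeF K hK.tF

theorem compl_conj {X : Subgroup G} (hX : SD ⁅M, M⁆ X M) : ∃ x ∈ M, X = cj x W₁ := by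
  obtain ⟨k, hk, e⟩ := H26.SchurZassenhaus_trans h.sdM hX h.cop_der (Or.inr h.cyc1.sol)
  exact ⟨k, der1_le M hk, e⟩

theorem cj (g : G) : TypeP (cj g M) (cj g U) (cj g W) (cj g W₁) (cj g W₂) :=
  typeP_of24 (h.to24.cj g)

theorem cj_mem {g : G} (hg : g ∈ M) :
    TypeP M (H24.cj g U) (H24.cj g W) (H24.cj g W₁) (H24.cj g W₂) := by
  have := h.cj g
  rwa [cj_of_mem hg] at this

theorem sup_inf_der : (U ⊔ W₁) ⊓ ⁅M, M⁆ = U := by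
  rw [← group_modl h.normU h.leU, inf_comm W₁, h.sdM.inf, sup_bot_eq]

theorem conj_to {U' W' W₁' W₂' : Subgroup G} (h' : TypeP M U' W' W₁' W₂') :
    ∃ x ∈ M, H24.cj x U = U' ∧ H24.cj x W₁ = W₁' ∧ H24.cj x W₂ = W₂' ∧ H24.cj x W = W' := by
  obtain ⟨k, hk, e⟩ := Fc_compl_conj h'.sdF h.sdF
  have hkM := Fcore_le M hk
  have h2 := h.cj_mem hkM
  have eU : H24.cj k U = U' := by rw [← h'.sup_inf_der, e, cj_sup, h2.sup_inf_der]
  have hsd := h2.to24.sdUW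
  rw [← cj_sup, ← e, eU] at hsd
  obtain ⟨y, hy, e1⟩ := H26.SchurZassenhaus_trans hsd h'.to24.sdUW
    (h2.cop_der.coprime_dvd_left (card_dvd h'.leU)) (Or.inr h2.cyc1.sol)
  have hyM := h'.leUM hy
  have h3 := h.cj_mem (M.mul_mem hyM hkM)
  have e1' : H24.cj (y * k) W₁ = W₁' := by rw [cj_mul, e1]
  have e2 : H24.cj (y * k) W₂ = W₂' := by rw [← h3.cent_compl, e1', h'.cent_compl]
  refine ⟨y * k, M.mul_mem hyM hkM, by rw [cj_mul, eU, cj_of_mem hy], e1', e2, ?_⟩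
  rw [h3.defW, e1', e2, h'.defW]

/-- (8.5)(a). -/
theorem dpF : DP (Fc M) (U ⊓ C[Fc M]) F[M] :=
  ⟨inf_le_right, le_bot_iff.1 ((inf_le_inf_left _ inf_le_left).trans h.sdHU.inf.le),
    h.to24.fit_eq'.symm⟩

/-- (8.5)(b). -/
theorem derU_cent : ⁅U, U⁆ ≤ C[Fc M] := h.to24.der_U_cent

theorem not_cent (hU : U ≠ ⊥) : ¬ U ≤ C[Fc M] := fun hc => by
  have h1 : Nil ⁅M, M⁆ := (h.sdHU.dp hc).nil (Fc_nil M) h.nilU
  have h2 := Fc_max (der1_nml M) h1 (h.sdM.isHall_left h.cop_der)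
  exact hU (h.to24.compl_eq_bot_iff.2 (le_antisymm h.Fc_le h2))

/-- (8.5)(c). -/
theorem cyclicTI (ho : Odd (Nat.card W)) : CyclicTI ⊤ W W₁ W₂ :=
  ⟨h.dp, h.cycW, ho, h.ne1, h.ne2, le_top, fun x hx g _ hg => h.normedTI.ti x hx g hg⟩

theorem primeTI (ho : Odd (Nat.card W)) : PrimeTI M ⁅M, M⁆ W W₁ W₂ :=
  ⟨h.sdM, h.ne1, h.hall1, h.cyc1, h.ne2, h.le2.trans h.Fc_le, h.cyc2, h.cent, h.dp, ho⟩

theorem typeA_def :
    typeA M = {a | a ∈ ⁅M, M⁆ ∧ a ≠ 1 ∧ ∃ x ∈ typeCore M, x ≠ 1 ∧ a * x = x * a} :=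
  if_neg h.not_typeI

theorem typeA0_def : typeA0 M = typeA M ∪ classSupp (cycV W W₁ W₂) M := by
  rw [typeA0]
  congr 1
  ext v
  refine ⟨fun ⟨_, W₁', U', W₂', h', m, hm, w, hw, hw1, hw2, e⟩ => ?_,
    fun ⟨w, hw, m, hm, e⟩ => ⟨h.not_typeI, W₁, U, W₂, h.tp, m, hm, w, h.defW ▸ hw.1, hw.2.1,
      hw.2.2, e⟩⟩
  obtain ⟨x, hx, -, e1, e2, e3⟩ := (typeP_of_frozen h').conj_to h
  refine ⟨x * w * x⁻¹, ⟨e3 ▸ conj_mem_cj x hw, by rwa [← e1, conj_mem_cj_iff],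
    by rwa [← e2, conj_mem_cj_iff]⟩, m * x⁻¹, M.mul_mem hm (M.inv_mem hx), by rw [e]; group⟩

theorem typeA_sub : typeA M ⊆ shp ⁅M, M⁆ := by
  rw [h.typeA_def]; exact fun a ha => ⟨ha.1, ha.2.1⟩

theorem Fc_le_core : Fc M ≤ typeCore M := by
  unfold typeCore; split_ifs; exacts [h.Fc_le, le_rfl]

theorem core_le : typeCore M ≤ ⁅M, M⁆ := by
  unfold typeCore; split_ifs; exacts [le_rfl, h.Fc_le]

end TypeP

/-! ### the five types -/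

theorem typeII_witness (h : IsOfTypeII M) : ∃ U W W₁ W₂, TypeP M U W W₁ W₂ :=
  let ⟨_, _, _, h, _⟩ := h; ⟨_, _, _, _, typeP_of_frozen h⟩
theorem typeIII_witness (h : IsOfTypeIII M) : ∃ U W W₁ W₂, TypeP M U W W₁ W₂ :=
  let ⟨_, _, _, h, _⟩ := h; ⟨_, _, _, _, typeP_of_frozen h⟩
theorem typeIV_witness (h : IsOfTypeIV M) : ∃ U W W₁ W₂, TypeP M U W W₁ W₂ :=
  let ⟨_, _, _, h, _⟩ := h; ⟨_, _, _, _, typeP_of_frozen h⟩
theorem typeV_witness (h : IsOfTypeV M) : ∃ U W W₁ W₂, TypeP M U W W₁ W₂ :=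
  let ⟨_, _, _, h, _⟩ := h; ⟨_, _, _, _, typeP_of_frozen h⟩

/-- the properties of the type `P` data that do not depend on the choice of the data. -/
theorem TypeP.transfer (h : TypeP M U W W₁ W₂) {U' W₁' W₂' : Subgroup G}
    (h' : IsTypePWith M W₁' U' W₂') :
    (U' = ⊥ ↔ U = ⊥) ∧ ♯W₁' = ♯W₁ ∧ (Abl U' ↔ Abl U) ∧ (N[U'] ≤ M ↔ N[U] ≤ M) := by
  obtain ⟨x, hx, rfl, rfl, -, -⟩ := h.conj_to (typeP_of_frozen h')
  refine ⟨cj_eq_bot, card_cj _ _, ⟨fun h => ?_, fun h => h.cj x⟩, ?_⟩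
  · have := h.cj x⁻¹
    rwa [cj_inv_cj] at this
  · rw [← cj_N, cj_le_iff, cj_of_mem (M.inv_mem hx)]

theorem TypeP.II_iff (h : TypeP M U W W₁ W₂) : IsOfTypeII M ↔ U ≠ ⊥ ∧ (♯W₁).Prime ∧
    IsTISubset (F[M] : Set G) ∧ Abl U ∧ ¬ N[U] ≤ M ∧ IsOfTypeF ↥⁅M, M⁆ ∧ Fc ⁅M, M⁆ = Fc M := by
  refine ⟨fun ⟨_, _, _, h', h1⟩ => ?_, fun h1 => ⟨_, _, _, h.tp, h1⟩⟩
  obtain ⟨e1, e2, e3, e4⟩ := h.transfer h'
  rwa [← e2, ← e3, ← e4, Ne, ← e1]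

theorem TypeP.III_iff (h : TypeP M U W W₁ W₂) : IsOfTypeIII M ↔ U ≠ ⊥ ∧ (♯W₁).Prime ∧
    IsTISubset (F[M] : Set G) ∧ Abl U ∧ N[U] ≤ M := by
  refine ⟨fun ⟨_, _, _, h', h1⟩ => ?_, fun h1 => ⟨_, _, _, h.tp, h1⟩⟩
  obtain ⟨e1, e2, e3, e4⟩ := h.transfer h'
  rwa [← e2, ← e3, ← e4, Ne, ← e1]

theorem TypeP.IV_iff (h : TypeP M U W W₁ W₂) : IsOfTypeIV M ↔ U ≠ ⊥ ∧ (♯W₁).Prime ∧
    IsTISubset (F[M] : Set G) ∧ ¬ Abl U ∧ N[U] ≤ M := by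
  refine ⟨fun ⟨_, _, _, h', h1⟩ => ?_, fun h1 => ⟨_, _, _, h.tp, h1⟩⟩
  obtain ⟨e1, e2, e3, e4⟩ := h.transfer h'
  rwa [← e2, ← e3, ← e4, Ne, ← e1]

theorem cyc_pPrimeCore {p : ℕ} (hp : p.Prime) (H : Subgroup G) :
    IsCyclic (pPrimeCore p H) ↔ Cyc O[{p}ᶜ, H] := by
  rw [pcore_compl_singleton hp, cyc_map_iff H.subtype_injective]

theorem card_pCore {p : ℕ} (hp : p.Prime) (H : Subgroup G) : ♯(pCore p H) = ♯O[{p}, H] := by
  rw [pcore_singleton hp, Subgroup.card_map_of_injective H.subtype_injective]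

theorem TypeP.V_iff (h : TypeP M U W W₁ W₂) : IsOfTypeV M ↔ U = ⊥ ∧ (IsTISubset (Fc M : Set G) ∨
    (∃ p ∈ primesOf (Fc M), Nat.card W₁ ∣ p - 1 ∧ Cyc O[{p}ᶜ, Fc M]) ∨
    (∃ p ∈ primesOf (Fc M), Nat.card O[{p}, Fc M] = p ^ 3 ∧ Nat.card W₁ ∣ p + 1 ∧
      Cyc O[{p}ᶜ, Fc M])) := by
  constructor
  · rintro ⟨_, _, _, h', h1, h2⟩
    obtain ⟨e1, e2, -, -⟩ := h.transfer h'
    refine ⟨e1.1 h1, h2.imp_right (Or.imp ?_ ?_)⟩
    · rintro ⟨p, hp, hd, h3, h4⟩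
      exact ⟨p, ⟨hp, hd⟩, e2 ▸ h3, (cyc_pPrimeCore hp _).1 h4⟩
    · rintro ⟨p, hp, hd, h3, h4, h5⟩
      exact ⟨p, ⟨hp, hd⟩, (card_pCore hp _).symm.trans h3, e2 ▸ h4, (cyc_pPrimeCore hp _).1 h5⟩
  · rintro ⟨h1, h2⟩
    refine ⟨_, _, _, h.tp, h1, h2.imp_right (Or.imp ?_ ?_)⟩
    · rintro ⟨p, ⟨hp, hd⟩, h3, h4⟩
      exact ⟨p, hp, hd, h3, (cyc_pPrimeCore hp _).2 h4⟩
    · rintro ⟨p, ⟨hp, hd⟩, h3, h4, h5⟩
      exact ⟨p, hp, hd, (card_pCore hp _).trans h3, h4, (cyc_pPrimeCore hp _).2 h5⟩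

theorem not_II_of_I (h : IsOfTypeI M) : ¬ IsOfTypeII M := fun h' =>
  let ⟨_, _, _, _, h'⟩ := typeII_witness h'; h'.not_typeI h
theorem not_III_of_I (h : IsOfTypeI M) : ¬ IsOfTypeIII M := fun h' =>
  let ⟨_, _, _, _, h'⟩ := typeIII_witness h'; h'.not_typeI h
theorem not_IV_of_I (h : IsOfTypeI M) : ¬ IsOfTypeIV M := fun h' =>
  let ⟨_, _, _, _, h'⟩ := typeIV_witness h'; h'.not_typeI h
theorem not_V_of_I (h : IsOfTypeI M) : ¬ IsOfTypeV M := fun h' =>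
  let ⟨_, _, _, _, h'⟩ := typeV_witness h'; h'.not_typeI h
theorem not_III_of_II (h : IsOfTypeII M) : ¬ IsOfTypeIII M := fun h' =>
  let ⟨_, _, _, _, hP⟩ := typeII_witness h
  (hP.II_iff.1 h).2.2.2.2.1 (hP.III_iff.1 h').2.2.2.2
theorem not_IV_of_II (h : IsOfTypeII M) : ¬ IsOfTypeIV M := fun h' =>
  let ⟨_, _, _, _, hP⟩ := typeII_witness h
  (hP.II_iff.1 h).2.2.2.2.1 (hP.IV_iff.1 h').2.2.2.2
theorem not_V_of_II (h : IsOfTypeII M) : ¬ IsOfTypeV M := fun h' =>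
  let ⟨_, _, _, _, hP⟩ := typeII_witness h
  (hP.II_iff.1 h).1 (hP.V_iff.1 h').1
theorem not_IV_of_III (h : IsOfTypeIII M) : ¬ IsOfTypeIV M := fun h' =>
  let ⟨_, _, _, _, hP⟩ := typeIII_witness h
  (hP.IV_iff.1 h').2.2.2.1 (hP.III_iff.1 h).2.2.2.1
theorem not_V_of_III (h : IsOfTypeIII M) : ¬ IsOfTypeV M := fun h' =>
  let ⟨_, _, _, _, hP⟩ := typeIII_witness h
  (hP.III_iff.1 h).1 (hP.V_iff.1 h').1
theorem not_V_of_IV (h : IsOfTypeIV M) : ¬ IsOfTypeV M := fun h' =>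
  let ⟨_, _, _, _, hP⟩ := typeIV_witness h
  (hP.IV_iff.1 h).1 (hP.V_iff.1 h').1

theorem typeCore_of_34 (h : IsOfTypeIII M ∨ IsOfTypeIV M) : typeCore M = ⁅M, M⁆ := if_pos h
theorem typeCore_of_I (h : IsOfTypeI M) : typeCore M = Fc M :=
  if_neg (not_or.2 ⟨not_III_of_I h, not_IV_of_I h⟩)
theorem typeCore_of_II (h : IsOfTypeII M) : typeCore M = Fc M :=
  if_neg (not_or.2 ⟨not_III_of_II h, not_IV_of_II h⟩)
theorem typeCore_of_V (h : IsOfTypeV M) : typeCore M = Fc M :=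
  if_neg (not_or.2 ⟨fun h' => not_V_of_III h' h, fun h' => not_V_of_IV h' h⟩)
theorem typeA_of_typeI (h : IsOfTypeI M) :
    typeA M = {a | a ∈ M ∧ a ≠ 1 ∧ ∃ x ∈ Fc M, x ≠ 1 ∧ a * x = x * a} := if_pos h
theorem typeA_of_not_typeI (h : ¬ IsOfTypeI M) :
    typeA M = {a | a ∈ ⁅M, M⁆ ∧ a ≠ 1 ∧ ∃ x ∈ typeCore M, x ≠ 1 ∧ a * x = x * a} := if_neg h

/-! ### conjugation -/

theorem cj_iff_of_imp {P : Subgroup G → Prop} (h : ∀ g M, P M → P (cj g M)) (g : G) :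
    P (cj g M) ↔ P M :=
  ⟨fun h' => by have := h g⁻¹ _ h'; rwa [cj_inv_cj] at this, h g M⟩

theorem isTISubset_cj {H : Subgroup G} (h : IsTISubset (H : Set G)) (g : G) :
    IsTISubset (cj g H : Set G) := by
  by_cases h1 : H = ⊥
  · rwa [h1, cj_bot, ← h1]
  have := ((normedTI_subgroup_iff h1).2 h).cj_sub g
  rw [cj_N] at this
  exact (normedTI_subgroup_iff (by rwa [Ne, cj_eq_bot])).1 this

theorem isOfTypeF_cj (h : IsOfTypeF M) (g : G) : IsOfTypeF (cj g M) :=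
  let ⟨_, hU⟩ := typeF_of_frozen h
  (hU.cj g).frozen (Sol.cj h.1 g) (by rw [card_cj]; exact h.2.1)

theorem TypeI.cj (h : TypeI M U) (g : G) : TypeI (cj g M) (cj g U) := by
  refine ⟨h.tF.cj g, ?_⟩
  rw [Fc_cj, primesOf_cj, exponent_cj, rank_cj]
  refine h.cases.imp (fun h => h.cj_sub g) (Or.imp (fun h => ⟨h.1.cj g, h.2⟩)
    fun ⟨h1, p, hp, h2⟩ => ⟨h1, p, hp, ?_⟩)
  rw [pcore_cj]; exact h2.cj g

theorem typeI_cj (g : G) : IsOfTypeI (cj g M) ↔ IsOfTypeI M :=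
  cj_iff_of_imp (P := IsOfTypeI) (fun g _ ⟨_, h⟩ => ⟨_, h.cj g⟩) g

theorem typeII_cj (g : G) : IsOfTypeII (cj g M) ↔ IsOfTypeII M := by
  refine cj_iff_of_imp (P := IsOfTypeII) (fun g M h => ?_) g
  obtain ⟨U, W, W₁, W₂, hP⟩ := typeII_witness h
  obtain ⟨h1, h2, h3, h4, h5, h6, h7⟩ := hP.II_iff.1 h
  rw [(hP.cj g).II_iff, Ne, cj_eq_bot, card_cj, Fitting_cj, ← cj_N, cj_le_cj, ← cj_comm, Fc_cj,
    Fc_cj, h7]
  exact ⟨h1, h2, isTISubset_cj h3 g, h4.cj g, h5, isOfTypeF_cj h6 g, rfl⟩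

theorem typeIII_cj (g : G) : IsOfTypeIII (cj g M) ↔ IsOfTypeIII M := by
  refine cj_iff_of_imp (P := IsOfTypeIII) (fun g M h => ?_) g
  obtain ⟨U, W, W₁, W₂, hP⟩ := typeIII_witness h
  obtain ⟨h1, h2, h3, h4, h5⟩ := hP.III_iff.1 h
  rw [(hP.cj g).III_iff, Ne, cj_eq_bot, card_cj, Fitting_cj, ← cj_N, cj_le_cj]
  exact ⟨h1, h2, isTISubset_cj h3 g, h4.cj g, h5⟩

theorem typeIV_cj (g : G) : IsOfTypeIV (cj g M) ↔ IsOfTypeIV M := by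
  refine cj_iff_of_imp (P := IsOfTypeIV) (fun g M h => ?_) g
  obtain ⟨U, W, W₁, W₂, hP⟩ := typeIV_witness h
  obtain ⟨h1, h2, h3, h4, h5⟩ := hP.IV_iff.1 h
  rw [(hP.cj g).IV_iff, Ne, cj_eq_bot, card_cj, Fitting_cj, ← cj_N, cj_le_cj,
    cj_iff_of_imp (P := Abl) (fun g _ h => h.cj g)]
  exact ⟨h1, h2, isTISubset_cj h3 g, h4, h5⟩

theorem typeV_cj (g : G) : IsOfTypeV (cj g M) ↔ IsOfTypeV M := by
  refine cj_iff_of_imp (P := IsOfTypeV) (fun g M h => ?_) g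
  obtain ⟨U, W, W₁, W₂, hP⟩ := typeV_witness h
  obtain ⟨h1, h2⟩ := hP.V_iff.1 h
  rw [(hP.cj g).V_iff, cj_eq_bot, card_cj, Fc_cj, primesOf_cj]
  simp only [pcore_cj, card_cj, H24.cyc_cj]
  exact ⟨h1, h2.imp_left fun h => isTISubset_cj h g⟩

theorem typeCore_cj (g : G) (M : Subgroup G) : typeCore (cj g M) = cj g (typeCore M) := by
  unfold typeCore
  rw [typeIII_cj, typeIV_cj]
  split_ifs
  exacts [(cj_comm g M M).symm, Fcore_cj g M]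

theorem mem_typeA1_cj (g : G) {x : G} : g * x * g⁻¹ ∈ typeA1 (cj g M) ↔ x ∈ typeA1 M := by
  simp only [typeA1, typeCore_cj, Set.mem_sdiff, SetLike.mem_coe, conj_mem_cj_iff,
    Set.mem_singleton_iff, conj_eq_one_iff']

theorem exists_comm_iff {H : Subgroup G} {a : G} :
    (∃ x ∈ H, x ≠ 1 ∧ a * x = x * a) ↔ H ⊓ C{a} ≠ ⊥ :=
  ⟨fun ⟨_, hx, h1, e⟩ => ne_bot_of_mem ⟨hx, mem_C1.2 e.symm⟩ h1,
    fun h => let ⟨x, hx, h1⟩ := exists_ne_one h; ⟨x, hx.1, h1, (mem_C1.1 hx.2).symm⟩⟩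

theorem mem_typeA_cj (g : G) {x : G} : g * x * g⁻¹ ∈ typeA (cj g M) ↔ x ∈ typeA M := by
  unfold typeA
  rw [typeI_cj]
  split_ifs <;>
    simp only [Set.mem_ofPred_eq, exists_comm_iff, ← cj_comm, Fc_cj, typeCore_cj, conj_mem_cj_iff,
      ← cj_C1, ← cj_inf, ne_eq, cj_eq_bot, conj_eq_one_iff']

theorem mem_typeA0_cj (g : G) {x : G} : g * x * g⁻¹ ∈ typeA0 (cj g M) ↔ x ∈ typeA0 M := by
  have key : ∀ (g : G) (M : Subgroup G) (x : G), x ∈ typeA0 M → g * x * g⁻¹ ∈ typeA0 (cj g M) := by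
    rintro g M x (hx | ⟨h1, W₁, U, W₂, hP, m, hm, w, hw, hw1, hw2, rfl⟩)
    · exact Or.inl ((mem_typeA_cj g).2 hx)
    · exact Or.inr ⟨by rwa [typeI_cj], _, _, _, ((typeP_of_frozen hP).cj g).tp, _, conj_mem_cj g hm,
        g * w * g⁻¹, by rwa [← cj_sup, conj_mem_cj_iff], by rwa [conj_mem_cj_iff],
        by rwa [conj_mem_cj_iff], by group⟩
  refine ⟨fun h => ?_, key g M x⟩
  have := key g⁻¹ _ _ h
  rwa [cj_inv_cj, show g⁻¹ * (g * x * g⁻¹) * g⁻¹⁻¹ = x by group] at this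

theorem supportR_cj (g : G) (M : Subgroup G) (x : G) :
    supportR (cj g M) (g * x * g⁻¹) = cj g (supportR M x) := H24.supportR_cj g M x

theorem tildeOf_eq (M : Subgroup G) (A : Set G) : tildeOf M A = dadeSupp A (supportR M) := by
  ext g
  exact ⟨fun ⟨a, ha, r, hr, y, e⟩ => ⟨a, ha, r, hr, y⁻¹, by rw [e]; group⟩,
    fun ⟨a, ha, r, hr, y, e⟩ => ⟨a, ha, r, hr, y⁻¹, by rw [← e]; group⟩⟩

theorem supportR_of_le {x : G} (h : C{x} ≤ M) : supportR M x = ⊥ := H24.supportR_of_le h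
theorem supportR_of_uniq {x : G} {L : Subgroup G} (h : ¬ C{x} ≤ M) (hL : UniqMax C{x} L) :
    supportR M x = Fc L ⊓ C{x} := H24.supportR_of_uniq h hL

theorem typeA1_eq (M : Subgroup G) : typeA1 M = shp (typeCore M) := rfl

theorem typeCore_nml (M : Subgroup G) : typeCore M ⊴ M := by
  unfold typeCore; split_ifs; exacts [der1_nml M, Fc_nml M]

theorem typeA_sub0 (M : Subgroup G) : typeA M ⊆ typeA0 M := Set.subset_union_left

theorem typeA0_sub (M : Subgroup G) : typeA0 M ⊆ shp M := by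
  rintro x (hx | ⟨-, W₁, U, W₂, hP, m, hm, w, hw, hw1, -, rfl⟩)
  · unfold typeA at hx
    split_ifs at hx
    exacts [⟨hx.1, hx.2.1⟩, ⟨der1_le M hx.1, hx.2.1⟩]
  · exact ⟨(Nml.refl M).conj_mem hm ((typeP_of_frozen hP).leW hw),
      fun e => hw1 (conj_eq_one_iff'.1 e ▸ W₁.one_mem)⟩

theorem typeA1_norm (M : Subgroup G) : ∀ g ∈ M, ∀ a ∈ typeA1 M, g * a * g⁻¹ ∈ typeA1 M :=
  fun g hg _ ha => cj_of_mem hg ▸ (mem_typeA1_cj g).2 ha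
theorem typeA_norm (M : Subgroup G) : ∀ g ∈ M, ∀ a ∈ typeA M, g * a * g⁻¹ ∈ typeA M :=
  fun g hg _ ha => cj_of_mem hg ▸ (mem_typeA_cj g).2 ha
theorem typeA0_norm (M : Subgroup G) : ∀ g ∈ M, ∀ a ∈ typeA0 M, g * a * g⁻¹ ∈ typeA0 M :=
  fun g hg _ ha => cj_of_mem hg ▸ (mem_typeA0_cj g).2 ha

theorem typeA0_of_typeI (h : IsOfTypeI M) : typeA0 M = typeA M :=
  Set.union_eq_self_of_subset_right fun _ hv => absurd h hv.1

theorem tildeOf_cj_of {A B : Set G} (g : G) (h : ∀ x, g * x * g⁻¹ ∈ B ↔ x ∈ A) :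
    tildeOf (cj g M) B = tildeOf M A := by
  ext z
  refine ⟨fun ⟨b, hb, r, hr, y, e⟩ => ?_, fun ⟨a, ha, r, hr, y, e⟩ =>
    ⟨_, (h a).2 ha, g * r * g⁻¹, by rw [supportR_cj]; exact conj_mem_cj g hr, y * g⁻¹,
      by rw [e]; group⟩⟩
  obtain ⟨a, rfl⟩ : ∃ a, b = g * a * g⁻¹ := ⟨g⁻¹ * b * g, by group⟩
  rw [supportR_cj] at hr
  obtain ⟨s, hs, rfl⟩ := mem_cj'.1 hr
  exact ⟨a, (h a).1 hb, s, hs, y * g, by rw [e]; group⟩

/-- (8.9), group-theoretic core. -/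
theorem TypeP.W2_eq {W' W₂' : Subgroup G} (h : TypeP M U W' W₁ W₂') (hd : DP W₁ W₂ W)
    (hc : Cyc W) (hT : NormedTI (cycV W W₁ W₂) W) (h2 : W₂ ≤ M) : W₂' = W₂ ∧ W' = W := by
  obtain ⟨x, hx, hx1⟩ := exists_ne_one h.ne1
  have h1 : W ≤ W' := by
    rw [← h.cent1 hx hx1, ← hd.sup]
    exact le_inf (sup_le h.le1 h2) (hd.sup ▸ hc.abl.le_C.trans (C_le_C1 (hd.left_le hx)))
  obtain ⟨v, hv⟩ := hT.nonempty
  have e : W' = W := le_antisymm ((h.cycW.abl.le_C.trans (C_le_C1 (h1 hv.1))).trans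
    (hT.cent1_le hv)) h1
  subst e
  refine ⟨cyc_eq_of_card_eq hc h.dp.right_le hd.right_le ?_, rfl⟩
  exact Nat.eq_of_mul_eq_mul_left Nat.card_pos (h.dp.card.symm.trans hd.card)

end H27
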