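import Mathlib
import Cfsg.Agent.H27.PF6
import Cfsg.Agent.H2.PF7c

/-!
# Peterfalvi §7 (non-existence of certain groups of odd order).  Statements S1525, S1526.
-/

set_option autoImplicit false
set_option linter.unusedSectionVars false
set_option linter.unusedVariables false

namespace H27

open Cfsg H24 
open scoped ComplexConjugate

universe u v

variable {Γ : Type u} [Group Γ] [Finite Γ]

section invDade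
variable {A A₁ : Set Γ} {L : Subgroup Γ} {R : Γ → Subgroup Γ} {α χ : Γ → ℂ} {a : Γ}

theorem invDadeE (χ : Γ → ℂ) (ha : a ∈ A) :
    invDade A R χ a = (Nat.card (R a) : ℂ)⁻¹ * ∑ u ∈ fs (R a : Set Γ), χ (a * u) := H2.invDade_apply χ ha
theorem invDade_mem_cfOn (A : Set Γ) (R : Γ → Subgroup Γ) (χ : Γ → ℂ) :
    invDade A R χ ∈ cfOn A := H2.invDade_cfOn χ
theorem invDade_on (hD : DadeHypothesis A L R) (hχ : χ ∈ CF ⊤) : invDade A R χ ∈ CFon L A := H2.invDade_on hD hχ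
theorem invDade_of_const (ha : a ∈ A) (h : ∀ u ∈ R a, χ (a * u) = χ a) : invDade A R χ a = χ a :=
  H2.invDade_apply_of_const ha h
theorem invDade_cfOne (ha : a ∈ A) : invDade A R (cfOne ⊤) a = 1 := by
  rw [H2.invDade_cfOne, Set.indicator_of_mem ha]; rfl
theorem invDade_restr (hs : A₁ ⊆ A) (χ : Γ → ℂ) (ha : a ∈ A₁) :
    invDade A₁ R χ a = invDade A R χ a := by
  rw [H2.invDade_apply χ ha, H2.invDade_apply χ (hs ha)]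
theorem invDade_aut (u : ℂ →+* ℂ) (A : Set Γ) (R : Γ → Subgroup Γ) (χ : Γ → ℂ) :
    invDade A R (cfAut u χ) = cfAut u (invDade A R χ) := H2.invDade_aut u χ
theorem invDade_reciprocity (hD : DadeHypothesis A L R) (hα : α ∈ CFon L A) (hχ : χ ∈ CF ⊤) :
    cfdot ⊤ (Dade A L R α) χ = cfdot L α (invDade A R χ) := H2.invDade_reciprocity hD hα hχ
/-- (7.2)(a). -/
theorem DadeK (hD : DadeHypothesis A L R) (hα : α ∈ CFon L A) : invDade A R (Dade A L R α) = α :=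
  H2.DadeK hD hα
/-- (7.2)(b). -/
theorem leC_norm_invDade (hD : DadeHypothesis A L R) (hχ : χ ∈ CF ⊤) :
    cfnorm L (invDade A R χ) ≤ cfnorm ⊤ χ ∧
      (cfnorm L (invDade A R χ) = cfnorm ⊤ χ ↔ χ = Dade A L R (invDade A R χ)) :=
  ⟨H2.leC_norm_invDade hD hχ, H2.norm_invDade_eq_iff hD hχ⟩
theorem cfnormE_invDade (hD : DadeHypothesis A L R) (χ : Γ → ℂ) :
    cfnorm L (invDade A R χ) = (Nat.card L : ℝ)⁻¹ * ∑ a ∈ fs A, ‖invDade A R χ a‖ ^ 2 :=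
  H2.cfnorm_of_cfOn hD.subset (H2.invDade_cfOn χ)
/-- (7.3). -/
theorem leC_cfnorm_invDade_support (hD : DadeHypothesis A L R) (hχ : χ ∈ CF ⊤) :
    cfnorm L (invDade A R χ) ≤ (Nat.card Γ : ℝ)⁻¹ * ∑ g ∈ fs (dadeSupp A R), ‖χ g‖ ^ 2 ∧
      (cfnorm L (invDade A R χ) = (Nat.card Γ : ℝ)⁻¹ * ∑ g ∈ fs (dadeSupp A R), ‖χ g‖ ^ 2 ↔
        ∀ a ∈ A, ∀ u ∈ R a, χ (a * u) = χ a) :=
  ⟨H2.leC_cfnorm_invDade_support hD hχ, H2.cfnorm_invDade_support_eq_iff hD hχ⟩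
theorem card_dadeSupp (hD : DadeHypothesis A L R) : (dadeSupp A R).ncard = A.ncard * L.index := by
  have h := H2.card_dadeSupp hD
  have h1 : (0 : ℝ) < Nat.card Γ := by exact_mod_cast Nat.card_pos
  have h2 : (0 : ℝ) < Nat.card L := by exact_mod_cast Nat.card_pos
  rw [Nat.card_coe_set_eq, Nat.card_coe_set_eq, div_eq_div_iff h1.ne' h2.ne',
    ← L.index_mul_card, Nat.cast_mul, ← mul_assoc] at h
  exact_mod_cast mul_right_cancel₀ h2.ne' h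
end invDade

/-- (7.5). -/
theorem Dade_cover_inequality {I : Type*} [Fintype I] {A : I → Set Γ} {L : I → Subgroup Γ}
    {R : I → Γ → Subgroup Γ} (hD : ∀ i, DadeHypothesis (A i) (L i) (R i))
    (hd : ∀ i j, i ≠ j → Disjoint (dadeSupp (A i) (R i)) (dadeSupp (A j) (R j))) {χ : Γ → ℂ}
    (hχ : χ ∈ CF ⊤) (hn : cfnorm ⊤ χ = 1) :
    (Nat.card Γ : ℝ)⁻¹ * (∑ g ∈ fs (⋃ i, dadeSupp (A i) (R i))ᶜ, ‖χ g‖ ^ 2 -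
        ((⋃ i, dadeSupp (A i) (R i))ᶜ).ncard) +
      ∑ i, (cfnorm (L i) (invDade (A i) (R i) χ) - (A i).ncard / Nat.card (L i)) ≤ 0 := by
  have h := H2.Dade_cover_inequality hD hd hχ hn
  simpa only [Nat.card_coe_set_eq] using h

section seqIndC1
variable {L H : Subgroup Γ} {R : Γ → Subgroup Γ}

theorem nml_of_Dade_shp (hD : DadeHypothesis (shp H) L R) : H ⊴ L := H2.nml_of_dade hD

/-- (7.7). -/
theorem invDade_seqInd_sum [DecidableEq (Γ → ℂ)] (hD : DadeHypothesis (shp H) L R) {ξ₀ χ : Γ → ℂ}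
    (hξ₀ : ξ₀ ∈ seqIndT H L) (hχ : χ ∈ CF ⊤) (c : (Γ → ℂ) → ℂ)
    (hc : ∀ ξ, c ξ = cfdot ⊤ (Dade (shp H) L R (ξ - (ξ 1 / ξ₀ 1) • ξ₀)) χ) :
    (∀ x ∈ shp H, invDade (shp H) R χ x =
        ∑ ξ ∈ (seqIndT H L).erase ξ₀, conj (c ξ) / cfnorm L ξ * ξ x) ∧
      (cfnorm L (invDade (shp H) R χ) : ℂ) =
        ∑ ξ ∈ (seqIndT H L).erase ξ₀, ∑ μ ∈ (seqIndT H L).erase ξ₀, conj (c ξ) * c μ *
          ((cfnorm L ξ : ℂ)⁻¹ * ((if ξ = μ then 1 else 0) -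
            ξ 1 * μ 1 / (H.relIndex L * Nat.card H * cfnorm L μ))) := by
  have hH := H2.nml_of_dade hD
  obtain ⟨h1, h2⟩ := H2.invDade_seqInd_sum hD hξ₀ hχ c fun ξ _ => hc ξ
  have h0 : c ξ₀ = 0 := by rw [hc, div_self (H2.seqIndT_one_ne hH.le hξ₀)]; simp
  refine ⟨fun x hx => ?_, ?_⟩
  · rw [h1 x hx.1 hx.2, Finset.sum_apply, ← Finset.add_sum_erase _ _ hξ₀]
    simp [h0]
  rw [h2, ← Finset.add_sum_erase _ _ hξ₀, ← Finset.add_sum_erase _ _ hξ₀, h0]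
  simp only [norm_zero, ne_eq, OfNat.ofNat_ne_zero, not_false_eq_true, zero_pow, zero_div,
    zero_add, map_zero, zero_mul]
  push_cast
  rw [← Complex.mul_conj', map_sum, Finset.sum_mul_sum, Finset.sum_div, ← Finset.sum_sub_distrib]
  refine Finset.sum_congr rfl fun ξ hξ => ?_
  simp only [mul_sub, Finset.sum_sub_distrib, mul_ite, mul_one, mul_zero, Finset.sum_ite_eq, hξ,
    if_true]
  rw [← Complex.conj_mul', Finset.sum_div, div_eq_mul_inv]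
  congr 1
  refine Finset.sum_congr rfl fun μ hμ => ?_
  obtain ⟨d, -, hd⟩ := H2.seqIndT_one hH.le (Finset.mem_of_mem_erase hμ)
  rw [card_eq_mul_relIndex hH.le, hd]
  simp only [map_mul, map_div₀, Complex.conj_conj, Complex.conj_ofReal, map_natCast, Nat.cast_mul]
  ring

/-- (7.8). -/
theorem Dade_Ind1_sub_lin (hD : DadeHypothesis (shp H) L R) {ν : (Γ → ℂ) →ₗ[ℂ] (Γ → ℂ)}
    (hc : CohWith L ⊤ (seqIndD H L H ⊥) (Dade (shp H) L R) ν) (h2 : 1 < (seqIndD H L H ⊥).card)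
    {ζ : Γ → ℂ} (hi : ζ ∈ Irr L) (hζ : ζ ∈ seqIndD H L H ⊥) (h1 : ζ 1 = H.relIndex L)
    (β : Γ → ℂ) (hβ : β = Dade (shp H) L R (cfInd L H (cfOne H) - ζ)) :
    ((∀ ξ ∈ seqIndD H L H ⊥, cfdot ⊤ (ν ξ) (cfOne ⊤) = 0) ∧ cfdot ⊤ β (cfOne ⊤) = 1 ∧ β ∈ vchar ⊤) ∧
    (∃ Gam : Γ → ℂ, (∀ ξ ∈ seqIndD H L H ⊥, cfdot ⊤ Gam (ν ξ) = 0) ∧ cfdot ⊤ Gam (cfOne ⊤) = 0 ∧
      (∃ a : ℤ, β = cfOne ⊤ - ν ζ + (a : ℂ) • (∑ ξ ∈ seqIndD H L H ⊥,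
        (ξ 1 / H.relIndex L / cfnorm L ξ) • ν ξ) + Gam) ∧
      (2 * H.relIndex L + 1 ≤ Nat.card H →
        1 - (H.relIndex L : ℝ) / Nat.card H ≤ cfnorm L (invDade (shp H) R (ν ζ)) ∧
          cfnorm ⊤ Gam ≤ (H.relIndex L : ℝ) - 1)) ∧
    ∀ χ ∈ CF (⊤ : Subgroup Γ), (∀ ξ ∈ seqIndD H L H ⊥, cfdot ⊤ χ (ν ξ) = 0) →
      (∀ x ∈ shp H, invDade (shp H) R χ x = cfdot ⊤ χ β) ∧
        cfnorm L (invDade (shp H) R χ) =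
          ((Nat.card H : ℝ) - 1) / Nat.card L * ‖cfdot ⊤ β χ‖ ^ 2 := by
  subst hβ
  refine ⟨⟨fun ξ hξ => H2.Dade_Ind1_orth1 hD hc h2 hi hζ h1 hξ, H2.Dade_Ind1_dot_cfOne hD hζ h1,
    H2.Dade_Ind1_vchar hD hζ h1⟩, ?_, fun χ hχ hχS => ?_⟩
  · obtain ⟨γ, -, h⟩ := H2.Dade_Ind1_sub_lin hD hc h2 hi hζ h1
    exact ⟨γ, h⟩
  · obtain ⟨h3, h4⟩ := H2.Dade_Ind1_orth_rho hD hc hζ h1 hχ hχS
    exact ⟨fun x hx => h3 x hx.1 hx.2, h4⟩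
end seqIndC1

section disjoint
variable {L₁ L₂ H₁ H₂ : Subgroup Γ} {R₁ R₂ : Γ → Subgroup Γ} {ν₁ ν₂ : (Γ → ℂ) →ₗ[ℂ] (Γ → ℂ)}

theorem disjoint_Dade_ortho {A₁ A₂ : Set Γ} (hd : Disjoint (dadeSupp A₁ R₁) (dadeSupp A₂ R₂))
    (φ ψ : Γ → ℂ) : cfdot ⊤ (Dade A₁ L₁ R₁ φ) (Dade A₂ L₂ R₂ ψ) = 0 :=
  H2.disjoint_Dade_ortho hd φ ψ
theorem disjoint_coherent_ortho (hodd : Odd (Nat.card Γ)) (hD₁ : DadeHypothesis (shp H₁) L₁ R₁)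
    (hD₂ : DadeHypothesis (shp H₂) L₂ R₂)
    (hd : Disjoint (dadeSupp (shp H₁) R₁) (dadeSupp (shp H₂) R₂))
    (hc₁ : CohWith L₁ ⊤ (seqIndD H₁ L₁ H₁ ⊥) (Dade (shp H₁) L₁ R₁) ν₁)
    (hc₂ : CohWith L₂ ⊤ (seqIndD H₂ L₂ H₂ ⊥) (Dade (shp H₂) L₂ R₂) ν₂) {χ₁ χ₂ : Γ → ℂ}
    (hi₁ : χ₁ ∈ Irr L₁) (h₁ : χ₁ ∈ seqIndD H₁ L₁ H₁ ⊥) (hi₂ : χ₂ ∈ Irr L₂)
    (h₂ : χ₂ ∈ seqIndD H₂ L₂ H₂ ⊥) : cfdot ⊤ (ν₁ χ₁) (ν₂ χ₂) = 0 :=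
  H2.disjoint_coherent_ortho hodd hD₁ hD₂ hd hc₁ hc₂ hi₁ h₁ hi₂ h₂
/-- (7.9). -/
theorem Dade_sub_lin_nonorthogonal (hodd : Odd (Nat.card Γ)) (hD₁ : DadeHypothesis (shp H₁) L₁ R₁)
    (hD₂ : DadeHypothesis (shp H₂) L₂ R₂)
    (hd : Disjoint (dadeSupp (shp H₁) R₁) (dadeSupp (shp H₂) R₂))
    (hc₁ : CohWith L₁ ⊤ (seqIndD H₁ L₁ H₁ ⊥) (Dade (shp H₁) L₁ R₁) ν₁)
    (hc₂ : CohWith L₂ ⊤ (seqIndD H₂ L₂ H₂ ⊥) (Dade (shp H₂) L₂ R₂) ν₂) {ζ₁ ζ₂ : Γ → ℂ}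
    (hi₁ : ζ₁ ∈ Irr L₁) (h₁ : ζ₁ ∈ seqIndD H₁ L₁ H₁ ⊥) (d₁ : ζ₁ 1 = H₁.relIndex L₁)
    (hi₂ : ζ₂ ∈ Irr L₂) (h₂ : ζ₂ ∈ seqIndD H₂ L₂ H₂ ⊥) (d₂ : ζ₂ 1 = H₂.relIndex L₂) :
    cfdot ⊤ (Dade (shp H₁) L₁ R₁ (cfInd L₁ H₁ (cfOne H₁) - ζ₁)) (ν₂ ζ₂) ≠ 0 ∨
      cfdot ⊤ (Dade (shp H₂) L₂ R₂ (cfInd L₂ H₂ (cfOne H₂) - ζ₂)) (ν₁ ζ₁) ≠ 0 :=
  H2.Dade_sub_lin_nonorthogonal hodd hD₁ hD₂ hd hc₁ hc₂ hi₁ h₁ d₁ hi₂ h₂ d₂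
end disjoint

section partition
variable {I : Type*} [Fintype I] {L H : I → Subgroup Γ}

/-- (7.10). -/
theorem coherent_Frobenius_bound (hodd : Odd (Nat.card Γ)) (hI : 2 ≤ Fintype.card I)
    (hF : ∀ i, FrobK (L i) (H i)) (hn : ∀ i, Nil (H i)) (hTI : ∀ i, NormedTI (shp (H i)) (L i))
    (hc : ∀ i j, i ≠ j → (Nat.card (H i)).Coprime (Nat.card (H j))) :
    ∃ i, ∀ e h : ℝ, e = (H i).relIndex (L i) → h = Nat.card (H i) →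
      (e - 1) * ((h - 2 * e - 1) / (e * h) + 2 / (h * (h + 2))) ≤
        ((((⋃ i, classSupp (shp (H i)) ⊤)ᶜ).ncard : ℝ) - 1) / Nat.card Γ :=
  H2.coherent_Frobenius_bound hodd hI hF hn hTI hc
/-- (7.11). -/
theorem no_coherent_Frobenius_partition (hodd : Odd (Nat.card Γ)) (hI : 2 ≤ Fintype.card I)
    (hF : ∀ i, FrobK (L i) (H i)) (hn : ∀ i, Nil (H i)) (hTI : ∀ i, NormedTI (shp (H i)) (L i))
    (hc : ∀ i j, i ≠ j → (Nat.card (H i)).Coprime (Nat.card (H j))) :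
    ∃ g : Γ, g ≠ 1 ∧ ∀ i, g ∉ classSupp (shp (H i)) ⊤ :=
  H2.no_coherent_Frobenius_partition hodd hI hF hn hTI hc
end partition

end H27
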