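import Mathlib
import Cfsg.Agent.H27.PF5
import Cfsg.Agent.H27.PF8a
import Cfsg.Agent.H24.S16

/-!
# Peterfalvi §8 (interface with B & G).
-/

set_option autoImplicit false
set_option linter.unusedSectionVars false

namespace H27

open Cfsg H24 H25
open scoped ComplexConjugate

universe u v

variable {G : Type u} [Group G] [Finite G]

section types
variable {W W₁ W₂ : Subgroup G}

theorem TypePPair.symm {S T : Subgroup G} (h : TypePPair S T W W₁ W₂) : TypePPair T S W W₂ W₁ :=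
  ⟨h.cyc.symm, h.maxT, h.maxS, h.sdT, h.sdS, inf_comm S T ▸ h.inf, h.two.symm, h.notIT, h.notIS,
    fun M hM h1 => (h.cover M hM h1).imp fun _ => Or.symm⟩

theorem TypePPair.not_conj {S T : Subgroup G} (h : TypePPair S T W W₁ W₂) (g : G) :
    T ≠ cj g S := by
  rintro rfl
  have h1 := h.sdT.relIndex_left
  rw [← cj_comm, relIndex_cj, h.sdS.relIndex_left] at h1
  have h2 := h.cyc.cop
  have h3 := h.cyc.two_lt2
  rw [h1, Nat.coprime_self] at h2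
  omega

/-- MathComp `size_red_subseq_seqInd_typeP`. -/
theorem PrimeTI.size_red_subseq {L K : Subgroup G} (h : PrimeTI L K W W₁ W₂) {S : Finset (G → ℂ)}
    (hS : S ⊆ seqIndT K L) (hr : ∀ φ ∈ S, φ ∉ Irr L) :
    S.card = {θ | θ ∈ Irr K ∧ cfInd L K θ ∈ S}.ncard := by
  classical
  rw [← Set.ncard_coe_finset]
  refine (Set.ncard_congr (fun θ _ => cfInd L K θ) (fun θ hθ => hθ.2) (fun a b ha hb e => ?_)
    fun φ hφ => ?_).symm
  · obtain ⟨j, hj, rfl⟩ := (h.res_irr_cases ha.1).resolve_right fun h' => hr _ ha.2 h'.1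
    obtain ⟨k, hk, rfl⟩ := (h.res_irr_cases hb.1).resolve_right fun h' => hr _ hb.2 h'.1
    rw [h.ind_res hj, h.ind_res hk, h.red_inj hj hk] at e
    rw [e]
  · obtain ⟨θ, hθ, rfl⟩ := Finset.mem_image.1 (hS hφ)
    exact ⟨θ, ⟨hθ, hφ⟩, rfl⟩

end types

/-! ## the minimal counterexample -/
variable [FT G]

section oneMax
variable {M U W W₁ W₂ : Subgroup G}

theorem mmax_Fcore_neq1 (hM : IsCoatom M) : Fc M ≠ ⊥ := H24.mmax_Fcore_neq1 hM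
theorem norm_Fc_eq (hM : IsCoatom M) : N[Fc M] = M := mmax_normal hM (Fc_nml M) (mmax_Fcore_neq1 hM)

theorem mmax_TI_iff (hM : IsCoatom M) {H : Subgroup G} (hH : H ⊴ M) (h1 : H ≠ ⊥) :
    NormedTI (shp H) M ↔ IsTISubset (H : Set G) := by
  rw [← normedTI_subgroup_iff h1, mmax_normal hM hH h1]

theorem mmax_Fit_TI_iff (hM : IsCoatom M) : NormedTI (shp F[M]) M ↔ IsTISubset (F[M] : Set G) :=
  mmax_TI_iff hM (Fitting_nml M) (ne_bot_of_le (mmax_Fcore_neq1 hM) (Fc_le_Fit M))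

theorem typeI_iff24 (hM : IsCoatom M) : TypeI M U ↔ H24.TypeI M U :=
  ⟨fun h => ⟨h.tF.to24, by rw [norm_Fc_eq hM]; exact h.cases⟩,
    fun h => ⟨typeF_of24 h.typeF, by have := h.cases; rwa [norm_Fc_eq hM] at this⟩⟩

theorem typeI_iff (hM : IsCoatom M) : IsOfTypeI M ↔ FTtype M = 1 := by
  rw [FTtype1_iff hM]; exact exists_congr fun _ => typeI_iff24 hM

theorem FTtypeP_witness (hM : IsCoatom M) (h : ¬ IsOfTypeI M) :
    ∃ U W W₁ W₂, TypeP M U W W₁ W₂ :=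
  let ⟨_, _, _, _, h⟩ := H24.FTtypeP_witness hM (mt (typeI_iff hM).2 h)
  ⟨_, _, _, _, typeP_of24 h⟩

theorem typeP_witness_of_ne (hM : IsCoatom M) (h : FTtype M ≠ 1) :
    ∃ U W W₁ W₂, TypeP M U W W₁ W₂ := FTtypeP_witness hM (mt (typeI_iff hM).1 h)

theorem typeII_iff (hM : IsCoatom M) : IsOfTypeII M ↔ FTtype M = 2 := by
  refine ⟨fun h => ?_, fun h => ?_⟩
  · obtain ⟨U, W, W₁, W₂, hP⟩ := typeII_witness h
    obtain ⟨h1, h2, h3, h4, h5, h6, h7⟩ := hP.II_iff.1 h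
    obtain ⟨V, hV⟩ := typeF_of_frozen h6
    exact (hP.to24.typeII_iff hM).2 ⟨⟨hP.to24, h1, h2, (mmax_Fit_TI_iff hM).2 h3⟩, h4, h5,
      (compl_of_typeF (h7.symm ▸ hP.sdHU) hV).to24, h7⟩
  · obtain ⟨U, W, W₁, W₂, hP⟩ := typeP_witness_of_ne hM (by omega)
    have h2 := (hP.to24.typeII_iff hM).1 h
    exact hP.II_iff.2 ⟨h2.base.U_ne, h2.base.prime, (mmax_Fit_TI_iff hM).1 h2.base.tiF, h2.abl,
      h2.not_norm, (typeF_of24 h2.typeF).frozen (mmax_sub_sol hM (der1_le M)) (mFT_odd _),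
      h2.core_eq⟩

theorem typeIII_iff (hM : IsCoatom M) : IsOfTypeIII M ↔ FTtype M = 3 := by
  refine ⟨fun h => ?_, fun h => ?_⟩
  · obtain ⟨U, W, W₁, W₂, hP⟩ := typeIII_witness h
    obtain ⟨h1, h2, h3, h4, h5⟩ := hP.III_iff.1 h
    exact (hP.to24.typeIII_iff hM).2 ⟨⟨hP.to24, h1, h2, (mmax_Fit_TI_iff hM).2 h3⟩, h4, h5⟩
  · obtain ⟨U, W, W₁, W₂, hP⟩ := typeP_witness_of_ne hM (by omega)
    have h2 := (hP.to24.typeIII_iff hM).1 h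
    exact hP.III_iff.2 ⟨h2.base.U_ne, h2.base.prime, (mmax_Fit_TI_iff hM).1 h2.base.tiF, h2.abl,
      h2.norm⟩

theorem typeIV_iff (hM : IsCoatom M) : IsOfTypeIV M ↔ FTtype M = 4 := by
  refine ⟨fun h => ?_, fun h => ?_⟩
  · obtain ⟨U, W, W₁, W₂, hP⟩ := typeIV_witness h
    obtain ⟨h1, h2, h3, h4, h5⟩ := hP.IV_iff.1 h
    exact (hP.to24.typeIV_iff hM).2 ⟨⟨hP.to24, h1, h2, (mmax_Fit_TI_iff hM).2 h3⟩, h4, h5⟩
  · obtain ⟨U, W, W₁, W₂, hP⟩ := typeP_witness_of_ne hM (by omega)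
    have h2 := (hP.to24.typeIV_iff hM).1 h
    exact hP.IV_iff.2 ⟨h2.base.U_ne, h2.base.prime, (mmax_Fit_TI_iff hM).1 h2.base.tiF,
      h2.not_abl, h2.norm⟩

theorem typeV_iff (hM : IsCoatom M) : IsOfTypeV M ↔ FTtype M = 5 := by
  refine ⟨fun h => ?_, fun h => ?_⟩
  · obtain ⟨U, W, W₁, W₂, hP⟩ := typeV_witness h
    exact (hP.to24.type5_iff hM).2 (hP.V_iff.1 h).1
  · obtain ⟨U, W, W₁, W₂, hP⟩ := typeP_witness_of_ne hM (by omega)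
    have h2 := (hP.to24.typeV_iff hM).1 h
    exact hP.V_iff.2 ⟨h2.U_eq, h2.cases.imp_left (mmax_TI_iff hM (Fc_nml M) hP.Fc_ne).1⟩

theorem TypeF.typeI (h : TypeF M U) (hM : IsCoatom M) : IsOfTypeI M :=
  (typeI_iff hM).2 (h.to24.FTtype_eq hM)

theorem compl_of_typeI (hM : IsCoatom M) (hU : SD (Fc M) U M) (h : IsOfTypeI M) : TypeI M U :=
  (typeI_iff24 hM).2 (typeI_of_sd hM ((typeI_iff hM).1 h) hU)

theorem typeI_witness (hM : IsCoatom M) (h : IsOfTypeI M) : ∃ U, TypeI M U := h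

/-- bridges with the frozen type I and with the `FTtype` of `H24.S16Defs`. -/
theorem typeI_of_frozen (hM : IsCoatom M) (h : Cfsg.IsOfTypeI M) : IsOfTypeI M :=
  let ⟨_, h⟩ := typeF_of_frozen h.1; h.typeI hM

theorem frozen_typeI_of_frob (hM : IsCoatom M) (h : FrobK M (Fc M)) : Cfsg.IsOfTypeI M := by
  obtain ⟨E, hE⟩ := h
  have hF := Frobenius_of_typeF hE
  refine ⟨hF.frozen (mmax_sol hM) (mFT_odd M), ?_⟩
  rcases (compl_of_typeI hM hE.sd (hF.typeI hM)).cases with h | ⟨h1, h2⟩ | ⟨h1, p, hp, h2⟩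
  · exact Or.inl ((mmax_TI_iff hM (Fc_nml M) hE.ker_ne).1 h)
  · exact Or.inr (Or.inl ⟨h1, rank_le_iff.1 h2.le, lt_rank_iff.1 (by rw [show rank (Fc M) = 2 from h2]; omega)⟩)
  refine Or.inr (Or.inr ⟨fun q hq hd => Dvd.dvd.trans ?_ (h1 q ⟨hq, hd⟩), p, hp.1, hp.2, ?_⟩)
  · refine Monoid.exponent_dvd_of_forall_pow_eq_one fun x => ?_
    obtain ⟨m, rfl⟩ := QuotientGroup.mk_surjective x
    obtain ⟨a, ha, b, hb, e⟩ := hE.sd.isProd.mul m m.2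
    obtain ⟨a, ha, rfl⟩ := ha
    have e1 : m = a * ⟨b, hE.compl_le hb⟩ := Subtype.ext e
    have e2 : (⟨b, hE.compl_le hb⟩ : M) ^ Monoid.exponent E = 1 :=
      Subtype.ext (by simpa using congrArg Subtype.val (Monoid.pow_exponent_eq_one (⟨_, hb⟩ : E)))
    rw [e1, QuotientGroup.mk_mul, (QuotientGroup.eq_one_iff a).2 ha, one_mul,
      ← QuotientGroup.mk_pow, e2, QuotientGroup.mk_one]
  · rw [cyc_pPrimeCore hp.1]
    refine h2.of_le (pcore_max (pcore_pi _ _) ⟨?_, (Fcore_le M).trans (pcore_nml _ _).norm⟩)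
    have hP := Fcore_pcore_syl hp.1 hp.2
    obtain ⟨x, hx, hx1⟩ := exists_ne_one (hP.ne_bot hp.1 rfl (hp.2.trans (card_dvd (Fcore_le M))))
    refine (le_inf (pcore_le _ _) ?_).trans (hE.cent1_ker (pcore_le _ _ hx) hx1)
    refine le_trans ?_ (C_le_C1 hx)
    exact cents_of_coprime_nml (pcore_nml _ _) ((chr_pcore _ _).nml_trans (Fc_nml M))
      ((pcore_pi {p} _).coprime (pcore_pi _ _)).symm

theorem typeCore_eq (hM : IsCoatom M) : typeCore M = FTcore M := by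
  rcases H24.FTtype_cases M with h | h | h | h | h
  · rw [typeCore_of_I ((typeI_iff hM).2 h), FTcore_type1 h]
  · rw [typeCore_of_II ((typeII_iff hM).2 h), FTcore_type2 h]
  · rw [typeCore_of_34 (Or.inl ((typeIII_iff hM).2 h)), FTcore_type_gt2 (by omega)]
  · rw [typeCore_of_34 (Or.inr ((typeIV_iff hM).2 h)), FTcore_type_gt2 (by omega)]
  · rw [typeCore_of_V ((typeV_iff hM).2 h), FTcore_type5 h]

theorem typeA1_eq' (hM : IsCoatom M) : typeA1 M = FTsupp1 M := by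
  rw [typeA1, typeCore_eq hM]; rfl

theorem typeA_eq (hM : IsCoatom M) : typeA M = FTsupp M := by
  by_cases h : FTtype M = 1
  · rw [typeA_of_typeI ((typeI_iff hM).2 h), FTsupp, FTder_type1 h, FTcore_type1 h]
  · rw [typeA_of_not_typeI (mt (typeI_iff hM).1 h), FTsupp, FTder_of_ne h, typeCore_eq hM]

theorem typeA0_eq (hM : IsCoatom M) : typeA0 M = FTsupp0 M := by
  by_cases h : FTtype M = 1
  · rw [typeA0_of_typeI ((typeI_iff hM).2 h), typeA_eq hM, FTsupp0_type1 h]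
  · obtain ⟨U, W, W₁, W₂, hP⟩ := typeP_witness_of_ne hM h
    rw [hP.typeA0_def, typeA_eq hM, cycV_eq_Zhat hP.dp, ← FTsupp0_typeP hM hP.to24,
      Set.union_sdiff_cancel (FTsupp_sub0 M)]

theorem FTtype_cases (hM : IsCoatom M) :
    IsOfTypeI M ∨ IsOfTypeII M ∨ IsOfTypeIII M ∨ IsOfTypeIV M ∨ IsOfTypeV M := by
  rw [typeI_iff hM, typeII_iff hM, typeIII_iff hM, typeIV_iff hM, typeV_iff hM]
  exact H24.FTtype_cases M

theorem TypeP.of_not_V (h : TypeP M U W W₁ W₂) (hM : IsCoatom M) (h5 : ¬ IsOfTypeV M) :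
    Type24 M U W W₁ W₂ :=
  let h2 := h.to24.typeII_IV hM (mt (typeV_iff hM).2 h5)
  ⟨h, h2.U_ne, h2.prime, h2.tiF⟩

theorem TypeP.two_lt (h : TypeP M U W W₁ W₂) (hM : IsCoatom M) (h2 : ¬ IsOfTypeII M) :
    2 < FTtype M := by
  have := FTtypeP_neq1 hM h.to24
  have := mt (typeII_iff hM).2 h2
  have := FTtype_pos M
  omega

theorem TypeP.core_of_not_II (h : TypeP M U W W₁ W₂) (hM : IsCoatom M) (h2 : ¬ IsOfTypeII M) :
    typeCore M = ⁅M, M⁆ := by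
  rw [typeCore_eq hM, FTcore_type_gt2 (h.two_lt hM h2)]

theorem TypeP.typeA_of_not_II (h : TypeP M U W W₁ W₂) (hM : IsCoatom M) (h2 : ¬ IsOfTypeII M) :
    typeA M = shp ⁅M, M⁆ := by
  rw [typeA_eq hM, FTsupp_type_gt2 hM (h.two_lt hM h2), FTsupp1, FTcore_type_gt2 (h.two_lt hM h2)]

theorem Fc_le_core (hM : IsCoatom M) : Fc M ≤ typeCore M :=
  typeCore_eq hM ▸ Fcore_sub_FTcore hM
theorem core_le_der (hM : IsCoatom M) : typeCore M ≤ ⁅M, M⁆ :=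
  typeCore_eq hM ▸ FTcore_sub_der1 hM
theorem def_FTcore (hM : IsCoatom M) : typeCore M = sigmaCore M :=
  (typeCore_eq hM).trans (H24.def_FTcore hM)
theorem typeA1_sigma (hM : IsCoatom M) : typeA1 M = shp (sigmaCore M) := by
  rw [typeA1, def_FTcore hM]
theorem typeA1_sub (hM : IsCoatom M) : typeA1 M ⊆ typeA M := by
  rw [typeA1_eq' hM, typeA_eq hM]; exact FTsupp1_sub hM
theorem typeA1_sub0 (hM : IsCoatom M) : typeA1 M ⊆ typeA0 M := (typeA1_sub hM).trans (typeA_sub0 M)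
theorem Fc_sub_typeA1 (hM : IsCoatom M) : shp (Fc M) ⊆ typeA1 M :=
  fun _ hx => ⟨Fc_le_core hM hx.1, hx.2⟩
theorem Fc_sub_typeA (hM : IsCoatom M) : shp (Fc M) ⊆ typeA M :=
  (Fc_sub_typeA1 hM).trans (typeA1_sub hM)
theorem Fc_sub_typeA0 (hM : IsCoatom M) : shp (Fc M) ⊆ typeA0 M :=
  (Fc_sub_typeA hM).trans (typeA_sub0 M)

theorem Fit_sub_typeA (hM : IsCoatom M) : shp F[M] ⊆ typeA M := by
  intro x hx
  obtain ⟨z, hz, hz1⟩ := exists_ne_one (meet_center_nil (Fitting_nil M)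
    ((Fc_nml M).of_le (Fc_le_Fit M) (Fitting_le M)) (mmax_Fcore_neq1 hM))
  have e : x * z = z * x := mem_C.1 hz.2.2 x hx.1
  by_cases h : IsOfTypeI M
  · rw [typeA_of_typeI h]; exact ⟨Fitting_le M hx.1, hx.2, z, hz.1, hz1, e⟩
  · obtain ⟨U, W, W₁, W₂, hP⟩ := FTtypeP_witness hM h
    rw [hP.typeA_def]; exact ⟨hP.F_le hx.1, hx.2, z, hP.Fc_le_core hz.1, hz1, e⟩

theorem typeA_of_mem_zpowers {a b : G} (ha : a ∈ typeA M) (hb : b ∈ Subgroup.zpowers a)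
    (h1 : b ≠ 1) : b ∈ typeA M := by
  obtain ⟨n, rfl⟩ := hb
  unfold typeA at ha ⊢
  split_ifs at ha ⊢ <;> obtain ⟨h2, -, x, hx, hx1, e⟩ := ha <;>
    exact ⟨Subgroup.zpow_mem _ h2 n, h1, x, hx, hx1, (Commute.zpow_left e n :)⟩

theorem TypeP.cTI (h : TypeP M U W W₁ W₂) : CyclicTI ⊤ W W₁ W₂ := h.cyclicTI (mFT_odd W)
theorem TypeP.prTI (h : TypeP M U W W₁ W₂) : PrimeTI M ⁅M, M⁆ W W₁ W₂ := h.primeTI (mFT_odd W)

theorem TypeP.pair_witness (h : TypeP M U W W₁ W₂) (hM : IsCoatom M) :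
    ∃ T V, TypePPair M T W W₁ W₂ ∧ TypeP T V W W₂ W₁ := by
  obtain ⟨T, V, hT, h', hi, -, h2, hc⟩ := BGsummaryI2 hM h.to24
  have h' := typeP_of24 h'
  refine ⟨T, V, ⟨h.cTI, hM, hT, h.sdM, h'.sdM, hi, h2.imp (typeII_iff hM).2 (typeII_iff hT).2,
    h.not_typeI, h'.not_typeI, fun L hL h1 => ?_⟩, h'⟩
  exact exists_or.2 (hc L hL (mt (typeI_iff hL).2 h1))

theorem TypeP.pair (h : TypeP M U W W₁ W₂) (hM : IsCoatom M) {T V : Subgroup G} (hT : IsCoatom T)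
    (h' : TypeP T V W W₂ W₁) : TypePPair M T W W₁ W₂ := by
  obtain ⟨S, V₁, hp, hS⟩ := h.pair_witness hM
  suffices e : T = S by rwa [e]
  obtain ⟨g, rfl | rfl⟩ := hp.cover T hT h'.not_typeI
  · obtain ⟨y, -, -, e, -, -⟩ := h'.conj_to (h.cj g)
    have h1 := congrArg (fun X : Subgroup G => ♯X) e
    simp only [card_cj] at h1
    have h2 := hp.cyc.cop
    have h3 := hp.cyc.two_lt2
    rw [← h1, Nat.coprime_self] at h2
    omega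
  · obtain ⟨y, hy, -, e1, e2, e3⟩ := h'.conj_to (hS.cj g)
    have hw : g⁻¹ * y ∈ W := by
      obtain ⟨v, hv⟩ := h.normedTI.nonempty
      refine h.normedTI.ti v hv _ ?_
      rw [cycV_eq_Zhat h.dp] at hv ⊢
      rw [← conj_mem_Zhat_cj (g := g), ← e1, ← e2,
        show g * (g⁻¹ * y * v * (g⁻¹ * y)⁻¹) * g⁻¹ = y * v * y⁻¹ by group, conj_mem_Zhat_cj]
      exact hv
    have := cj_of_mem (hS.leW hw)
    rw [cj_mul, cj_eq_iff, inv_inv] at this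
    have h2 := cj_of_mem hy
    exact cj_inj.1 (h2.trans this.symm)

/-- (8.8). -/
theorem FTtypeP_pair_cases : (∀ M : Subgroup G, IsCoatom M → IsOfTypeI M) ∨
    ∃ S T W W₁ W₂ : Subgroup G, TypePPair S T W W₁ W₂ := by
  by_cases h : ∀ M : Subgroup G, IsCoatom M → IsOfTypeI M
  · exact Or.inl h
  push Not at h
  obtain ⟨M, hM, h⟩ := h
  obtain ⟨U, W, W₁, W₂, hP⟩ := FTtypeP_witness hM h
  obtain ⟨T, V, hp, -⟩ := hP.pair_witness hM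
  exact Or.inr ⟨_, _, _, _, _, hp⟩

/-- (8.9). -/
theorem typeP_pairW {S T : Subgroup G} (h : TypePPair S T W W₁ W₂) : ∃ U, TypeP S U W W₁ W₂ := by
  obtain ⟨U, W', W₁', W₂', hP⟩ := FTtypeP_witness h.maxS h.notIS
  obtain ⟨x, hx, e⟩ := hP.compl_conj h.sdS
  have h1 := hP.cj_mem hx
  rw [← e] at h1
  obtain ⟨e1, e2⟩ := h1.W2_eq h.cyc.dp h.cyc.cyc (h.cyc.nti.normedTI h.cyc.V_nonempty)
    ((h.cyc.le2.trans h.inf.ge).trans inf_le_left)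
  rw [e1, e2] at h1
  exact ⟨_, h1⟩

/-- (8.11). -/
theorem FTcore_facts (hM : IsCoatom M) : IsHall ⊤ (Fc M) ∧ IsHall ⊤ (typeCore M) ∧
    ∀ p P, p.Prime → Syl p (typeCore M) P → P ≠ ⊥ → N[P] ≤ M := by
  rw [def_FTcore hM]
  have h1 := (Msigma_Hall_G hM).isHall
  refine ⟨h1.trans ((Fc_isHall M).of_le (Fcore_sub_Msigma hM) (sigmaCore_le M)), h1,
    fun p P hp hP hP1 => ?_⟩
  have hs : p ∈ sigma M := sigmaCore_pi M p hp ((hP.pi.dvd_card hP1).trans (card_dvd hP.le))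
  exact norm_sigma_Sylow hs (Msigma_Sylow hM hs hP)

theorem exists_kappaCompl_I_II (hM : IsCoatom M)
    (hU : (IsOfTypeI M ∧ SD (Fc M) U M) ∨ (IsOfTypeII M ∧ SD (Fc M) U ⁅M, M⁆)) :
    Fc M = sigmaCore M ∧ ∃ K, KappaCompl M U K := by
  rcases hU with ⟨h1, hU⟩ | ⟨h2, hU⟩
  · have e := (typeCore_of_I h1).symm.trans (def_FTcore hM)
    exact ⟨e, ⊥, ((FTtype_Fmax hM).2 ((typeI_iff hM).1 h1)).kappaCompl
      ((e ▸ hU).hall_compl_right (Msigma_Hall hM))⟩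
  · have e := (typeCore_of_II h2).symm.trans (def_FTcore hM)
    obtain ⟨V, W, W₁, W₂, hP⟩ := typeII_witness h2
    obtain ⟨-, hV⟩ := (typePfacts hM hP.to24).2.2.2.2.resolve_left
      (FTtype_eq_two.1 ((typeII_iff hM).1 h2)).2
    obtain ⟨k, hk, rfl⟩ := H26.SchurZassenhaus_trans hP.sdHU hU hP.to24.coprimeU
      (Or.inl (Fc_nil M).sol)
    have := hV.cj k
    rw [cj_of_mem (Fcore_le M hk)] at this
    exact ⟨e, _, this⟩

/-- (8.12). -/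
theorem FTtypeI_II_facts (hM : IsCoatom M)
    (hU : (IsOfTypeI M ∧ SD (Fc M) U M) ∨ (IsOfTypeII M ∧ SD (Fc M) U ⁅M, M⁆)) :
    (∀ p P, p.Prime → Syl p U P → Abl P ∧ rank P ≤ 2) ∧
    (∀ X : Set G, X.Nonempty → X ⊆ shp U → Fc M ⊓ Subgroup.centralizer X ≠ ⊥ →
      UniqMax (Subgroup.centralizer X) M) ∧
    NTI ⊤ M (typeA M \ typeA1 M) := by
  obtain ⟨e, K, hK⟩ := exists_kappaCompl_I_II hM hU
  refine ⟨fun p P hp hP => BGsummaryB1 hM hK hp hP, fun X ⟨x, hx⟩ hX hC => ?_,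
    le_top, fun x hx => (typeA0_sub M (typeA_sub0 M hx.1)).1, fun g hg a ha =>
      ⟨typeA_norm M g hg a ha.1, fun h => ha.2 ?_⟩, fun a ha g _ hg => ?_⟩
  · rw [← Subgroup.centralizer_closure] at hC ⊢
    exact (kappa_structure_cent hM hK ((Subgroup.closure_le U).2 fun y hy => (hX hy).1)
      (ne_bot_of_mem (Subgroup.subset_closure hx) (hX hx).2) (e ▸ hC)).1
  · have := typeA1_norm M g⁻¹ (M.inv_mem hg) _ h
    rwa [show g⁻¹ * (g * a * g⁻¹) * g⁻¹⁻¹ = a by group] at this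
  · rw [typeA_eq hM, def_FTsupp hM hK, typeA1_sigma hM] at ha hg
    exact BGsummaryB5 hM hK ha.1.1 (fun h => ha.2 ⟨h, ha.1.2⟩) hg.1.1 fun h => hg.2 ⟨h, hg.1.2⟩

/-- (8.13)(a). -/
theorem FTsupp0_fusion (hM : IsCoatom M) {x g : G} (hx : x ∈ typeA0 M)
    (hg : g * x * g⁻¹ ∈ typeA0 M) : ∃ m ∈ M, m * x * m⁻¹ = g * x * g⁻¹ := by
  rw [typeA0_eq hM] at hx hg
  obtain ⟨m, hm, e⟩ := BGsummaryII_fusion hM hx hg
  exact ⟨m, hm, e.symm⟩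

/-- (8.13)(b), (c). -/
theorem FTsupport_facts (hM : IsCoatom M) {x : G} (hx : x ∈ typeA0 M) (hC : ¬ C{x} ≤ M) :
    x ∈ typeA1 M ∧ ∃ L, UniqMax C{x} L ∧ supportR M x = Fc L ⊓ C{x} ∧ SD (Fc L) (M ⊓ L) L ∧
      SD (Fc L ⊓ C{x}) (M ⊓ C{x}) C{x} ∧
      (∀ y ∈ typeA0 M, (Nat.card (Fc L)).Coprime (Nat.card ↥(M ⊓ C{y}))) ∧
      x ∈ typeA L ∧ x ∉ typeA1 L ∧ (IsOfTypeI L ∨ IsOfTypeII L) ∧
      (IsOfTypeII L → FrobK M (Fc M)) := by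
  rw [typeA0_eq hM] at hx ⊢
  obtain ⟨h1, h2, h3, h4, h5, h6, h7, h8⟩ := BGsummaryII hM hx hC
  have hL := h1.coatom
  refine ⟨typeA1_eq' hM ▸ BGsummaryII_sub hM hx hC, _, h1, supportR_of_uniq hC h1, h2, h6, h3,
    typeA_eq hL ▸ h4, typeA1_eq' hL ▸ h5, h7.imp (typeI_iff hL).2 (typeII_iff hL).2, fun h => ?_⟩
  obtain ⟨⟨E, hE, -⟩, -⟩ := h8 ((typeII_iff hL).1 h)
  exact ⟨E, hE⟩

theorem mmax_norm_set (hM : IsCoatom M) {A : Set G} (h1 : shp (Fc M) ⊆ A) (h2 : A ⊆ shp M)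
    (hn : ∀ g ∈ M, ∀ a ∈ A, g * a * g⁻¹ ∈ A) : Subgroup.normalizer A = M := by
  obtain ⟨x, hx, hx1⟩ := exists_ne_one (mmax_Fcore_neq1 hM)
  exact mmax_max hM (mFT_proper_of_norm (Subgroup.normalizer_le_normalizer_closure A)
    (ne_bot_of_mem (Subgroup.subset_closure (h1 ⟨hx, hx1⟩)) hx1)
    (sub_mmax_proper hM ((Subgroup.closure_le M).2 fun y hy => (h2 hy).1)))
    (H24.le_normalizer_of_conj_mem hn)

/-- (8.15). -/
theorem norm_FTsupp1 (hM : IsCoatom M) : Subgroup.normalizer (typeA1 M) = M :=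
  mmax_norm_set hM (Fc_sub_typeA1 hM) ((typeA1_sub0 hM).trans (typeA0_sub M)) (typeA1_norm M)
theorem norm_FTsupp (hM : IsCoatom M) : Subgroup.normalizer (typeA M) = M :=
  mmax_norm_set hM (Fc_sub_typeA hM) ((typeA_sub0 M).trans (typeA0_sub M)) (typeA_norm M)
theorem norm_FTsupp0 (hM : IsCoatom M) : Subgroup.normalizer (typeA0 M) = M :=
  mmax_norm_set hM (Fc_sub_typeA0 hM) (typeA0_sub M) (typeA0_norm M)

theorem FT_Dade0_hyp (hM : IsCoatom M) : DadeHypothesis (typeA0 M) M (supportR M) := by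
  have key : ∀ a ∈ typeA0 M, SD (supportR M a) (M ⊓ C{a}) C{a} ∧
      ∀ b ∈ typeA0 M, (♯(supportR M a)).Coprime ♯(M ⊓ C{b}) := fun a ha => by
    by_cases hC : C{a} ≤ M
    · rw [supportR_of_le hC, inf_eq_right.2 hC]
      exact ⟨SD.bot_left _, fun b _ => by simp⟩
    · obtain ⟨-, L, -, e, -, h1, h2, -⟩ := FTsupport_facts hM ha hC
      rw [e]
      exact ⟨h1, fun b hb => (h2 b hb).coprime_dvd_left (card_dvd inf_le_left)⟩
  exact ⟨fun h => (typeA0_sub M h).2 rfl, fun x hx => (typeA0_sub M hx).1, typeA0_norm M,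
    fun a ha g hg => FTsupp0_fusion hM ha hg, fun a _ => supportR_le_C1 M a,
    fun a ha c hc u hu => (key a ha).1.nml.conj_mem hc hu, fun a ha => (key a ha).1.inf,
    fun a ha => (key a ha).1.sup, fun a ha => (key a ha).2⟩

theorem Fc_shp_norm (M : Subgroup G) : ∀ g ∈ M, ∀ a ∈ shp (Fc M), g * a * g⁻¹ ∈ shp (Fc M) :=
  fun _ hg _ ha => ⟨(Fc_nml M).conj_mem hg ha.1, fun e => ha.2 (conj_eq_one_iff'.1 e)⟩

theorem FT_Dade_hyp (hM : IsCoatom M) : DadeHypothesis (typeA M) M (supportR M) :=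
  restr_Dade_hyp (FT_Dade0_hyp hM) (typeA_sub0 M) (typeA_norm M)
theorem FT_Dade1_hyp (hM : IsCoatom M) : DadeHypothesis (typeA1 M) M (supportR M) :=
  restr_Dade_hyp (FT_Dade0_hyp hM) (typeA1_sub0 hM) (typeA1_norm M)
theorem FT_DadeF_hyp (hM : IsCoatom M) : DadeHypothesis (shp (Fc M)) M (supportR M) :=
  restr_Dade_hyp (FT_Dade0_hyp hM) (Fc_sub_typeA0 hM) (Fc_shp_norm M)
theorem FT_DadeE (hM : IsCoatom M) {α : G → ℂ} (hα : α ∈ CFon M (typeA M)) :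
    tauA M α = tau0 M α := restr_DadeE (FT_Dade0_hyp hM) (typeA_sub0 M) (typeA_norm M) hα
theorem FT_Dade1E (hM : IsCoatom M) {α : G → ℂ} (hα : α ∈ CFon M (typeA1 M)) :
    tauA1 M α = tau0 M α := restr_DadeE (FT_Dade0_hyp hM) (typeA1_sub0 hM) (typeA1_norm M) hα
theorem FT_DadeFE (hM : IsCoatom M) {α : G → ℂ} (hα : α ∈ CFon M (shp (Fc M))) :
    tauF M α = tau0 M α := restr_DadeE (FT_Dade0_hyp hM) (Fc_sub_typeA0 hM) (Fc_shp_norm M) hα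

theorem tildeOf_cj (g : G) (M : Subgroup G) :
    tildeOf (cj g M) (typeA1 (cj g M)) = tildeOf M (typeA1 M) ∧
      tildeOf (cj g M) (typeA (cj g M)) = tildeOf M (typeA M) :=
  ⟨tildeOf_cj_of g fun _ => mem_typeA1_cj g, tildeOf_cj_of g fun _ => mem_typeA_cj g⟩

namespace TypeP
variable (h : TypeP M U W W₁ W₂)
include h

theorem of_II (hM : IsCoatom M) (h2 : IsOfTypeII M) :
    Type24 M U W W₁ W₂ ∧ Abl U ∧ ¬ N[U] ≤ M ∧ TypeF ⁅M, M⁆ U ∧ Fc ⁅M, M⁆ = Fc M :=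
  let h3 := (h.to24.typeII_iff hM).1 ((typeII_iff hM).1 h2)
  ⟨h.of_not_V hM (not_V_of_II h2), h3.abl, h3.not_norm, typeF_of24 h3.typeF, h3.core_eq⟩
theorem of_III (hM : IsCoatom M) (h3 : IsOfTypeIII M) : Type24 M U W W₁ W₂ ∧ Abl U ∧ N[U] ≤ M :=
  ⟨h.of_not_V hM (not_V_of_III h3), (h.III_iff.1 h3).2.2.2⟩
theorem of_IV (hM : IsCoatom M) (h4 : IsOfTypeIV M) : Type24 M U W W₁ W₂ ∧ ¬ Abl U ∧ N[U] ≤ M :=
  ⟨h.of_not_V hM (not_V_of_IV h4), (h.IV_iff.1 h4).2.2.2⟩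
theorem of_V (hM : IsCoatom M) (h5 : IsOfTypeV M) : U = ⊥ ∧ (NormedTI (shp (Fc M)) M ∨
    (∃ p ∈ primesOf (Fc M), Nat.card W₁ ∣ p - 1 ∧ Cyc O[{p}ᶜ, Fc M]) ∨
    (∃ p ∈ primesOf (Fc M), Nat.card O[{p}, Fc M] = p ^ 3 ∧ Nat.card W₁ ∣ p + 1 ∧
      Cyc O[{p}ᶜ, Fc M])) :=
  (h.V_iff.1 h5).imp_right (Or.imp_left (mmax_TI_iff hM (Fc_nml M) h.Fc_ne).2)

theorem prDade_of (hM : IsCoatom M) {H : Subgroup G} (hH : H ⊴ M) (h1 : Fc M ≤ H)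
    (h2 : H ≤ typeCore M) :
    PrimeDade M ⁅M, M⁆ H W W₁ W₂ (typeA M) (typeA0 M) (supportR M) :=
  ⟨h.cTI, h.prTI, hH, h.le2.trans h1, h2.trans h.core_le, typeA_norm M,
    fun y hy hy1 x hx hx1 e => by rw [h.typeA_def]; exact ⟨hx, hx1, y, h2 hy, hy1, e⟩,
    fun _ ha => h.typeA_sub ha, h.typeA0_def, FT_Dade0_hyp hM⟩

/-- MathComp `FT_prDade_hypF`. -/
theorem prDadeF (hM : IsCoatom M) :
    PrimeDade M ⁅M, M⁆ (Fc M) W W₁ W₂ (typeA M) (typeA0 M) (supportR M) :=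
  h.prDade_of hM (Fc_nml M) le_rfl h.Fc_le_core
/-- MathComp `FT_prDade_hyp`. -/
theorem prDade (hM : IsCoatom M) :
    PrimeDade M ⁅M, M⁆ (typeCore M) W W₁ W₂ (typeA M) (typeA0 M) (supportR M) :=
  h.prDade_of hM (typeCore_nml M) h.Fc_le_core le_rfl

theorem seqInd_nreal {S₁ : Finset (G → ℂ)} (hS : S₁ ⊆ seqIndD ⁅M, M⁆ M (typeCore M) ⊥) :
    ∀ χ ∈ S₁, conjC χ ≠ χ :=
  fun _ hχ => seqInd_conjC_ne (der1_nml M) (mFT_odd M) h.core_le (hS hχ)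

/-- MathComp `FTtypeP_subcoherent`, `FTtypeP_base_ortho`, `FTtypeP_base_TIred`. -/
theorem subcoherent (hM : IsCoatom M) :
    ∃ R₀, Subcoh M ⊤ (seqIndD ⁅M, M⁆ M (typeCore M) ⊥) (tau0 M) R₀ ∧
      (∀ φ ∈ seqIndD ⁅M, M⁆ M (typeCore M) ⊥, φ ∈ Irr M → ∀ α ∈ R₀ φ, ∀ ω ∈ Irr W,
        cfdot ⊤ α (eta W W₁ W₂ ω) = 0) ∧
      ∀ j ∈ irrK W W₁, R₀ (prRed M W W₁ W₂ j) = prRmu M W W₁ W₂ j :=
  (h.prDade hM).subcoherent (seqIndD_conjSub _ _ le_rfl le_rfl) (h.seqInd_nreal subset_rfl)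

theorem coherent_ortho_cycTIiso (hM : IsCoatom M) {S₁ : Finset (G → ℂ)}
    {τ₁ : (G → ℂ) →ₗ[ℂ] (G → ℂ)} (hS : ConjSub S₁ (seqIndD ⁅M, M⁆ M (typeCore M) ⊥))
    (hc : CohWith M ⊤ S₁ (tau0 M) τ₁) {χ ω : G → ℂ} (hχ : χ ∈ S₁) (hi : χ ∈ Irr M)
    (hω : ω ∈ Irr W) : cfdot ⊤ (τ₁ χ) (eta W W₁ W₂ ω) = 0 :=
  (h.prDade hM).coherent_ortho_eta hS (h.seqInd_nreal hS.sub) hc hχ hi hω

theorem coherent_TIred (hM : IsCoatom M) {S₁ : Finset (G → ℂ)}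
    {τ₁ : (G → ℂ) →ₗ[ℂ] (G → ℂ)} (hS : ConjSub S₁ (seqIndD ⁅M, M⁆ M (typeCore M) ⊥))
    (hc : CohWith M ⊤ S₁ (tau0 M) τ₁) {χ k : G → ℂ} (hχ : χ ∈ S₁) (hi : χ ∈ Irr M)
    (hk : k ∈ irrK W W₁) (hkS : prRed M W W₁ W₂ k ∈ S₁) :
    τ₁ (prRed M W W₁ W₂ k) = (prSign M W W₁ W₂ k : ℂ) • ∑ i ∈ irrK W W₂, eta W W₁ W₂ (i * k) ∨
      (τ₁ (prRed M W W₁ W₂ k) =
          -((prSign M W W₁ W₂ k : ℂ) • ∑ i ∈ irrK W W₂, eta W W₁ W₂ (i * conjC k)) ∧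
        ∀ l ∈ irrK W W₁, prRed M W W₁ W₂ l ∈ S₁ → prRed M W W₁ W₂ l 1 = prRed M W W₁ W₂ k 1 →
          l = k ∨ l = conjC k) :=
  (h.prDade hM).coherent_TIred hS (h.seqInd_nreal hS.sub) hχ hi hk hkS hc
end TypeP

/-- if all the centralisers of the elements of `A₀(M)` lie in `M` then `A₀(M)` is a TI-set. -/
theorem normedTI_typeA0_of_cent (hM : IsCoatom M) (hC : ∀ x ∈ typeA0 M, C{x} ≤ M) :
    NormedTI (typeA0 M) M ∧ NormedTI (typeA M) M ∧ NormedTI (typeA1 M) M := by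
  obtain ⟨z, hz, hz1⟩ := exists_ne_one (mmax_Fcore_neq1 hM)
  have h0 : NormedTI (typeA0 M) M := by
    refine ⟨⟨z, Fc_sub_typeA0 hM ⟨hz, hz1⟩⟩, (norm_FTsupp0 hM).ge, fun x hx g hg => ?_⟩
    obtain ⟨m, hm, e⟩ := FTsupp0_fusion hM hx hg
    have : m⁻¹ * g ∈ C{x} := mem_C1.2 (by
      calc m⁻¹ * g * x = m⁻¹ * (g * x * g⁻¹) * g := by group
        _ = x * (m⁻¹ * g) := by rw [← e]; group)
    exact (M.mul_mem_cancel_left (M.inv_mem hm)).1 (hC x hx this)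
  exact ⟨h0, h0.mono (typeA_sub0 M) ⟨z, Fc_sub_typeA hM ⟨hz, hz1⟩⟩ (norm_FTsupp hM).ge,
    h0.mono (typeA1_sub0 hM) ⟨z, Fc_sub_typeA1 hM ⟨hz, hz1⟩⟩ (norm_FTsupp1 hM).ge⟩

/-- (8.16). -/
theorem FTtypeII_ker_TI (hM : IsCoatom M) (h2 : IsOfTypeII M) :
    NormedTI (typeA0 M) M ∧ NormedTI (typeA M) M ∧ NormedTI (typeA1 M) M := by
  obtain ⟨U, W, W₁, W₂, hP⟩ := typeII_witness h2
  refine normedTI_typeA0_of_cent hM fun x hx => by_contra fun hC => hC ?_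
  have h1 := (FTsupport_facts hM hx hC).1
  rw [typeA1, typeCore_of_II h2] at h1
  exact (hP.of_II hM h2).1.ti.cent1_le ⟨Fc_le_Fit M h1.1, h1.2⟩
end oneMax

/-- (8.17)(a). -/
theorem FTcore_cover {p : ℕ} (hp : p.Prime) (hd : p ∣ Nat.card G) :
    ∃ M : Subgroup G, IsCoatom M ∧ p ∣ Nat.card (typeCore M) := by
  obtain ⟨M, hM, h⟩ := sigma_mmax_exists hp hd
  exact ⟨M, hM, def_FTcore hM ▸ sigma_dvd_Msigma hM h⟩

theorem FTcore_coprime {M L : Subgroup G} (hM : IsCoatom M) (hL : IsCoatom L) (h : ∀ g, L ≠ cj g M) :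
    (Nat.card (typeCore M)).Coprime (Nat.card (typeCore L)) := by
  rw [def_FTcore hM, def_FTcore hL]
  exact (sigmaCore_pi M).coprime ((sigmaCore_pi L).mono
    (sigma_partition hM hL h).subset_compl_left)

theorem tildeOf_typeA1 {M : Subgroup G} (hM : IsCoatom M) :
    tildeOf M (typeA1 M) = classSupp (sigmaCover M) ⊤ := by
  rw [typeA1_sigma hM, tildeOf_sigma hM]

/-- (8.17)(b). -/
theorem card_FT_Dade1_support {M : Subgroup G} (hM : IsCoatom M) :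
    (tildeOf M (typeA1 M)).ncard = (Nat.card (typeCore M) - 1) * M.index := by
  rw [tildeOf_typeA1 hM, card_class_support_sigma hM, def_FTcore hM]

/-- (8.17)(c). -/
theorem FT_Dade1_support_disjoint {S T : Subgroup G} (hS : IsCoatom S) (hT : IsCoatom T)
    (h : ∀ g, T ≠ cj g S) : Disjoint (tildeOf S (typeA1 S)) (tildeOf T (typeA1 T)) := by
  rw [tildeOf_typeA1 hS, tildeOf_typeA1 hT]
  exact sigma_support_disjoint hS hT h

theorem FT_Dade1_cover_typeI (h : ∀ M : Subgroup G, IsCoatom M → IsOfTypeI M) {g : G} (hg : g ≠ 1) :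
    ∃ M : Subgroup G, IsCoatom M ∧ g ∈ tildeOf M (typeA1 M) := by
  obtain ⟨M, hM, h1⟩ := mFT_partition_F
    (fun M hM => (FTtype_Fmax hM).2 ((typeI_iff hM).1 (h M hM))) hg
  exact ⟨M, hM, tildeOf_typeA1 hM ▸ subset_classSupp _ _ h1⟩

theorem FT_Dade1_cover_pair {S T W W₁ W₂ : Subgroup G} (h : TypePPair S T W W₁ W₂) :
    (∀ g : G, g ≠ 1 → g ∈ classSupp (cycV W W₁ W₂) ⊤ ∨
      ∃ M : Subgroup G, IsCoatom M ∧ g ∈ tildeOf M (typeA1 M)) ∧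
    ∀ M : Subgroup G, IsCoatom M → Disjoint (classSupp (cycV W W₁ W₂) ⊤) (tildeOf M (typeA1 M)) := by
  obtain ⟨U, hP⟩ := typeP_pairW h
  obtain ⟨h1, h2, h3, -⟩ := typePfacts h.maxS hP.to24
  rw [cycV_eq_Zhat hP.dp, ← h3]
  refine ⟨fun g hg => (mFT_partition_P h1 h2 hg).symm.imp_right fun ⟨M, hM, h4⟩ =>
    ⟨M, hM, tildeOf_typeA1 hM ▸ subset_classSupp _ _ h4⟩, fun M hM => ?_⟩
  rw [tildeOf_typeA1 hM]
  exact mFT_partition_disjoint h1 h2 hM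

theorem FT_support_a2 {S T : Subgroup G} (hS : IsCoatom S) (hT : IsCoatom T)
    (h : ∀ g, T ≠ cj g S) : ∀ x ∈ typeA1 S ∩ typeA T, ¬ C{x} ≤ S ∧ C{x} ≤ T := by
  rintro x ⟨h1, h2⟩
  obtain ⟨U, K, hK⟩ := kappa_witness hT
  rw [typeA1_sigma hS] at h1
  rw [typeA_eq hT, mem_FTsupp', def_FTder hT hK, H24.def_FTcore hT] at h2
  have hx : IsPi (sigma T)ᶜ (Subgroup.zpowers x) :=
    (((sigmaCore_pi S).piElt h1.1).mono (sigma_partition hS hT h).subset_compl_right).isPi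
  obtain ⟨k, hk, hle⟩ := H26.SchurZassenhaus_subJ (kappa_structure hT hK).1.norm
    (Subgroup.zpowers_le.2 h2.1) ((sigmaCore_pi T).coprime hx) (Or.inl (Msigma_sol hT))
  have hK' := hK.cj k
  rw [cj_of_mem (sigmaCore_le T hk)] at hK'
  have hu := (kappa_structure_cent hT hK' hle (by rw [Ne, Subgroup.zpowers_eq_bot]; exact h1.2)
    (by rw [C_zpowers]; exact h2.2.2)).1
  rw [C_zpowers] at hu
  exact ⟨fun hC => h 1 (by rw [cj_one, hu.uniq S hS hC]), hu.le⟩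

theorem FT_support_a1 {S T : Subgroup G} (hS : IsCoatom S) (hT : IsCoatom T)
    (h : ∀ g, T ≠ cj g S) : FTsupports S T ↔ (typeA1 S ∩ typeA T).Nonempty := by
  refine ⟨fun ⟨x, hx, h1, h2⟩ => ?_, fun ⟨x, hx⟩ =>
    ⟨x, typeA1_sub hS hx.1, FT_support_a2 hS hT h x hx⟩⟩
  obtain ⟨h3, L, hL, -, -, -, -, h4, -⟩ := FTsupport_facts hS (typeA_sub0 S hx) h1
  exact ⟨x, h3, hL.uniq T hT h2 ▸ h4⟩

omit [Finite G] [FT G] in
theorem nconj_cj {S T : Subgroup G} (h : ∀ g, T ≠ cj g S) (x : G) : ∀ g, cj x T ≠ cj g S :=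
  NConj.cj_right h x

theorem FT_support_b {S T : Subgroup G} (hS : IsCoatom S) (hT : IsCoatom T)
    (h : ∀ g, T ≠ cj g S) :
    (∃ g, FTsupports S (cj g T)) ↔ (tildeOf S (typeA1 S) ∩ tildeOf T (typeA T)).Nonempty := by
  refine ⟨fun ⟨g, hg⟩ => ?_, fun ⟨y, hy1, x₂, hx₂, r, hr, g, e⟩ => ?_⟩
  · obtain ⟨x, h1, h2⟩ := (FT_support_a1 hS (isCoatom_cj hT g) (nconj_cj h g)).1 hg
    rw [← (tildeOf_cj g T).2, tildeOf_eq, tildeOf_eq]
    exact ⟨x, subset_dadeSupp _ _ h1, subset_dadeSupp _ _ h2⟩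
  by_cases hC : C{x₂} ≤ T
  swap
  · exact absurd ⟨x₂, (FTsupport_facts hT (typeA_sub0 T hx₂) hC).1, r, hr, g, e⟩
      (Set.disjoint_left.1 (FT_Dade1_support_disjoint hS hT h) hy1)
  rw [supportR_of_le hC, Subgroup.mem_bot] at hr
  obtain ⟨x₁, hx₁, s, hs, g', e'⟩ := hy1
  have hD := FT_Dade1_hyp hS
  have h1 : x₁ ∈ Subgroup.zpowers (x₁ * s) :=
    mem_zpowers_mul_left (mem_C1.1 (hD.le_centralizer x₁ hx₁ hs)).symm
      (((hD.coprime x₁ hx₁ x₁ hx₁).coprime_dvd_left (Subgroup.orderOf_dvd_natCard _ hs)).coprime_dvd_right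
        (Subgroup.orderOf_dvd_natCard _ (Subgroup.mem_inf.2 ⟨hD.subset hx₁, mem_C1.2 rfl⟩))).symm
  have e2 : x₁ * s = (g'⁻¹ * g) * x₂ * (g'⁻¹ * g)⁻¹ := by
    rw [hr, mul_one, e'] at e
    calc x₁ * s = g'⁻¹ * (g' * (x₁ * s) * g'⁻¹) * g' := by group
      _ = _ := by rw [e]; group
  exact ⟨g'⁻¹ * g, (FT_support_a1 hS (isCoatom_cj hT _) (nconj_cj h _)).2 ⟨x₁, hx₁,
    typeA_of_mem_zpowers ((mem_typeA_cj _).2 hx₂) (e2 ▸ h1) hx₁.2⟩⟩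

/-- (8.18). -/
theorem FT_Dade_support_disjoint {S T : Subgroup G} (hS : IsCoatom S) (hT : IsCoatom T)
    (h : ∀ g, T ≠ cj g S) :
    (FTsupports S T ↔ (typeA1 S ∩ typeA T).Nonempty) ∧
    (∀ x ∈ typeA1 S ∩ typeA T, ¬ C{x} ≤ S ∧ C{x} ≤ T) ∧
    ((∃ g, FTsupports S (cj g T)) ↔ (tildeOf S (typeA1 S) ∩ tildeOf T (typeA T)).Nonempty) ∧
    (Disjoint (tildeOf S (typeA1 S)) (tildeOf T (typeA T)) ∨
      Disjoint (tildeOf T (typeA1 T)) (tildeOf S (typeA S))) := by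
  refine ⟨FT_support_a1 hS hT h, FT_support_a2 hS hT h, FT_support_b hS hT h, ?_⟩
  have h' : ∀ g, S ≠ cj g T := NConj.symm h
  rw [← Set.not_nonempty_iff_eq_empty.trans Set.disjoint_iff_inter_eq_empty.symm,
    ← Set.not_nonempty_iff_eq_empty.trans Set.disjoint_iff_inter_eq_empty.symm,
    ← FT_support_b hS hT h, ← FT_support_b hT hS h', ← not_and_or]
  rintro ⟨⟨g, y, hy, h1, h2⟩, g', h3⟩
  obtain ⟨z, hz1, hz2⟩ := (FT_support_a1 hT (isCoatom_cj hS g') (nconj_cj h' g')).1 h3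
  obtain ⟨-, L, hL, -, -, -, h4, -, -, h5, -⟩ := FTsupport_facts hS (typeA_sub0 S hy) h1
  rw [← hL.uniq _ (isCoatom_cj hT g) h2] at h4 h5
  rw [typeI_cj, typeII_cj] at h5
  rw [typeA1, h5.elim typeCore_of_I typeCore_of_II] at hz1
  obtain ⟨z, rfl⟩ : ∃ w, z = g' * w * g'⁻¹ := ⟨g'⁻¹ * z * g', by group⟩
  rw [mem_typeA_cj] at hz2
  have h6 := h4 z (typeA_sub0 S hz2)
  rw [Fc_cj, card_cj] at h6
  have h7 : orderOf z ∣ ♯(Fc T) := 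
    (MulAut.conj g').orderOf_eq z ▸ Subgroup.orderOf_dvd_natCard _ hz1.1
  have h8 : orderOf z ∣ ♯(S ⊓ C{z}) := Subgroup.orderOf_dvd_natCard _
    (Subgroup.mem_inf.2 ⟨(typeA0_sub S (typeA_sub0 S hz2)).1, mem_C1.2 rfl⟩)
  exact (typeA0_sub S (typeA_sub0 S hz2)).2
    (orderOf_eq_one_iff.1 (Nat.eq_one_of_dvd_coprimes h6 h7 h8))

end H27
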