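import Mathlib
import Cfsg.Agent.H27.Defs2
import Cfsg.Agent.H21.FieldCoord
import Cfsg.Agent.H27.Morph
import Cfsg.Agent.H1.Wielandt
import Cfsg.Agent.H26.Abelem
import Cfsg.Agent.H24.Base5
import Cfsg.Agent.H25.Rank

/-!
# Peterfalvi §9, part a: the abstract setting, (9.6), (9.7)(a)
-/

set_option autoImplicit false
set_option linter.unusedSectionVars false
set_option linter.unusedVariables false

namespace H27.PF9

open Cfsg H24 Subgroup
open scoped commutatorElement IsMulCommutative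

universe u v

variable {Γ : Type u} [Group Γ] [Finite Γ]

/-- the group theoretic setting of (9.5). -/
structure Ctx (M K H U W₁ W₂ H₀ C : Subgroup Γ) (p : ℕ) : Prop where
  sdM : SD K W₁ M
  sdK : SD H U K
  nmlH : H ⊴ M
  normU : W₁ ≤ N[U]
  reg : Semireg U W₁
  neU : U ≠ ⊥
  prime : (♯W₁).Prime
  cop : (♯H).Coprime ♯(U ⊔ W₁)
  odd : Odd ♯M
  sol : Sol M
  chief : Chief M H₀ H
  centU : H ⊓ C[U] ≤ H₀
  pp : p.Prime
  elem : IsElementaryAbelian p (quo H H₀)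
  defC : C = U ⊓ centQ H H₀
  derU : ⁅U, U⁆ ≤ C[H]
  cent1 : H ⊓ C[W₁] = W₂
  cyc2 : Cyc W₂

variable {M K H U W₁ W₂ H₀ C X Y : Subgroup Γ} {p : ℕ}

theorem comm_le_iff' {A B L : Subgroup Γ} : ⁅A, B⁆ ≤ L ↔ ∀ a ∈ A, ∀ b ∈ B, ⁅a, b⁆ ∈ L :=
  Subgroup.commutator_le

theorem norm_of_comm_le {A B L : Subgroup Γ} (h : ⁅A, B⁆ ≤ L) (hL : L ≤ B) : A ≤ N[B] :=
  norm_of_comm_le_right (h.trans hL)

theorem norm_sup_of_comm {A : Subgroup Γ} (hY : A ≤ N[Y]) (hX : ⁅A, X⁆ ≤ Y ⊔ X) :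
    A ≤ N[Y ⊔ X] := by
  intro a ha
  refine mem_N_of_cj_le ?_
  rw [cj_sup]
  refine sup_le ((cj_of_mem_N (hY ha)).le.trans le_sup_left) ?_
  intro y hy
  obtain ⟨x, hx, rfl⟩ := mem_cj'.1 hy
  have h1 : ⁅a, x⁆ ∈ Y ⊔ X := hX (commutator_mem_commutator ha hx)
  have : a * x * a⁻¹ = ⁅a, x⁆ * x := by rw [commutatorElement_def]; group
  rw [this]
  exact mul_mem h1 (mem_sup_right hx)

theorem comm_sup_le {A B D L : Subgroup Γ} (hA : A ≤ N[L]) (hB : B ≤ N[L]) (hD : D ≤ N[L])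
    (h1 : ⁅A, D⁆ ≤ L) (h2 : ⁅B, D⁆ ≤ L) : ⁅A ⊔ B, D⁆ ≤ L := by
  rw [← quo_cents (sup_le hA hB) hD, quo_sup hA hB]
  exact sup_le ((quo_cents hA hD).2 h1) ((quo_cents hB hD).2 h2)

theorem comm_iSup_le {ι : Type*} {A : ι → Subgroup Γ} {D L : Subgroup Γ} (hA : ∀ i, A i ≤ N[L])
    (hD : D ≤ N[L]) (h1 : ∀ i, ⁅A i, D⁆ ≤ L) : ⁅⨆ i, A i, D⁆ ≤ L :=
  ((le_centQ hD).1 (iSup_le fun i => (le_centQ hD).2 ⟨hA i, h1 i⟩)).2

theorem der_sup_le {A B L : Subgroup Γ} (hn : B ≤ N[A]) (h1 : ⁅A, A⁆ ≤ L) (h2 : ⁅A, B⁆ ≤ L)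
    (h3 : ⁅B, B⁆ ≤ L) : ⁅A ⊔ B, A ⊔ B⁆ ≤ L := by
  rw [der1_sup hn]; exact sup_le (sup_le h1 h2) h3

/-- a join of minimal invariant subgroups of an abelian group. -/
theorem card_sup_min {ι : Type*} [DecidableEq ι] {V A : Subgroup Γ} (hV : Abl V)
    {B : ι → Subgroup Γ} (hB : ∀ i, B i ≤ V) (hm : ∀ i, MinNml (B i) A) {n : ℕ}
    (hn : ∀ i, ♯(B i) = n) (s : Finset ι) : ∃ k ≤ s.card, ♯(⨆ i ∈ s, B i) = n ^ k := by
  induction s using Finset.induction_on with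
  | empty => exact ⟨0, le_rfl, by simp⟩
  | insert i s hi ih =>
    obtain ⟨k, hk, e⟩ := ih
    rw [Finset.iSup_insert, Finset.card_insert_of_notMem hi]
    have hS : A ≤ N[⨆ j ∈ s, B j] := norm_iSup fun j => norm_iSup fun _ => (hm j).norm
    rcases (hm i).inf_eq_or hS with h | h
    · refine ⟨k + 1, by omega, ?_⟩
      rw [card_sup_of_inf (hV.norm (iSup₂_le fun j _ => hB j) (hB i)) h, e, hn, pow_succ']
    · exact ⟨k, by omega, by rw [sup_eq_right.2 h, e]⟩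

theorem exists_hom_zmod {A : Type*} [Group A] [Finite A] [IsCyclic A] (f : U →* A) :
    ∃ φ : U →* Multiplicative (ZMod f.ker.index), φ.ker = f.ker := by
  have hc : Nat.card f.range = Nat.card (Multiplicative (ZMod f.ker.index)) := by
    rw [Subgroup.index_ker, Nat.card_congr Multiplicative.toAdd, Nat.card_zmod]
  let e : f.range ≃* Multiplicative (ZMod f.ker.index) := mulEquivOfCyclicCardEq hc
  refine ⟨(e : f.range →* _).comp f.rangeRestrict, ?_⟩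
  rw [← MonoidHom.comap_ker, MonoidHom.ker_eq_bot_iff _ |>.2 e.injective]
  exact f.ker_rangeRestrict

theorem cyc_quo_of_hom {A : Type*} [Group A] [IsCyclic A] (f : U →* A) (hX : X ⊴ U)
    (hf : f.ker = X.subgroupOf U) : Cyc (quo U X) := by
  have := hX.normal
  have e1 := quoEquivQuotient (A := U) (K := X) hX.norm
  have e2 : (U ⧸ X.subgroupOf U) ≃* f.range :=
    (QuotientGroup.quotientMulEquivOfEq hf.symm).trans (QuotientGroup.quotientKerEquivRange f)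
  exact isCyclic_of_surjective (e2.symm.trans e1) (e2.symm.trans e1).surjective

namespace Ctx
variable (c : Ctx M K H U W₁ W₂ H₀ C p)
include c

theorem leK : K ≤ M := c.sdM.left_le
theorem le1 : W₁ ≤ M := c.sdM.right_le
theorem nmlK : K ⊴ M := c.sdM.nml
theorem HK : H ≤ K := c.sdK.left_le
theorem UK : U ≤ K := c.sdK.right_le
theorem HM : H ≤ M := c.nmlH.le
theorem UM : U ≤ M := c.UK.trans c.leK
theorem UWM : U ⊔ W₁ ≤ M := sup_le c.UM c.le1
theorem nml0 : H₀ ⊴ M := c.chief.nmlV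
theorem le0 : H₀ ≤ H := c.chief.le
theorem lt0 : H₀ < H := c.chief.lt
theorem not_le0 : ¬ H ≤ H₀ := not_le_of_gt c.lt0
theorem nml0H : H₀ ⊴ H := c.chief.nml
theorem nml0K : H₀ ⊴ K := c.nml0.of_le (c.le0.trans c.HK) c.leK
theorem nmlHK : H ⊴ K := c.sdK.nml
theorem N0 (h : X ≤ M) : X ≤ N[H₀] := h.trans c.nml0.norm
theorem NH (h : X ≤ M) : X ≤ N[H] := h.trans c.nmlH.norm
theorem NK (h : X ≤ M) : X ≤ N[K] := h.trans c.nmlK.norm
theorem ne1 : W₁ ≠ ⊥ := ne_bot_of_prime c.prime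
theorem frob : Frob (U ⊔ W₁) U W₁ := Frob.mk' c.normU c.neU c.ne1 c.reg
theorem oddOf (h : X ≤ M) : Odd ♯X := odd_of_le c.odd h
theorem solOf (h : X ≤ M) : Sol X := c.sol.of_le h
theorem supM : H ⊔ (U ⊔ W₁) = M := by rw [← sup_assoc, c.sdK.sup, c.sdM.sup]
theorem isProdM : IsProd H (U ⊔ W₁) M := by
  have := isProd_sup (c.NH c.UWM); rwa [c.supM] at this
theorem copU : (♯H).Coprime ♯U := c.cop.coprime_dvd_right (card_dvd le_sup_left)
theorem cop1 : (♯H).Coprime ♯W₁ := c.cop.coprime_dvd_right (card_dvd le_sup_right)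
theorem copK : (♯K).Coprime ♯W₁ := by
  rw [c.sdK.card]; exact Nat.Coprime.mul_left c.cop1 c.frob.coprime
theorem idxK : K.relIndex M = ♯W₁ := c.sdM.relIndex_left
theorem three_le_q : 3 ≤ ♯W₁ := by
  have h2 := c.prime.two_le
  have := c.oddOf c.le1
  rcases this with ⟨k, hk⟩; omega

theorem derH : ⁅H, H⁆ ≤ H₀ := ((elem_quo_iff (c.N0 c.HM)).1 c.elem).1
theorem powH {x : Γ} (hx : x ∈ H) : x ^ p ∈ H₀ := ((elem_quo_iff (c.N0 c.HM)).1 c.elem).2 x hx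
theorem normH_of (h0 : H₀ ≤ X) (hX : X ≤ H) : H ≤ N[X] := norm_of_der1_le (c.derH.trans h0) hX

theorem le_C : X ≤ C ↔ X ≤ U ∧ ⁅X, H⁆ ≤ H₀ := by
  rw [c.defC, le_inf_iff, le_centQ (c.N0 c.HM)]
  exact ⟨fun h => ⟨h.1, h.2.2⟩, fun h => ⟨h.1, c.N0 (h.1.trans c.UM), h.2⟩⟩
theorem mem_C {x : Γ} : x ∈ C ↔ x ∈ U ∧ ∀ h ∈ H, ⁅x, h⁆ ∈ H₀ := by
  rw [c.defC, mem_inf, mem_centQ (c.N0 c.HM)]
  exact ⟨fun h => ⟨h.1, h.2.2⟩, fun h => ⟨h.1, c.nml0.norm (c.UM h.1), h.2⟩⟩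
theorem CU : C ≤ U := (c.le_C.1 le_rfl).1
theorem CM : C ≤ M := c.CU.trans c.UM
theorem commC : ⁅C, H⁆ ≤ H₀ := (c.le_C.1 le_rfl).2
theorem commC' : ⁅H, C⁆ ≤ H₀ := by rw [H24.commC]; exact c.commC
theorem cent_le_C : U ⊓ C[H] ≤ C :=
  c.le_C.2 ⟨inf_le_left, by rw [comm_eq_bot.2 inf_le_right]; exact bot_le⟩
theorem derU_le : ⁅U, U⁆ ≤ C := (le_inf (der1_le U) c.derU).trans c.cent_le_C
theorem normUW : U ⊔ W₁ ≤ N[U] := sup_le (norm_self U) c.normU
theorem normC : U ⊔ W₁ ≤ N[C] := by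
  rw [c.defC]; exact norm_inf c.normUW (norm_centQ (c.NH c.UWM) (c.N0 c.UWM))
theorem nmlC : C ⊴ U ⊔ W₁ := ⟨c.CU.trans le_sup_left, c.normC⟩
theorem nmlCU : C ⊴ U := c.nmlC.of_le c.CU le_sup_left
theorem normU_of (h : C ≤ X) (hX : X ≤ U) : U ≤ N[X] := norm_of_der1_le (c.derU_le.trans h) hX

theorem nml_of (hX : X ≤ M) (h1 : H ≤ N[X]) (h2 : U ⊔ W₁ ≤ N[X]) : X ⊴ M :=
  ⟨hX, by rw [← c.supM]; exact sup_le h1 h2⟩
theorem nmlK_of (hX : X ≤ K) (h1 : H ≤ N[X]) (h2 : U ≤ N[X]) : X ⊴ K :=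
  ⟨hX, by rw [← c.sdK.sup]; exact sup_le h1 h2⟩
theorem nml0_sup (hX : X ≤ C) (hn : U ⊔ W₁ ≤ N[X]) : H₀ ⊔ X ⊴ M :=
  c.nml_of (sup_le c.nml0.le (hX.trans c.CM))
    (norm_sup_of_comm c.nml0H.norm (((comm_mono_right hX).trans c.commC').trans le_sup_left))
    (norm_sup (c.N0 c.UWM) hn)
theorem nmlH_sup (hX : X ≤ U) (hn : U ⊔ W₁ ≤ N[X]) : H ⊔ X ⊴ M :=
  c.nml_of (sup_le c.HM (hX.trans c.UM)) (norm_of_le le_sup_left) (norm_sup (c.NH c.UWM) hn)
theorem nmlH_supK (h : C ≤ X) (hX : X ≤ U) : H ⊔ X ⊴ K :=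
  c.nmlK_of (sup_le c.HK (hX.trans c.UK)) (norm_of_le le_sup_left)
    (norm_sup (c.NH c.UM) (c.normU_of h hX))
theorem nml0C : H₀ ⊔ C ⊴ M := c.nml0_sup le_rfl c.normC
theorem nmlHC : H ⊔ C ⊴ M := c.nmlH_sup c.CU c.normC
theorem nml0U' : H₀ ⊔ ⁅U, U⁆ ⊴ M := c.nml0_sup c.derU_le (norm_der1 c.normUW)
theorem nml0C' : H₀ ⊔ ⁅C, C⁆ ⊴ M := c.nml0_sup (der1_le C) (norm_der1 c.normC)
theorem HCK : H ⊔ C ≤ K := sup_le c.HK (c.CU.trans c.UK)
theorem HXK (hX : X ≤ U) : H ⊔ X ≤ K := sup_le c.HK (hX.trans c.UK)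
theorem der_HC : ⁅H ⊔ C, H ⊔ C⁆ ≤ H₀ ⊔ ⁅C, C⁆ :=
  der_sup_le (c.NH c.CM) (c.derH.trans le_sup_left) (c.commC'.trans le_sup_left) le_sup_right

/-- `(Y X) ∩ H = Y` for `Y ≤ H`, `X ≤ U`. -/
theorem sup_inf_H (hY : Y ≤ H) (hX : X ≤ U) (hn : X ≤ N[Y]) : (Y ⊔ X) ⊓ H = Y := by
  have : X ⊓ H = ⊥ := eq_bot_of_le c.sdK.inf (le_inf inf_le_right (inf_le_left.trans hX))
  rw [← group_modl hn hY, this, sup_bot_eq]
theorem card_sup (hY : Y ≤ H) (hX : X ≤ U) (hn : X ≤ N[Y]) : ♯(Y ⊔ X) = ♯Y * ♯X :=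
  card_sup_of_inf hn (eq_bot_of_le c.sdK.inf (inf_le_inf hY hX))
theorem idx_sup {Y' X' : Subgroup Γ} (hY : Y ≤ Y') (hY' : Y' ≤ H) (hX : X ≤ X') (hX' : X' ≤ U)
    (hn : X ≤ N[Y]) (hn' : X' ≤ N[Y']) :
    (Y ⊔ X).relIndex (Y' ⊔ X') = Y.relIndex Y' * X.relIndex X' := by
  have h1 := card_mul_relIndex (sup_le_sup hY hX)
  rw [c.card_sup (hY.trans hY') (hX.trans hX') hn, c.card_sup hY' hX' hn',
    ← card_mul_relIndex hY, ← card_mul_relIndex hX] at h1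
  refine Nat.eq_of_mul_eq_mul_left (Nat.mul_pos (card_pos Y) (card_pos X)) ?_
  rw [h1]; ring
theorem idx_HX (hX : X ≤ U) : (H ⊔ X).relIndex K = X.relIndex U := by
  rw [← c.sdK.sup, c.idx_sup le_rfl le_rfl hX le_rfl (c.NH (hX.trans c.UM)) (c.NH c.UM),
    relIndex_self, one_mul]
theorem idx_HXM (hX : X ≤ U) : (H ⊔ X).relIndex M = ♯W₁ * X.relIndex U := by
  rw [← relIndex_mul_relIndex (H ⊔ X) K M (c.HXK hX) c.leK, c.idx_HX hX, c.idxK, mul_comm]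

/-- subgroups between `H₀` and `H` normalised by `U W₁`. -/
theorem eq_or (h0 : H₀ ≤ X) (hX : X ≤ H) (hn : U ⊔ W₁ ≤ N[X]) : X = H₀ ∨ X = H :=
  c.chief.max X h0 hX (c.nml_of (hX.trans c.HM) (c.normH_of h0 hX) hn).norm

theorem quo_centU : quo H H₀ ⊓ C[quo U H₀] = ⊥ := by
  rw [← coprime_quo_cent c.le0 (c.N0 c.UM) (c.copU.coprime_dvd_left (card_dvd c.le0))
    (c.solOf c.nml0.le)]
  exact quo_eq_bot_of_le c.centU

theorem quo_cent1 : quo H H₀ ⊓ C[quo W₁ H₀] = quo W₂ H₀ := by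
  rw [← coprime_quo_cent c.le0 (c.N0 c.le1) (c.cop1.coprime_dvd_left (card_dvd c.le0))
    (c.solOf c.nml0.le), c.cent1]

/-- `U` centralises no nontrivial section `Y / H₀`. -/
theorem le0_of_comm (hY : Y ≤ H) (h : ⁅U, Y⁆ ≤ H₀) : Y ≤ H₀ := by
  have hYN := c.N0 (hY.trans c.HM)
  rw [← quo_eq_bot hYN]
  refine eq_bot_of_le c.quo_centU (le_inf (quo_mono _ hY) (cents_symm ?_))
  exact (quo_cents (c.N0 c.UM) hYN).2 h

theorem C_ne : C ≠ U := fun h =>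
  c.not_le0 (c.le0_of_comm le_rfl (by have := c.commC; rwa [h] at this))

theorem W2H : W₂ ≤ H := c.cent1 ▸ inf_le_left

theorem inf0 (hX : X ≤ U ⊔ W₁) : H₀ ⊓ X = ⊥ :=
  eq_bot_of_le (inf_eq_bot_of_cop c.cop) (inf_le_inf c.le0 hX)

theorem card_quo_eq (hX : X ≤ U ⊔ W₁) : ♯(quo X H₀) = ♯X :=
  card_quo_of_inf (c.N0 (hX.trans c.UWM)) (c.inf0 hX)

/-- (9.6). -/
theorem idx_facts : H₀.relIndex W₂ = p ∧ H₀.relIndex H = p ^ ♯W₁ := by
  have hF : Frob (quo (U ⊔ W₁) H₀) (quo U H₀) (quo W₁ H₀) := by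
    refine ⟨c.frob.sd.quo_of_coprime (c.N0 c.UWM) c.frob.coprime, ?_, ?_, ?_⟩
    · rw [Ne, ← card_eq_one', c.card_quo_eq le_sup_left, card_eq_one']; exact c.neU
    · rw [Ne, ← card_eq_one', c.card_quo_eq le_sup_right, card_eq_one']; exact c.ne1
    · exact c.reg.quo_of_coprime c.normU (c.N0 c.le1) (c.N0 c.UM)
        (c.cop1.coprime_dvd_left (card_dvd c.le0))
  have hW := (H1.Frobenius_Wielandt_fixpoint hF (quo_norm _ (c.NH c.UWM))
    (coprime_quo c.cop _) ((c.solOf c.HM).quo _)).2.2 c.quo_centU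
  rw [c.quo_cent1, c.card_quo_eq le_sup_right, card_quo (c.N0 c.HM),
    card_quo (c.N0 (c.W2H.trans c.HM))] at hW
  have hd : ♯(quo W₂ H₀) ∣ p := H25.Cfsg.IsElementaryAbelian.card_dvd_of_cyc
    (H25.Cfsg.IsElementaryAbelian.mono c.elem (quo_mono _ c.W2H)) (c.cyc2.quo _)
  rw [card_quo (c.N0 (c.W2H.trans c.HM))] at hd
  rcases (Nat.dvd_prime c.pp).1 hd with h | h
  · rw [h, one_pow, relIndex_eq_one] at hW
    exact absurd hW c.not_le0
  · exact ⟨h, by rw [hW, h]⟩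

theorem idx0 : H₀.relIndex H = p ^ ♯W₁ := c.idx_facts.2
theorem not_W2_le : ¬ W₂ ≤ H₀ := fun h => by
  have := c.idx_facts.1; rw [relIndex_eq_one.2 h] at this; exact c.pp.one_lt.ne this
theorem p_dvd : p ∣ ♯H :=
  ((dvd_pow_self p c.prime.ne_zero).trans c.idx0.symm.dvd).trans (relIndex_dvd_card _ _)
theorem p_odd : Odd p := (c.oddOf c.HM).of_dvd_nat c.p_dvd
theorem frobC : Frob (quo (U ⊔ W₁) C) (quo U C) (quo W₁ C) :=
  c.frob.quo c.nmlC (lt_of_le_of_ne c.CU c.C_ne)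

/-- an element of `U` fixed by `w ≠ 1` modulo `C` lies in `C`. -/
theorem mem_C_of_fix {w x : Γ} (hw : w ∈ W₁) (h1 : w ≠ 1) (hx : x ∈ U)
    (h : x⁻¹ * (w * x * w⁻¹) ∈ C) : x ∈ C := by
  have hwC : w ∈ N[C] := c.normC (mem_sup_right hw)
  have hxC : x ∈ N[C] := c.nmlCU.norm hx
  have hb := quo_inf_C1_eq_bot (c.normU hw) hwC c.nmlCU (c.reg w hw h1)
  rw [← cs_eq_one hxC, ← mem_bot, ← hb]
  refine ⟨cs_mem_quo hx hxC, mem_C1_comm.1 (mem_C1_iff_conj.2 ?_)⟩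
  have e : cs C (w * x * w⁻¹) = cs C w * cs C x * (cs C w)⁻¹ := ap_conj _ hwC hxC
  rw [← e]
  exact ((cs_eq_cs hxC (mul_mem (mul_mem hwC hxC) (inv_mem hwC))).2 h).symm

end Ctx

/-- the conclusion of (9.7)(a). -/
structure NG (H U W₁ H₀ C H₁ : Subgroup Γ) (p a : ℕ) : Prop where
  le0 : H₀ ≤ H₁
  leH : H₁ ≤ H
  card : H₀.relIndex H₁ = p
  norm : U ≤ N[H₁]
  indep : iSupIndep (fun w : W₁ => quo (cj (w : Γ) H₁) H₀)
  sup : ⨆ w : W₁, cj (w : Γ) H₁ = H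
  defa : a = (U ⊓ centQ H₁ H₀).relIndex U
  one_lt : 1 < a
  dvd : a ∣ p - 1
  cyc : Cyc (quo U (U ⊓ centQ H₁ H₀))
  emb : ∃ f : U →* Multiplicative (Fin (Nat.card W₁ - 1) → ZMod a), ∀ x : U, f x = 1 ↔ (x : Γ) ∈ C

namespace Ctx
variable (c : Ctx M K H U W₁ W₂ H₀ C p)
include c

theorem cj0 {g : Γ} (hg : g ∈ M) : cj g H₀ = H₀ := cj_of_mem_N (c.nml0.norm hg)
theorem cjH {g : Γ} (hg : g ∈ M) : cj g H = H := cj_of_mem_N (c.nmlH.norm hg)
theorem cjU {g : Γ} (hg : g ∈ W₁) : cj g U = U := cj_of_mem_N (c.normU hg)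
theorem le0_cj {g : Γ} (hg : g ∈ M) (h : H₀ ≤ X) : H₀ ≤ cj g X := by
  have := cj_mono g h; rwa [c.cj0 hg] at this
theorem cj_leH {g : Γ} (hg : g ∈ M) (h : X ≤ H) : cj g X ≤ H := cj_le_of_mem_N h (c.nmlH.norm hg)
theorem normU_cj {g : Γ} (hg : g ∈ W₁) (h : U ≤ N[X]) : U ≤ N[cj g X] := by
  have := norm_cj h g; rwa [c.cjU hg] at this
theorem idx_cj {g : Γ} (hg : g ∈ M) (X : Subgroup Γ) : H₀.relIndex (cj g X) = H₀.relIndex X := by
  have := relIndex_cj g H₀ X; rwa [c.cj0 hg] at this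

theorem norm_iSup_cj (X : Subgroup Γ) : W₁ ≤ N[⨆ w : W₁, cj (w : Γ) X] := by
  intro g hg
  refine mem_N_of_le_cj (iSup_le fun w => le_cj_iff.2 ?_)
  rw [← cj_mul]
  exact le_iSup_of_le (⟨g⁻¹ * w, mul_mem (inv_mem hg) w.2⟩ : W₁) le_rfl

/-- an element of `U` all of whose `W₁`-conjugates centralise `H₁ / H₀` lies in `C`. -/
theorem mem_C_of_forall {H₁ : Subgroup Γ} (h1 : H₁ ≤ H) (hs : ⨆ w : W₁, cj (w : Γ) H₁ = H)
    {x : Γ} (hx : x ∈ U) (h : ∀ w ∈ W₁, w⁻¹ * x * w ∈ centQ H₁ H₀) : x ∈ C := by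
  rw [← zpowers_le, c.le_C]
  refine ⟨zpowers_le.2 hx, ?_⟩
  have hxN : zpowers x ≤ N[H₀] := c.N0 (zpowers_le.2 (c.UM hx))
  rw [H24.commC, ← hs]
  refine comm_iSup_le (fun w => c.N0 ((c.cj_leH (c.le1 w.2) h1).trans c.HM)) hxN fun w => ?_
  have h2 := ((le_centQ (c.N0 (h1.trans c.HM))).1 (zpowers_le.2 (h w w.2))).2
  have h3 := cj_mono (w : Γ) h2
  rw [cj_comm, cj_zpowers, c.cj0 (c.le1 w.2), H24.commC] at h3
  convert h3 using 3
  group

theorem nonGalois (hX0 : H₀ ≤ X) (hXH : X ≤ H) (hXU : U ≤ N[X]) (h1 : X ≠ H₀) (h2 : X ≠ H) :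
    ∃ H₁ a, NG H U W₁ H₀ C H₁ p a := by
  classical
  have hXN := c.N0 (hXH.trans c.HM)
  obtain ⟨V, hV, hVX⟩ := exists_minNml (K := quo X H₀) (A := quo U H₀)
    (fun h => h1 (le_antisymm ((quo_eq_bot hXN).1 h) hX0)) (quo_norm _ hXU)
  set H₁ := coq H₀ V with hH₁
  have h01 : H₀ ≤ H₁ := le_coq V
  have h1X : H₁ ≤ X := coq_le_of_le_quo ⟨hX0, hXN⟩ hVX
  have h1H : H₁ ≤ H := h1X.trans hXH
  have hU1 : U ≤ N[H₁] := norm_coq (c.N0 c.UM) hV.norm
  have hq : ∀ w : W₁, quo (cj (w : Γ) H₁) H₀ = cj (cs H₀ w) V := fun w => by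
    rw [quo_cj (c.N0 c.le1 w.2), hH₁, quo_coq]
  have hmin : ∀ w : W₁, MinNml (quo (cj (w : Γ) H₁) H₀) (quo U H₀) := fun w => by
    have := hV.cj (cs H₀ w)
    rwa [← quo_cj (c.N0 c.le1 w.2) U, c.cjU w.2, ← hq] at this
  have hcard : ∀ w : W₁, ♯(quo (cj (w : Γ) H₁) H₀) = ♯V := fun w => by rw [hq, card_cj]
  have hle : ∀ w : W₁, quo (cj (w : Γ) H₁) H₀ ≤ quo H H₀ := fun w =>
    quo_mono _ (c.cj_leH (c.le1 w.2) h1H)
  have hsup : ⨆ w : W₁, cj (w : Γ) H₁ = H := by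
    have h0 : H₁ ≤ ⨆ w : W₁, cj (w : Γ) H₁ := le_iSup_of_le (1 : W₁) (by simp [cj_one])
    refine (c.eq_or (h01.trans h0) (iSup_le fun w => c.cj_leH (c.le1 w.2) h1H)
      (sup_le (norm_iSup fun w => c.normU_cj w.2 hU1) (c.norm_iSup_cj H₁))).resolve_left ?_
    intro h
    rw [h] at h0
    exact hV.ne_bot (by rw [← quo_coq V]; exact quo_eq_bot_of_le h0)
  have hsupq : ⨆ w : W₁, quo (cj (w : Γ) H₁) H₀ = quo H H₀ := by
    refine le_antisymm (iSup_le hle) ?_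
    rw [quo_le_iff (c.N0 c.HM)]
    conv_lhs => rw [← hsup]
    refine iSup_le fun w => ?_
    rw [← quo_le_iff (c.N0 ((c.cj_leH (c.le1 w.2) h1H).trans c.HM))]
    exact le_iSup (fun w : W₁ => quo (cj (w : Γ) H₁) H₀) w
  have hHq : ♯(quo H H₀) = p ^ ♯W₁ := by rw [card_quo (c.N0 c.HM), c.idx0]
  have := Fintype.ofFinite W₁
  have hab : Abl (quo H H₀) := c.elem.1
  have hVp : ♯V = p := by
    obtain ⟨k, -, hk⟩ := card_sup_min hab hle hmin hcard Finset.univ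
    simp only [Finset.mem_univ, iSup_pos, hsupq, hHq] at hk
    obtain ⟨j, hj⟩ := H25.Cfsg.IsElementaryAbelian.exists_card
      (H25.Cfsg.IsElementaryAbelian.mono c.elem (hVX.trans (quo_mono _ hXH))) c.pp
    rw [hj, ← pow_mul] at hk
    have hjk := Nat.pow_right_injective c.pp.two_le hk
    rcases (Nat.dvd_prime c.prime).1 ⟨k, hjk⟩ with h | h
    · rw [hj, h, pow_one]
    · exfalso
      have hVH : V = quo H H₀ := eq_of_card_eq (hVX.trans (quo_mono _ hXH)) (by rw [hj, h, hHq])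
      rw [hVH] at hVX
      exact h2 (le_antisymm hXH (le_of_quo_le (c.N0 c.HM) ⟨hX0, hXN⟩ hVX))
  have hind : iSupIndep (fun w : W₁ => quo (cj (w : Γ) H₁) H₀) := by
    intro w
    obtain ⟨k, hk, hk'⟩ := card_sup_min hab hle hmin hcard (Finset.univ.erase w)
    have e : (⨆ i ∈ Finset.univ.erase w, quo (cj (i : Γ) H₁) H₀) =
        ⨆ i, ⨆ (_ : i ≠ w), quo (cj (i : Γ) H₁) H₀ := by simp
    rw [e, hVp] at hk'
    rw [disjoint_iff]
    refine prime_inf_of_not_le (by rw [hcard, hVp]; exact c.pp) fun hw => ?_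
    have h3 : quo H H₀ ≤ ⨆ i, ⨆ (_ : i ≠ w), quo (cj (i : Γ) H₁) H₀ := by
      rw [← hsupq]
      refine iSup_le fun i => ?_
      by_cases hi : i = w
      · rw [hi]; exact hw
      · exact le_iSup₂_of_le i hi le_rfl
    have h4 := card_le h3
    rw [hk', hHq] at h4
    have h5 := (Nat.pow_le_pow_iff_right c.pp.one_lt).1 h4
    rw [Finset.card_erase_of_mem (Finset.mem_univ w), Finset.card_univ,
      ← Nat.card_eq_fintype_card] at hk
    have := c.prime.pos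
    omega
  have hq1 : quo H₁ H₀ = V := quo_coq V
  have hUV : quo U H₀ ≤ N[V] := hV.norm
  have ha : (U ⊓ centQ H₁ H₀).relIndex U = (C[V]).relIndex (quo U H₀) := by
    rw [inf_relIndex_left, centQ, relIndex_coq _ (c.N0 c.UM), hq1]
  have hnU1 : U ⊓ centQ H₁ H₀ ⊴ U := nml_inf_of_norm (norm_centQ hU1 (c.N0 c.UM))
  have : Fact p.Prime := ⟨c.pp⟩
  have hcA : IsCyclic (MulAut V) := by
    have : IsCyclic V := isCyclic_of_prime_card hVp
    have e := IsCyclic.mulAutMulEquiv V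
    rw [hVp] at e
    exact isCyclic_of_surjective e.symm e.symm.surjective
  let f₀ : U →* quo U H₀ := imgHom (coset H₀) (c.N0 c.UM)
  let f : U →* MulAut V := (H12.conjAct' hUV).comp f₀
  have hf : f.ker = (U ⊓ centQ H₁ H₀).subgroupOf U := by
    ext x
    rw [← MonoidHom.comap_ker, H12.ker_conjAct', mem_comap, mem_subgroupOf, mem_subgroupOf,
      coe_imgHom, centQ, mem_inf, mem_coq, hq1]
    exact ⟨fun h => ⟨x.2, c.N0 c.UM x.2, h⟩, fun h => h.2.2⟩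
  obtain ⟨φ, hφ⟩ := exists_hom_zmod f
  have hidx : f.ker.index = (U ⊓ centQ H₁ H₀).relIndex U := by rw [hf]; rfl
  refine ⟨H₁, f.ker.index, h01, h1H, by rw [← hVp]; exact relIndex_coq_self V, hU1, hind, hsup,
    hidx, ?_, by rw [hidx, ha]; exact H26.relIndex_C_dvd_pred c.pp hUV hVp,
    cyc_quo_of_hom f hnU1 hf, ?_⟩
  · rw [hidx]
    refine lt_of_le_of_ne (relIndex_pos _ _) fun h => ?_
    have h3 := (relIndex_eq_one.1 h.symm).trans inf_le_right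
    have h4 := c.le0_of_comm h1H ((le_centQ (c.N0 (h1H.trans c.HM))).1 h3).2
    exact hV.ne_bot (by rw [← hq1]; exact quo_eq_bot_of_le h4)
  · have hφx : ∀ x : U, φ x = 1 ↔ (x : Γ) ∈ centQ H₁ H₀ := fun x => by
      rw [← MonoidHom.mem_ker, hφ, hf, mem_subgroupOf, mem_inf]
      exact ⟨fun h => h.2, fun h => ⟨x.2, h⟩⟩
    let cw : W₁ → U →* U := fun w => (H12.conjAct' c.normU w⁻¹ : MulAut U)
    have hcw : ∀ (w : W₁) (x : U), (cw w x : Γ) = (w : Γ)⁻¹ * x * w := fun w x => by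
      have := H12.coe_conjAct' c.normU w⁻¹ x
      rwa [Subgroup.coe_inv, inv_inv] at this
    have hcard : Fintype.card {w : W₁ // w ≠ 1} = Nat.card W₁ - 1 := by
      simp [Nat.card_eq_fintype_card]
    let e := (Fintype.equivFinOfCardEq hcard).symm
    let g : U →* (Fin (Nat.card W₁ - 1) → Multiplicative (ZMod f.ker.index)) :=
      MonoidHom.pi fun i => φ.comp (cw (e i).1)
    let P : U →* Multiplicative (ZMod f.ker.index) := ∏ w : W₁, φ.comp (cw w)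
    have hP : ∀ x, P x = ∏ w : W₁, φ (cw w x) := fun x => by simp [P]
    have hP1 : ∀ x, P x = 1 := by
      have h3 : U ≤ P.ker.map U.subtype := by
        conv_lhs => rw [← c.frob.comm_eq]
        rw [commutator_le]
        intro x hx w hw
        refine ⟨⟨x, hx⟩ * cw ⟨w, hw⟩⁻¹ ⟨x, hx⟩⁻¹, ?_, ?_⟩
        · have : P (cw ⟨w, hw⟩⁻¹ ⟨x, hx⟩⁻¹) = P ⟨x, hx⟩⁻¹ := by
            rw [hP, hP]
            refine Fintype.prod_equiv (Equiv.mulLeft (⟨w, hw⟩⁻¹ : W₁)) _ _ fun v => ?_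
            congr 1
            ext
            simp only [hcw, Equiv.coe_mulLeft, Subgroup.coe_mul, Subgroup.coe_inv]
            group
          rw [SetLike.mem_coe, MonoidHom.mem_ker, map_mul, this, ← map_mul, mul_inv_cancel, map_one]
        · simp only [coe_subtype, Subgroup.coe_mul, hcw, Subgroup.coe_inv, commutatorElement_def]
          group
      intro x
      obtain ⟨y, hy, e⟩ := h3 x.2
      rw [← Subtype.ext e]; exact hy
    refine ⟨(MulEquiv.funMultiplicative _ _).symm.toMonoidHom.comp g, fun x => ?_⟩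
    rw [MonoidHom.comp_apply, MulEquiv.coe_toMonoidHom, MulEquiv.map_eq_one_iff]
    have hg : g x = 1 ↔ ∀ w : W₁, w ≠ 1 → φ (cw w x) = 1 := by
      rw [funext_iff]
      constructor
      · intro h w hw
        have : φ (cw (e (e.symm ⟨w, hw⟩)).1 x) = 1 := h (e.symm ⟨w, hw⟩)
        rwa [e.apply_symm_apply] at this
      · intro h i
        exact h _ (e i).2
    rw [hg]
    constructor
    · intro h
      refine c.mem_C_of_forall h1H hsup x.2 fun w hw => ?_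
      rw [← hcw ⟨w, hw⟩, ← hφx]
      by_cases h1 : (⟨w, hw⟩ : W₁) = 1
      · have h5 := hP1 x
        rw [hP, Finset.prod_eq_single (1 : W₁) (fun v _ hv => h v hv) (by simp)] at h5
        rw [h1]; exact h5
      · exact h _ h1
    · intro h w _
      rw [hφx, hcw]
      have h5 : (w : Γ)⁻¹ * x * w ∈ C := conj_mem' (c.normC (mem_sup_right w.2)) h
      rw [← zpowers_le, le_centQ (c.N0 (h1H.trans c.HM))]
      have h6 := c.le_C.1 (zpowers_le.2 h5)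
      exact ⟨c.N0 (h6.1.trans c.UM), (comm_mono_right h1H).trans h6.2⟩

end Ctx

/-- field coordinates (variant of `H21.exists_field_coord` where `A` acts as an abelian group). -/
theorem exists_field_coord' {G : Type*} [Group G] [Finite G] (F A : Subgroup G)
    [IsMulCommutative F] (hA : ⁅A, A⁆ ≤ C[F]) (hAF : A ≤ N[F])
    (hirr : ∀ U : Subgroup G, U ≤ F → U ≠ ⊥ → A ≤ N[U] → U = F)
    {v₀ : G} (hv : v₀ ∈ F) (hv1 : v₀ ≠ 1) (K : Type*) [Field K] [Finite K]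
    (hK : Nat.card K = Nat.card F) :
    ∃ (τ : K → G) (μ : G → K), (∀ x y, τ (x + y) = τ x * τ y) ∧ Function.Injective τ ∧
      (∀ k, τ k ∈ F) ∧ (∀ u ∈ F, ∃ k, τ k = u) ∧ τ 1 = v₀ ∧
      (∀ a ∈ A, ∀ k, a * τ k * a⁻¹ = τ (μ a * k)) ∧
      ∀ g ∈ N[F], (∀ a ∈ A, g * a * g⁻¹ ∈ A) →
        ∃ (φ : K ≃+* K) (c : K), ∀ k, g * τ k * g⁻¹ = τ (c * φ k) := by
  classical
  let ρ : Subgroup.normalizer (F : Set G) →* Module.End ℤ (Additive F) :=
    { toFun := fun a => (MonoidHom.toAdditive (H1.conjHom F a a.2)).toIntLinearMap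
      map_one' := by
        refine LinearMap.ext fun v => ?_
        apply Additive.toMul.injective
        change H1.conjHom F 1 (Subgroup.one_mem _) (Additive.toMul v) = Additive.toMul v
        ext; simp
      map_mul' := fun a b => by
        refine LinearMap.ext fun v => ?_
        apply Additive.toMul.injective
        exact H1.conjHom_mul F a b a.2 b.2 _ }
  have hρ : ∀ (a : Subgroup.normalizer (F : Set G)) (v : Additive F),
      ((Additive.toMul (ρ a v) : F) : G) = a * (Additive.toMul v : F) * (a : G)⁻¹ :=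
    fun _ _ => rfl
  obtain ⟨e, μ, h1, h2, -, h4⟩ := H21.exists_field_coord_add ρ (A.subgroupOf _)
    (fun a ha b hb => by
      rw [← map_mul, ← map_mul]
      refine LinearMap.ext fun v => Additive.toMul.injective (Subtype.ext ?_)
      rw [hρ, hρ]
      have h5 : ⁅(b : G)⁻¹, (a : G)⁻¹⁆ ∈ C[F] :=
        hA (commutator_mem_commutator (inv_mem hb) (inv_mem ha))
      have h6 := conj_eq_of_mem_C h5 (Additive.toMul v : F).2
      conv_lhs => rw [← h6]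
      simp only [commutatorElement_def, Subgroup.coe_mul]
      group)
    (fun W hW => by
      by_cases hW0 : W = ⊥
      · exact Or.inl hW0
      right
      let U : Subgroup G := (AddSubgroup.toSubgroup' W).map F.subtype
      have hU := hirr U (Subgroup.map_subtype_le _) (fun e => hW0 (by
        rw [eq_bot_iff]
        intro w hw
        have : ((Additive.toMul w : F) : G) ∈ U := ⟨_, hw, rfl⟩
        rw [e, Subgroup.mem_bot] at this
        exact Additive.toMul.injective (Subtype.ext this))) (by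
        rw [Subgroup.le_normalizer_iff]
        rintro a ha _ ⟨k, hk, rfl⟩
        exact ⟨_, hW ⟨a, hAF ha⟩ ha _ hk, rfl⟩)
      rw [eq_top_iff]
      intro w _
      have : ((Additive.toMul w : F) : G) ∈ U := by rw [hU]; exact (Additive.toMul w).2
      obtain ⟨k, hk, e⟩ := this
      obtain rfl : k = Additive.toMul w := Subtype.ext e
      exact hk)
    (v₀ := Additive.ofMul ⟨v₀, hv⟩) (fun e => hv1 (congrArg Subtype.val (Additive.ofMul.injective e)))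
    K hK
  refine ⟨fun k => (Additive.toMul (e k) : F),
    fun g => if h : g ∈ Subgroup.normalizer (F : Set G) then μ ⟨g, h⟩ else 0,
    fun x y => by simp only [map_add]; rfl, fun x y h => ?_, fun k => (Additive.toMul (e k)).2,
    fun u hu => ⟨e.symm (Additive.ofMul ⟨u, hu⟩), by simp⟩, by simp only [h1]; rfl,
    fun a ha k => ?_, fun g hg hgA => ?_⟩
  · exact e.injective (Additive.toMul.injective (Subtype.ext h))
  · simp only [dif_pos (hAF ha)]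
    rw [← h2 ⟨a, hAF ha⟩ ha, hρ]
  · obtain ⟨φ, c, h5⟩ := h4 ⟨g, hg⟩ (fun a ha => hgA a ha)
    exact ⟨φ, c, fun k => by simp only []; rw [← h5, hρ]⟩

namespace Ctx
variable (c : Ctx M K H U W₁ W₂ H₀ C p)
include c

/-- (9.7)(b). -/
theorem Galois (hg : ∀ X, H₀ ≤ X → X ≤ H → U ≤ N[X] → X = H₀ ∨ X = H) :
    (∃ (F : Type) (_ : Field F) (_ : Fintype F) (f ψ : Γ → F),
      Fintype.card F = p ^ ♯W₁ ∧ FieldModel H H₀ U C W₂ p F f ψ) ∧
    Cyc (quo U C) ∧ (C.relIndex U).Coprime (p - 1) ∧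
      C.relIndex U ∣ (p ^ ♯W₁ - 1) / (p - 1) := by
  classical
  have hHq : ♯(quo H H₀) = p ^ ♯W₁ := by rw [card_quo (c.N0 c.HM), c.idx0]
  obtain ⟨F, _, _, hF⟩ := H21.exists_field_of_card c.pp hHq
    (by rw [hHq]; exact Nat.one_lt_pow c.prime.ne_zero c.pp.one_lt)
  have hW2 : ♯(quo W₂ H₀) = p := by rw [card_quo (c.N0 (c.W2H.trans c.HM)), c.idx_facts.1]
  have hW2p : (♯(quo W₂ H₀)).Prime := hW2 ▸ c.pp
  obtain ⟨v, hv, hv1⟩ := exists_ne_one (ne_bot_of_prime hW2p)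
  have hvH : v ∈ quo H H₀ := quo_mono _ c.W2H hv
  have : IsMulCommutative (quo H H₀) := c.elem.1
  obtain ⟨τ, μ, hadd, hinj, hmem, hsurj, h1, hact, haut⟩ :=
    exists_field_coord' (quo H H₀) (quo U H₀)
      (by rw [← quo_comm (c.N0 c.UM) (c.N0 c.UM)]; exact quo_cent _ c.derU)
      (quo_norm _ (c.NH c.UM))
      (fun X hX h0 hn => by
        rcases hg (coq H₀ X) (le_coq X) (coq_le_of_le_quo c.nml0H hX) (norm_coq (c.N0 c.UM) hn)
          with h | h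
        · exact absurd (by rw [← quo_coq X, h, quo_self]) h0
        · rw [← quo_coq X, h]) hvH hv1 F hF
  have h0 : τ 0 = 1 := by
    have := hadd 0 0
    rw [add_zero] at this
    exact left_eq_mul.1 this
  have hnat : ∀ n : ℕ, τ n = v ^ n := fun n => by
    induction n with
    | zero => simp [h0]
    | succ n ih => rw [Nat.cast_succ, hadd, ih, h1, pow_succ]
  have hp0 : (p : F) = 0 := hinj (by rw [hnat, h0]; exact c.elem.2 v hvH)
  have : Fact p.Prime := ⟨c.pp⟩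
  have : CharP F p := (CharP.charP_iff_prime_eq_zero c.pp).2 hp0
  let f : Γ → F := fun x => Function.invFun τ (cs H₀ x)
  have hf : ∀ x ∈ H, τ (f x) = cs H₀ x := fun x hx =>
    Function.invFun_eq (hsurj _ (cs_mem_quo hx (c.N0 c.HM hx)))
  let ψ : Γ → F := fun u => μ (cs H₀ u)
  have hψ : ∀ u ∈ U, ∀ k, cs H₀ u * τ k * (cs H₀ u)⁻¹ = τ (ψ u * k) := fun u hu k =>
    hact _ (cs_mem_quo hu (c.N0 c.UM hu)) k
  have hne : ∀ u ∈ U, ψ u ≠ 0 := fun u hu h => by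
    have := hψ u hu 1
    rw [h, zero_mul, h0, h1, conj_eq_one_iff'] at this
    exact hv1 this
  have hmul : ∀ u ∈ U, ∀ v ∈ U, ψ (u * v) = ψ u * ψ v := fun u hu w hw => by
    apply hinj
    have e : cs H₀ (u * w) = cs H₀ u * cs H₀ w := ap_mul _ (c.N0 c.UM hu) (c.N0 c.UM hw)
    rw [← hψ u hu, ← mul_one (ψ w), ← hψ w hw, ← mul_one (ψ (u * w)), ← hψ _ (mul_mem hu hw), e]
    group
  have hker : ∀ u ∈ U, ψ u = 1 ↔ u ∈ C := fun u hu => by
    rw [c.defC, mem_inf, centQ, mem_coq, mem_C']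
    constructor
    · intro h
      refine ⟨hu, c.N0 c.UM hu, fun y hy => ?_⟩
      obtain ⟨k, rfl⟩ := hsurj y hy
      have := hψ u hu k
      rw [h, one_mul] at this
      exact mul_inv_eq_iff_eq_mul.1 this
    · intro h
      apply hinj
      rw [← mul_one (ψ u), ← hψ u hu, h.2.2 _ (hmem 1), mul_inv_cancel_right]
  have hprime : ∀ y : F, y ^ p = y ↔ ∃ n : ℕ, y = n := fun y => by
    rw [← Subfield.mem_bot_iff_pow_eq_self F p, ← ZMod.fieldRange_castHom_eq_bot p,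
      RingHom.mem_fieldRange]
    constructor
    · rintro ⟨n, rfl⟩
      obtain ⟨n, rfl⟩ := ZMod.natCast_zmod_surjective n
      exact ⟨n, map_natCast _ n⟩
    · rintro ⟨n, rfl⟩; exact ⟨n, map_natCast _ n⟩
  let ψ' : U →* Fˣ :=
    { toFun := fun u => Units.mk0 (ψ u) (hne u u.2)
      map_one' := Units.ext ((hker 1 (one_mem _)).2 (one_mem _))
      map_mul' := fun a b => Units.ext (hmul a a.2 b b.2) }
  have hk' : ψ'.ker = C.subgroupOf U := by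
    ext x
    rw [MonoidHom.mem_ker, mem_subgroupOf, ← hker x x.2, Units.ext_iff]; rfl
  have hpow : ∀ u ∈ U, ∀ n : ℕ, ψ (u ^ n) = ψ u ^ n := fun u hu n => by
    have := congrArg Units.val (map_pow ψ' ⟨u, hu⟩ n)
    rw [Units.val_pow_eq_pow_val] at this
    exact this
  have hcop : (C.relIndex U).Coprime (p - 1) := by
    refine Nat.coprime_of_dvd fun r hr h2 h3 => ?_
    rw [← card_quo c.nmlCU.norm] at h2
    obtain ⟨z, hz, hzr⟩ := exists_orderOf_eq hr h2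
    obtain ⟨x, hx, hxN, rfl⟩ := mem_quo.1 hz
    have hxr : x ^ r ∈ C := by
      rw [← cs_eq_one (pow_mem hxN r)]
      have e : cs C (x ^ r) = cs C x ^ r := ap_pow _ hxN r
      rw [e, ← hzr, pow_orderOf_eq_one]
    have h4 : ψ x ^ p = ψ x := by
      obtain ⟨m, hm⟩ := h3
      have h5 : ψ x ^ r = 1 := by rw [← hpow x hx]; exact (hker _ (pow_mem hx r)).2 hxr
      have : p = r * m + 1 := by have := c.pp.pos; omega
      rw [this, pow_succ, pow_mul, h5, one_pow, one_mul]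
    obtain ⟨n, hn⟩ := (hprime _).1 h4
    obtain ⟨w, hw, hw1⟩ := exists_ne_one c.ne1
    have hwN := c.N0 c.le1 hw
    obtain ⟨φ, d, hφ⟩ := haut (cs H₀ w) (ap_mem_N _ (c.NH c.le1 hw) hwN)
      (fun a ha => conj_mem (ap_mem_N _ (c.normU hw) hwN) ha)
    have hwv : cs H₀ w * v * (cs H₀ w)⁻¹ = v := by
      rw [← c.quo_cent1] at hv
      rw [H24.mem_C.1 hv.2 _ (cs_mem_quo hw hwN), mul_inv_cancel_right]
    have hd : d = 1 := hinj (by have := hφ 1; rw [map_one, mul_one, h1] at this; rw [← this, hwv, h1])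
    have hwx : w * x * w⁻¹ ∈ U := conj_mem (c.normU hw) hx
    have h6 : ψ (w * x * w⁻¹) = ψ x := by
      apply hinj
      have e : cs H₀ (w * x * w⁻¹) = cs H₀ w * cs H₀ x * (cs H₀ w)⁻¹ := ap_conj _ hwN (c.N0 c.UM hx)
      have h7 := hφ (ψ x * 1)
      rw [← hψ x hx, hd, one_mul, mul_one, hn, map_natCast, ← hn] at h7
      rw [← mul_one (ψ (w * x * w⁻¹)), ← hψ _ hwx, e, ← h7, h1]
      conv_lhs => rw [← hwv]
      group
    have h8 : x⁻¹ * (w * x * w⁻¹) ∈ C := by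
      rw [← hker _ (mul_mem (inv_mem hx) hwx), hmul _ (inv_mem hx) _ hwx, h6,
        ← hmul _ (inv_mem hx) _ hx, inv_mul_cancel, hker _ (one_mem _)]
      exact one_mem _
    have h9 := cs_of_mem (c.mem_C_of_fix hw hw1 hx h8)
    rw [h9, orderOf_one] at hzr
    exact hr.one_lt.ne hzr
  refine ⟨⟨F, inferInstance, inferInstance, f, ψ, by rw [← Nat.card_eq_fintype_card, hF, hHq],
    fun y => ?_, fun x hx y hy => ?_, fun x hx => ?_, hne, fun u hu x hx => ?_, hmul, hker,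
    fun x hx => ?_⟩, cyc_quo_of_hom ψ' c.nmlCU hk', hcop, ?_⟩
  · obtain ⟨x, hx, -, e⟩ := mem_quo.1 (hmem y)
    exact ⟨x, hx, hinj (by rw [hf x hx, e])⟩
  · apply hinj
    rw [hadd, hf _ (mul_mem hx hy), hf x hx, hf y hy]
    exact ap_mul _ (c.N0 c.HM hx) (c.N0 c.HM hy)
  · rw [← cs_eq_one (c.N0 c.HM hx), ← hf x hx, ← h0, hinj.eq_iff]
  · apply hinj
    rw [← hψ u hu, hf x hx, hf _ (conj_mem (c.NH c.UM hu) hx)]
    exact ap_conj _ (c.N0 c.UM hu) (c.N0 c.HM hx)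
  · rw [hprime, ← coq_quo (c.N0 (c.W2H.trans c.HM)), mem_coq, ← zpowers_eq_of_prime hW2p hv hv1,
      ← hf x hx, ← mem_powers_iff_mem_zpowers]
    constructor
    · rintro ⟨-, n, hn⟩
      exact ⟨n, hinj (by rw [hnat]; exact hn.symm)⟩
    · rintro ⟨n, hn⟩
      exact ⟨c.N0 c.HM hx, n, by rw [hn, hnat]⟩
  · have h2 : C.relIndex U ∣ p ^ ♯W₁ - 1 := by
      have := Subgroup.card_subgroup_dvd_card ψ'.range
      rw [← Subgroup.index_ker, hk', Nat.card_units, hF, hHq] at this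
      exact this
    have h3 : p - 1 ∣ p ^ ♯W₁ - 1 := by simpa using Nat.sub_dvd_pow_sub_pow p 1 ♯W₁
    rw [← Nat.div_mul_cancel h3] at h2
    exact hcop.dvd_of_dvd_mul_right h2

end Ctx
end H27.PF9
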