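import Mathlib
import Cfsg.Agent.H27.PF9a
import Cfsg.Agent.H27.PF8

/-!
# Peterfalvi §9, part b: characters, (9.8)–(9.10) in the abstract setting
-/

set_option autoImplicit false
set_option linter.unusedSectionVars false
set_option linter.unusedVariables false

namespace H27.PF9

open Cfsg H24 Subgroup
open scoped commutatorElement ComplexConjugate

universe u v

variable {Γ : Type u} [Group Γ] [Finite Γ]
variable {M K H U W W₁ W₂ H₀ C X Y L : Subgroup Γ} {p : ℕ} {l θ ξ ψ χ μ : Γ → ℂ}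

theorem lin_conj_eq_iff (hl : IsLin H l) {g : Γ} (hg : g ∈ N[H]) :
    cfConj g l = l ↔ ∀ h ∈ H, ⁅g, h⁆ ∈ cfker H l := by
  constructor
  · intro e h hh
    have h1 : g * h * g⁻¹ ∈ H := conj_mem hg hh
    rw [hl.mem_cfker, commutatorElement_def]
    refine ⟨mul_mem h1 (inv_mem hh), ?_⟩
    rw [hl.apply_mul h1 (inv_mem hh), ← cfConj_apply g l h, e, hl.mul_inv hh]
  · intro e
    refine CF_ext (cfConj_mem_CF hl.char.CF hg) hl.char.CF fun h hh => ?_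
    have : g * h * g⁻¹ = ⁅g, h⁆ * h := by rw [commutatorElement_def]; group
    rw [cfConj_apply, this, cfker_mul_left (e h hh)]

theorem le_inertia_iff (hl : IsLin H l) (hX : X ≤ N[H]) :
    X ≤ inertia L l ↔ X ≤ L ∧ ⁅X, H⁆ ≤ cfker H l := by
  constructor
  · intro h
    exact ⟨h.trans (inertia_le _ _), commutator_le.2 fun g hg =>
      (lin_conj_eq_iff hl (hX hg)).1 (h hg).2⟩
  · intro h g hg
    exact ⟨h.1 hg, (lin_conj_eq_iff hl (hX hg)).2 (commutator_le.1 h.2 g hg)⟩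

theorem inertia_le_res (hL : L ≤ N[H]) (ξ : Γ → ℂ) : inertia L ξ ≤ inertia L (cfRes H ξ) :=
  fun g hg => ⟨hg.1, by rw [cfConj_cfRes (hL hg.1), hg.2]⟩

theorem mem_inertia_cfConj {g x : Γ} (hg : g ∈ N[L]) :
    x ∈ inertia L (cfConj g l) ↔ g * x * g⁻¹ ∈ inertia L l := by
  rw [mem_inertia, mem_inertia, H24.conj_mem_iff hg, cfConj_mul, cfConj_mul, ← cfConj_mul g x]
  refine and_congr_right fun _ => ⟨fun h => by rw [h, cfConj_inv_cfConj], fun h => ?_⟩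
  have := congrArg (cfConj g) h
  rwa [cfConj_cfConj_inv] at this

theorem norm_inertia (hX : X ≤ N[L]) (h : X ≤ inertia X l) : X ≤ N[inertia L l] := by
  refine le_N_iff.2 fun g hg x hx => ?_
  rw [← mem_inertia_cfConj (hX hg), (h hg).2]; exact hx

theorem dot_ne_of_res (hl : l ∈ Irr H) (h : cfRes H ξ = l) : cfdot H ξ l ≠ 0 := by
  rw [← cfdot_cfRes_left, h, irr_dot_self hl]; exact one_ne_zero

theorem eq_of_relIndex_prime (hK : K ≤ X) (hX : X ≤ M) (hp : (K.relIndex M).Prime)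
    (h : ¬ X ≤ K) : X = M :=
  (covBy_eq_or (covBy_of_relIndex_prime (hK.trans hX) hp) hK hX).resolve_left fun e => h e.le

namespace Ctx
variable (c : Ctx M K H U W₁ W₂ H₀ C p)
include c

theorem lin (hl : l ∈ irrK H H₀) : IsLin H l := irrK_lin c.derH hl

theorem inertiaK (hl : l ∈ CF H) : inertia K l = H ⊔ inertia U l := by
  have h1 := c.sdK.isProd.modl (le_inertia c.HK hl)
  rw [inf_eq_right.2 (inertia_le K l)] at h1
  rw [← h1, inertia_eq_inf c.UK]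

theorem C_le_inertia (hl : l ∈ irrK H H₀) : C ≤ inertia U l :=
  (le_inertia_iff (c.lin hl) (c.NH c.CM)).2 ⟨c.CU, c.commC.trans (mem_irrK.1 hl).2⟩

theorem comm_inertia (hl : l ∈ irrK H H₀) : ⁅inertia U l, H⁆ ≤ cfker H l :=
  ((le_inertia_iff (c.lin hl) (c.NH ((inertia_le U l).trans c.UM))).1 le_rfl).2

theorem exists_constt (hθ : θ ∈ Irr K) (h0 : H₀ ≤ cfker K θ) (h1 : ¬ H ≤ cfker K θ) :
    ∃ l ∈ irrK H H₀, ¬ H ≤ cfker H l ∧ cfdot H θ l ≠ 0 := by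
  obtain ⟨l, hl, h⟩ := exists_irr_under c.HK hθ
  exact ⟨l, mem_irrK.2 ⟨hl, (le_cfker_constt_res_iff c.nmlHK c.nml0K c.le0 hθ hl h).2 h0⟩,
    fun h2 => h1 ((le_cfker_constt_res_iff c.nmlHK c.nmlHK le_rfl hθ hl h).1 h2), h⟩

theorem idx_dvd_deg (hθ : θ ∈ Irr K) (hl : l ∈ Irr H) (h : cfdot H θ l ≠ 0) :
    (inertia U l).relIndex U ∣ deg θ := by
  obtain ⟨e, he⟩ := (irr_char hθ).dot_nat_of_le' (irr_char hl) c.HK
  have := clifford_deg c.nmlHK hθ hl (e := e) (fun h0 => h (by rw [he, h0, Nat.cast_zero])) he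
  rw [this, c.inertiaK (irr_CF hl), c.idx_HX (inertia_le _ _)]
  exact (dvd_mul_left _ _).mul_right _

/-- extension of `λ` to `H X`, trivial on `X`. -/
theorem exists_ext (hl : l ∈ irrK H H₀) (hX : X ≤ inertia U l) :
    ∃ ξ, IsLin (H ⊔ X) ξ ∧ cfRes H ξ = l ∧ cfker H l ⊔ X ≤ cfker (H ⊔ X) ξ := by
  have hXU : X ≤ U := hX.trans (inertia_le _ _)
  have hc : ⁅X, H⁆ ≤ cfker H l := (comm_mono_left hX).trans (c.comm_inertia hl)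
  have hk := cfker_le H l
  have hn : X ≤ N[cfker H l] := norm_of_comm_le_right ((comm_mono_right hk).trans hc)
  have hN : cfker H l ⊔ X ⊴ H ⊔ X := ⟨sup_le_sup_right hk X, sup_le
    (norm_sup_of_comm (c.normH_of (mem_irrK.1 hl).2 hk)
      (by rw [H24.commC]; exact hc.trans le_sup_left)) (norm_of_le le_sup_right)⟩
  have hp : IsProd (cfker H l ⊔ X) H (H ⊔ X) :=
    (isProd_sup (c.NH (hXU.trans c.UM))).symm.mono_left le_sup_right hN.le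
  obtain ⟨ξ, hξ, e⟩ := exists_irrK_ext hp hN (θ := l)
    (by rw [c.sup_inf_H hk hXU hn]; exact mem_irrK.2 ⟨(mem_irrK.1 hl).1, le_rfl⟩)
  refine ⟨ξ, ⟨(mem_irrK.1 hξ).1, ?_⟩, e, (mem_irrK.1 hξ).2⟩
  rw [← cfRes_apply_one H ξ, e, (c.lin hl).one]

theorem ind_irr (hl : l ∈ Irr H) (hX : inertia U l = X) (hξ : ξ ∈ Irr (H ⊔ X))
    (h : cfdot H ξ l ≠ 0) : cfInd K (H ⊔ X) ξ ∈ Irr K := by
  rw [← hX, ← c.inertiaK (irr_CF hl)] at hξ ⊢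
  exact clifford_ind_irr c.nmlHK hl hξ h

theorem ind_surj (hl : l ∈ Irr H) (hX : inertia U l = X) (hθ : θ ∈ Irr K)
    (h : cfdot H θ l ≠ 0) : ∃ ψ ∈ Irr (H ⊔ X), cfdot H ψ l ≠ 0 ∧ cfInd K (H ⊔ X) ψ = θ := by
  obtain ⟨ψ, h1, h2, h3⟩ := clifford_ind_surj c.nmlHK hl hθ h
  rw [c.inertiaK (irr_CF hl), hX] at h1 h3
  exact ⟨ψ, h1, by rwa [h2], h3⟩

theorem ind_inj (hl : l ∈ Irr H) (hX : inertia U l = X) (hξ : ξ ∈ Irr (H ⊔ X))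
    (hψ : ψ ∈ Irr (H ⊔ X)) (h : cfdot H ξ l ≠ 0) (h' : cfdot H ψ l ≠ 0)
    (e : cfInd K (H ⊔ X) ξ = cfInd K (H ⊔ X) ψ) : ξ = ψ := by
  rw [← hX, ← c.inertiaK (irr_CF hl)] at hξ hψ e
  exact clifford_ind_inj c.nmlHK hl hξ hψ h h' e

theorem deg_ind (hX : X ≤ U) (hξ : IsLin (H ⊔ X) ξ) :
    deg (cfInd K (H ⊔ X) ξ) = X.relIndex U := by
  rw [hξ.char.deg_ind (c.HXK hX), hξ.deg, mul_one, c.idx_HX hX]

/-- the character of `K` induced from the extension of `λ` to its inertia group. -/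
theorem exists_ind (hl : l ∈ irrK H H₀) (h1 : ¬ H ≤ cfker H l) (hX : inertia U l = X) :
    ∃ ξ, IsLin (H ⊔ X) ξ ∧ cfRes H ξ = l ∧ cfInd K (H ⊔ X) ξ ∈ irrKD K H (H₀ ⊔ C) := by
  obtain ⟨ξ, hξ, e, hk⟩ := c.exists_ext hl hX.ge
  have hXU : X ≤ U := hX ▸ inertia_le _ _
  have hl' := mem_irrK.1 hl
  have h0C : H₀ ⊔ C ⊴ K := c.nml0C.of_le (sup_le c.nml0K.le (c.CU.trans c.UK)) c.leK
  refine ⟨ξ, hξ, e, mem_irrKD.2 ⟨c.ind_irr hl'.1 hX hξ.irr (dot_ne_of_res hl'.1 e), ?_, ?_⟩⟩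
  · exact le_cfker_ind h0C (c.HXK hXU)
      ((sup_le_sup hl'.2 ((c.C_le_inertia hl).trans hX.le)).trans hk)
  · rw [le_cfker_ind_iff c.nmlHK (c.HXK hXU) hξ.irr]
    intro h2
    exact h1 (e ▸ le_cfker_cfRes h2 le_rfl)

theorem inertia_eq_C (hl : l ∈ irrK H H₀) (h1 : ¬ H ≤ cfker H l)
    (h : ∀ X, H₀ ≤ X → X ≤ H → U ≤ N[X] → (inertia U l ≤ N[H] → X = H₀ ⊔ ⁅inertia U l, H⁆) →
      X = H₀ ∨ X = H) : inertia U l = C := by
  have hI := inertia_le U l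
  have hIH := c.NH (hI.trans c.UM)
  refine le_antisymm (c.le_C.2 ⟨hI, ?_⟩) (c.C_le_inertia hl)
  rcases h (H₀ ⊔ ⁅inertia U l, H⁆) le_sup_left (sup_le c.le0 (comm_le_right hIH))
    (norm_sup (c.N0 c.UM) (norm_comm (c.normU_of (c.C_le_inertia hl) hI) (c.NH c.UM)))
    (fun _ => rfl) with e | e
  · exact le_sup_right.trans e.le
  · exact absurd (e.ge.trans (sup_le (mem_irrK.1 hl).2 (c.comm_inertia hl))) h1

theorem inertia_eq_C_of_W (hl : l ∈ irrK H H₀) (h1 : ¬ H ≤ cfker H l)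
    (hW : W₁ ≤ inertia W₁ l) : inertia U l = C := by
  refine c.inertia_eq_C hl h1 fun X h0 hX hU e => c.eq_or h0 hX (sup_le hU ?_)
  rw [e (c.NH ((inertia_le U l).trans c.UM))]
  exact norm_sup (c.N0 c.le1) (norm_comm (norm_inertia c.normU hW) (c.NH c.le1))

theorem inertiaM (hθ : θ ∈ Irr K) (h : cfInd M K θ ∉ Irr M) : inertia M θ = M :=
  eq_of_relIndex_prime (le_inertia c.leK (irr_CF hθ)) (inertia_le _ _) (c.idxK ▸ c.prime)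
    fun h1 => h (inertia_ind_irr c.nmlK hθ h1)

theorem syl1 : Syl ♯W₁ M W₁ :=
  Syl.mk' c.prime c.le1 (isPi_of_card_prime c.prime rfl) (by
    rw [c.sdM.relIndex_right]; exact (c.prime.coprime_iff_not_dvd).1 c.copK.symm)

/-- an invariant character has a `W₁`-invariant constituent. -/
theorem exists_constt_W (hθ : θ ∈ Irr K) (h0 : H₀ ≤ cfker K θ) (h1 : ¬ H ≤ cfker K θ)
    (hI : inertia M θ = M) :
    ∃ l ∈ irrK H H₀, ¬ H ≤ cfker H l ∧ cfdot H θ l ≠ 0 ∧ W₁ ≤ inertia W₁ l := by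
  obtain ⟨l, hl, h2, h3⟩ := c.exists_constt hθ h0 h1
  have hl' := mem_irrK.1 hl
  have hc : ∀ m ∈ M, cfdot H θ (cfConj m l) ≠ 0 := fun m hm => by
    have : cfConj m θ = θ := (hI.ge hm).2
    rw [← this, cfdot_cfConj (c.nmlH.norm hm)]; exact h3
  have hp : IsProd (inertia M l) K M := ⟨inertia_le _ _, c.leK, fun m hm => by
    obtain ⟨k, hk, e⟩ := mem_cfclass.1
      (clifford_cfclass c.nmlHK hθ hl'.1 (irr_conj hl'.1 (c.nmlH.norm hm)) h3 (hc m hm))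
    exact ⟨m * k⁻¹, (cfConj_eq_iff hm (c.leK hk)).1 e.symm, k, hk, by group⟩⟩
  have hq : ♯W₁ ∣ ♯(inertia M l) := c.idxK ▸ hp.symm.relIndex_dvd
  obtain ⟨Q, hQ, hQc⟩ := exists_card_prime c.prime hq
  obtain ⟨g, hg, hgQ⟩ := Sylow_subJ c.prime c.syl1 (isPi_of_card_prime c.prime hQc)
    (hQ.trans (inertia_le _ _))
  have e : Q = cj g W₁ := eq_of_card_eq hgQ (by rw [card_cj, hQc])
  refine ⟨cfConj g l, mem_irrK.2 ⟨irr_conj hl'.1 (c.nmlH.norm hg),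
    (le_cfker_cfConj (c.nmlH.norm hg) (c.nml0.norm hg)).2 hl'.2⟩,
    fun h => h2 ((le_cfker_cfConj (c.nmlH.norm hg) (c.nmlH.norm hg)).1 h), hc g hg,
    fun w hw => ⟨hw, ?_⟩⟩
  exact ((mem_inertia_cfConj (norm_self M hg)).2 (hQ (e ▸ conj_mem_cj g hw))).2

/-- the reducible characters are induced from linear characters of `H C / H₀ C`. -/
theorem red_ind (hθ : θ ∈ Irr K) (h0 : H₀ ≤ cfker K θ) (h1 : ¬ H ≤ cfker K θ)
    (h : cfInd M K θ ∉ Irr M) :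
    ∃ ξ, IsLin (H ⊔ C) ξ ∧ θ = cfInd K (H ⊔ C) ξ ∧ H₀ ⊔ C ≤ cfker K θ := by
  have hI := c.inertiaM hθ h
  obtain ⟨l, hl, h2, h3, hW⟩ := c.exists_constt_W hθ h0 h1 hI
  have hl' := mem_irrK.1 hl
  have hC := c.inertia_eq_C_of_W hl h2 hW
  obtain ⟨ψ, hψ, h4, h5⟩ := c.ind_surj hl'.1 hC hθ h3
  obtain ⟨ξ, hξ, e, hk⟩ := c.exists_ext hl hC.ge
  obtain ⟨w, hw, hw1⟩ := exists_ne_one c.ne1
  have hwM := c.le1 hw
  have hwHC := c.nmlHC.norm hwM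
  have hwH := c.nmlH.norm hwM
  have hwC : w ∈ N[C] := c.normC (mem_sup_right hw)
  have hlw : cfConj w l = l := (hW hw).2
  have hnH : H ⊴ H ⊔ C := nml_sup_left (c.NH c.CM)
  have hψw : cfConj w ψ = ψ := by
    refine c.ind_inj hl'.1 hC (irr_conj hψ hwHC) hψ ?_ h4 ?_
    · rw [← hlw, cfdot_cfConj hwH]; exact h4
    · rw [← cfConj_cfInd (c.nmlK.norm hwM) hwHC, h5]; exact (hI.ge hwM).2
  have hCξ : C ≤ cfker (H ⊔ C) ξ := le_sup_right.trans hk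
  have hξw : cfConj w ξ = ξ := by
    refine res_inj_of_ker (isProd_sup (c.NH c.CM)).symm (irr_cfOn (irr_conj hξ.irr hwHC))
      (irr_cfOn hξ.irr) ((le_cfker_cfConj hwHC hwC).2 hCξ) hCξ fun x hx => ?_
    rw [← cfRes_of_mem (cfConj w ξ) hx, ← cfConj_cfRes hwH, e, hlw, ← e, cfRes_of_mem _ hx]
  have hr : cfRes H ξ ∈ Irr H := e ▸ hl'.1
  obtain ⟨β, hβ, eβ⟩ := gallagher_surj hnH hξ.char hr hψ
    (by rw [← cfdot_cfRes_left, e]; exact fun h => h4 (cfdot_symm_zero h))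
  have hβ' := mem_irrK.1 hβ
  have hβw : cfConj w β = β := by
    refine gallagher_inj hnH hξ.char hr (mem_irrK.2 ⟨irr_conj hβ'.1 hwHC,
      (le_cfker_cfConj hwHC hwH).2 hβ'.2⟩) hβ ?_
    rw [← eβ, ← hψw, eβ, cfConj_mul_fun, hξw]
  have hβC := (mem_irrK.1 (irrK_res (isProd_sup (c.NH c.CM)) hβ)).1
  have hβ1 : cfRes C β = cfOne C := by
    by_contra hne
    refine not_fix_irr_of_fpf hwC (eq_bot_of_le (c.reg w hw hw1) (inf_le_inf_right _ c.CU))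
      hβC hne ?_
    rw [cfConj_cfRes hwC, hβw]
  have hβ2 : β = cfOne (H ⊔ C) := by
    rw [irr_eq_cfOne_iff hβ'.1]
    refine sup_le hβ'.2 ?_
    have := (irr_eq_cfOne_iff hβC).1 hβ1
    rw [(irr_char hβ'.1).cfker_res le_sup_right] at this
    exact this.trans inf_le_right
  rw [hβ2, cfOne_mul (irr_cfOn hξ.irr)] at eβ
  refine ⟨ξ, hξ, by rw [← h5, eβ], ?_⟩
  rw [← h5, eβ]
  exact le_cfker_ind (c.nml0C.of_le (sup_le c.nml0K.le (c.CU.trans c.UK)) c.leK) c.HCK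
    ((sup_le_sup_right hl'.2 C).trans hk)

end Ctx

/-- `isIndHC`. -/
structure IndHC (M K H U W₁ H₀ C : Subgroup Γ) (ζ : Γ → ℂ) : Prop where
  one : ζ 1 = (Nat.card W₁ * C.relIndex U : ℕ)
  mem : ζ ∈ seqIndD K M H (H₀ ⊔ C)
  ind : ∃ ξ, IsLin (H ⊔ C) ξ ∧ ζ = cfInd M (H ⊔ C) ξ

namespace Ctx
variable (c : Ctx M K H U W₁ W₂ H₀ C p)
include c

theorem indHC_of (hξ : IsLin (H ⊔ C) ξ) (h : cfInd K (H ⊔ C) ξ ∈ irrKD K H (H₀ ⊔ C)) :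
    IndHC M K H U W₁ H₀ C (cfInd M K (cfInd K (H ⊔ C) ξ)) := by
  refine ⟨?_, cfInd_mem_seqIndD M h, ξ, hξ, cfInd_cfInd c.HCK c.leK ξ⟩
  rw [cfInd_cfInd c.HCK c.leK, cfInd_one c.nmlHC.le, hξ.one, mul_one, c.idx_HXM c.CU]

theorem red_indHC (hμ : μ ∈ redPart M (seqIndD K M H H₀)) : IndHC M K H U W₁ H₀ C μ := by
  obtain ⟨h1', h2⟩ := mem_redPart.1 hμ
  obtain ⟨θ, hθ, h0, h1, rfl⟩ := mem_seqIndD.1 h1'
  obtain ⟨ξ, hξ, rfl, h3⟩ := c.red_ind hθ h0 h1 h2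
  exact c.indHC_of hξ (mem_irrKD.2 ⟨hθ, h3, h1⟩)

theorem red_prRed (pr : PrimeTI M K W W₁ W₂) (hμ : μ ∈ redPart M (seqIndD K M H Y)) :
    ∃ j ∈ irrK W W₁, j ≠ cfOne W ∧ μ = prRed M W W₁ W₂ j := by
  obtain ⟨h1, h2⟩ := mem_redPart.1 hμ
  rcases pr.seqIndT_cases (seqIndD_subT _ _ _ _ h1) with ⟨j, hj, e⟩ | h
  · refine ⟨j, hj, fun h => ?_, e⟩
    rw [h, pr.red_one] at e
    exact Ind1_not_mem_seqIndD c.nmlK c.HK Y (e ▸ h1)
  · exact absurd h.1 h2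

theorem card_red (pr : PrimeTI M K W W₁ W₂) : (redPart M (seqIndD K M H H₀)).card = p - 1 := by
  rw [pr.size_red_subseq (fun φ h => seqIndD_subT _ _ _ _ (mem_redPart.1 h).1)
    (fun φ h => (mem_redPart.1 h).2)]
  have hq := (pr.quo c.nml0 c.nml0K.le c.not_W2_le).card_invariant
  rw [card_quo (c.N0 (c.W2H.trans c.HM)), c.idx_facts.1] at hq
  have hKN := c.N0 c.leK
  have key : ∀ φ ∈ Irr (quo K H₀), cfInd M K (cfMod H₀ K φ) ∈ Irr M ↔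
      cfInd (quo M H₀) (quo K H₀) φ ∈ Irr (quo M H₀) := fun φ hφ => by
    rw [cfInd_cfMod c.nml0 c.nml0K.le c.leK]
    exact ⟨irr_of_morph _ c.nml0.norm (CF_le_cfOn _ (cfInd_mem_CF _ _ _)),
      irr_morph _ c.nml0.norm⟩
  have h1 : {θ | θ ∈ Irr K ∧ cfInd M K θ ∈ redPart M (seqIndD K M H H₀)} =
      (cfMod H₀ K '' {θ | θ ∈ Irr (quo K H₀) ∧ cfInd (quo M H₀) (quo K H₀) θ ∉ Irr (quo M H₀)}) \
        {cfOne K} := by
    ext θ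
    simp only [Set.mem_ofPred_eq, Set.mem_sdiff, Set.mem_image, Set.mem_singleton_iff, mem_redPart]
    constructor
    · rintro ⟨hθ, h2, h3⟩
      rw [cfInd_mem_seqIndD_iff c.nmlK c.nmlH.norm c.nml0.norm hθ] at h2
      obtain ⟨φ, hφ, rfl⟩ := exists_irr_mod_eq hKN hθ (inf_le_right.trans h2.1)
      refine ⟨⟨φ, ⟨hφ, fun h => h3 ((key φ hφ).2 h)⟩, rfl⟩, fun h => h2.2 ?_⟩
      rw [h, cfker_cfOne]; exact c.HK
    · rintro ⟨⟨φ, ⟨hφ, h2⟩, rfl⟩, h3⟩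
      have h4 := mem_irrK.1 (irr_mod c.nml0K hφ)
      have h5 := fun h => h2 ((key φ hφ).1 h)
      refine ⟨h4.1, (cfInd_mem_seqIndD_iff c.nmlK c.nmlH.norm c.nml0.norm h4.1).2 ⟨h4.2, ?_⟩, h5⟩
      rcases pr.res_irr_cases h4.1 with ⟨j, hj, e⟩ | h
      · intro h6
        refine pr.not_le_cfker_res hj (fun h => h3 ?_) (e ▸ c.W2H.trans h6)
        rw [e, h, pr.res_one]
      · exact absurd h.1 h5
  rw [h1, Set.ncard_sdiff_singleton_of_mem, Set.InjOn.ncard_image, hq]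
  · exact (cfMorph_injOn_Irr _ hKN).mono fun θ h => h.1
  · refine ⟨cfOne (quo K H₀), ⟨cfOne_mem_Irr _, fun h => ?_⟩, cfMorph_cfOne _ hKN⟩
    rw [← key _ (cfOne_mem_Irr _), cfMorph_cfOne _ hKN, ← pr.red_one] at h
    exact pr.red_not_irr (cfOne_mem_irrK pr.dp.left_le) h

theorem exists_red (pr : PrimeTI M K W W₁ W₂) : ∃ μ ∈ seqIndD K M H (H₀ ⊔ C), μ ∉ Irr M := by
  have h := c.card_red pr
  have := c.pp.two_le
  obtain ⟨μ, hμ⟩ := Finset.card_pos.1 (h ▸ (by omega : 0 < p - 1))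
  exact ⟨μ, (c.red_indHC hμ).mem, (mem_redPart.1 hμ).2⟩

theorem conj_mem_irrKD (hX : X ⊴ L) (hH : L ≤ N[H]) (hY : L ≤ N[Y]) (hθ : θ ∈ irrKD X H Y) {g : Γ}
    (hg : g ∈ L) : cfConj g θ ∈ irrKD X H Y := by
  obtain ⟨h1, h2, h3⟩ := mem_irrKD.1 hθ
  exact mem_irrKD.2 ⟨irr_conj h1 (hX.norm hg), (le_cfker_cfConj (hX.norm hg) (hY hg)).2 h2,
    fun h => h3 ((le_cfker_cfConj (hX.norm hg) (hH hg)).1 h)⟩

theorem sum_sq (hX : X ≤ C) (hn : U ⊔ W₁ ≤ N[X]) :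
    ∑ φ ∈ seqIndD K M H (H₀ ⊔ X), (deg φ : ℝ) ^ 2 / cfnorm M φ =
      ♯W₁ * (X.relIndex U * ((p : ℝ) ^ ♯W₁ - 1)) := by
  classical
  have hN := c.nml0_sup hX hn
  have hXU := hX.trans c.CU
  have hNK : H₀ ⊔ X ⊴ K := hN.of_le (sup_le c.nml0K.le (hXU.trans c.UK)) c.leK
  have h1 := sum_seqInd_square c.nmlK (X := irrKD K H (H₀ ⊔ X))
    (fun θ h => (mem_irrKD.1 h).1) (fun θ h g hg => c.conj_mem_irrKD c.nmlK c.nmlH.norm hN.norm h hg)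
  have h2 := sum_irrKD_deg_sq hNK c.nmlHK
  rw [← sup_assoc, sup_eq_left.2 c.le0, c.idx_HX hXU] at h2
  conv_rhs at h2 => rw [← c.sdK.sup, c.idx_sup c.le0 le_rfl hXU le_rfl (c.N0 (hXU.trans c.UM))
    (c.NH c.UM), c.idx0]
  have h3 : (∑ θ ∈ irrKD K H (H₀ ⊔ X), (deg θ : ℝ) ^ 2) + X.relIndex U =
      (p : ℝ) ^ ♯W₁ * X.relIndex U := by exact_mod_cast h2
  rw [c.idxK, show (∑ θ ∈ irrKD K H (H₀ ⊔ X), (deg θ : ℝ) ^ 2) =
    X.relIndex U * ((p : ℝ) ^ ♯W₁ - 1) by linarith] at h1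
  exact h1

theorem lin_of_ker (hψ : ψ ∈ Irr (H ⊔ C)) (hθ : H₀ ⊔ ⁅C, C⁆ ≤ cfker K (cfInd K (H ⊔ C) ψ)) :
    IsLin (H ⊔ C) ψ :=
  irr_lin_of_der_le hψ (c.der_HC.trans (hθ.trans (cfker_ind_le c.HCK hψ)))

theorem norm_red (hμ : μ ∈ seqIndD K M H Y) (h : μ ∉ Irr M) : cfnorm M μ = ♯W₁ := by
  obtain ⟨θ, hθ, -, -, rfl⟩ := mem_seqIndD.1 hμ
  rw [cfnorm_cfInd_irr c.nmlK hθ, c.inertiaM hθ h, c.idxK]

theorem sub_C : seqIndD K M H (H₀ ⊔ C) ⊆ seqIndD K M H (H₀ ⊔ ⁅C, C⁆) :=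
  seqIndD_mono K M le_rfl (sup_le_sup_left (der1_le C) H₀)
theorem sub_0 (X : Subgroup Γ) : seqIndD K M H (H₀ ⊔ X) ⊆ seqIndD K M H H₀ :=
  seqIndD_mono K M le_rfl le_sup_left

section Galois
variable (hg : ∀ X, H₀ ≤ X → X ≤ H → U ≤ N[X] → X = H₀ ∨ X = H)
include hg

theorem gal_inertia (hl : l ∈ irrK H H₀) (h1 : ¬ H ≤ cfker H l) : inertia U l = C :=
  c.inertia_eq_C hl h1 fun X h0 hX hU _ => hg X h0 hX hU

theorem gal_dvd (hθ : θ ∈ irrKD K H H₀) : C.relIndex U ∣ deg θ := by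
  obtain ⟨h1, h2, h3⟩ := mem_irrKD.1 hθ
  obtain ⟨l, hl, h4, h5⟩ := c.exists_constt h1 h2 h3
  rw [← c.gal_inertia hg hl h4]
  exact c.idx_dvd_deg h1 (mem_irrK.1 hl).1 h5

theorem gal_ind (hθ : θ ∈ irrKD K H (H₀ ⊔ ⁅C, C⁆)) :
    deg θ = C.relIndex U ∧ ∃ ξ, IsLin (H ⊔ C) ξ ∧ θ = cfInd K (H ⊔ C) ξ := by
  obtain ⟨h1, h2, h3⟩ := mem_irrKD.1 hθ
  obtain ⟨l, hl, h4, h5⟩ := c.exists_constt h1 (le_sup_left.trans h2) h3
  obtain ⟨ψ, hψ, -, rfl⟩ := c.ind_surj (mem_irrK.1 hl).1 (c.gal_inertia hg hl h4) h1 h5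
  have := c.lin_of_ker hψ h2
  exact ⟨c.deg_ind c.CU this, ψ, this, rfl⟩

theorem gal_deg (hχ : χ ∈ seqIndD K M H (H₀ ⊔ ⁅C, C⁆)) : χ 1 = (♯W₁ * C.relIndex U : ℕ) ∧
    ∃ ξ, IsLin (H ⊔ C) ξ ∧ χ = cfInd M (H ⊔ C) ξ := by
  obtain ⟨θ, h1, h2, h3, rfl⟩ := mem_seqIndD.1 hχ
  obtain ⟨h4, ξ, hξ, e⟩ := c.gal_ind hg (mem_irrKD.2 ⟨h1, h2, h3⟩)
  refine ⟨?_, ξ, hξ, by rw [e, cfInd_cfInd c.HCK c.leK]⟩
  rw [cfInd_one c.leK, irr_one_eq h1, h4, c.idxK, Nat.cast_mul]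

theorem gal_all_red (pr : PrimeTI M K W W₁ W₂)
    (h : ∀ ζ ∈ seqIndD K M H (H₀ ⊔ ⁅C, C⁆), ζ ∉ Irr M) :
    C = ⊥ ∧ C.relIndex U = (p ^ ♯W₁ - 1) / (p - 1) ∧ Frob (quo K H₀) (quo H H₀) (quo U H₀) := by
  have hS : seqIndD K M H (H₀ ⊔ ⁅C, C⁆) = redPart M (seqIndD K M H H₀) := by
    ext ζ
    exact ⟨fun h1 => mem_redPart.2 ⟨c.sub_0 _ h1, h ζ h1⟩, fun h1 => c.sub_C (c.red_indHC h1).mem⟩
  have h1 := c.sum_sq (der1_le C) (norm_der1 c.normC)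
  have hq : (0 : ℝ) < ♯W₁ := cardR_pos W₁
  rw [Finset.sum_congr rfl (g := fun _ => (♯W₁ : ℝ) * (C.relIndex U : ℝ) ^ 2) (fun φ hφ => by
      rw [deg_eq_of (c.gal_deg hg hφ).1, c.norm_red hφ (h φ hφ)]; push_cast; field_simp),
    Finset.sum_const, hS, c.card_red pr, ← relIndex_mul_relIndex _ C U (der1_le C) c.CU] at h1
  obtain ⟨-, -, -, hd⟩ := c.Galois hg
  have hp1 : 1 ≤ p := c.pp.pos
  have hp2 := c.pp.two_le
  have hpq : 1 ≤ p ^ ♯W₁ := Nat.one_le_pow _ _ hp1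
  have hu := H24.relIndex_pos C U
  have h2 : (p - 1) * C.relIndex U = (⁅C, C⁆ : Subgroup Γ).relIndex C * (p ^ ♯W₁ - 1) := by
    have hu' : (0 : ℝ) < C.relIndex U := by exact_mod_cast hu
    have : ((p - 1 : ℕ) : ℝ) * C.relIndex U =
        (⁅C, C⁆ : Subgroup Γ).relIndex C * ((p : ℝ) ^ ♯W₁ - 1) := by
      rw [nsmul_eq_mul] at h1
      push_cast at h1
      have h3 := mul_pos hq hu'
      refine mul_left_cancel₀ h3.ne' ?_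
      linear_combination h1
    rw [← Nat.cast_pow, ← Nat.cast_one (R := ℝ), ← Nat.cast_sub hpq] at this
    exact_mod_cast this
  have h3 : p - 1 ∣ p ^ ♯W₁ - 1 := by simpa using Nat.sub_dvd_pow_sub_pow p 1 ♯W₁
  obtain ⟨m, hm⟩ := h3
  rw [hm, Nat.mul_div_cancel_left _ (by omega)] at hd ⊢
  rw [hm, mul_left_comm] at h2
  have h4 := Nat.eq_of_mul_eq_mul_left (by omega) h2
  have hm0 : 0 < m := by
    rcases Nat.eq_zero_or_pos m with h | h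
    · rw [h, mul_zero] at h4; omega
    · exact h
  have h5 := Nat.le_of_dvd hm0 hd
  have h6 : (⁅C, C⁆ : Subgroup Γ).relIndex C = 1 := by
    have := H24.relIndex_pos ⁅C, C⁆ C
    nlinarith
  have hC : C = ⊥ := by
    by_contra hC
    exact not_le_of_gt ((c.solOf c.CM).der1_lt hC) (relIndex_eq_one.1 h6)
  refine ⟨hC, by rw [h4, h6, one_mul], c.sdK.quo_of_le c.le0 (c.N0 c.leK), c.chief.quo_ne_bot,
    ?_, ?_⟩
  · rw [Ne, ← card_eq_one', c.card_quo_eq le_sup_left, card_eq_one']; exact c.neU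
  · intro z hz hz1
    obtain ⟨x, hx, hxN, rfl⟩ := mem_quo.1 hz
    have hab : Abl U := der1_eq_bot.1 (eq_bot_of_le hC c.derU_le)
    have hn : quo U H₀ ≤ N[quo H H₀ ⊓ C{cs H₀ x}] := norm_inf (quo_norm _ (c.NH c.UM))
      (norm_C1 ((hab.quo H₀).le_C.trans (C_le_C1 hz)))
    rcases hg (coq H₀ (quo H H₀ ⊓ C{cs H₀ x})) (le_coq _) (coq_le_of_le_quo c.nml0H inf_le_left)
      (norm_coq (c.N0 c.UM) hn) with e | e
    · rw [← quo_coq (quo H H₀ ⊓ C{cs H₀ x}), e, quo_self]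
    · exfalso
      have h7 : quo H H₀ ≤ C{cs H₀ x} := by
        have := (quo_le_iff (c.N0 c.HM)).2 e.ge
        exact this.trans inf_le_right
      have h8 : x ∈ C := by
        rw [c.defC]; exact ⟨hx, mem_coq.2 ⟨hxN, mem_C_iff_le_C1.2 h7⟩⟩
      rw [hC, mem_bot] at h8
      exact hz1 (by rw [h8]; exact ap_one _)

end Galois
end Ctx
end H27.PF9
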