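import Mathlib
import Cfsg.Agent.H27.PF9b

/-!
# Peterfalvi §9, part c: (9.8), the non-Galois case
-/

set_option autoImplicit false
set_option linter.unusedSectionVars false
set_option linter.unusedVariables false

namespace H27.PF9

open Cfsg H24 Subgroup
open scoped commutatorElement ComplexConjugate

universe u v

variable {Γ : Type u} [Group Γ] [Finite Γ]
variable {M K H U W W₁ W₂ H₀ C X Y L H₁ : Subgroup Γ} {p a : ℕ} {l θ ξ ψ χ μ : Γ → ℂ} {w : Γ}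

/-- `U₁ = C_U(H₁ / H₀)`. -/
def U1 (U H₀ H₁ : Subgroup Γ) : Subgroup Γ := U ⊓ centQ H₁ H₀

/-- the product of the conjugates of `H₁` other than `H₁`. -/
def K1 (W₁ H₀ H₁ : Subgroup Γ) : Subgroup Γ :=
  coq H₀ (⨆ (w : W₁) (_ : w ≠ 1), quo (cj (w : Γ) H₁) H₀)

theorem isLin_prod {ι : Type*} (s : Finset ι) {f : ι → Γ → ℂ} (h : ∀ i ∈ s, IsLin H (f i)) :
    IsLin H (cfOne H * ∏ i ∈ s, f i) := by
  classical
  induction s using Finset.induction_on with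
  | empty => rw [Finset.prod_empty, mul_one]; exact isLin_cfOne H
  | insert i s hi ih =>
    rw [Finset.prod_insert hi, mul_left_comm]
    exact (h i (Finset.mem_insert_self i s)).mul (ih fun j hj => h j (Finset.mem_insert_of_mem hj))

theorem not_conj_eq_conjC (hμ : μ ∈ Irr X) (ho : Odd ♯X) {v : Γ} (hv : Odd (orderOf v))
    (h : cfConj v μ = conjC μ) : μ = cfOne X := by
  have h2 : v ^ 2 ∈ inertia ⊤ μ := ⟨mem_top _, by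
    rw [pow_two, cfConj_mul, h, ← cfAut_cfConj, h]; exact conjC_conjC μ⟩
  have h3 : v ∈ zpowers (v ^ 2) := mem_zpowers_pow_iff.2 (Nat.coprime_two_left.2 hv)
  have h4 := (zpowers_le.2 h2 h3).2
  exact (odd_conjC_eq_iff ho hμ).1 (h.symm.trans h4)

namespace Ctx
variable (c : Ctx M K H U W₁ W₂ H₀ C p) (n : NG H U W₁ H₀ C H₁ p a)
include c n

theorem le_U1 : X ≤ U1 U H₀ H₁ ↔ X ≤ U ∧ ⁅X, H₁⁆ ≤ H₀ := by
  rw [U1, le_inf_iff, le_centQ (c.N0 (n.leH.trans c.HM))]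
  exact ⟨fun h => ⟨h.1, h.2.2⟩, fun h => ⟨h.1, c.N0 (h.1.trans c.UM), h.2⟩⟩
theorem U1U : U1 U H₀ H₁ ≤ U := inf_le_left
theorem CU1 : C ≤ U1 U H₀ H₁ := (c.le_U1 n).2 ⟨c.CU, (comm_mono_right n.leH).trans c.commC⟩
theorem commU1 : ⁅U1 U H₀ H₁, H₁⁆ ≤ H₀ := ((c.le_U1 n).1 le_rfl).2
theorem idxU1 : (U1 U H₀ H₁).relIndex U = a := n.defa.symm
theorem le_cjU1 (hw : w ∈ W₁) : X ≤ cj w (U1 U H₀ H₁) ↔ X ≤ U ∧ ⁅X, cj w H₁⁆ ≤ H₀ := by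
  rw [le_cj_iff, c.le_U1 n, cj_le_iff, inv_inv, c.cjU hw, ← cj_le_cj (g := w) (A := ⁅_, _⁆),
    cj_comm, cj_cj_inv, c.cj0 (c.le1 hw)]
theorem idx_cjU1 (hw : w ∈ W₁) : (cj w (U1 U H₀ H₁)).relIndex U = a := by
  have := relIndex_cj w (U1 U H₀ H₁) U
  rwa [c.cjU hw, c.idxU1 n] at this
theorem cjU1U (hw : w ∈ W₁) : cj w (U1 U H₀ H₁) ≤ U := ((c.le_cjU1 n hw).1 le_rfl).1
theorem C_cjU1 (hw : w ∈ W₁) : C ≤ cj w (U1 U H₀ H₁) :=
  (c.le_cjU1 n hw).2 ⟨c.CU, (comm_mono_right (c.cj_leH (c.le1 hw) n.leH)).trans c.commC⟩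
theorem le_C_of_forall (h : ∀ w ∈ W₁, X ≤ cj w (U1 U H₀ H₁)) : X ≤ C := fun x hx =>
  c.mem_C_of_forall n.leH n.sup (c.cjU1U n (one_mem _) (h 1 (one_mem _) hx))
    fun w hw => (mem_cj.1 (h w hw hx)).2
theorem a_odd : Odd a := by
  rw [← c.idxU1 n]; exact (c.oddOf c.UM).of_dvd_nat (relIndex_dvd_card _ _)
theorem two_a_le : 2 * a ≤ p - 1 := by
  obtain ⟨k, hk⟩ := n.dvd
  have hp := c.pp.two_le
  have h1 : Even (p - 1) := Nat.Odd.sub_odd c.p_odd odd_one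
  rw [hk, Nat.even_mul] at h1
  have h2 := h1.resolve_left (Nat.not_even_iff_odd.2 (c.a_odd n))
  have : k ≠ 0 := by rintro rfl; omega
  obtain ⟨j, rfl⟩ := h2
  have : 1 ≤ j := by omega
  nlinarith

theorem inf_cj_eq (hw : w ∈ W₁) (h0 : H₀ ≤ X) (h : ¬ cj w H₁ ≤ X) : cj w H₁ ⊓ X = H₀ := by
  have hw' := c.le1 hw
  have h1 : H₀ ⋖ cj w H₁ := covBy_of_relIndex_prime (c.le0_cj hw' n.le0)
    (by rw [c.idx_cj hw', n.card]; exact c.pp)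
  exact (covBy_eq_or h1 (le_inf h1.le h0) inf_le_left).resolve_right fun e => h (e.ge.trans inf_le_right)

theorem inertia_le_cjU1 (hw : w ∈ W₁) (hl : l ∈ irrK H H₀) (h : ¬ cj w H₁ ≤ cfker H l) :
    inertia U l ≤ cj w (U1 U H₀ H₁) := by
  rw [c.le_cjU1 n hw, ← c.inf_cj_eq n hw (mem_irrK.1 hl).2 h]
  exact ⟨inertia_le _ _, le_inf (comm_le_right ((inertia_le _ _).trans (c.normU_cj hw n.norm)))
    ((comm_mono_right (c.cj_leH (c.le1 hw) n.leH)).trans (c.comm_inertia hl))⟩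

theorem inertia_le_U1 (hl : l ∈ irrK H H₀) (h : ¬ H₁ ≤ cfker H l) : inertia U l ≤ U1 U H₀ H₁ := by
  have := c.inertia_le_cjU1 n (one_mem W₁) hl (by rwa [cj_one])
  rwa [cj_one] at this

/-- (9.8)(a). -/
theorem ng_dvd (hθ : θ ∈ irrKD K H H₀) : a ∣ deg θ := by
  obtain ⟨h1, h2, h3⟩ := mem_irrKD.1 hθ
  obtain ⟨l, hl, h4, h5⟩ := c.exists_constt h1 h2 h3
  have : ∃ w : W₁, ¬ cj (w : Γ) H₁ ≤ cfker H l := by
    by_contra h
    push Not at h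
    exact h4 (n.sup.ge.trans (iSup_le h))
  obtain ⟨w, hw⟩ := this
  refine dvd_trans ?_ (c.idx_dvd_deg h1 (mem_irrK.1 hl).1 h5)
  rw [← c.idx_cjU1 n w.2]
  exact relIndex_dvd_of_le_left _ (c.inertia_le_cjU1 n w.2 hl hw)

theorem le0_K1 : H₀ ≤ K1 W₁ H₀ H₁ := le_coq _
theorem K1H : K1 W₁ H₀ H₁ ≤ H := coq_le_of_le_quo c.nml0H
  (iSup₂_le fun w _ => quo_mono _ (c.cj_leH (c.le1 w.2) n.leH))
theorem cj_le_K1 (hw : w ∈ W₁) (h1 : w ≠ 1) : cj w H₁ ≤ K1 W₁ H₀ H₁ :=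
  (quo_le_iff (c.N0 ((c.cj_leH (c.le1 hw) n.leH).trans c.HM))).1
    (le_iSup₂_of_le (f := fun (w : W₁) (_ : w ≠ 1) => quo (cj (w : Γ) H₁) H₀) ⟨w, hw⟩
      (fun h => h1 (congrArg Subtype.val h)) le_rfl)
theorem not_le0_H1 : ¬ H₁ ≤ H₀ := fun h => by
  have := n.card; rw [relIndex_eq_one.2 h] at this; exact c.pp.one_lt.ne this
theorem not_le_K1 : ¬ H₁ ≤ K1 W₁ H₀ H₁ := fun h => by
  have h1 := n.indep 1
  have hN := c.N0 (n.leH.trans c.HM)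
  simp only [OneMemClass.coe_one, cj_one] at h1
  exact c.not_le0_H1 n ((quo_eq_bot hN).1 (h1.eq_bot_of_le ((quo_le_iff hN).2 h)))
theorem sup_K1 : H₁ ⊔ K1 W₁ H₀ H₁ = H := by
  refine le_antisymm (sup_le n.leH (c.K1H n)) (n.sup.ge.trans (iSup_le fun w => ?_))
  by_cases h : (w : Γ) = 1
  · rw [h, cj_one]; exact le_sup_left
  · exact (c.cj_le_K1 n w.2 h).trans le_sup_right
theorem normU_K1 : U ≤ N[K1 W₁ H₀ H₁] := norm_coq (c.N0 c.UM)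
  (norm_iSup fun w => norm_iSup fun _ => quo_norm _ (c.normU_cj w.2 n.norm))
theorem normH_K1 : H ≤ N[K1 W₁ H₀ H₁] := c.normH_of (c.le0_K1 n) (c.K1H n)
theorem nmlK1 : K1 W₁ H₀ H₁ ⊴ K := c.nmlK_of ((c.K1H n).trans c.HK) (c.normH_K1 n) (c.normU_K1 n)
theorem idxK1 : (K1 W₁ H₀ H₁).relIndex H = p := by
  have h1 := relIndex_sup_of_norm (n.leH.trans (c.normH_K1 n))
  have h2 := c.inf_cj_eq n (one_mem _) (c.le0_K1 n) (by rw [cj_one]; exact c.not_le_K1 n)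
  rw [cj_one] at h2
  rw [sup_comm, c.sup_K1 n] at h1
  rw [h1, ← inf_relIndex_left, h2, n.card]
theorem comm_U1_K1 : ⁅H, U1 U H₀ H₁⁆ ≤ K1 W₁ H₀ H₁ := by
  have h1 := (c.U1U n).trans (c.normU_K1 n)
  conv_lhs => rw [← c.sup_K1 n]
  exact comm_sup_le (n.leH.trans (c.normH_K1 n)) (norm_self _) h1
    (by rw [H24.commC]; exact (c.commU1 n).trans (c.le0_K1 n)) (comm_le_left h1)
theorem le_cj_K1 (hw : w ∈ W₁) (h1 : w ≠ 1) : H₁ ≤ cj w (K1 W₁ H₀ H₁) :=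
  le_cj_iff.2 (c.cj_le_K1 n (inv_mem hw) (inv_ne_one.2 h1))
theorem le_of_K1 (h : K1 W₁ H₀ H₁ ≤ X) : H ≤ X ↔ H₁ ≤ X :=
  ⟨n.leH.trans, fun h1 => (c.sup_K1 n).ge.trans (sup_le h1 h)⟩

theorem exists_theta : ∃ l ∈ irrK H H₀, K1 W₁ H₀ H₁ ≤ cfker H l ∧ ¬ H₁ ≤ cfker H l := by
  obtain ⟨l, hl⟩ := irrKD_nonempty (K := H) ⟨c.K1H n, c.normH_K1 n⟩ (c.not_le_K1 n)
  obtain ⟨h1, h2, h3⟩ := mem_irrKD.1 hl
  exact ⟨l, mem_irrK.2 ⟨h1, (c.le0_K1 n).trans h2⟩, h2, h3⟩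

theorem inertia_theta (hl : l ∈ irrK H H₀) (h1 : K1 W₁ H₀ H₁ ≤ cfker H l)
    (h2 : ¬ H₁ ≤ cfker H l) : inertia U l = U1 U H₀ H₁ :=
  le_antisymm (c.inertia_le_U1 n hl h2) ((le_inertia_iff (c.lin hl)
    (c.NH ((c.U1U n).trans c.UM))).2 ⟨c.U1U n, by
      rw [H24.commC]; exact (c.comm_U1_K1 n).trans h1⟩)

theorem conj_irrK (hl : l ∈ irrK H H₀) {g : Γ} (hg : g ∈ M) : cfConj g l ∈ irrK H H₀ :=
  mem_irrK.2 ⟨irr_conj (mem_irrK.1 hl).1 (c.nmlH.norm hg),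
    (le_cfker_cfConj (c.nmlH.norm hg) (c.nml0.norm hg)).2 (mem_irrK.1 hl).2⟩

theorem theta_apply (hl : l ∈ irrK H H₀) (h1 : K1 W₁ H₀ H₁ ≤ cfker H l) (hw : w ∈ W₁)
    (hw1 : w ≠ 1) {x : Γ} (hx : x ∈ H₁) : l (w * x * w⁻¹) = 1 :=
  ((c.lin hl).mem_cfker.1 (h1 (c.cj_le_K1 n hw hw1 (conj_mem_cj w hx)))).2

/-- (9.8)(c). -/
theorem ng_irr : ∃ χ ∈ Irr M, IndHC M K H U W₁ H₀ C χ := by
  classical
  obtain ⟨t, ht, h1, h2⟩ := c.exists_theta n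
  have := Fintype.ofFinite W₁
  let η : W₁ → Γ → ℂ := fun w => if w = 1 then conjC t else t
  have hη : ∀ w, η w ∈ irrK H H₀ ∧ K1 W₁ H₀ H₁ ≤ cfker H (η w) ∧ ¬ H₁ ≤ cfker H (η w) := fun w => by
    by_cases h : w = 1
    · simp only [η, if_pos h]
      rw [cfker_cfAut]; exact ⟨aut_mem_irrK ht _, h1, h2⟩
    · simp only [η, if_neg h]; exact ⟨ht, h1, h2⟩
  have hη' : ∀ w : W₁, cfConj (w : Γ)⁻¹ (η w) ∈ irrK H H₀ := fun w =>
    c.conj_irrK n (hη w).1 (c.le1 (inv_mem w.2))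
  set l := cfOne H * ∏ w : W₁, cfConj (w : Γ)⁻¹ (η w) with hl
  have hlin : IsLin H l := isLin_prod _ fun w _ => c.lin (hη' w)
  have hl0 : l ∈ irrK H H₀ := mem_irrK.2 ⟨hlin.irr, fun x hx => hlin.mem_cfker.2 ⟨c.le0 hx, by
    rw [hl, Pi.mul_apply, cfOne_of_mem (c.le0 hx), one_mul, Finset.prod_apply]
    exact Finset.prod_eq_one fun w _ =>
      ((c.lin (hη' w)).mem_cfker.1 ((mem_irrK.1 (hη' w)).2 hx)).2⟩⟩
  have hlw : ∀ w : W₁, ∀ x ∈ H₁, l (w * x * (w : Γ)⁻¹) = η w x := fun w x hx => by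
    rw [hl, Pi.mul_apply, cfOne_of_mem (conj_mem (c.NH c.le1 w.2) (n.leH hx)), one_mul,
      Finset.prod_apply, Finset.prod_eq_single w _ (by simp), cfConj_inv_conj]
    intro v _ hv
    have := c.theta_apply n (hη v).1 (hη v).2.1 (mul_mem (inv_mem v.2) w.2)
      (fun h => hv (Subtype.ext (inv_mul_eq_one.1 h))) hx
    rw [cfConj_inv_apply, ← this]
    congr 1; group
  have hk : ∀ w : W₁, ¬ cj (w : Γ) H₁ ≤ cfker H l := fun w h => (hη w).2.2 fun x hx =>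
    (c.lin (hη w).1).mem_cfker.2 ⟨n.leH hx, by
      rw [← hlw w x hx]; exact (hlin.mem_cfker.1 (h (conj_mem_cj _ hx))).2⟩
  have hI : inertia U l = C := le_antisymm
    (c.le_C_of_forall n fun w hw => c.inertia_le_cjU1 n hw hl0 (hk ⟨w, hw⟩)) (c.C_le_inertia hl0)
  obtain ⟨ξ, hξ, e, hθ⟩ := c.exists_ind hl0
    (fun h => hk 1 ((c.cj_leH (one_mem _) n.leH).trans h)) hI
  refine ⟨_, ?_, c.indHC_of hξ hθ⟩
  rw [cfInd_cfInd c.HCK c.leK]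
  refine inertia_ind_irr c.nmlHC hξ.irr ((inertia_le_res c.nmlH.norm ξ).trans ?_)
  rw [e]
  intro m hm
  obtain ⟨k, hk, w, hw, rfl⟩ := c.sdM.isProd.mul m hm.1
  by_cases hw1 : w = 1
  · rw [← hI, ← c.inertiaK hlin.char.CF]
    rw [hw1, mul_one] at hm ⊢
    exact ⟨hk, hm.2⟩
  exfalso
  obtain ⟨h, hh, u, hu, rfl⟩ := c.sdK.isProd.mul k hk
  have h3 : u * w ∈ inertia M l := by
    have := mul_mem (inv_mem (le_inertia c.HM hlin.char.CF hh)) hm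
    rwa [mul_assoc h, inv_mul_cancel_left] at this
  have hv : w⁻¹ * u * w ∈ U := conj_mem' (c.normU hw) hu
  have h4 : cfConj (w⁻¹ * u * w) (cfRes H₁ t) = conjC (cfRes H₁ t) := by
    rw [cfConj_cfRes (n.norm hv), conjC, cfAut_cfRes]
    refine cfRes_congr fun x hx => ?_
    have h5 := hlw ⟨w, hw⟩ _ (conj_mem (n.norm hv) hx)
    have h6 := hlw 1 x hx
    have h7 := congrFun h3.2 x
    simp only [η, if_neg (fun h => hw1 (congrArg Subtype.val h) : (⟨w, hw⟩ : W₁) ≠ 1),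
      OneMemClass.coe_one, one_mul, inv_one, mul_one, if_true] at h5 h6
    rw [cfConj_apply] at h7 ⊢
    rw [← h5]
    refine Eq.trans ?_ (h7.trans h6)
    congr 1; group
  have h5 := not_conj_eq_conjC ((c.lin ht).res n.leH).irr (c.oddOf (n.leH.trans c.HM))
    ((c.oddOf c.UM).of_dvd_nat (orderOf_dvd_card' hv)) h4
  rw [irr_eq_cfOne_iff ((c.lin ht).res n.leH).irr, (c.lin ht).char.cfker_res n.leH] at h5
  exact h2 (h5.trans inf_le_right)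

theorem conj_eq_of_K1 (hθ : ¬ H ≤ cfker K θ) (h1 : K1 W₁ H₀ H₁ ≤ cfker K θ) (hw : w ∈ W₁)
    (h2 : K1 W₁ H₀ H₁ ≤ cfker K (cfConj w θ)) : w = 1 := by
  by_contra hw1
  refine hθ ((c.le_of_K1 n h1).2 ((c.le_cj_K1 n hw hw1).trans fun y hy => ?_))
  obtain ⟨x, hx, rfl⟩ := mem_cj'.1 hy
  exact (mem_cfker_cfConj (c.NK c.le1 hw)).1 (h2 hx)

/-- (9.8)(d). -/
theorem ng_count : ∃ k, (p - 1) * (⁅U, U⁆ : Subgroup Γ).relIndex U = a ^ 2 * k ∧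
    k ≤ ((irrPart M (seqIndD K M H (H₀ ⊔ ⁅U, U⁆))).filter (fun ζ => deg ζ = ♯W₁ * a)).card := by
  classical
  set U₁ := U1 U H₀ H₁
  set K₁ := K1 W₁ H₀ H₁
  have hU1 : U₁ ≤ U := c.U1U n
  have hU' : ⁅U, U⁆ ≤ U₁ := c.derU_le.trans (c.CU1 n)
  have hT : H ⊔ U₁ ⊴ K := c.nmlH_supK (c.CU1 n) hU1
  have hnU' : ⁅U, U⁆ ≤ N[K₁] := (der1_le U).trans (c.normU_K1 n)
  have hN : K₁ ⊔ ⁅U, U⁆ ⊴ K := c.nmlK_of (sup_le (c.nmlK1 n).le ((der1_le U).trans c.UK))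
    (norm_sup_of_comm (c.normH_K1 n)
      (((comm_mono_right hU').trans (c.comm_U1_K1 n)).trans le_sup_left))
    (norm_sup (c.normU_K1 n) (norm_der1 (norm_self U)))
  have hNT : K₁ ⊔ ⁅U, U⁆ ≤ H ⊔ U₁ := sup_le_sup (c.K1H n) hU'
  have hder : ⁅H ⊔ U₁, H ⊔ U₁⁆ ≤ K₁ ⊔ ⁅U, U⁆ := der_sup_le (c.NH (hU1.trans c.UM))
    ((c.derH.trans (c.le0_K1 n)).trans le_sup_left) ((c.comm_U1_K1 n).trans le_sup_left)
    ((der1_mono hU1).trans le_sup_right)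
  set X := irrKD (H ⊔ U₁) H (K₁ ⊔ ⁅U, U⁆) with hX
  have hXl : ∀ ξ ∈ X, IsLin (H ⊔ U₁) ξ := fun ξ h =>
    irr_lin_of_der_le (mem_irrKD.1 h).1 (hder.trans (mem_irrKD.1 h).2.1)
  have hcard : X.card = (p - 1) * (⁅U, U⁆ : Subgroup Γ).relIndex U₁ := by
    have h1 := sum_irrKD_deg_sq (K := H ⊔ U₁) (hN.of_le hNT hT.le)
      (nml_sup_left (c.NH (hU1.trans c.UM)))
    rw [Finset.sum_congr rfl (g := fun _ => 1) (fun ξ h => by rw [(hXl ξ h).deg, one_pow]),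
      ← sup_assoc, sup_eq_left.2 (c.K1H n),
      c.idx_sup le_rfl le_rfl hU' hU1 (c.NH ((der1_le U).trans c.UM)) (c.NH (hU1.trans c.UM)),
      c.idx_sup (c.K1H n) le_rfl hU' hU1 hnU' (c.NH (hU1.trans c.UM)), c.idxK1 n, relIndex_self,
      one_mul, Finset.sum_const, smul_eq_mul, mul_one] at h1
    rw [Nat.sub_mul, one_mul, ← h1, Nat.add_sub_cancel]
  have hirr : ∀ ξ ∈ X, cfInd K (H ⊔ U₁) ξ ∈ Irr K := fun ξ h => by
    obtain ⟨h1, h2, h3⟩ := mem_irrKD.1 h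
    have hl := (hXl ξ h).res (le_sup_left : H ≤ H ⊔ U₁)
    have hk : K₁ ≤ cfker H (cfRes H ξ) := le_cfker_cfRes (le_sup_left.trans h2) (c.K1H n)
    refine c.ind_irr hl.irr (c.inertia_theta n (mem_irrK.2 ⟨hl.irr, (c.le0_K1 n).trans hk⟩) hk
      fun h4 => h3 ?_) h1 (dot_ne_of_res hl.irr rfl)
    have := (c.le_of_K1 n hk).2 h4
    rw [(irr_char h1).cfker_res le_sup_left] at this
    exact this.trans inf_le_right
  have h2 := card_image_cfInd_irr hT (X := X) (fun θ h => (mem_irrKD.1 h).1)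
    (fun θ h g hg => c.conj_mem_irrKD hT c.nmlHK.norm hN.norm h hg) hirr
  rw [c.idx_HX hU1, c.idxU1 n] at h2
  set Y := X.image (cfInd K (H ⊔ U₁)) with hY
  have hYp : ∀ θ ∈ Y, θ ∈ Irr K ∧ K₁ ⊔ ⁅U, U⁆ ≤ cfker K θ ∧ ¬ H ≤ cfker K θ ∧ deg θ = a := by
    intro θ hθ
    obtain ⟨ξ, h, rfl⟩ := Finset.mem_image.1 hθ
    obtain ⟨h1, h2, h3⟩ := mem_irrKD.1 h
    exact ⟨hirr ξ h, le_cfker_ind hN hT.le h2, by rwa [le_cfker_ind_iff c.nmlHK hT.le h1],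
      by rw [c.deg_ind hU1 (hXl ξ h), c.idxU1 n]⟩
  refine ⟨Y.card, ?_, ?_⟩
  · rw [← relIndex_mul_relIndex _ U₁ U hU' hU1, c.idxU1 n, ← mul_assoc, ← hcard, h2]; ring
  · refine Finset.card_le_card_of_injOn (cfInd M K) (fun θ hθ => ?_) fun θ hθ θ' hθ' e => ?_
    · obtain ⟨h1, h2, h3, h4⟩ := hYp θ hθ
      rw [Finset.coe_filter, Set.mem_ofPred_eq, mem_irrPart]
      refine ⟨⟨cfInd_mem_seqIndD M (mem_irrKD.2 ⟨h1,
        (sup_le_sup_right (c.le0_K1 n) _).trans h2, h3⟩), ?_⟩,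
        by rw [(irr_char h1).deg_ind c.leK, h4, c.idxK]⟩
      by_contra h5
      obtain ⟨w, hw, hw1⟩ := exists_ne_one c.ne1
      have h6 : cfConj w θ = θ := ((c.inertiaM h1 h5).ge (c.le1 hw)).2
      exact hw1 (c.conj_eq_of_K1 n h3 (le_sup_left.trans h2) hw
        (by rw [h6]; exact le_sup_left.trans h2))
    · obtain ⟨h1, h2, h3, -⟩ := hYp θ hθ
      obtain ⟨h1', h2', h3', -⟩ := hYp θ' hθ'
      obtain ⟨m, hm, rfl⟩ := mem_cfclass.1 ((cfInd_eq_iff_cfclass c.nmlK h1' h1).1 e)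
      obtain ⟨k, hk, w, hw, rfl⟩ := c.sdM.isProd.mul m hm
      rw [cfConj_mul, cfConj_CF (irr_CF h1') hk] at h2 ⊢
      rw [c.conj_eq_of_K1 n h3' (le_sup_left.trans h2') hw (le_sup_left.trans h2), cfConj_one]

/-- the character used in (9.11.2). -/
theorem ng_pair (hw : w ∈ W₁) (hw1 : w ≠ 1) : ∃ θ ∈ irrKD K H (H₀ ⊔ C),
    deg θ = (U1 U H₀ H₁ ⊓ cj w (U1 U H₀ H₁)).relIndex U := by
  obtain ⟨t, ht, h1, h2⟩ := c.exists_theta n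
  have ht' := c.conj_irrK n ht (c.le1 (inv_mem hw))
  have hl : t * cfConj w⁻¹ t ∈ irrK H H₀ := mul_mem_irrK_lin ht ht' (c.lin ht')
  have h3 : ¬ H₁ ≤ cfker H (t * cfConj w⁻¹ t) := fun h => h2 fun x hx =>
    (c.lin ht).mem_cfker.2 ⟨n.leH hx, by
      have := ((c.lin hl).mem_cfker.1 (h hx)).2
      rwa [Pi.mul_apply, cfConj_apply, c.theta_apply n ht h1 (inv_mem hw) (inv_ne_one.2 hw1) hx,
        mul_one] at this⟩
  have h4 : ¬ cj w H₁ ≤ cfker H (t * cfConj w⁻¹ t) := fun h => h2 fun x hx =>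
    (c.lin ht).mem_cfker.2 ⟨n.leH hx, by
      have := ((c.lin hl).mem_cfker.1 (h (conj_mem_cj w hx))).2
      rwa [Pi.mul_apply, cfConj_inv_conj, c.theta_apply n ht h1 hw hw1 hx, one_mul] at this⟩
  have hI : inertia U (t * cfConj w⁻¹ t) = U1 U H₀ H₁ ⊓ cj w (U1 U H₀ H₁) := by
    refine le_antisymm (le_inf (c.inertia_le_U1 n hl h3) (c.inertia_le_cjU1 n hw hl h4))
      fun x hx => ⟨c.U1U n hx.1, ?_⟩
    have h5 : x ∈ inertia U t := (c.inertia_theta n ht h1 h2).ge hx.1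
    have h6 : x ∈ inertia U (cfConj w⁻¹ t) := by
      rw [mem_inertia_cfConj (c.normU (inv_mem hw)), c.inertia_theta n ht h1 h2, inv_inv]
      exact mem_cj.1 hx.2
    rw [cfConj_mul_fun, h5.2, h6.2]
  obtain ⟨ξ, hξ, -, hθ⟩ := c.exists_ind hl (fun h => h3 (n.leH.trans h)) hI
  exact ⟨_, hθ, c.deg_ind (inf_le_left.trans (c.U1U n)) hξ⟩

end Ctx
end H27.PF9
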