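import Mathlib
import Cfsg.Agent.H27.PF9c

/-!
# Peterfalvi §9, part d: (9.11)
-/

set_option autoImplicit false
set_option linter.unusedSectionVars false
set_option linter.unusedVariables false

namespace H27.PF9

open Cfsg H24 Subgroup
open scoped commutatorElement ComplexConjugate

universe u v

variable {Γ : Type u} [Group Γ] [Finite Γ]
variable {M K H U W W₁ W₂ H₀ C X Y L H₁ : Subgroup Γ} {p a : ℕ} {l θ ξ ψ χ μ φ : Γ → ℂ} {w : Γ}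

theorem binom_bound {a : ℕ} (ha : 1 ≤ a) {q : ℕ} (hq : 3 ≤ q) :
    1 + 2 * a * q + (q + 2) * a ^ 3 + q ^ 2 * a ^ 2 < (2 * a + 1) ^ q := by
  induction q, hq using Nat.le_induction with
  | base =>
    have : 0 < a ^ 2 := by positivity
    nlinarith [Nat.zero_le (a ^ 3)]
  | succ q hq ih =>
    have h1 : a ^ 3 ≤ a ^ 4 := Nat.pow_le_pow_right ha (by norm_num)
    have h2 : (2 * a + 1) * (1 + 2 * a * q + (q + 2) * a ^ 3 + q ^ 2 * a ^ 2) <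
        (2 * a + 1) * (2 * a + 1) ^ q := Nat.mul_lt_mul_of_pos_left ih (by omega)
    rw [pow_succ' (2 * a + 1) q]
    refine lt_of_le_of_lt ?_ h2
    have h3 : a ^ 2 ≤ q * a ^ 2 := Nat.le_mul_of_pos_left _ (by omega)
    nlinarith [Nat.zero_le (q * a ^ 4), Nat.zero_le (q ^ 2 * a ^ 3), Nat.zero_le (q * a ^ 2)]

theorem cfInd_sd (h : SD K W M) (hφ : φ ∈ CF K) :
    cfInd M K φ = ∑ w ∈ fs (W : Set Γ), cfConj w φ := by
  have h1 := sum_fs_isProd h.isProd (fun g => cfConj g φ)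
  rw [h.inf, card_bot, one_smul, sum_fs_congr (g := fun _ => ∑ w ∈ fs (W : Set Γ), cfConj w φ)
    (fun k hk => Finset.sum_congr rfl fun w _ => by rw [cfConj_mul, cfConj_CF hφ hk]),
    sum_fs_const] at h1
  rw [cfInd_nml_eq h.nml (CF_le_cfOn _ hφ), ← h1, ← Nat.cast_smul_eq_nsmul ℂ, smul_smul]
  erw [inv_mul_cancel₀ (cardC_ne_zero K), one_smul]

theorem cfOne_CF_nml (h : X ⊴ K) : cfOne X ∈ CF K :=
  mem_CF.2 ⟨fun x hx => cfOne_of_not_mem fun h' => hx (h.le h'),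
    fun g hg x => congrFun (cfConj_cfOne (h.norm hg)) x⟩

theorem dot_one_one (A B : Subgroup Γ) :
    cfdot A (cfOne B) (cfOne A) = ((A ⊓ B).relIndex A : ℂ)⁻¹ := by
  have h1 := cfdot_of_cfOn (G := A) (H := A ⊓ B) inf_le_left (CF_le_cfOn _ (cfOne_mem_CF (A ⊓ B)))
    (cfOne A)
  rw [cfdot_congr (φ' := cfOne (A ⊓ B)) (ψ' := cfOne (A ⊓ B)) (fun _ _ => rfl)
    (fun x hx => by rw [cfOne_of_mem hx, cfOne_of_mem hx.1]), cfdot_cfOne_cfOne] at h1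
  rw [cfdot_congr (φ' := cfOne (A ⊓ B)) (ψ' := cfOne A) (fun x hx => ?_) (fun _ _ => rfl)]
  · exact eq_inv_of_mul_eq_one_right h1.symm
  · by_cases h : x ∈ B
    · rw [cfOne_of_mem h, cfOne_of_mem (show x ∈ A ⊓ B from ⟨hx, h⟩)]
    · rw [cfOne_of_not_mem h, cfOne_of_not_mem (fun h' : x ∈ A ⊓ B => h h'.2)]

theorem dot_ind_one (hK : K ⊴ M) (hH : H ⊴ M) (hHK : H ≤ K) (hX : H ≤ X) (hXM : X ≤ M)
    (hφ : φ ∈ seqIndD K M H Y) : cfdot M (cfInd M X (cfOne X)) φ = 0 := by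
  by_contra h
  obtain ⟨χ, hχ, h1, h2⟩ := exists_common_constt (cfInd_mem_CF _ _ _) h
  obtain ⟨θ, hθ, -, h3, rfl⟩ := mem_seqIndD.1 hφ
  rw [cfdot_cfInd_left hK.le _ (irr_CF hχ)] at h2
  refine h3 ((le_cfker_constt_res_iff hK hH hHK hχ hθ fun h => h2 (cfdot_symm_zero h)).2 ?_)
  exact (le_cfker_ind hH hXM (by rwa [cfker_cfOne])).trans
    (((isChar_cfOne X).ind hXM).cfker_le_constt hχ h1)

theorem norm_sq_int (m : ℤ) : ‖(m : ℂ)‖ ^ 2 = (m : ℝ) ^ 2 := by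
  rw [Complex.norm_intCast, sq_abs]

namespace Ctx
variable (c : Ctx M K H U W₁ W₂ H₀ C p)
include c

theorem sup_inf_sup (hX : X ≤ U) (hY : Y ≤ U) : (H ⊔ X) ⊓ (H ⊔ Y) = H ⊔ (X ⊓ Y) := by
  refine le_antisymm (fun x hx => ?_)
    (le_inf (sup_le_sup_left inf_le_left H) (sup_le_sup_left inf_le_right H))
  obtain ⟨h, hh, y, hy, rfl⟩ := (mem_sup_of_norm (c.NH (hX.trans c.UM))).1 hx.1
  obtain ⟨h', hh', y', hy', e⟩ := (mem_sup_of_norm (c.NH (hY.trans c.UM))).1 hx.2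
  have := (mul_eq_mul_of_inf c.sdK.inf hh hh' (hX hy) (hY hy') e).2
  exact mul_mem (mem_sup_left hh) (mem_sup_right ⟨hy, this ▸ hy'⟩)

theorem deg_le (hχ : χ ∈ seqIndD K M H (H₀ ⊔ ⁅C, C⁆)) : deg χ ≤ ♯W₁ * C.relIndex U := by
  obtain ⟨θ, hθ, h2, -, rfl⟩ := mem_seqIndD.1 hχ
  obtain ⟨ψ, hψ, h⟩ := exists_irr_under c.HCK hθ
  have hle : H₀ ⊔ ⁅C, C⁆ ≤ H ⊔ C := sup_le_sup c.le0 (der1_le C)
  have h3 := (le_cfker_constt_res_iff (c.nmlHC.of_le c.HCK c.leK)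
    (c.nml0C'.of_le (hle.trans c.HCK) c.leK) hle hθ hψ h).2 h2
  have h4 := irr_deg_le_index_mul c.HCK hθ hψ h
  rw [(irr_lin_of_der_le hψ (c.der_HC.trans h3)).deg, mul_one, c.idx_HX c.CU] at h4
  rw [(irr_char hθ).deg_ind c.leK, c.idxK]
  exact Nat.mul_le_mul_left _ h4

variable (n : NG H U W₁ H₀ C H₁ p a)
include n

theorem deg_dvd (hχ : χ ∈ seqIndD K M H (H₀ ⊔ X)) : ♯W₁ * a ∣ deg χ := by
  obtain ⟨θ, hθ, h2, h3, rfl⟩ := mem_seqIndD.1 hχ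
  rw [(irr_char hθ).deg_ind c.leK, c.idxK]
  exact Nat.mul_dvd_mul_left _ (c.ng_dvd n (mem_irrKD.2 ⟨hθ, le_sup_left.trans h2, h3⟩))

theorem norm_gamma (h : ∀ w ∈ W₁, w ≠ 1 → U1 U H₀ H₁ ⊓ cj w (U1 U H₀ H₁) = C) :
    cfnorm M (cfInd M (H ⊔ U1 U H₀ H₁) (cfOne (H ⊔ U1 U H₀ H₁))) =
      a * (1 + ((♯W₁ : ℝ) - 1) / C.relIndex (U1 U H₀ H₁)) := by
  classical
  set U₁ := U1 U H₀ H₁
  have hU1 : U₁ ≤ U := c.U1U n
  have hT : H ⊔ U₁ ⊴ K := c.nmlH_supK (c.CU1 n) hU1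
  refine cfnorm_eq_of_cfdot ?_
  rw [cfdot_cfInd_right (hT.le.trans c.leK) (cfInd_mem_CF _ _ _), ← cfInd_cfInd hT.le c.leK,
    cfInd_cfOne_nml hT, map_smul, cfInd_sd c.sdM (cfOne_CF_nml hT), cfdot_smul_left,
    c.idx_HX hU1, c.idxU1 n, ← sum_fs_inv, cfdot_sum_left,
    sum_fs_diff (B := {1}) (by simp), sum_fs_singleton,
    sum_fs_congr (g := fun _ => ((C.relIndex U₁ : ℂ))⁻¹), inv_one, cfConj_one, cfdot_cfOne_cfOne,
    Finset.sum_const, card_fs_ncard, Set.ncard_sdiff_singleton_of_mem (by simp), nsmul_eq_mul,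
    ← Nat.card_coe_set_eq, Nat.cast_pred]
  · push_cast
    rw [add_comm]; rfl
  · exact card_pos W₁
  · intro w hw
    rw [cfOne_cj, dot_one_one, cj_sup, c.cjH (c.le1 hw.1), c.sup_inf_sup hU1 (c.cjU1U n hw.1),
      h w hw.1 hw.2, c.idx_sup le_rfl le_rfl (c.CU1 n) hU1 (c.NH c.CM) (c.NH (hU1.trans c.UM)),
      relIndex_self, one_mul]

/-- (9.11.1). -/
theorem step1 {G' : Subgroup Γ} {τ : (Γ → ℂ) →ₗ[ℂ] (Γ → ℂ)} {R : (Γ → ℂ) → Finset (Γ → ℂ)}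
    [DecidableEq (Γ → ℂ)]
    (hS : Subcoh M G' (seqIndD K M H (H₀ ⊔ ⁅C, C⁆)) τ R) {T : Finset (Γ → ℂ)}
    (hT1 : ∀ χ ∈ seqIndD K M H (H₀ ⊔ ⁅C, C⁆), deg χ = ♯W₁ * a → χ ∈ T)
    (hT : ConjSub T (seqIndD K M H (H₀ ⊔ ⁅C, C⁆))) (hc : Coherent M G' T τ)
    (hχ : χ ∈ seqIndD K M H (H₀ ⊔ ⁅C, C⁆)) (hn : χ ∉ T)
    (hmax : ¬ Coherent M G' (insert χ (insert (conjC χ) T)) τ) :
    deg χ = ♯W₁ * C.relIndex U ∧ 2 * a = p - 1 ∧ a ^ 2 * T.card = (p - 1) * C.relIndex U ∧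
      ∀ ψ ∈ T, ψ ∈ Irr M ∧ ψ ∈ seqIndD K M H (H₀ ⊔ C) ∧ deg ψ = ♯W₁ * a := by
  obtain ⟨k, hk, hkZ⟩ := c.ng_count n
  set Z := (irrPart M (seqIndD K M H (H₀ ⊔ ⁅U, U⁆))).filter (fun ζ => deg ζ = ♯W₁ * a) with hZ
  have hZp : ∀ ψ ∈ Z, ψ ∈ Irr M ∧ ψ ∈ seqIndD K M H (H₀ ⊔ ⁅U, U⁆) ∧ deg ψ = ♯W₁ * a := fun ψ h => by
    rw [hZ, Finset.mem_filter, mem_irrPart] at h; exact ⟨h.1.2, h.1.1, h.2⟩
  have hZT : Z ⊆ T := fun ψ h => hT1 ψ
    (seqIndD_mono K M le_rfl (sup_le_sup_left (der1_mono c.CU) H₀) (hZp ψ h).2.1) (hZp ψ h).2.2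
  set q := ♯W₁
  set u := C.relIndex U
  set u' := (⁅U, U⁆ : Subgroup Γ).relIndex U
  have hq : 0 < q := card_pos W₁
  have hu : 0 < u := H24.relIndex_pos _ _
  have hu' : 0 < u' := H24.relIndex_pos _ _
  have huu : u ≤ u' := Nat.le_of_dvd hu' (relIndex_dvd_of_le_left U c.derU_le)
  have ha := n.one_lt
  have hp := c.pp.two_le
  have h2a := c.two_a_le n
  have hk0 : 0 < k := by
    rcases Nat.eq_zero_or_pos k with h | h
    · rw [h, mul_zero] at hk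
      have : 0 < (p - 1) * u' := Nat.mul_pos (by omega) hu'
      omega
    · exact h
  obtain ⟨ψ₁, hψ₁⟩ := Finset.card_pos.1 (lt_of_lt_of_le hk0 hkZ)
  have hb : ∑ φ ∈ T, (deg φ : ℝ) ^ 2 / cfnorm M φ ≤ 2 * (deg χ : ℝ) * deg ψ₁ := by
    by_contra h
    exact hmax (hS.extend_coherent hT (hZT hψ₁) hχ hn hc
      (by rw [(hZp _ hψ₁).2.2]; exact c.deg_dvd n hχ) (not_le.1 h))
  have hpos : ∀ φ ∈ T, 0 < (deg φ : ℝ) ^ 2 / cfnorm M φ := fun φ h => by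
    have h1 := seqIndD_subT _ _ _ _ (hT.sub h)
    have h2 : (0 : ℝ) < deg φ := by exact_mod_cast seqInd_deg_pos c.leK h1
    exact div_pos (by positivity) (seqInd_norm_pos c.leK h1)
  rw [← Finset.sum_sdiff hZT, Finset.sum_congr (s₁ := Z) rfl (g := fun _ => ((q * a : ℕ) : ℝ) ^ 2)
    (fun φ h => by rw [irr_norm (hZp φ h).1, (hZp φ h).2.2, div_one]), Finset.sum_const,
    nsmul_eq_mul, (hZp _ hψ₁).2.2] at hb
  have hr : 0 ≤ ∑ φ ∈ T \ Z, (deg φ : ℝ) ^ 2 / cfnorm M φ :=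
    Finset.sum_nonneg fun φ h => (hpos φ (Finset.mem_sdiff.1 h).1).le
  have h1 : Z.card * (q * a) ^ 2 ≤ 2 * deg χ * (q * a) := by
    have : (Z.card : ℝ) * ((q * a : ℕ) : ℝ) ^ 2 ≤ 2 * (deg χ : ℝ) * (q * a : ℕ) := by linarith
    exact_mod_cast this
  have hD : deg χ ≤ q * u := c.deg_le hχ
  have hqa : 0 < q * a := Nat.mul_pos hq (by omega)
  have e1 : k * (q * a) ^ 2 = (p - 1) * u' * q ^ 2 := by rw [hk]; ring
  have l1 : k * (q * a) ^ 2 ≤ Z.card * (q * a) ^ 2 := Nat.mul_le_mul_right _ hkZ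
  have l2 : 2 * deg χ * (q * a) ≤ 2 * (q * u) * (q * a) :=
    Nat.mul_le_mul_right _ (Nat.mul_le_mul_left _ hD)
  have l3 : 2 * (q * u) * (q * a) ≤ (p - 1) * u * q ^ 2 := by
    calc _ = 2 * a * (u * q ^ 2) := by ring
      _ ≤ (p - 1) * (u * q ^ 2) := Nat.mul_le_mul_right _ h2a
      _ = _ := by ring
  have l4 : (p - 1) * u * q ^ 2 ≤ (p - 1) * u' * q ^ 2 :=
    Nat.mul_le_mul_right _ (Nat.mul_le_mul_left _ huu)
  have f1 : k = Z.card := Nat.eq_of_mul_eq_mul_right (pow_pos hqa 2) (by omega)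
  have f2 : deg χ = q * u :=
    Nat.eq_of_mul_eq_mul_left two_pos (Nat.eq_of_mul_eq_mul_right hqa (by omega))
  have f3 : 2 * a = p - 1 := by
    refine Nat.eq_of_mul_eq_mul_right (Nat.mul_pos hu (pow_pos hq 2)) ?_
    calc _ = 2 * (q * u) * (q * a) := by ring
      _ = (p - 1) * u * q ^ 2 := by omega
      _ = _ := by ring
  have f4 : u = u' := Nat.eq_of_mul_eq_mul_left (show 0 < p - 1 by omega)
    (Nat.eq_of_mul_eq_mul_right (pow_pos hq 2) (by omega))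
  have f5 : T = Z := by
    refine Finset.Subset.antisymm (fun φ h => ?_) hZT
    by_contra h'
    have h2 : 0 < ∑ φ ∈ T \ Z, (deg φ : ℝ) ^ 2 / cfnorm M φ :=
      Finset.sum_pos (fun φ h => hpos φ (Finset.mem_sdiff.1 h).1) ⟨φ, Finset.mem_sdiff.2 ⟨h, h'⟩⟩
    have h3 : (Z.card : ℝ) * ((q * a : ℕ) : ℝ) ^ 2 = 2 * (deg χ : ℝ) * (q * a : ℕ) := by
      have : Z.card * (q * a) ^ 2 = 2 * deg χ * (q * a) := by omega
      exact_mod_cast this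
    linarith
  have f6 : ⁅U, U⁆ = C := by
    refine eq_of_card_eq c.derU_le (Nat.eq_of_mul_eq_mul_right hu ?_)
    rw [card_mul_relIndex c.CU, f4, card_mul_relIndex (der1_le U)]
  refine ⟨f2, f3, by rw [f5, ← f1, ← hk, f4], fun ψ h => ?_⟩
  rw [f5] at h
  rw [← f6]
  exact hZp ψ h

/-- (9.11.2). -/
theorem step2 (hne : C.relIndex U ≠ a)
    (h : ∀ χ ∈ seqIndD K M H (H₀ ⊔ C), deg χ = ♯W₁ * a ∨ deg χ = ♯W₁ * C.relIndex U)
    (hw : w ∈ W₁) (hw1 : w ≠ 1) : U1 U H₀ H₁ ⊓ cj w (U1 U H₀ H₁) = C := by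
  obtain ⟨θ, hθ, hd⟩ := c.ng_pair n hw hw1
  set U₁ := U1 U H₀ H₁
  have h1 := h _ (cfInd_mem_seqIndD M hθ)
  rw [(irr_char (mem_irrKD.1 hθ).1).deg_ind c.leK, c.idxK, hd] at h1
  have hq : 0 < ♯W₁ := card_pos W₁
  have hV : U₁ ⊓ cj w U₁ ≤ U := inf_le_left.trans (c.U1U n)
  rcases h1 with h1 | h1
  · exfalso
    have h2 := Nat.eq_of_mul_eq_mul_left hq h1
    have h3 : U₁ ⊓ cj w U₁ = U₁ := by
      refine eq_of_card_eq inf_le_left (Nat.eq_of_mul_eq_mul_right (lt_trans one_pos n.one_lt) ?_)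
      conv_lhs => rw [← h2, card_mul_relIndex hV]
      rw [← c.idxU1 n, card_mul_relIndex (c.U1U n)]
    have h4 : W₁ ≤ N[U₁] := by
      rw [← zpowers_eq_of_prime c.prime hw hw1, zpowers_le]
      exact mem_N_of_le_cj (h3.ge.trans inf_le_right)
    have h5 : U₁ = C := le_antisymm (c.le_C_of_forall n fun v hv => (cj_of_mem_N (h4 hv)).ge) (c.CU1 n)
    exact hne (by rw [← h5]; exact c.idxU1 n)
  · have h2 := Nat.eq_of_mul_eq_mul_left hq h1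
    refine (eq_of_card_eq (le_inf (c.CU1 n) (c.C_cjU1 n hw))
      (Nat.eq_of_mul_eq_mul_right (H24.relIndex_pos C U) ?_)).symm
    rw [card_mul_relIndex c.CU, ← h2, card_mul_relIndex hV]

/-- (9.11.3). -/
theorem step3 (pr : PrimeTI M K W W₁ W₂) [DecidableEq (Γ → ℂ)] {T : Finset (Γ → ℂ)}
    (hT : ∀ ψ ∈ T, ψ ∈ Irr M ∧ ψ ∈ seqIndD K M H (H₀ ⊔ C) ∧ deg ψ = ♯W₁ * a)
    (hk : a ^ 2 * T.card = (p - 1) * C.relIndex U)
    (h : ∀ χ ∈ seqIndD K M H (H₀ ⊔ C), χ ∉ T → deg χ = ♯W₁ * C.relIndex U) :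
    p ^ ♯W₁ = 1 + (p - 1) * ♯W₁ + (p - 1) * C.relIndex U +
      (irrPart M (seqIndD K M H (H₀ ⊔ C)) \ T).card * (♯W₁ * C.relIndex U) := by
  have h1 := c.sum_sq le_rfl c.normC
  have hq : (0 : ℝ) < ♯W₁ := cardR_pos W₁
  have hu : (0 : ℝ) < C.relIndex U := by exact_mod_cast H24.relIndex_pos C U
  have e1 : (seqIndD K M H (H₀ ⊔ C)).filter (fun φ => φ ∈ Irr M) =
      irrPart M (seqIndD K M H (H₀ ⊔ C)) := by ext; rw [Finset.mem_filter, mem_irrPart]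
  have e2 : (seqIndD K M H (H₀ ⊔ C)).filter (fun φ => φ ∉ Irr M) =
      redPart M (seqIndD K M H H₀) := by
    ext φ; rw [Finset.mem_filter]
    exact ⟨fun h => mem_redPart.2 ⟨c.sub_0 _ h.1, h.2⟩,
      fun h => ⟨(c.red_indHC h).mem, (mem_redPart.1 h).2⟩⟩
  have hTs : T ⊆ irrPart M (seqIndD K M H (H₀ ⊔ C)) := fun ψ h =>
    mem_irrPart.2 ⟨(hT ψ h).2.1, (hT ψ h).1⟩
  rw [← Finset.sum_filter_add_sum_filter_not _ (fun φ => φ ∈ Irr M), e1, e2,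
    ← Finset.sum_sdiff hTs,
    Finset.sum_congr (s₁ := T) rfl (g := fun _ => ((♯W₁ * a : ℕ) : ℝ) ^ 2)
      (fun φ h => by rw [irr_norm (hT φ h).1, (hT φ h).2.2, div_one]),
    Finset.sum_congr (s₁ := _ \ T) rfl (g := fun _ => ((♯W₁ * C.relIndex U : ℕ) : ℝ) ^ 2)
      (fun φ h' => by
        obtain ⟨h2, h3⟩ := Finset.mem_sdiff.1 h'
        rw [irr_norm (mem_irrPart.1 h2).2, h φ (mem_irrPart.1 h2).1 h3, div_one]),
    Finset.sum_congr (s₁ := redPart _ _) rfl (g := fun _ => (♯W₁ : ℝ) * (C.relIndex U : ℝ) ^ 2)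
      (fun φ hφ => by
        rw [deg_eq_of (c.red_indHC hφ).one, c.norm_red (mem_redPart.1 hφ).1 (mem_redPart.1 hφ).2]
        push_cast; field_simp),
    Finset.sum_const, Finset.sum_const, Finset.sum_const, c.card_red pr] at h1
  have hk' : (a : ℝ) ^ 2 * T.card = (p - 1 : ℕ) * C.relIndex U := by exact_mod_cast hk
  simp only [nsmul_eq_mul] at h1
  push_cast at h1
  have : (p : ℝ) ^ ♯W₁ = 1 + (p - 1 : ℕ) * ♯W₁ + (p - 1 : ℕ) * C.relIndex U +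
      (irrPart M (seqIndD K M H (H₀ ⊔ C)) \ T).card * (♯W₁ * C.relIndex U) := by
    refine mul_left_cancel₀ (mul_pos hq hu).ne' ?_
    linear_combination (♯W₁ : ℝ) ^ 2 * hk' - h1
  exact_mod_cast this

theorem gamma_on {A A₀ : Set Γ} {R' : Γ → Subgroup Γ} (pd : PrimeDade M K H W W₁ W₂ A A₀ R') :
    cfInd M (H ⊔ U1 U H₀ H₁) (cfOne (H ⊔ U1 U H₀ H₁)) ∈ cfOn (insert 1 A) := by
  refine cfInd_mem_cfOn_of_conj _ _ (fun x hx => cfOne_of_not_mem fun hT => hx ?_) ?_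
  · by_cases h1 : x = 1
    · exact Or.inl h1
    right
    have hxK : x ∈ K := c.HXK (c.U1U n) hT
    have hxM := c.leK hxK
    have h2 : ⁅H ⊔ U1 U H₀ H₁, H₁⁆ ≤ H₀ := comm_sup_le (c.N0 c.HM) (c.N0 ((c.U1U n).trans c.UM))
      (c.N0 (n.leH.trans c.HM)) ((comm_mono_right n.leH).trans c.derH) (c.commU1 n)
    have h3 : H ⊓ C{x} ≠ ⊥ := fun h => by
      have h4 := quo_inf_C1_eq_bot (c.nmlH.norm hxM) (c.nml0.norm hxM) c.nml0H h
      have h5 := (quo_cents (c.N0 ((c.HXK (c.U1U n)).trans c.leK)) (c.N0 (n.leH.trans c.HM))).2 h2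
      refine c.not_le0_H1 n ((quo_eq_bot (c.N0 (n.leH.trans c.HM))).1 (eq_bot_of_le h4
        (le_inf (quo_mono _ n.leH) (mem_C_iff_le_C1.1 (h5 (cs_mem_quo hT (c.nml0.norm hxM)))))))
    obtain ⟨y, hy, hy1⟩ := exists_ne_one h3
    exact pd.cent_sub y hy.1 hy1 x hxK h1 (mem_C1.1 hy.2).symm
  · rintro g hg x (rfl | hx)
    · left; simp
    · exact Or.inr (pd.normA g hg x hx)

set_option maxHeartbeats 1000000 in
theorem step {A A₀ : Set Γ} {R' : Γ → Subgroup Γ} (pd : PrimeDade M K H W W₁ W₂ A A₀ R')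
    {R : (Γ → ℂ) → Finset (Γ → ℂ)} [DecidableEq (Γ → ℂ)]
    (hS : Subcoh M ⊤ (seqIndD K M H (H₀ ⊔ ⁅C, C⁆)) (Dade A₀ M R') R) {T : Finset (Γ → ℂ)}
    (hT1 : ∀ χ ∈ seqIndD K M H (H₀ ⊔ ⁅C, C⁆), deg χ = ♯W₁ * a → χ ∈ T)
    (hT : ConjSub T (seqIndD K M H (H₀ ⊔ ⁅C, C⁆))) (hc : Coherent M ⊤ T (Dade A₀ M R'))
    (hmax : ∀ χ ∈ seqIndD K M H (H₀ ⊔ ⁅C, C⁆), χ ∉ T →
      ¬ Coherent M ⊤ (insert χ (insert (conjC χ) T)) (Dade A₀ M R')) :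
    seqIndD K M H (H₀ ⊔ ⁅C, C⁆) ⊆ T := by
  intro χ₀ hχ₀
  by_contra hn₀
  set S := seqIndD K M H (H₀ ⊔ ⁅C, C⁆) with hSdef
  set τ := Dade A₀ M R' with hτ
  obtain ⟨d0, h2a, hk, hTp⟩ := c.step1 n hS hT1 hT hc hχ₀ hn₀ (hmax χ₀ hχ₀ hn₀)
  have hdeg : ∀ χ ∈ S, χ ∉ T → deg χ = ♯W₁ * C.relIndex U := fun χ h h' =>
    (c.step1 n hS hT1 hT hc h h' (hmax χ h h')).1
  have hne : C.relIndex U ≠ a := fun h => hn₀ (hT1 χ₀ hχ₀ (by rw [d0, h]))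
  have hV : ∀ w ∈ W₁, w ≠ 1 → U1 U H₀ H₁ ⊓ cj w (U1 U H₀ H₁) = C := fun w hw hw1 =>
    c.step2 n hne (fun χ h => by
      by_cases h' : χ ∈ T
      · exact Or.inl (hTp χ h').2.2
      · exact Or.inr (hdeg χ (c.sub_C h) h')) hw hw1
  have h3 := c.step3 n pd.pr hTp hk fun χ h h' => hdeg χ (c.sub_C h) h'
  have hγn := c.norm_gamma n hV
  have hγon := c.gamma_on n pd
  set γ := cfInd M (H ⊔ U1 U H₀ H₁) (cfOne (H ⊔ U1 U H₀ H₁)) with hγ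
  have hTM : H ⊔ U1 U H₀ H₁ ≤ M := (c.HXK (c.U1U n)).trans c.leK
  have hγS : ∀ φ ∈ S, cfdot M γ φ = 0 := fun φ h =>
    dot_ind_one c.nmlK c.nmlH c.HK le_sup_left hTM h
  have hγ1 : γ 1 = (♯W₁ * a : ℕ) := by
    rw [hγ, cfInd_one hTM, cfOne_apply_one, mul_one, c.idx_HXM (c.U1U n), c.idxU1 n]
  have hγv : γ ∈ vchar M := vchar_ind (cfOne_vchar _) hTM
  set m := C.relIndex (U1 U H₀ H₁) with hm
  have hum : C.relIndex U = m * a := by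
    rw [hm, ← c.idxU1 n, relIndex_mul_relIndex _ _ _ (c.CU1 n) (c.U1U n)]
  have ha := n.one_lt
  have hm0 : 0 < m := H24.relIndex_pos _ _
  have hma : m ≤ a := by
    obtain ⟨w, hw, hw1⟩ := exists_ne_one c.ne1
    have := relIndex_inf_le (H := U1 U H₀ H₁) (K := cj w (U1 U H₀ H₁)) (L := U)
    rw [hV w hw hw1, c.idxU1 n, c.idx_cjU1 n hw, hum] at this
    exact Nat.le_of_mul_le_mul_right this (by omega)
  have hm1 : m ≠ 1 := fun h => hne (by rw [hum, h, one_mul])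
  have hTc : T.card = 2 * m := by
    rw [← h2a, hum] at hk
    refine Nat.eq_of_mul_eq_mul_left (pow_pos (by omega : 0 < a) 2) ?_
    rw [hk]; ring
  obtain ⟨ψ₁, hψ₁⟩ := Finset.card_pos.1 (hTc ▸ (by omega : 0 < 2 * m))
  set S₄ := irrPart M (seqIndD K M H (H₀ ⊔ C)) \ T with hS₄
  have h4p : ∀ φ ∈ S₄, φ ∈ S ∧ φ ∈ Irr M ∧ φ ∉ T := fun φ h => by
    obtain ⟨h1, h2⟩ := Finset.mem_sdiff.1 h
    exact ⟨c.sub_C (mem_irrPart.1 h1).1, (mem_irrPart.1 h1).2, h2⟩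
  have h4c : ConjSub S₄ S := ⟨fun φ h => (h4p φ h).1, fun φ h => by
    obtain ⟨h1, h2⟩ := Finset.mem_sdiff.1 h
    refine Finset.mem_sdiff.2 ⟨mem_irrPart.2 ⟨cfAut_seqIndD _ (mem_irrPart.1 h1).1,
      irr_conjC (mem_irrPart.1 h1).2⟩, fun h' => h2 ?_⟩
    have := hT.conj_mem _ h'
    rwa [conjC_conjC] at this⟩
  have hone : ∀ φ ∈ S, φ 1 = deg φ := fun φ h => (hS.char φ h).one_eq
  have h4one : ∀ φ ∈ S₄, φ 1 = (♯W₁ * (m * a) : ℕ) := fun φ h => by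
    rw [hone φ (h4p φ h).1, hdeg φ (h4p φ h).1 (h4p φ h).2.2, hum]
  have hTone : ∀ φ ∈ T, φ 1 = (♯W₁ * a : ℕ) := fun φ h => by
    rw [hone φ (hT.sub h), (hTp φ h).2.2]
  obtain ⟨τ₃, hτ₃⟩ := (hS.sub h4c).uniform_degree_coherence
    fun φ h ψ h' => by rw [h4one φ h, h4one ψ h']
  obtain ⟨τ₁, hτ₁⟩ := hc
  have hdisj : Disjoint T S₄ := Finset.disjoint_sdiff
  have hS0 : S ⊆ seqIndD K M H ⊥ := seqIndD_mono K M le_rfl bot_le
  have hCF : ∀ φ ∈ S, φ ∈ CF M := fun φ h => (hS.char φ h).CF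
  have hd0 : ∀ φ ∈ S, ∀ ψ ∈ S, φ ≠ ψ → cfdot M φ ψ = 0 := hS.orth
  have hneT : ∀ φ ∈ S₄, ∀ ψ ∈ T, φ ≠ ψ := fun φ h ψ h' e => (h4p φ h).2.2 (e ▸ h')
  -- the bridge `α`
  set α := γ - ψ₁ with hα
  have hψS := hT.sub hψ₁
  have hψi := (hTp ψ₁ hψ₁).1
  have hαv : α ∈ vchar M := sub_mem hγv (irr_vchar hψi)
  have hαon : α ∈ cfOn A₀ := cfOn_mono pd.sub0 (cfOn_of_insert_one
    (sub_mem hγon (pd.seqIndD_on hψS)) (by rw [hα, Pi.sub_apply, hγ1, hTone _ hψ₁, sub_self]))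
  have hαC : α ∈ CFon M A₀ := mem_CFon.2 ⟨vchar_CF hαv, hαon⟩
  have hταv : τ α ∈ vchar ⊤ := Dade_vchar pd.dade hαv hαon
  have hαn : cfnorm ⊤ (τ α) = a * (1 + ((♯W₁ : ℝ) - 1) / m) + 1 := by
    rw [hτ, cfnorm_Dade pd.dade hαC, hα, cfnorm_sub_orth (hγS _ hψS), hγn, irr_norm hψi]
  have hαd : ∀ φ ∈ S, φ ≠ ψ₁ → cfdot M φ α = 0 := fun φ h h' => by
    rw [hα, cfdot_sub_right, cfdot_symm_zero (hγS φ h), hd0 φ h ψ₁ hψS h', sub_self]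
  have hαd1 : cfdot M ψ₁ α = -1 := by
    rw [hα, cfdot_sub_right, cfdot_symm_zero (hγS _ hψS), irr_dot_self hψi, zero_sub]
  have hiso : ∀ β ∈ CF M, cfdot ⊤ (τ β) (τ α) = cfdot M β α := fun β h =>
    Dade_isometry' pd.dade h hαC
  -- (9.11.5)
  have hN : cfnorm ⊤ (τ α) < S₄.card := by
    by_contra hle
    have hm' : (0 : ℝ) < m := by exact_mod_cast hm0
    have h5 : (m : ℝ) * S₄.card + a ≤ m * (a + 1) + a * ♯W₁ := by
      have := mul_le_mul_of_nonneg_left (not_lt.1 hle) hm'.le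
      rw [hαn] at this
      have e : (m : ℝ) * (a * (1 + ((♯W₁ : ℝ) - 1) / m) + 1) = m * (a + 1) + a * ♯W₁ - a := by
        field_simp; ring
      linarith
    have h6 : m * S₄.card + a ≤ m * (a + 1) + a * ♯W₁ := by exact_mod_cast h5
    have h7 := binom_bound ha.le c.three_le_q
    have hp : 2 * a + 1 = p := by have := c.pp.two_le; omega
    rw [hp, h3, ← h2a, hum] at h7
    set q := ♯W₁
    have h8 := Nat.mul_le_mul_left (q * a) h6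
    have h9 := Nat.mul_le_mul_left (q * a * (a + 1)) hma
    have h10 := Nat.mul_le_mul_left (2 * a ^ 2) hma
    nlinarith
  have hort4 : ∀ i ∈ S₄, ∀ j ∈ S₄, i ≠ j → cfdot ⊤ (τ₃ i) (τ₃ j) = 0 := fun i hi j hj h => by
    rw [hτ₃.dot hi hj, hd0 i (h4p i hi).1 j (h4p j hj).1 h]
  have hnrm4 : ∀ i ∈ S₄, cfdot ⊤ (τ₃ i) (τ₃ i) = 1 := fun i hi => by
    rw [hτ₃.dot hi hi, irr_dot_self (h4p i hi).2.1]
  have hdiff4 : ∀ i ∈ S₄, ∀ j ∈ S₄, τ₃ i = τ (i - j) + τ₃ j := fun i hi j hj => by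
    rw [← hτ₃.ext _ (sub_mem_zsp0 (mem_zsp_of_mem hi) (mem_zsp_of_mem hj)
      (by rw [h4one i hi, h4one j hj])), map_sub, sub_add_cancel]
  have hdiff1 : ∀ i ∈ T, τ₁ i = τ (i - ψ₁) + τ₁ ψ₁ := fun i hi => by
    rw [← hτ₁.ext _ (sub_mem_zsp0 (mem_zsp_of_mem hi) (mem_zsp_of_mem hψ₁)
      (by rw [hTone i hi, hTone _ hψ₁])), map_sub, sub_add_cancel]
  -- (9.11.6)
  have hα4 : ∀ φ ∈ S₄, cfdot ⊤ (τ₃ φ) (τ α) = 0 := fun φ hφ => by
    obtain ⟨z, hz⟩ := vchar_dot_int (hτ₃.vchar hφ) hταv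
    have h5 := sum_sq_cfdot_le hnrm4 hort4 (τ α)
    rw [Finset.sum_congr rfl (g := fun _ => (z : ℝ) ^ 2) (fun i hi => by
      rw [cfdot_symm_int (n := z), norm_sq_int]
      rw [hdiff4 i hi φ hφ, cfdot_add_left, hz, hiso _ (sub_mem (hCF _ (h4p i hi).1)
        (hCF _ (h4p φ hφ).1)), cfdot_sub_left, hαd i (h4p i hi).1 (hneT i hi _ hψ₁),
        hαd φ (h4p φ hφ).1 (hneT φ hφ _ hψ₁), sub_self, zero_add]),
      Finset.sum_const, nsmul_eq_mul] at h5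
    have h6 : (z : ℝ) ^ 2 < 1 := by
      by_contra h
      have : (0 : ℝ) ≤ S₄.card := Nat.cast_nonneg _
      nlinarith
    have h7 : z ^ 2 < 1 := by exact_mod_cast h6
    have h8 : z = 0 := by nlinarith
    rw [hz, h8, Int.cast_zero]
  obtain ⟨φ, hφ⟩ : S₄.Nonempty := by
    refine Finset.card_pos.1 ?_
    have := lt_of_le_of_lt (cfnorm_nonneg _ _) hN
    exact_mod_cast this
  obtain ⟨hφS, hφi, hφT⟩ := h4p φ hφ
  have hφ' := h4c.conj_mem φ hφ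
  obtain ⟨hφS', hφi', hφT'⟩ := h4p _ hφ'
  have hφne : φ ≠ conjC φ := (hS.nreal φ hφS).symm
  -- the bridge `β`
  set β := φ - (m : ℂ) • ψ₁ with hβ
  have hβ1 : φ 1 = (m : ℂ) * ψ₁ 1 := by rw [h4one φ hφ, hTone _ hψ₁]; push_cast; ring
  have hβ0 : β ∈ zsp0 S := sub_mem_zsp0 (mem_zsp_of_mem hφS)
    (natCast_smul_mem m (mem_zsp_of_mem hψS)) hβ1
  have hβC : β ∈ CFon M A₀ := CFon_mono pd.sub0 (pd.zsp0_on hS0 hβ0)
  have hτβv : τ β ∈ vchar ⊤ := hS.isom.vchar _ hβ0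
  have hisoβ : ∀ δ ∈ CF M, cfdot ⊤ (τ β) (τ δ) = cfdot M β δ := fun δ h =>
    Dade_isometry pd.dade hβC h
  have hβd : ∀ δ ∈ S, δ ≠ φ → δ ≠ ψ₁ → cfdot M β δ = 0 := fun δ h h1 h2 => by
    rw [hβ, cfdot_sub_left, cfdot_smul_left, hd0 φ hφS δ h h1.symm, hd0 ψ₁ hψS δ h h2.symm,
      mul_zero, sub_self]
  have hβφ : cfdot M β φ = 1 := by
    rw [hβ, cfdot_sub_left, cfdot_smul_left, irr_dot_self hφi,
      hd0 ψ₁ hψS φ hφS (hneT φ hφ _ hψ₁).symm, mul_zero, sub_zero]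
  have hβψ : cfdot M β ψ₁ = -m := by
    rw [hβ, cfdot_sub_left, cfdot_smul_left, irr_dot_self hψi, hd0 φ hφS ψ₁ hψS (hneT φ hφ _ hψ₁),
      mul_one, zero_sub]
  have hβn : cfnorm ⊤ (τ β) = 1 + (m : ℝ) ^ 2 := by
    rw [hS.isom.norm hβ0, hβ, cfnorm_sub_orth, irr_norm hφi, cfnorm_natCast_smul, irr_norm hψi,
      mul_one]
    rw [cfdot_smul_right, hd0 φ hφS ψ₁ hψS (hneT φ hφ _ hψ₁), mul_zero]
  obtain ⟨b, hb⟩ := vchar_dot_int hτβv (hτ₁.vchar hψ₁)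
  obtain ⟨y, hy⟩ := vchar_dot_int hτβv (hτ₃.vchar hφ')
  have hb' : ∀ i ∈ T.erase ψ₁, cfdot ⊤ (τ β) (τ₁ i) = (b + m : ℤ) := fun i hi => by
    obtain ⟨h1, h2⟩ := Finset.mem_erase.1 hi
    rw [hdiff1 i h2, cfdot_add_right, hb, hisoβ _ (sub_mem (hCF _ (hT.sub h2)) (hCF _ hψS)),
      cfdot_sub_right, hβd i (hT.sub h2) (hneT φ hφ i h2).symm h1, hβψ]
    push_cast; ring
  have hy' : cfdot ⊤ (τ β) (τ₃ φ) = (y + 1 : ℤ) := by
    rw [hdiff4 φ hφ _ hφ', cfdot_add_right, hy, hisoβ _ (sub_mem (hCF _ hφS) (hCF _ hφS')),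
      cfdot_sub_right, hβφ, hβd _ hφS' hφne.symm (hneT _ hφ' _ hψ₁)]
    push_cast; ring
  let e : (Γ → ℂ) → Γ → ℂ := fun i => if i ∈ T then τ₁ i else τ₃ i
  have he1 : ∀ i ∈ T, e i = τ₁ i := fun i h => if_pos h
  have he4 : ∀ i ∈ S₄, e i = τ₃ i := fun i h => if_neg (h4p i h).2.2
  have hs : ∀ i ∈ insert φ (insert (conjC φ) T), i ∈ T ∨ i ∈ S₄ := fun i h => by
    rcases Finset.mem_insert.1 h with rfl | h
    · exact Or.inr hφ
    rcases Finset.mem_insert.1 h with rfl | h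
    · exact Or.inr hφ'
    · exact Or.inl h
  have h14 : ∀ i ∈ T, ∀ j ∈ S₄, cfdot ⊤ (τ₁ i) (τ₃ j) = 0 := fun i hi j hj =>
    hS.coherent_ortho hT hτ₁ h4c hτ₃ hdisj (mem_zsp_of_mem hi) (mem_zsp_of_mem hj)
  have hproj := cfnorm_eq_proj (H := ⊤) (s := insert φ (insert (conjC φ) T)) (e := e)
    (fun i h => by
      rcases hs i h with h | h
      · rw [he1 i h, hτ₁.dot h h, irr_dot_self (hTp i h).1]
      · rw [he4 i h, hnrm4 i h])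
    (fun i h j h' hij => by
      rcases hs i h with h | h <;> rcases hs j h' with h' | h'
      · rw [he1 i h, he1 j h', hτ₁.dot h h', hd0 i (hT.sub h) j (hT.sub h') hij]
      · rw [he1 i h, he4 j h', h14 i h j h']
      · rw [he4 i h, he1 j h', cfdot_symm_zero (h14 j h' i h)]
      · rw [he4 i h, he4 j h', hort4 i h j h' hij]) (τ β)
  have hnot : φ ∉ insert (conjC φ) T := fun h => (Finset.mem_insert.1 h).elim hφne hφT
  have hcE : ((T.erase ψ₁).card : ℤ) = 2 * m - 1 := by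
    rw [Finset.card_erase_of_mem hψ₁, hTc]; omega
  set ρ := τ β - ∑ i ∈ insert φ (insert (conjC φ) T), cfdot ⊤ (τ β) (e i) • e i with hρ
  rw [hβn, Finset.sum_insert hnot, Finset.sum_insert hφT', ← Finset.add_sum_erase _ _ hψ₁,
    he4 _ hφ, he4 _ hφ', he1 _ hψ₁, hy, hy', hb,
    Finset.sum_congr rfl (g := fun _ => ((b + m : ℤ) : ℝ) ^ 2) (fun i hi => by
      rw [he1 i (Finset.mem_of_mem_erase hi), hb' i hi, norm_sq_int]),
    norm_sq_int, norm_sq_int, norm_sq_int, Finset.sum_const, nsmul_eq_mul] at hproj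
  have hρ0 := cfnorm_nonneg ⊤ ρ
  have hcE' : ((T.erase ψ₁).card : ℝ) = ((2 * m - 1 : ℤ) : ℝ) := by exact_mod_cast hcE
  rw [hcE'] at hproj
  have hint : (y + 1) ^ 2 + y ^ 2 + b ^ 2 + (2 * m - 1) * (b + m) ^ 2 ≤ 1 + (m : ℤ) ^ 2 := by
    have : (((y + 1) ^ 2 + y ^ 2 + b ^ 2 + (2 * m - 1) * (b + m) ^ 2 : ℤ) : ℝ) ≤
        ((1 + (m : ℤ) ^ 2 : ℤ) : ℝ) := by
      push_cast at hproj ⊢; linarith
    exact_mod_cast this
  have hy1 : 1 ≤ (y + 1) ^ 2 + y ^ 2 := by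
    rcases le_or_gt 0 y with h | h <;> nlinarith
  have hm' : (0 : ℤ) < m := by exact_mod_cast hm0
  have hb01 : b + m = 0 ∨ b + m = 1 := by
    have h5 : m * ((b + m) * (b + m - 1)) ≤ 0 := by nlinarith
    have h6 : (b + m) * (b + m - 1) ≤ 0 := by
      by_contra h; nlinarith [mul_pos hm' (not_le.1 h)]
    by_contra h
    rcases le_or_gt (b + m) 0 with h7 | h7
    · have : b + m ≤ -1 := by omega
      nlinarith
    · have : 2 ≤ b + m := by omega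
      nlinarith
  rcases hb01 with hb0 | hb1
  · refine hmax φ hφS hφT (hS.extend_coherent_with hT hτ₁ hψ₁ hφS hφT (a := m)
      (X := τ β + (m : ℂ) • τ₁ ψ₁) (by rw [hβ1]; simp) ?_ ?_)
    · rw [cfdot_smul_right, cfdot_add_left, cfdot_smul_left, hb, hτ₁.dot hψ₁ hψ₁,
        irr_dot_self hψi, mul_one]
      have : ((b + m : ℤ) : ℂ) = 0 := by rw [hb0, Int.cast_zero]
      push_cast at this
      rw [this, mul_zero]
    · rw [Int.cast_natCast, add_sub_cancel_right]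
  · have hbm : b = 1 - m := by omega
    have hρ1 : ρ = 0 := by
      refine (cfnorm_eq_zero (H := ⊤) fun x hx => absurd (mem_top x) hx).1 (le_antisymm ?_ hρ0)
      have h5 : (1 : ℝ) ≤ ((y + 1 : ℤ) : ℝ) ^ 2 + (y : ℝ) ^ 2 := by exact_mod_cast hy1
      rw [hb1, hbm] at hproj
      push_cast at hproj h5
      nlinarith
    obtain ⟨x, hx⟩ := vchar_dot_int (hτ₁.vchar hψ₁) hταv
    have h5 := hisoβ α (vchar_CF hαv)
    rw [hρ, sub_eq_zero] at hρ1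
    rw [hρ1, cfdot_sum_left, Finset.sum_insert hnot, Finset.sum_insert hφT',
      ← Finset.add_sum_erase _ _ hψ₁, cfdot_smul_left, cfdot_smul_left, cfdot_smul_left,
      he4 _ hφ, he4 _ hφ', he1 _ hψ₁, hα4 _ hφ, hα4 _ hφ', hb, hx,
      Finset.sum_congr rfl (g := fun _ => ((x + 1 : ℤ) : ℂ)) (fun i hi => by
        obtain ⟨h1, h2⟩ := Finset.mem_erase.1 hi
        rw [cfdot_smul_left, he1 i h2, hb' i hi, hb1, hdiff1 i h2, cfdot_add_left, hx,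
          hiso _ (sub_mem (hCF _ (hT.sub h2)) (hCF _ hψS)), cfdot_sub_left, hαd i (hT.sub h2) h1,
          hαd1]
        push_cast; ring),
      Finset.sum_const, nsmul_eq_mul, hβ, cfdot_sub_left, cfdot_smul_left, hαd1,
      hαd φ hφS (hneT φ hφ _ hψ₁), hbm] at h5
    have hcE'' : ((T.erase ψ₁).card : ℂ) = ((2 * m - 1 : ℤ) : ℂ) := by exact_mod_cast hcE
    rw [hcE''] at h5
    have h6 : (m : ℤ) * (x + 1) = 1 := by
      have : (((m : ℤ) * (x + 1) : ℤ) : ℂ) = ((1 : ℤ) : ℂ) := by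
        push_cast at h5 ⊢; linear_combination h5
      exact_mod_cast this
    exact hm1 (by exact_mod_cast Int.eq_one_of_mul_eq_one_right hm'.le h6)

/-- (9.11), non-Galois case. -/
theorem ng_coherent {A A₀ : Set Γ} {R' : Γ → Subgroup Γ} (pd : PrimeDade M K H W W₁ W₂ A A₀ R')
    {R : (Γ → ℂ) → Finset (Γ → ℂ)}
    (hS : Subcoh M ⊤ (seqIndD K M H (H₀ ⊔ ⁅C, C⁆)) (Dade A₀ M R') R) :
    Coherent M ⊤ (seqIndD K M H (H₀ ⊔ ⁅C, C⁆)) (Dade A₀ M R') := by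
  classical
  set S := seqIndD K M H (H₀ ⊔ ⁅C, C⁆) with hSdef
  let P : Finset (Γ → ℂ) → Prop := fun T => (∀ χ ∈ S, deg χ = ♯W₁ * a → χ ∈ T) ∧ ConjSub T S ∧
    Coherent M ⊤ T (Dade A₀ M R')
  have h1 : ConjSub (S.filter fun χ => deg χ = ♯W₁ * a) S := ⟨Finset.filter_subset _ _, fun χ h => by
    rw [Finset.mem_filter] at h ⊢
    exact ⟨hS.conj_mem χ h.1, by rw [deg_conjC, h.2]⟩⟩
  have h2 : P (S.filter fun χ => deg χ = ♯W₁ * a) :=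
    ⟨fun χ h h' => Finset.mem_filter.2 ⟨h, h'⟩, h1, (hS.sub h1).uniform_degree_coherence
      fun φ h ψ h' => by
        rw [Finset.mem_filter] at h h'
        rw [(hS.char φ h.1).one_eq, (hS.char ψ h'.1).one_eq, h.2, h'.2]⟩
  obtain ⟨T, hT, hmax⟩ := Finset.exists_max_image (S.powerset.filter P) Finset.card
    ⟨_, Finset.mem_filter.2 ⟨Finset.mem_powerset.2 h1.sub, h2⟩⟩
  obtain ⟨-, hT1, hT2, hT3⟩ := Finset.mem_filter.1 hT
  refine hT3.mono (c.step n pd hS hT1 hT2 hT3 fun χ hχ hn hc => ?_)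
  have hsub : insert χ (insert (conjC χ) T) ⊆ S :=
    Finset.insert_subset hχ (Finset.insert_subset (hS.conj_mem χ hχ) hT2.sub)
  have := hmax _ (Finset.mem_filter.2 ⟨Finset.mem_powerset.2 hsub,
    fun φ h h' => Finset.mem_insert_of_mem (Finset.mem_insert_of_mem (hT1 φ h h')),
    ⟨hsub, fun φ h => by
      rcases Finset.mem_insert.1 h with rfl | h
      · exact Finset.mem_insert_of_mem (Finset.mem_insert_self _ _)
      rcases Finset.mem_insert.1 h with rfl | h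
      · rw [conjC_conjC]; exact Finset.mem_insert_self _ _
      · exact Finset.mem_insert_of_mem (Finset.mem_insert_of_mem (hT2.conj_mem φ h))⟩, hc⟩)
  have h3 : T ⊂ insert χ (insert (conjC χ) T) := Finset.ssubset_iff_subset_ne.2
    ⟨(Finset.subset_insert _ _).trans (Finset.subset_insert _ _),
      fun e => hn (e ▸ Finset.mem_insert_self _ _)⟩
  exact absurd this (not_le.2 (Finset.card_lt_card h3))

end Ctx
end H27.PF9
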