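import Mathlib
import Cfsg.Agent.H27.PF8
import Cfsg.Agent.H27.PF9d

/-!
# Peterfalvi §9 (maximal subgroups of types II, III, IV).  (9.1) is S1545 (Wielandt).
Notation: `H = Fc M`, `HU = ⁅M, M⁆`, `H₀ = pK M U`, `C = pC M U`, `p = pP M U`, `q = |W₁|`,
`u = pU M U`, `S(Y) = pS M Y`, `X(Y) = irrKD ⁅M, M⁆ (Fc M) Y`.
-/

set_option autoImplicit false
set_option linter.unusedSectionVars false
set_option linter.unusedVariables false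

namespace H27

open Cfsg H24 H25
open scoped ComplexConjugate

universe u v

variable {G : Type u} [Group G] [Finite G] [FT G] {M U W W₁ W₂ : Subgroup G}

namespace TypeP
variable (h : TypeP M U W W₁ W₂) (hM : IsCoatom M) (h5 : ¬ IsOfTypeV M)
include h

theorem Fcore_sdprod : SD (Fc M) (U ⊔ W₁) M := by
  have hn := Fc_nml M
  have hs : Fc M ⊔ (U ⊔ W₁) = M := by rw [← sup_assoc, h.sdHU.sup, h.sdM.sup]
  refine ⟨(sup_le h.leUM h.le1).trans hn.norm, eq_bot_iff.2 fun x hx => ?_, hs⟩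
  obtain ⟨u, hu, w, hw, rfl⟩ := (mem_sup_of_norm h.normU).1 hx.2
  have h1 : w ∈ ⁅M, M⁆ ⊓ W₁ :=
    ⟨by simpa using mul_mem (inv_mem (h.leU hu)) (h.Fc_le hx.1), hw⟩
  rw [h.sdM.inf, Subgroup.mem_bot] at h1
  rw [h1, mul_one] at hx ⊢
  rw [← h.sdHU.inf]; exact ⟨hx.1, hu⟩
theorem Fcore_coprime : (Nat.card (Fc M)).Coprime (Nat.card ↥(U ⊔ W₁)) := h.Fcore_sdprod.coprime_of_isHall_left (Fc_isHall M)

include hM h5

theorem compl_Frobenius : Frob (U ⊔ W₁) U W₁ := Frob.mk' h.normU (h.of_not_V hM h5).neU h.ne1 h.regU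
/-- (9.3), type II. -/
theorem typeII_core (h2 : IsOfTypeII M) :
    Fc M ⊓ C[U] = ⊥ ∧ Nat.card (Fc M) = Nat.card W₂ ^ Nat.card W₁ := by
  have h1 : Fc M ⊓ C[U] = ⊥ := by
    by_contra h1
    obtain ⟨x, hx, hx1⟩ := exists_ne_one (h.of_not_V hM h5).neU
    have e : Subgroup.centralizer (shp U) = C[U] := by
      ext g
      rw [Subgroup.mem_centralizer_iff, Subgroup.mem_centralizer_iff]
      refine ⟨fun h2 y hy => ?_, fun h2 y hy => h2 y hy.1⟩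
      by_cases hy1 : y = 1
      · rw [hy1, one_mul, mul_one]
      · exact h2 y ⟨hy, hy1⟩
    have h3 := (FTtypeI_II_facts hM (Or.inr ⟨h2, h.sdHU⟩)).2.1 (shp U) ⟨x, hx, hx1⟩ subset_rfl
      (by rwa [e])
    rw [e] at h3
    exact (h.of_II hM h2).2.2.1 ((N_le_NC U).trans (uniqMax_norm_le h3))
  refine ⟨h1, ?_⟩
  have := (H1.Frobenius_Wielandt_fixpoint (h.compl_Frobenius hM h5) h.Fcore_sdprod.norm
    h.Fcore_coprime (Fc_nil M).sol).2.2 h1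
  rwa [h.cent_core_compl] at this
/-- (9.3), types III and IV. -/
theorem typeIII_IV_core (h2 : ¬ IsOfTypeII M) :
    (Nat.card W₂).Prime ∧ Fc M ⊓ C[U ⊔ W₁] = ⊥ ∧
      Nat.card (Fc M) = Nat.card W₂ ^ Nat.card W₁ * Nat.card ↥(Fc M ⊓ C[U]) := by
  obtain ⟨T, V, hp, hT⟩ := h.pair_witness hM
  have hq := (hT.of_II hp.maxT (hp.two.resolve_left h2)).1.prime
  have hW := (H1.Frobenius_Wielandt_fixpoint (h.compl_Frobenius hM h5) h.Fcore_sdprod.norm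
    h.Fcore_coprime (Fc_nil M).sol).1
  rw [h.cent_core_compl] at hW
  have h1 : Fc M ⊓ C[U ⊔ W₁] = ⊥ := by
    by_contra h1
    have h3 := prime_eq_of_le hq
      (h.cent_core_compl ▸ inf_le_inf_left (Fc M) (C_anti (le_sup_right : W₁ ≤ U ⊔ W₁))) h1
    rw [h3] at hW
    have h4 := Nat.eq_of_mul_eq_mul_left (pow_pos (card_pos W₂) _) hW
    have h6 := eq_of_card_eq inf_le_left h4.symm
    exact h.not_cent (h.of_not_V hM h5).neU (cents_symm (h6.ge.trans inf_le_right))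
  refine ⟨hq, h1, ?_⟩
  rwa [h1, Subgroup.card_bot, one_pow, one_mul] at hW
/-- (9.4). -/
theorem Fcore_kernel_exists : Chief M (pK M U) (Fc M) ∧ Fc M ⊓ C[U] ≤ pK M U := by
  have hex : ∃ H₀, Chief M H₀ (Fc M) ∧ Fc M ⊓ C[U] ≤ H₀ := by
    have hn := Fc_nml M
    have hUW := h.Fcore_sdprod
    have hle : (Fc M ⊓ C[U]) ⊔ ⁅Fc M, Fc M⁆ ≤ Fc M := sup_le inf_le_left (der1_le _)
    have hS : (Fc M ⊓ C[U]) ⊔ ⁅Fc M, Fc M⁆ ⊴ M := ⟨hle.trans hn.le, by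
      conv_lhs => rw [← hUW.sup]
      exact sup_le (norm_of_der1_le le_sup_right hle) (norm_sup
        (norm_inf hUW.norm (norm_C (sup_le (norm_self U) h.normU))) (norm_der1 hUW.norm))⟩
    obtain ⟨X, hX, hSX⟩ := exists_chief_below hS hn (lt_of_le_of_ne hle fun e => by
      have := Phi_nongen (K := Fc M ⊓ C[U]) inf_le_left
        (e.ge.trans (sup_le_sup_left (Fc_nil M).der1_le_Phi _))
      exact h.not_cent (h.of_not_V hM h5).neU (cents_symm (this.ge.trans inf_le_right)))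
    exact ⟨X, hX, le_sup_left.trans hSX⟩
  rw [pK, dif_pos hex]
  exact Classical.choose_spec hex
theorem pP_prime : (pP M U).Prime := 
  Nat.minFac_prime fun e => not_le_of_gt (h.Fcore_kernel_exists hM h5).1.lt
    (Subgroup.relIndex_eq_one.1 e)
theorem Hbar_abelem : IsElementaryAbelian (pP M U) (quo (Fc M) (pK M U)) := 
  (h.Fcore_kernel_exists hM h5).1.elem_of_dvd (Fc_nil M).sol (h.pP_prime hM h5) (Nat.minFac_dvd _)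

theorem ctx9 : PF9.Ctx M ⁅M, M⁆ (Fc M) U W₁ W₂ (pK M U) (pC M U) (pP M U) :=
  ⟨h.sdM, h.sdHU, Fc_nml M, h.normU, h.regU, (h.of_not_V hM h5).neU, (h.of_not_V hM h5).prime,
    h.Fcore_coprime, mFT_odd M, h.sol, (h.Fcore_kernel_exists hM h5).1,
    (h.Fcore_kernel_exists hM h5).2, h.pP_prime hM h5, h.Hbar_abelem hM h5, rfl, h.derU_cent,
    h.cent_core_compl, h.cyc2⟩

omit h hM h5 in
theorem ng9 {H₁ : Subgroup G} {a : ℕ} : NonGalH1 M U W₁ H₁ a ↔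
    PF9.NG (Fc M) U W₁ (pK M U) (pC M U) H₁ (pP M U) a :=
  ⟨fun ⟨h1, h2, h3, h4, h5, h6, h7, h8, h9, h10, h11⟩ =>
    ⟨h1, h2, h3, h4, h5, h6, h7, h8, h9, h10, h11⟩,
   fun ⟨h1, h2, h3, h4, h5, h6, h7, h8, h9, h10, h11⟩ =>
    ⟨h1, h2, h3, h4, h5, h6, h7, h8, h9, h10, h11⟩⟩

omit h hM h5 in
theorem indHC9 {ζ : G → ℂ} (h1 : PF9.IndHC M ⁅M, M⁆ (Fc M) U W₁ (pK M U) (pC M U) ζ) :
    IsIndHC M U W₁ ζ := ⟨h1.1, h1.2, h1.3⟩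

theorem der_le_pK : ⁅Fc M, Fc M⁆ ≤ pK M U := (h.ctx9 hM h5).derH
theorem pC_le : pC M U ≤ U := (h.ctx9 hM h5).CU
theorem pC_nml : pC M U ⊴ U ⊔ W₁ := (h.ctx9 hM h5).nmlC
theorem pC_cent : ⁅pC M U, Fc M⁆ ≤ pK M U := (h.ctx9 hM h5).commC
theorem Fcore_extensions_normal : pK M U ⊔ pC M U ⊴ M ∧ Fc M ⊔ pC M U ⊴ M ∧
    pK M U ⊔ ⁅U, U⁆ ⊴ M ∧ pK M U ⊔ ⁅pC M U, pC M U⁆ ⊴ M := 
  ⟨(h.ctx9 hM h5).nml0C, (h.ctx9 hM h5).nmlHC, (h.ctx9 hM h5).nml0U', (h.ctx9 hM h5).nml0C'⟩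
theorem cent_le_pC : U ⊓ C[Fc M] ≤ pC M U := (h.ctx9 hM h5).cent_le_C
theorem derU_le_pC : ⁅U, U⁆ ≤ pC M U := (h.ctx9 hM h5).derU_le
/-- (9.6). -/
theorem Fcore_factor_facts : pC M U ≠ U ∧ (pK M U).relIndex W₂ = pP M U ∧
    (pK M U).relIndex (Fc M) = pP M U ^ Nat.card W₁ := ⟨(h.ctx9 hM h5).C_ne, (h.ctx9 hM h5).idx_facts⟩
theorem def_factor_prime (hp : (Nat.card W₂).Prime) : pP M U = Nat.card W₂ := 
  (Nat.prime_dvd_prime_iff_eq (h.pP_prime hM h5) hp).1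
    ((h.ctx9 hM h5).idx_facts.1 ▸ Subgroup.relIndex_dvd_card _ _)
theorem frobUW1c : Frob (quo (U ⊔ W₁) (pC M U)) (quo U (pC M U)) (quo W₁ (pC M U)) := (h.ctx9 hM h5).frobC
/-- (9.7)(a). -/
theorem Galois_Pn (hg : ¬ TypePGalois M U) : ∃ H₁ a, NonGalH1 M U W₁ H₁ a := by
  unfold TypePGalois at hg
  push Not at hg
  obtain ⟨X, h1, h2, h3, h4, h6⟩ := hg
  obtain ⟨H₁, a, hn⟩ := (h.ctx9 hM h5).nonGalois h1 h2 h3 h4 h6
  exact ⟨H₁, a, ng9.2 hn⟩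
/-- (9.7)(b). -/
theorem Galois_P (hg : TypePGalois M U) :
    (∃ (F : Type) (_ : Field F) (_ : Fintype F) (f ψ : G → F),
      Fintype.card F = pP M U ^ Nat.card W₁ ∧
        FieldModel (Fc M) (pK M U) U (pC M U) W₂ (pP M U) F f ψ) ∧
    Cyc (quo U (pC M U)) ∧ (pU M U).Coprime (pP M U - 1) ∧
      pU M U ∣ (pP M U ^ Nat.card W₁ - 1) / (pP M U - 1) := (h.ctx9 hM h5).Galois hg
/-- (9.8). -/
theorem nonGalois_characters (hg : ¬ TypePGalois M U) {H₁ : Subgroup G} {a : ℕ}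
    (h1 : NonGalH1 M U W₁ H₁ a) :
    (∀ θ ∈ irrKD ⁅M, M⁆ (Fc M) (pK M U), a ∣ deg θ) ∧
    ((redPart M (pS M (pK M U))).card = pP M U - 1 ∧
      ∀ μ ∈ redPart M (pS M (pK M U)), IsIndHC M U W₁ μ) ∧
    (∃ χ ∈ Irr M, IsIndHC M U W₁ χ) ∧
    (a ^ 2 * Nat.card ↥⁅U, U⁆ ∣ (pP M U - 1) * Nat.card U ∧
      (pP M U - 1) * Nat.card U / (a ^ 2 * Nat.card ↥⁅U, U⁆) ≤
        ((irrPart M (pS M (pK M U ⊔ ⁅U, U⁆))).filter (fun ζ => deg ζ = Nat.card W₁ * a)).card) :=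
  by
  have c := h.ctx9 hM h5
  have n := ng9.1 h1
  refine ⟨fun θ hθ => c.ng_dvd n hθ, ⟨c.card_red h.prTI, fun μ hμ => indHC9 (c.red_indHC hμ)⟩,
    (c.ng_irr n).imp fun χ hχ => ⟨hχ.1, indHC9 hχ.2⟩, ?_⟩
  obtain ⟨k, hk, hle⟩ := c.ng_count n
  have e : (pP M U - 1) * Nat.card U = a ^ 2 * Nat.card ↥⁅U, U⁆ * k := by
    rw [← card_mul_relIndex (der1_le U), mul_left_comm, hk]; ring
  refine ⟨⟨k, e⟩, ?_⟩
  rw [e, Nat.mul_div_cancel_left _ (Nat.mul_pos (pow_pos (lt_trans one_pos n.one_lt) 2)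
    (card_pos _))]
  exact hle
/-- (9.9). -/
theorem Galois_characters (hg : TypePGalois M U) :
    ((∀ θ ∈ irrKD ⁅M, M⁆ (Fc M) (pK M U), pU M U ∣ deg θ) ∧
      ∀ θ ∈ irrKD ⁅M, M⁆ (Fc M) (pK M U ⊔ ⁅pC M U, pC M U⁆), deg θ = pU M U ∧
        ∃ ξ, IsLin (Fc M ⊔ pC M U) ξ ∧ θ = cfInd ⁅M, M⁆ (Fc M ⊔ pC M U) ξ) ∧
    ((redPart M (pS M (pK M U))).card = pP M U - 1 ∧
      ∀ μ ∈ redPart M (pS M (pK M U)), IsIndHC M U W₁ μ) ∧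
    ((∀ ζ ∈ pS M (pK M U ⊔ ⁅pC M U, pC M U⁆), ζ ∉ Irr M) →
      pC M U = ⊥ ∧ pU M U = (pP M U ^ Nat.card W₁ - 1) / (pP M U - 1) ∧
        Frob (quo ⁅M, M⁆ (pK M U)) (quo (Fc M) (pK M U)) (quo U (pK M U))) := by
  have c := h.ctx9 hM h5
  exact ⟨⟨fun θ hθ => c.gal_dvd hg hθ, fun θ hθ => c.gal_ind hg hθ⟩,
    ⟨c.card_red h.prTI, fun μ hμ => indHC9 (c.red_indHC hμ)⟩, c.gal_all_red hg h.prTI⟩
/-- (9.8)(b) and (9.9)(b). -/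
theorem reducible_core_Ind :
    (redPart M (pS M (pK M U))).card = pP M U - 1 ∧
    (∃ μ ∈ pS M (pK M U ⊔ pC M U), μ ∉ Irr M) ∧
    (∀ μ ∈ redPart M (pS M (pK M U)), ∃ j ∈ irrK W W₁, j ≠ cfOne W ∧ μ = prRed M W W₁ W₂ j) ∧
    ∀ μ ∈ redPart M (pS M (pK M U)), IsIndHC M U W₁ μ := by
  have c := h.ctx9 hM h5
  exact ⟨c.card_red h.prTI, c.exists_red h.prTI, fun μ hμ => c.red_prRed h.prTI hμ,
    fun μ hμ => indHC9 (c.red_indHC hμ)⟩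
/-- (9.10). -/
theorem reducible_core_cases :
    (∃ χ ∈ Irr M, χ ∈ pS M (pK M U ⊔ ⁅pC M U, pC M U⁆) ∧ χ 1 = (Nat.card W₁ * pU M U : ℕ) ∧
      ∃ ξ, IsLin (Fc M ⊔ pC M U) ξ ∧ χ = cfInd M (Fc M ⊔ pC M U) ξ) ∨
    (TypePGalois M U ∧ Frob (quo ⁅M, M⁆ (pK M U)) (quo (Fc M) (pK M U)) (quo U (pK M U)) ∧
      Cyc U ∧ Nat.card U = (pP M U ^ Nat.card W₁ - 1) / (pP M U - 1) ∧
      (IsOfTypeII M → Frob ⁅M, M⁆ (Fc M) U)) := by
  have c := h.ctx9 hM h5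
  by_cases hg : TypePGalois M U
  · by_cases hr : ∀ ζ ∈ pS M (pK M U ⊔ ⁅pC M U, pC M U⁆), ζ ∉ Irr M
    · obtain ⟨h1, h2, h3⟩ := c.gal_all_red hg h.prTI hr
      have h4 := (c.Galois hg).2.1
      have h6 : Cyc U := cyc_of_quo c.nmlCU.norm (by rw [h1, bot_inf_eq]) h4
      refine Or.inr ⟨hg, h3, h6, by rw [← h2, h1, Subgroup.relIndex_bot_left], fun h7 => ?_⟩
      obtain ⟨-, -, -, h8, h9⟩ := h.of_II hM h7
      rw [← h9]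
      exact (h8.frob_iff (mFT_odd _)).2 fun p P _ hP => h6.of_le hP.le
    · push Not at hr
      obtain ⟨ζ, h1, h2⟩ := hr
      exact Or.inl ⟨ζ, h2, h1, c.gal_deg hg h1⟩
  · obtain ⟨H₁, a, n⟩ := h.Galois_Pn hM h5 hg
    obtain ⟨χ, h1, h2⟩ := c.ng_irr (ng9.1 n)
    exact Or.inl ⟨χ, h1, c.sub_C h2.mem, h2.one, h2.ind⟩
/-- (9.11). -/
theorem core_coherence : Coherent M ⊤ (pS M (pK M U ⊔ ⁅pC M U, pC M U⁆)) (tau0 M) := by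
  have c := h.ctx9 hM h5
  obtain ⟨R, hR, -⟩ := h.subcoherent hM
  have hS := hR.sub (seqIndD_conjSub ⁅M, M⁆ M h.Fc_le_core
    (bot_le : ⊥ ≤ pK M U ⊔ ⁅pC M U, pC M U⁆))
  by_cases hg : TypePGalois M U
  · exact hS.uniform_degree_coherence fun φ h1 ψ h2 => by
      rw [(c.gal_deg hg h1).1, (c.gal_deg hg h2).1]
  · obtain ⟨H₁, a, n⟩ := h.Galois_Pn hM h5 hg
    exact c.ng_coherent (ng9.1 n) (h.prDadeF hM) hS

end TypeP

end H27
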