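import Mathlib
import Cfsg.Agent.H27.PF7
import Cfsg.Agent.H27.PF9

/-!
# Peterfalvi §10, part a: (10.2)–(10.6)
-/

set_option autoImplicit false
set_option linter.unusedSectionVars false
set_option linter.unusedVariables false

namespace H27

open Cfsg H24 H25
open scoped ComplexConjugate

universe u v

namespace PF10

section general
variable {Γ : Type u} [Group Γ] [Finite Γ] {L K W W₁ W₂ : Subgroup Γ} {i j ζ ω : Γ → ℂ} {x : Γ}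

theorem irrK_irr {H N : Subgroup Γ} (h : i ∈ irrK H N) : i ∈ Irr H := (mem_irrK.1 h).1

theorem one_mul_irrK {H N : Subgroup Γ} (h : j ∈ irrK H N) : cfOne H * j = j :=
  cfOne_mul (irr_cfOn (irrK_irr h))

theorem irrK_mul_one {H N : Subgroup Γ} (h : i ∈ irrK H N) : i * cfOne H = i :=
  mul_cfOne (irr_cfOn (irrK_irr h))

theorem conjC_irrK {H N : Subgroup Γ} (h : i ∈ irrK H N) : conjC i ∈ irrK H N := aut_mem_irrK h _

/-- the elements of `L − K` are conjugate to elements of `W − W₂`. -/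
theorem exists_conj_W (h : PrimeTI L K W W₁ W₂) (hx : x ∈ L) (hK : x ∉ K) :
    ∃ g ∈ L, g * x * g⁻¹ ∈ W ∧ g * x * g⁻¹ ∉ W₂ := by
  have hsub : classSupp ((W : Set Γ) \ W₂) L ⊆ (L : Set Γ) \ K := by
    intro y hy
    obtain ⟨g, hg, h1, h2⟩ := mem_classSupp.1 hy
    refine ⟨(conj_mem_iff_of_mem hg y).1 (h.leW h1), fun hy => h2 ?_⟩
    have : g * y * g⁻¹ ∈ K ⊓ W := ⟨h.nml.conj_mem hg hy, h1⟩
    rwa [h.inf_W] at this
  have h2W : W₂ ≤ W := h.dp.right_le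
  have c1 := card_classSupp_nti h.nti
  rw [Set.ncard_sdiff h2W] at c1
  have c2 : ((L : Set Γ) \ K).ncard = Nat.card L - Nat.card K := Set.ncard_sdiff h.nml.le
  have c3 : Nat.card W = Nat.card W₁ * Nat.card W₂ := h.dp.card
  have c4 : Nat.card L = Nat.card K * Nat.card W₁ := h.sd.card
  have c5 : Nat.card W * W.relIndex L = Nat.card L := card_mul_relIndex h.leW
  have c6 : Nat.card W₂ * W.relIndex L = Nat.card K := by
    apply Nat.eq_of_mul_eq_mul_left (card_pos W₁)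
    rw [← mul_assoc, ← c3, c5, c4, mul_comm]
  have heq : classSupp ((W : Set Γ) \ W₂) L = (L : Set Γ) \ K := by
    refine Set.eq_of_subset_of_ncard_le hsub (le_of_eq ?_)
    rw [c1, c2]
    change _ = (Nat.card W - Nat.card W₂) * _
    rw [Nat.sub_mul, c5, c6]
  have : x ∈ classSupp ((W : Set Γ) \ W₂) L := heq ▸ ⟨hx, hK⟩
  exact mem_classSupp.1 this

theorem mu_dot_irr (h : PrimeTI L K W W₁ W₂) (hζ : ζ ∈ seqIndT K L) (hi : ζ ∈ Irr L)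
    (hω : ω ∈ Irr W) : cfdot L (prMu L W W₁ W₂ ω) ζ = 0 := by
  rcases h.seqIndT_cases hζ with ⟨j, hj, rfl⟩ | ⟨-, h2⟩
  · exact absurd hi (h.red_not_irr hj)
  · exact h2 ω hω

theorem irr_dot_red (h : PrimeTI L K W W₁ W₂) (hζ : ζ ∈ seqIndT K L) (hi : ζ ∈ Irr L)
    (hj : j ∈ irrK W W₁) : cfdot L ζ (prRed L W W₁ W₂ j) = 0 :=
  seqInd_orth h.nml _ hζ _ (h.red_mem_seqIndT hj) fun e => h.red_not_irr hj (e ▸ hi)

theorem mu0_dot_red [DecidableEq (Γ → ℂ)] (h : PrimeTI L K W W₁ W₂) (hi : i ∈ irrK W W₂)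
    (hj : j ∈ irrK W W₁) :
    cfdot L (prMu L W W₁ W₂ i) (prRed L W W₁ W₂ j) = if cfOne W = j then 1 else 0 := by
  have := h.mu_red_dot hi h.cyclicTI.one_J hj
  rwa [irrK_mul_one hi] at this

theorem red_zero (L : Subgroup Γ) :
    prRed L W W₁ W₂ (cfOne W) = ∑ i ∈ irrK W W₂, prMu L W W₁ W₂ i :=
  Finset.sum_congr rfl fun i hi => by rw [irrK_mul_one hi]

theorem sum_eta_zero :
    ∑ i ∈ irrK W W₂, eta W W₁ W₂ (i * cfOne W) = ∑ i ∈ irrK W W₂, eta W W₁ W₂ i :=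
  Finset.sum_congr rfl fun i hi => by rw [irrK_mul_one hi]

end general

end PF10

open PF10

variable {G : Type u} [Group G] [Finite G] [FT G] {M U W W₁ W₂ : Subgroup G}

theorem Const345.sign_cases {d n : ℕ} {δ : ℤ} (hc : Const345 M W W₁ W₂ d δ n)
    (h : CyclicTI ⊤ W W₁ W₂) : δ = 1 ∨ δ = -1 := by
  obtain ⟨j, hj, hj1⟩ := h.exists_J_ne
  rw [← hc.sign j hj hj1]
  exact prSign_cases _ _ _ _ _

theorem Const345.sign_sq {d n : ℕ} {δ : ℤ} (hc : Const345 M W W₁ W₂ d δ n)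
    (h : CyclicTI ⊤ W W₁ W₂) : (δ : ℂ) * δ = 1 := by
  rcases hc.sign_cases h with rfl | rfl <;> simp

theorem Const345.ratioC {d n : ℕ} {δ : ℤ} (hc : Const345 M W W₁ W₂ d δ n) :
    (d : ℂ) = n * Nat.card W₁ + δ := by exact_mod_cast hc.ratio

namespace TypeP
variable (h : TypeP M U W W₁ W₂) (hM : IsCoatom M)
include h hM

theorem der2_lt : ⁅⁅M, M⁆, ⁅M, M⁆⁆ < ⁅M, M⁆ :=
  H2.commutator_lt_of_isSolvable (mmax_sub_sol hM (der1_le M)) (ne_bot_of_le h.Fc_ne h.Fc_le)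

theorem irr_of_mem_lin {ζ : G → ℂ} (hζ : ζ ∈ seqIndD ⁅M, M⁆ M ⁅M, M⁆ ⁅⁅M, M⁆, ⁅M, M⁆⁆) :
    ζ ∈ Irr M ∧ ζ 1 = Nat.card W₁ := by
  constructor
  · rcases h.prTI.seqIndT_cases (seqIndD_subT _ _ _ _ hζ) with ⟨j, hj, rfl⟩ | h2
    · exfalso
      rw [← h.prTI.ind_res hj, cfInd_mem_seqIndD_iff (der1_nml M) (der1_nml M).norm
        (der1_nml M).der1.norm (h.prTI.res_irr hj)] at hζ
      by_cases hj1 : j = cfOne W
      · apply hζ.2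
        rw [hj1, h.prTI.res_one, cfker_cfOne]
      · exact h.prTI.not_le_cfker_res hj hj1 (h.le2der2.trans hζ.1)
    · exact h2.1
  · obtain ⟨θ, hθ, h1, -, rfl⟩ := mem_seqIndD.1 hζ
    rw [cfInd_one (der1_le M), (irr_lin_of_der_le hθ h1).one, h.prTI.index, mul_one]

/-- (10.2) (also valid for type II). -/
theorem ref_irr :
    ∃ ζ ∈ Irr M, ζ ∈ seqIndD ⁅M, M⁆ M ⁅M, M⁆ ⁅⁅M, M⁆, ⁅M, M⁆⁆ ∧ ζ 1 = Nat.card W₁ := by
  obtain ⟨ζ, hζ, -⟩ := exists_linInd (der1_le M) (der1_nml ⁅M, M⁆)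
    (by rw [sup_idem]; exact (h.der2_lt hM).ne)
  exact ⟨ζ, (h.irr_of_mem_lin hM hζ).1, hζ, (h.irr_of_mem_lin hM hζ).2⟩

theorem frob_der2 : Frob (quo M ⁅⁅M, M⁆, ⁅M, M⁆⁆) (quo ⁅M, M⁆ ⁅⁅M, M⁆, ⁅M, M⁆⁆)
    (quo W₁ ⁅⁅M, M⁆, ⁅M, M⁆⁆) := by
  have hn : ⁅⁅M, M⁆, ⁅M, M⁆⁆ ⊴ M := (der1_nml M).der1
  have hc : (Nat.card ↥⁅⁅M, M⁆, ⁅M, M⁆⁆).Coprime (Nat.card W₁) :=
    h.prTI.cop.coprime_dvd_left (card_dvd (der1_le _))
  refine ⟨h.sdM.quo_of_le (der1_le _) hn.norm, fun e => (h.der2_lt hM).not_ge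
    ((quo_eq_bot ((der1_le M).trans hn.norm)).1 e), fun e => h.ne1 ?_, fun z hz hz1 => ?_⟩
  · have := (quo_eq_bot (h.le1.trans hn.norm)).1 e
    rw [← inf_eq_bot_of_cop hc, inf_eq_right.2 this]
  · obtain ⟨x, hx, hxN, rfl⟩ := mem_quo.1 hz
    rw [← coprime_quo_cent1 ((der1_nml M).norm (h.le1 hx)) hxN ((der1_le M).trans hn.norm)
      (hc.coprime_dvd_right (orderOf_dvd_card' hx)), h.cent x hx (by
        rintro rfl
        exact hz1 ((cs_eq_one hxN).2 (one_mem _)))]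
    exact quo_eq_bot_of_le h.le2der2

theorem card_der_ge : (2 * Nat.card W₁ + 1) * Nat.card W₂ ≤ Nat.card ↥⁅M, M⁆ := by
  have hn : ⁅⁅M, M⁆, ⁅M, M⁆⁆ ⊴ M := (der1_nml M).der1
  have h1 := odd_Frobenius_index_ler (odd_quo (mFT_odd M) _) ⟨_, h.frob_der2 hM⟩
  rw [relIndex_quo (der1_nml _) hn.norm, h.prTI.index] at h1
  rw [← (der1_nml ⁅M, M⁆).card_quo, mul_comm]
  exact Nat.mul_le_mul (card_le h.le2der2) h1

theorem ref_irr' : ∃ ζ ∈ Irr M, ζ ∈ seqIndD ⁅M, M⁆ M ⁅M, M⁆ ⊥ ∧ ζ 1 = Nat.card W₁ := by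
  obtain ⟨ζ, h1, h2, h3⟩ := h.ref_irr hM
  exact ⟨ζ, h1, seqIndD_mono _ _ le_rfl bot_le h2, h3⟩

/-- (10.3). -/
theorem type345_core_prime (h2 : ¬ IsOfTypeII M) : (Nat.card W₂).Prime := by
  obtain ⟨T, V, hp, hT⟩ := h.pair_witness hM
  exact (hT.of_II hp.maxT (hp.two.resolve_left h2)).1.prime

theorem type345_constants (h2 : ¬ IsOfTypeII M) : ∃ d δ n, Const345 M W W₁ W₂ d δ n := by
  have hp := h.type345_core_prime hM h2
  have hc := h.cTI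
  have hr := h.prTI
  obtain ⟨j₀, hj₀, hj₀1⟩ := hc.exists_J_ne
  have hμ := hr.mu_irr (irrK_irr hj₀)
  have hd : 1 < deg (prMu M W W₁ W₂ j₀) := by
    by_contra hd
    have h1 : deg (prMu M W W₁ W₂ j₀) = 1 := by have := irr_deg_pos hμ; omega
    obtain ⟨i, hi, e⟩ := hr.mu0P.1
      (mem_irrK.2 ⟨hμ, ((irr_char hμ).isLin_of_deg h1).der_le_cfker⟩)
    rw [hr.mu_inj (irrK_irr hj₀) (irrK_irr hi)] at e
    exact hj₀1 (dprod_irrK_inter h.dp (e ▸ hi) hj₀)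
  have hm := hr.mu_one_mod hc.one_I hj₀
  rw [one_mul_irrK hj₀] at hm
  obtain ⟨n, hn⟩ := hm
  have hn0 : 0 ≤ n := by
    have : (0 : ℤ) < Nat.card W₁ := by exact_mod_cast card_pos W₁
    rcases prSign_cases M W W₁ W₂ j₀ with e | e <;> rw [e] at hn <;> nlinarith
  lift n to ℕ using hn0
  refine ⟨deg (prMu M W W₁ W₂ j₀), prSign M W W₁ W₂ j₀, n, fun i hi j hj hj1 => ?_,
    fun j hj hj1 => ?_, hd, by linarith⟩
  · obtain ⟨u, hu, -⟩ := hc.exists_aut_J hp hj₀ hj₀1 hj hj1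
    rw [hr.mu_apply_one hi hj, ← hu, hr.mu_aut u (irrK_irr hj₀), cfAut_apply,
      vchar_aut_one (irr_vchar hμ), irr_one_eq hμ]
  · obtain ⟨u, hu, -⟩ := hc.exists_aut_J hp hj₀ hj₀1 hj hj1
    rw [← hu, hr.sign_aut u (irrK_irr hj₀)]

theorem const_two_le {d n : ℕ} {δ : ℤ} (hc : Const345 M W W₁ W₂ d δ n) : 2 ≤ n ∧ Even n := by
  obtain ⟨j, hj, hj1⟩ := h.cTI.exists_J_ne
  have h1 := hc.deg _ h.cTI.one_I j hj hj1
  have hd : Odd d := by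
    rw [← deg_eq_of h1]
    exact irr_deg_odd (mFT_odd M) (h.prTI.mu_irr (h.cTI.mul_irr h.cTI.one_I hj))
  have hw := h.cTI.odd1
  have hr := hc.ratio
  have hl := hc.one_lt
  have he : Even n := by
    by_contra hn
    rw [Nat.not_even_iff_odd] at hn
    obtain ⟨a, ha⟩ := hn.mul hw
    obtain ⟨b, hb⟩ := hd
    have : ((n * Nat.card W₁ : ℕ) : ℤ) = 2 * a + 1 := by exact_mod_cast ha
    push_cast at this
    rcases hc.sign_cases h.cTI with e | e <;> omega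
  refine ⟨?_, he⟩
  obtain ⟨m, rfl⟩ := he
  rcases Nat.eq_zero_or_pos m with rfl | hm
  · rcases hc.sign_cases h.cTI with e | e <;> simp at hr <;> omega
  · omega

theorem typeA0_345 (h2 : ¬ IsOfTypeII M) :
    typeA0 M = shp ⁅M, M⁆ ∪ classSupp (cycV W W₁ W₂) M := by
  rw [h.typeA0_def, h.typeA_of_not_II hM h2]

theorem calS_conjSub (h2 : ¬ IsOfTypeII M) :
    ConjSub (seqIndD ⁅M, M⁆ M ⁅M, M⁆ ⊥) (seqIndD ⁅M, M⁆ M (typeCore M) ⊥) := by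
  rw [h.core_of_not_II hM h2]
  exact seqIndD_conjSub _ _ le_rfl le_rfl

theorem red_mem345 {j : G → ℂ} (h2 : ¬ IsOfTypeII M) (hJ : j ∈ irrK W W₁) (hj : j ≠ cfOne W) :
    prRed M W W₁ W₂ j ∈ seqIndD ⁅M, M⁆ M ⁅M, M⁆ ⊥ := by
  have := (h.prDade hM).red_mem hJ hj
  rwa [h.core_of_not_II hM h2] at this

theorem zsp0_on345 (h2 : ¬ IsOfTypeII M) {φ : G → ℂ} (hφ : φ ∈ zsp0 (seqIndD ⁅M, M⁆ M ⁅M, M⁆ ⊥)) :
    φ ∈ CFon M (typeA0 M) := by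
  refine CFon_mono ?_ (zsp0_seqInd_on (der1_nml M) (seqIndD_subT _ _ _ _) hφ)
  rw [h.typeA0_345 hM h2]
  exact Set.subset_union_left

theorem red0_sub_on (h2 : ¬ IsOfTypeII M) {ζ : G → ℂ} (hζ : ζ ∈ seqIndD ⁅M, M⁆ M ⁅M, M⁆ ⊥)
    (hζ1 : ζ 1 = Nat.card W₁) : prRed M W W₁ W₂ (cfOne W) - ζ ∈ CFon M (shp ⁅M, M⁆) := by
  refine zsp0_seqInd_on (der1_nml M) subset_rfl (sub_mem_zsp0
    (mem_zsp_of_mem (h.prTI.red_mem_seqIndT h.cTI.one_J))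
    (mem_zsp_of_mem (seqIndD_subT _ _ _ _ hζ)) ?_)
  rw [h.prTI.red_one, cfInd_one (der1_le M), h.prTI.index, hζ1, cfOne_apply_one, mul_one]

theorem red0_sub_on0 (h2 : ¬ IsOfTypeII M) {ζ : G → ℂ} (hζ : ζ ∈ seqIndD ⁅M, M⁆ M ⁅M, M⁆ ⊥)
    (hζ1 : ζ 1 = Nat.card W₁) : prRed M W W₁ W₂ (cfOne W) - ζ ∈ CFon M (typeA0 M) := by
  refine CFon_mono ?_ (h.red0_sub_on hM h2 hζ hζ1)
  rw [h.typeA0_345 hM h2]
  exact Set.subset_union_left

section bridge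
variable (h2 : ¬ IsOfTypeII M) {d n : ℕ} {δ : ℤ} (hc : Const345 M W W₁ W₂ d δ n) {ζ i j : G → ℂ}
  (hi : ζ ∈ Irr M) (hζ : ζ ∈ seqIndD ⁅M, M⁆ M ⁅M, M⁆ ⊥) (hζ1 : ζ 1 = Nat.card W₁)
include h2 hc hi hζ hζ1

theorem vchar_bridge345 (hI : i ∈ irrK W W₂) (hJ : j ∈ irrK W W₁) :
    bridge345 M W W₁ W₂ δ n ζ i j ∈ vchar M :=
  sub_mem (sub_mem (irr_vchar (h.prTI.mu_irr (h.cTI.mul_irr hI hJ)))
    (intCast_smul_mem _ (irr_vchar (h.prTI.mu_irr (irrK_irr hI))))) (natCast_smul_mem _ (irr_vchar hi))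

theorem bridge345_W (hI : i ∈ irrK W W₂) (hJ : j ∈ irrK W W₁) (hj : j ≠ cfOne W) {x : G}
    (hx : x ∈ W) (hx2 : x ∉ W₂) :
    bridge345 M W W₁ W₂ δ n ζ i j x = δ * ((i * j) x - i x) := by
  have h1 := h.prTI.mu_id hI hJ hx hx2
  have h3 := h.prTI.mu_id hI h.cTI.one_J hx hx2
  rw [irrK_mul_one hI, h.prTI.sign_one] at h3
  have h4 : ζ x = 0 := seqInd_on (der1_nml M) (seqIndD_subT _ _ _ _ hζ) x fun hx' => hx2 (by
    rw [← h.prTI.inf_W]; exact ⟨hx', hx⟩)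
  simp only [bridge345, Pi.sub_apply, Pi.smul_apply, smul_eq_mul, h1, h3, h4, hc.sign j hJ hj]
  push_cast
  ring

/-- (10.5), first part. -/
theorem supp_bridge345 (hI : i ∈ irrK W W₂) (hJ : j ∈ irrK W W₁) (hj : j ≠ cfOne W) :
    bridge345 M W W₁ W₂ δ n ζ i j ∈ CFon M (typeA0 M) := by
  have hCF := vchar_CF (h.vchar_bridge345 hM h2 hc hi hζ hζ1 hI hJ)
  refine ⟨hCF, fun x hx => ?_⟩
  by_cases hxM : x ∈ M
  swap
  · exact CF_zero hCF hxM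
  by_cases hx1 : x = 1
  · subst hx1
    simp only [bridge345, Pi.sub_apply, Pi.smul_apply, smul_eq_mul, hc.deg i hI j hJ hj,
      (h.prTI.mu0_lin hI).one, hζ1, hc.ratioC]
    ring
  rw [h.typeA0_345 hM h2] at hx
  obtain ⟨g, hg, hW, hW₂⟩ := exists_conj_W h.prTI hxM fun hx' => hx (Or.inl ⟨hx', hx1⟩)
  have hW₁ : g * x * g⁻¹ ∈ W₁ := by
    by_contra hW₁
    exact hx (Or.inr (mem_classSupp.2 ⟨g, hg, hW, hW₁, hW₂⟩))
  rw [← CF_conj hCF hg, h.bridge345_W hM h2 hc hi hζ hζ1 hI hJ hj hW hW₂, Pi.mul_apply,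
    cfker_apply ((mem_irrK.1 hJ).2 hW₁), (h.cTI.lin (irrK_irr hJ)).one]
  ring

theorem vchar_Dade_bridge345 (hI : i ∈ irrK W W₂) (hJ : j ∈ irrK W W₁) (hj : j ≠ cfOne W) :
    tau0 M (bridge345 M W W₁ W₂ δ n ζ i j) ∈ vchar (⊤ : Subgroup G) :=
  Dade_vchar (FT_Dade0_hyp hM) (h.vchar_bridge345 hM h2 hc hi hζ hζ1 hI hJ)
    (h.supp_bridge345 hM h2 hc hi hζ hζ1 hI hJ hj).2

theorem bridge345_dot_irr (hI : i ∈ irrK W W₂) (hJ : j ∈ irrK W W₁) {ξ : G → ℂ} (hξi : ξ ∈ Irr M)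
    (hξ : ξ ∈ seqIndT ⁅M, M⁆ M) :
    cfdot M (bridge345 M W W₁ W₂ δ n ζ i j) ξ = -(n * cfdot M ζ ξ) := by
  simp only [bridge345, cfdot_sub_left, cfdot_smul_left,
    mu_dot_irr h.prTI hξ hξi (h.cTI.mul_irr hI hJ), mu_dot_irr h.prTI hξ hξi (irrK_irr hI)]
  ring

theorem bridge345_dot_red [DecidableEq (G → ℂ)] (hI : i ∈ irrK W W₂) (hJ : j ∈ irrK W W₁)
    {k : G → ℂ} (hk : k ∈ irrK W W₁) :
    cfdot M (bridge345 M W W₁ W₂ δ n ζ i j) (prRed M W W₁ W₂ k) =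
      (if j = k then 1 else 0) - δ * if cfOne W = k then 1 else 0 := by
  simp only [bridge345, cfdot_sub_left, cfdot_smul_left, h.prTI.mu_red_dot hI hJ hk,
    mu0_dot_red h.prTI hI hk, irr_dot_red h.prTI (seqIndD_subT _ _ _ _ hζ) hi hk]
  ring

theorem norm_bridge345 (hI : i ∈ irrK W W₂) (hJ : j ∈ irrK W W₁) (hj : j ≠ cfOne W) :
    cfnorm ⊤ (tau0 M (bridge345 M W W₁ W₂ δ n ζ i j)) = 2 + (n : ℝ) ^ 2 := by
  classical
  have hζT := seqIndD_subT _ _ _ _ hζ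
  have h1 := h.prTI.mu_dot hI hJ hI h.cTI.one_J
  rw [irrK_mul_one hI, if_neg (fun e => hj e.2)] at h1
  rw [cfnorm_Dade (FT_Dade0_hyp hM) (h.supp_bridge345 hM h2 hc hi hζ hζ1 hI hJ hj), bridge345,
    cfnorm_sub_orth, cfnorm_sub_orth, cfnorm_intCast_smul, cfnorm_natCast_smul, irr_norm hi,
    irr_norm (h.prTI.mu_irr (h.cTI.mul_irr hI hJ)), irr_norm (h.prTI.mu_irr (irrK_irr hI))]
  · rcases hc.sign_cases h.cTI with rfl | rfl <;> norm_num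
  · rw [cfdot_smul_right, h1, mul_zero]
  · simp only [cfdot_sub_left, cfdot_smul_left, cfdot_smul_right,
      mu_dot_irr h.prTI hζT hi (h.cTI.mul_irr hI hJ), mu_dot_irr h.prTI hζT hi (irrK_irr hI)]
    simp

theorem bridge345_core (hI : i ∈ irrK W W₂) (hJ : j ∈ irrK W W₁) (hj : j ≠ cfOne W) {X Y : G → ℂ}
    (hXY : tau0 M (bridge345 M W W₁ W₂ δ n ζ i j) = X + Y) (hY : Y ∈ vchar (⊤ : Subgroup G))
    (hYη : ∀ ω ∈ Irr W, cfdot ⊤ Y (eta W W₁ W₂ ω) = 0) (hX : cfdot ⊤ X Y = 0)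
    (hn : cfnorm ⊤ Y = (n : ℝ) ^ 2) : X = (δ : ℂ) • (eta W W₁ W₂ (i * j) - eta W W₁ W₂ i) := by
  have hXv : X ∈ vchar (⊤ : Subgroup G) := by
    rw [eq_sub_of_add_eq hXY.symm]
    exact sub_mem (h.vchar_Dade_bridge345 hM h2 hc hi hζ hζ1 hI hJ hj) hY
  have hXn : cfnorm ⊤ X = 2 := by
    have := h.norm_bridge345 hM h2 hc hi hζ hζ1 hI hJ hj
    rw [hXY, cfnorm_add_orth hX, hn] at this
    linarith
  have := h.cTI.eq_signed_sub hXv hXn (hc.sign_cases h.cTI) hI hJ h.cTI.one_J hj fun x hx => by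
    have h1 := congrFun hXY x
    rw [Dade_id (FT_Dade0_hyp hM) (vchar_CF (h.vchar_bridge345 hM h2 hc hi hζ hζ1 hI hJ))
      ((h.prDade hM).V_sub0 hx), Pi.add_apply, h.cTI.ortho_vanish (vchar_CF hY) hYη hx, add_zero,
      h.bridge345_W hM h2 hc hi hζ hζ1 hI hJ hj hx.1 hx.2.2] at h1
    rw [← h1, irrK_mul_one hI]
  rwa [irrK_mul_one hI] at this

theorem tau_bridge_of_dot (hI : i ∈ irrK W W₂) (hJ : j ∈ irrK W W₁) (hj : j ≠ cfOne W) {Z : G → ℂ}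
    (hd : IsDirr ⊤ Z) (hZ : ∀ ω ∈ Irr W, cfdot ⊤ Z (eta W W₁ W₂ ω) = 0)
    (ha : cfdot ⊤ (tau0 M (bridge345 M W W₁ W₂ δ n ζ i j)) Z = -n) :
    tau0 M (bridge345 M W W₁ W₂ δ n ζ i j) =
      (δ : ℂ) • (eta W W₁ W₂ (i * j) - eta W W₁ W₂ i) - (n : ℂ) • Z := by
  have := h.bridge345_core hM h2 hc hi hζ hζ1 hI hJ hj
    (X := tau0 M (bridge345 M W W₁ W₂ δ n ζ i j) + (n : ℂ) • Z) (Y := -((n : ℂ) • Z))
    (by abel) (neg_mem (natCast_smul_mem _ hd.vchar))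
    (fun ω hω => by rw [cfdot_neg_left, cfdot_smul_left, hZ ω hω]; simp)
    (by
      rw [cfdot_neg_right, cfdot_smul_right, cfdot_add_left, ha, cfdot_smul_left, hd.dot_self]
      simp)
    (by rw [cfnorm_neg, cfnorm_natCast_smul, hd.norm, mul_one])
  rw [← this]; abel

/-- MathComp `FTtype345_bridge_coherence`. -/
theorem bridge345_coherence {S₁ : Finset (G → ℂ)} {τ₁ : (G → ℂ) →ₗ[ℂ] (G → ℂ)}
    (hcoh : CohWith M ⊤ S₁ (tau0 M) τ₁) (hS : ConjSub S₁ (seqIndD ⁅M, M⁆ M (typeCore M) ⊥))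
    (hirr : S₁ ⊆ Irr M) (hI : i ∈ irrK W W₂) (hJ : j ∈ irrK W W₁) (hj : j ≠ cfOne W) {X Y : G → ℂ}
    (hXY : tau0 M (bridge345 M W W₁ W₂ δ n ζ i j) = X + Y) (hY : ∃ φ ∈ zsp S₁, Y = τ₁ φ)
    (hX : ∀ φ ∈ S₁, cfdot ⊤ X (τ₁ φ) = 0) (hn : cfnorm ⊤ Y = (n : ℝ) ^ 2) :
    X = (δ : ℂ) • (eta W W₁ W₂ (i * j) - eta W W₁ W₂ i) := by
  obtain ⟨φ, hφ, rfl⟩ := hY
  refine h.bridge345_core hM h2 hc hi hζ hζ1 hI hJ hj hXY (hcoh.isom.vchar φ hφ) (fun ω hω => ?_)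
    ?_ hn
  · refine zsp_induction (P := fun φ => cfdot ⊤ (τ₁ φ) (eta W W₁ W₂ ω) = 0) hφ
      (fun χ hχ => h.coherent_ortho_cycTIiso hM hS hcoh hχ (hirr hχ) hω) (by simp [cfdot_zero_left])
      (fun α _ β _ h1 h2 => by rw [map_add, cfdot_add_left, h1, h2, add_zero])
      (fun α _ h1 => by rw [map_neg, cfdot_neg_left, h1, neg_zero])
  · refine zsp_induction (P := fun φ => cfdot ⊤ X (τ₁ φ) = 0) hφ hX (by simp [cfdot_zero_right])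
      (fun α _ β _ h1 h2 => by rw [map_add, cfdot_add_right, h1, h2, add_zero])
      (fun α _ h1 => by rw [map_neg, cfdot_neg_right, h1, neg_zero])

theorem red_sub_mem_zsp0 (hJ : j ∈ irrK W W₁) (hj : j ≠ cfOne W) {S : Finset (G → ℂ)}
    (h1 : prRed M W W₁ W₂ j ∈ S) (h3 : ζ ∈ S) : prRed M W W₁ W₂ j - (d : ℂ) • ζ ∈ zsp0 S := by
  refine sub_mem_zsp0 (mem_zsp_of_mem h1) (natCast_smul_mem _ (mem_zsp_of_mem h3)) ?_
  rw [h.prTI.red_apply_one h.cTI.one_I hJ, hc.deg _ h.cTI.one_I j hJ hj, Pi.smul_apply, hζ1,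
    smul_eq_mul, mul_comm]

theorem sum_bridge345 (j : G → ℂ) :
    prRed M W W₁ W₂ j - (d : ℂ) • ζ = ∑ i ∈ irrK W W₂, bridge345 M W W₁ W₂ δ n ζ i j +
      (δ : ℂ) • (prRed M W W₁ W₂ (cfOne W) - ζ) := by
  simp only [bridge345, Finset.sum_sub_distrib, ← Finset.smul_sum, red_zero, Finset.sum_const,
    h.cTI.card_I, hc.ratioC]
  rw [← Nat.cast_smul_eq_nsmul ℂ]
  unfold prRed
  module

/-- the computation at the end of (10.6)(a) and (10.10.4). -/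
theorem tau_red_sub {Z : G → ℂ} (hα : ∀ i ∈ irrK W W₂, tau0 M (bridge345 M W W₁ W₂ δ n ζ i j) =
      (δ : ℂ) • (eta W W₁ W₂ (i * j) - eta W W₁ W₂ i) - (n : ℂ) • Z) :
    tau0 M (prRed M W W₁ W₂ j - (d : ℂ) • ζ) =
      ((δ : ℂ) • ∑ i ∈ irrK W W₂, eta W W₁ W₂ (i * j) - (d : ℂ) • Z) +
        (δ : ℂ) • (tau0 M (prRed M W W₁ W₂ (cfOne W) - ζ) -
          (∑ i ∈ irrK W W₂, eta W W₁ W₂ i - Z)) := by
  rw [h.sum_bridge345 hM h2 hc hi hζ hζ1 j, map_add, map_sum, Finset.sum_congr rfl hα, map_smul]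
  simp only [Finset.sum_sub_distrib, ← Finset.smul_sum, Finset.sum_const, h.cTI.card_I, hc.ratioC]
  rw [← Nat.cast_smul_eq_nsmul ℂ]
  module

section coherent
variable {τ₁ : (G → ℂ) →ₗ[ℂ] (G → ℂ)}
  (hcoh : CohWith M ⊤ (seqIndD ⁅M, M⁆ M ⁅M, M⁆ ⊥) (tau0 M) τ₁)
include hcoh

theorem zeta_dot_eta {ω : G → ℂ} (hω : ω ∈ Irr W) : cfdot ⊤ (τ₁ ζ) (eta W W₁ W₂ ω) = 0 :=
  h.coherent_ortho_cycTIiso hM (h.calS_conjSub hM h2) hcoh hζ hi hω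

theorem bridge_dot_tau_red [DecidableEq (G → ℂ)] (hI : i ∈ irrK W W₂) (hJ : j ∈ irrK W W₁)
    (hj : j ≠ cfOne W) {k : G → ℂ} (hk : k ∈ irrK W W₁) (hk1 : k ≠ cfOne W) :
    cfdot ⊤ (tau0 M (bridge345 M W W₁ W₂ δ n ζ i j)) (τ₁ (prRed M W W₁ W₂ k)) =
      (if j = k then 1 else 0) +
        d * (cfdot ⊤ (tau0 M (bridge345 M W W₁ W₂ δ n ζ i j)) (τ₁ ζ) + n) := by
  have h1 := h.red_sub_mem_zsp0 hM h2 hc hi hζ hζ1 hk hk1 (h.red_mem345 hM h2 hk hk1) hζ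
  have h3 := Dade_isometry (FT_Dade0_hyp hM) (h.supp_bridge345 hM h2 hc hi hζ hζ1 hI hJ hj)
    (h.zsp0_on345 hM h2 h1).1
  rw [← hcoh.ext _ h1, map_sub, map_smul, cfdot_sub_right, cfdot_sub_right, cfdot_smul_right,
    cfdot_smul_right, h.bridge345_dot_red hM h2 hc hi hζ hζ1 hI hJ hk,
    h.bridge345_dot_irr hM h2 hc hi hζ hζ1 hI hJ hi (seqIndD_subT _ _ _ _ hζ), irr_dot_self hi,
    if_neg (Ne.symm hk1), map_natCast] at h3
  linear_combination h3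

/-- (10.5), second part. -/
theorem tau_bridge345 (hI : i ∈ irrK W W₂) (hJ : j ∈ irrK W W₁) (hj : j ≠ cfOne W) :
    tau0 M (bridge345 M W W₁ W₂ δ n ζ i j) =
      (δ : ℂ) • (eta W W₁ W₂ (i * j) - eta W W₁ W₂ i) - (n : ℂ) • τ₁ ζ := by
  classical
  have hv := h.vchar_Dade_bridge345 hM h2 hc hi hζ hζ1 hI hJ hj
  have hd := hcoh.dirr hζ hi
  obtain ⟨a, ha⟩ := vchar_dot_int hv hd.vchar
  have hk := conjC_irrK hJ
  have hk1 : conjC j ≠ cfOne W := fun e => hj (conjC_eq_cfOne_iff.1 e)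
  have hkj : j ≠ conjC j := (h.cTI.conjC_ne (irrK_irr hJ) hj).symm
  have h1 := h.bridge_dot_tau_red hM h2 hc hi hζ hζ1 hcoh hI hJ hj hk hk1
  rw [if_neg hkj, zero_add, ha] at h1
  have h3 := cfdot_sq_le (H := ⊤) (tau0 M (bridge345 M W W₁ W₂ δ n ζ i j))
    (τ₁ (prRed M W W₁ W₂ (conjC j)))
  rw [h1, h.norm_bridge345 hM h2 hc hi hζ hζ1 hI hJ hj,
    hcoh.isom.norm (mem_zsp_of_mem (h.red_mem345 hM h2 hk hk1)), h.prTI.red_norm hk] at h3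
  have h4 : ((d : ℤ) * (a + n)) ^ 2 ≤ (2 + (n : ℤ) ^ 2) * Nat.card W₁ := by
    have e : ((d : ℂ) * (a + n)) = (((d : ℤ) * (a + n) : ℤ) : ℂ) := by push_cast; ring
    rw [e, Complex.norm_intCast, sq_abs] at h3
    exact_mod_cast h3
  have ha0 : a + n = 0 := by
    by_contra hne
    have h5 : 1 ≤ (a + n) ^ 2 := by
      have := sq_pos_of_ne_zero hne
      omega
    have h6 : (d : ℤ) ^ 2 ≤ (2 + (n : ℤ) ^ 2) * Nat.card W₁ := by nlinarith [sq_nonneg (d : ℤ)]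
    have h7 : (2 : ℤ) ≤ n := by exact_mod_cast (h.const_two_le hM hc).1
    have h8 : (3 : ℤ) ≤ Nat.card W₁ := by exact_mod_cast h.cTI.two_lt1
    have h9 := hc.ratio
    generalize (Nat.card W₁ : ℤ) = w at h6 h8 h9
    have h10 : (n : ℤ) * w - 1 ≤ d := by rcases hc.sign_cases h.cTI with e | e <;> omega
    have h11 : 0 ≤ (n : ℤ) * w - 1 := by nlinarith
    have h12 : ((n : ℤ) * w - 1) ^ 2 ≤ (2 + (n : ℤ) ^ 2) * w := by nlinarith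
    have h13 : 0 < w * ((n : ℤ) ^ 2 * (w - 1) - 2 * n - 2) := by
      apply mul_pos (by omega)
      nlinarith
    nlinarith
  have ha' : (a : ℂ) = -n := by exact_mod_cast eq_neg_of_add_eq_zero_left ha0
  exact h.tau_bridge_of_dot hM h2 hc hi hζ hζ1 hI hJ hj hd
    (fun ω hω => h.zeta_dot_eta hM h2 hc hi hζ hζ1 hcoh hω) (ha.trans ha')

/-- (10.6)(a), first part. -/
theorem tau1_red (hJ : j ∈ irrK W W₁) (hj : j ≠ cfOne W) :
    τ₁ (prRed M W W₁ W₂ j) = (δ : ℂ) • ∑ i ∈ irrK W W₂, eta W W₁ W₂ (i * j) := by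
  classical
  rcases h.coherent_TIred hM (h.calS_conjSub hM h2) hcoh hζ hi hJ (h.red_mem345 hM h2 hJ hj) with
    e | ⟨e, -⟩
  · rwa [hc.sign j hJ hj] at e
  exfalso
  have hI := h.cTI.one_I
  have hk := conjC_irrK hJ
  have hk1 : conjC j ≠ cfOne W := fun e => hj (conjC_eq_cfOne_iff.1 e)
  have hkj : conjC j ≠ j := h.cTI.conjC_ne (irrK_irr hJ) hj
  have h1 := h.bridge_dot_tau_red hM h2 hc hi hζ hζ1 hcoh hI hJ hj hJ hj
  have h3 := h.cTI.dot_col hk hI hJ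
  have h4 := h.cTI.dot_col hk hI h.cTI.one_J
  rw [if_neg hkj] at h3
  rw [if_neg hk1, irrK_mul_one hI] at h4
  have h5 : cfdot ⊤ (τ₁ ζ) (τ₁ (prRed M W W₁ W₂ j)) = 0 := by
    rw [hcoh.dot hζ (h.red_mem345 hM h2 hJ hj), irr_dot_red h.prTI (seqIndD_subT _ _ _ _ hζ) hi hJ]
  rw [h.tau_bridge345 hM h2 hc hi hζ hζ1 hcoh hI hJ hj, cfdot_sub_left, cfdot_sub_left,
    cfdot_smul_left, cfdot_smul_left, cfdot_smul_left, cfdot_smul_left, h5,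
    (hcoh.dirr hζ hi).dot_self, cfdot_sub_left, cfdot_sub_left,
    cfdot_symm_zero (h.zeta_dot_eta hM h2 hc hi hζ hζ1 hcoh (h.cTI.mul_irr hI hJ)),
    cfdot_symm_zero (h.zeta_dot_eta hM h2 hc hi hζ hζ1 hcoh (irrK_irr hI)), e, cfdot_neg_right,
    cfdot_neg_right, cfdot_smul_right, cfdot_smul_right, cfdot_symm_zero h3,
    cfdot_symm_zero h4] at h1
  simp at h1

/-- (10.6)(a), second part. -/
theorem tau_red0_sub :
    tau0 M (prRed M W W₁ W₂ (cfOne W) - ζ) = ∑ i ∈ irrK W W₂, eta W W₁ W₂ i - τ₁ ζ := by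
  obtain ⟨j, hJ, hj⟩ := h.cTI.exists_J_ne
  have h1 := h.tau_red_sub hM h2 hc hi hζ hζ1
    fun i hI => h.tau_bridge345 hM h2 hc hi hζ hζ1 hcoh hI hJ hj
  rw [← hcoh.ext _ (h.red_sub_mem_zsp0 hM h2 hc hi hζ hζ1 hJ hj (h.red_mem345 hM h2 hJ hj) hζ),
    map_sub, map_smul, h.tau1_red hM h2 hc hi hζ hζ1 hcoh hJ hj, left_eq_add, smul_eq_zero] at h1
  refine sub_eq_zero.1 (h1.resolve_left ?_)
  rcases hc.sign_cases h.cTI with rfl | rfl <;> simp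

/-- (10.6)(b). -/
theorem one_le_norm_tau1 {g : G} (hg : g ∉ dadeSupp (shp ⁅M, M⁆) (supportR M))
    (hco : (orderOf g).Coprime (Nat.card W₁)) : 1 ≤ ‖τ₁ ζ g‖ := by
  classical
  have hA : shp ⁅M, M⁆ ⊆ typeA0 M := by
    rw [h.typeA0_345 hM h2]; exact Set.subset_union_left
  have h0 := Dade_mem_cfOn_restr (FT_Dade0_hyp hM) hA (fun x hx a ha =>
    ⟨(der1_nml M).conj_mem hx ha.1, fun e => ha.2 (conj_eq_one_iff'.1 e)⟩)
    (h.red0_sub_on hM h2 hζ hζ1) g hg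
  rw [h.tau_red0_sub hM h2 hc hi hζ hζ1 hcoh, Pi.sub_apply, sub_eq_zero, Finset.sum_apply] at h0
  have hint : ∀ i ∈ irrK W W₂, ∃ m : ℤ, eta W W₁ W₂ i g = m := fun i hI =>
    h.cTI.iso_int_coprime (irrK_irr hI) (card_pos W₁) (fun x hx => h.cTI.pow_I hI hx) hco
  choose! m hm using hint
  have hconj : ∀ i ∈ irrK W W₂, m (conjC i) = m i := fun i hI => by
    have h1 := congrFun (h.cTI.iso_aut (starRingEnd ℂ) (irr_CF (irrK_irr hI))) g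
    rw [cfAut_apply, hm i hI, hm _ (conjC_irrK hI), map_intCast] at h1
    exact_mod_cast h1.symm
  have hev : ∑ i ∈ (irrK W W₂).erase (cfOne W), (m i : ZMod 2) = 0 := by
    refine Finset.sum_involution (fun i _ => conjC i) (fun i hI => ?_) (fun i hI _ => ?_)
      (fun i hI => ?_) (fun i hI => conjC_conjC i)
    · rw [hconj i (Finset.mem_of_mem_erase hI), ← two_mul]
      exact mul_eq_zero_of_left rfl _
    · exact h.cTI.conjC_ne (irrK_irr (Finset.mem_of_mem_erase hI)) (Finset.ne_of_mem_erase hI)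
    · exact Finset.mem_erase.2 ⟨fun e => Finset.ne_of_mem_erase hI (conjC_eq_cfOne_iff.1 e),
        conjC_irrK (Finset.mem_of_mem_erase hI)⟩
  have h1 : m (cfOne W) = 1 := by
    have := hm _ h.cTI.one_I
    rw [h.cTI.iso_one, cfOne_top_apply] at this
    exact_mod_cast this.symm
  have hs : ((∑ i ∈ irrK W W₂, m i : ℤ) : ZMod 2) = 1 := by
    rw [← Finset.add_sum_erase _ _ h.cTI.one_I, h1]
    push_cast
    rw [hev, add_zero]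
  have hne : ∑ i ∈ irrK W W₂, m i ≠ 0 := fun e => by
    rw [e] at hs
    exact absurd hs (by decide)
  rw [← h0, Finset.sum_congr rfl hm, ← Int.cast_sum, Complex.norm_intCast]
  exact_mod_cast Int.one_le_abs hne

end coherent
end bridge

/-- (10.9). -/
theorem type345_Dade_bridge0 (h2 : ¬ IsOfTypeII M) {ζ : G → ℂ} (hi : ζ ∈ Irr M)
    (hζ : ζ ∈ seqIndD ⁅M, M⁆ M ⁅M, M⁆ ⊥) (hζ1 : ζ 1 = Nat.card W₁) (hlt : Nat.card W₁ < Nat.card W₂) :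
    ∃ χ, tau0 M (prRed M W W₁ W₂ (cfOne W) - ζ) = ∑ i ∈ irrK W W₂, eta W W₁ W₂ i - χ ∧
      IsDirr ⊤ χ ∧ ∀ ω ∈ Irr W, cfdot ⊤ χ (eta W W₁ W₂ ω) = 0 := by
  classical
  have hc := h.cTI
  have hD := FT_Dade0_hyp hM
  have hon := h.red0_sub_on0 hM h2 hζ hζ1
  have hζT := seqIndD_subT _ _ _ _ hζ
  set ψ := tau0 M (prRed M W W₁ W₂ (cfOne W) - ζ) with hψ
  have hv : ψ ∈ vchar ⊤ := Dade_vchar hD
    (sub_mem (h.prTI.red_char hc.one_J).vchar (irr_vchar hi)) hon.2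
  have hn : cfnorm ⊤ ψ = Nat.card W₁ + 1 := by
    rw [hψ, cfnorm_Dade hD hon, cfnorm_sub_orth (cfdot_symm_zero (irr_dot_red h.prTI hζT hi hc.one_J)),
      h.prTI.red_norm hc.one_J, irr_norm hi]
  have hV : ∀ x ∈ cycV W W₁ W₂, ψ x = 0 := fun x hx =>
    (h.prDade hM).Dade_V (by rw [h.typeA_of_not_II hM h2]; exact h.red0_sub_on hM h2 hζ hζ1) hx
  have hNC : cycNC ⊤ W W₁ W₂ ψ ≤ Nat.card W₁ + 1 := by
    have := hc.NC_le_norm hv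
    rw [hn] at this
    exact_mod_cast this
  have h00 : cfdot ⊤ ψ (eta W W₁ W₂ (cfOne W * cfOne W)) = 1 := by
    rw [irrK_mul_one hc.one_I, hc.iso_one, hψ, cfdot_Dade_one hD hon, cfdot_sub_left,
      seqInd_ortho_one (der1_le M) le_rfl hζ, ← h.prTI.mu_one, ← conj_cfdot,
      mu0_dot_red h.prTI hc.one_I hc.one_J]
    simp
  have h3 := hc.two_lt1
  rcases hc.small_NC (vchar_CF hv) hV (by rw [min_eq_left hlt.le]; omega) hc.one_I hc.one_J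
    (by rw [h00]; exact one_ne_zero) with hcol | hrow
  · rw [h00] at hcol
    have hω : ∀ ω ∈ Irr W,
        cfdot ⊤ (∑ i ∈ irrK W W₂, eta W W₁ W₂ i - ψ) (eta W W₁ W₂ ω) = 0 := by
      intro ω hω
      obtain ⟨i, hI, j, hJ, rfl⟩ := hc.exists_ij hω
      rw [cfdot_sub_left, ← sum_eta_zero, hc.dot_col hc.one_J hI hJ, hcol i hI j hJ]
      simp [eq_comm]
    have hsv : ∑ i ∈ irrK W W₂, eta W W₁ W₂ i ∈ vchar ⊤ :=
      sum_mem fun i hI => (hc.iso_dirr (irrK_irr hI)).vchar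
    have hsn : cfnorm ⊤ (∑ i ∈ irrK W W₂, eta W W₁ W₂ i) = Nat.card W₁ := by
      rw [← map_sum, hc.iso_norm (sum_mem fun i hI => irr_CF (irrK_irr hI)),
        ((irr_orthon W).mono (irrK_sub W W₂)).cfnorm_sum, hc.card_I]
    refine ⟨∑ i ∈ irrK W W₂, eta W W₁ W₂ i - ψ, by abel, vchar_norm_one (sub_mem hsv hv) ?_, hω⟩
    have ho : cfdot ⊤ (∑ i ∈ irrK W W₂, eta W W₁ W₂ i) (∑ i ∈ irrK W W₂, eta W W₁ W₂ i - ψ) = 0 := by
      apply cfdot_symm_zero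
      rw [cfdot_sum_right]
      exact Finset.sum_eq_zero fun i hI => hω i (irrK_irr hI)
    have := cfnorm_sub_orth ho
    rw [sub_sub_cancel, hn, hsn] at this
    linarith
  · exfalso
    rw [h00] at hrow
    have hsub : irrK W W₁ ⊆ (Irr W).filter (fun ω => cfdot ⊤ ψ (cycIso ⊤ W W₁ W₂ ω) ≠ 0) := by
      intro j hJ
      have := hrow _ hc.one_I j hJ
      rw [one_mul_irrK hJ, if_pos rfl] at this
      exact Finset.mem_filter.2 ⟨irrK_irr hJ, by rw [this]; exact one_ne_zero⟩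
    have h4 : Nat.card W₂ ≤ cycNC ⊤ W W₁ W₂ ψ := by
      rw [← hc.card_J]
      unfold cycNC
      convert Finset.card_le_card hsub
    obtain ⟨a, ha⟩ := hc.odd1
    obtain ⟨b, hb⟩ := hc.odd2
    omega

end TypeP

end H27
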