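import Mathlib
import Cfsg.Agent.H27.PF10a

/-!
# Peterfalvi §10, part b: (10.7), (10.8)
-/

set_option autoImplicit false
set_option linter.unusedSectionVars false
set_option linter.unusedVariables false

namespace H27

open Cfsg H24 H25 PF10
open scoped ComplexConjugate

universe u v

variable {G : Type u} [Group G] [Finite G] [FT G] {M U W W₁ W₂ T V : Subgroup G}

namespace PF10

theorem not_V_of_II' (h : IsOfTypeII T) : ¬ IsOfTypeV T := not_V_of_II h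

/-- `Ã₁(M)` and `Ã(T)` are disjoint if `M` is of type P and `T` of type II is not conjugate to `M`. -/
theorem disjoint_supp (h : TypeP M U W W₁ W₂) (hM : IsCoatom M) (hT : IsCoatom T)
    (hT2 : IsOfTypeII T) (hn : ∀ g, T ≠ cj g M) :
    Disjoint (dadeSupp (typeA1 M) (supportR M)) (dadeSupp (typeA T) (supportR T)) := by
  rw [← tildeOf_eq, ← tildeOf_eq, Set.disjoint_iff_inter_eq_empty, ← Set.not_nonempty_iff_eq_empty,
    ← (FT_Dade_support_disjoint hM hT hn).2.2.1]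
  rintro ⟨g, x, hx, hC, hCT⟩
  obtain ⟨-, L, hL, -, -, -, -, -, -, -, hF⟩ := FTsupport_facts hM (typeA_sub0 M hx) hC
  obtain ⟨E, hE⟩ := hF (hL.uniq _ (isCoatom_cj hT g) hCT ▸ (typeII_cj g).2 hT2)
  exact h.not_typeF E (Frobenius_of_typeF hE)

theorem eta_col_row (hc : CyclicTI ⊤ W W₁ W₂) {s r : G → ℂ} (hs : s ∈ irrK W W₁)
    (hr : r ∈ irrK W W₂) :
    cfdot ⊤ (∑ i ∈ irrK W W₂, eta W W₁ W₂ (i * s)) (∑ j ∈ irrK W W₁, eta W W₂ W₁ (j * r)) = 1 := by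
  classical
  rw [cfdot_sum_right, Finset.sum_congr rfl fun j hj => by
    rw [show eta W W₂ W₁ = eta W W₁ W₂ from cycIso_symm _ _ _ _, mul_comm j r, hc.dot_col hs hr hj]]
  simp [hs]

end PF10

namespace TypeP
variable (h : TypeP M U W W₁ W₂) (hM : IsCoatom M) (h2 : ¬ IsOfTypeII M)
  {τ₁ : (G → ℂ) →ₗ[ℂ] (G → ℂ)} (hcoh : CohWith M ⊤ (seqIndD ⁅M, M⁆ M ⁅M, M⁆ ⊥) (tau0 M) τ₁)
include h hM h2 hcoh

/-- (10.7). -/
theorem frob_der_type2 (hp : TypePPair M T W W₁ W₂) (hT : TypeP T V W W₂ W₁) :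
    Frob ⁅T, T⁆ (Fc T) V := by
  classical
  have hTm := hp.maxT
  have hT2 : IsOfTypeII T := hp.two.resolve_left h2
  have hT5 := not_V_of_II hT2
  rcases hT.reducible_core_cases hTm hT5 with ⟨l, hli, hl, hl1, -⟩ | ⟨-, -, -, -, hF⟩
  swap
  · exact hF hT2
  exfalso
  obtain ⟨-, ⟨ν, hν, hνi⟩, hred, hind⟩ := hT.reducible_core_Ind hTm hT5
  have hνr : ν ∈ redPart T (pS T (pK T V)) :=
    mem_redPart.2 ⟨seqIndD_mono _ _ le_rfl le_sup_left hν, hνi⟩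
  obtain ⟨r, hr, hr1, rfl⟩ := hred ν hνr
  have hν1 := (hind _ hνr).one
  obtain ⟨R₀, hsub, -, -⟩ := hT.subcoherent hTm
  have hcore := typeCore_of_II hT2
  have hlS : l ∈ seqIndD ⁅T, T⁆ T (typeCore T) ⊥ := hcore ▸ seqIndD_mono _ _ le_rfl bot_le hl
  have hνS : prRed T W W₂ W₁ r ∈ seqIndD ⁅T, T⁆ T (typeCore T) ⊥ :=
    hcore ▸ seqIndD_mono _ _ le_rfl bot_le hν
  obtain ⟨S₂, hνS₂, hlS₂, hS₂, τ₂, hc₂⟩ := hsub.pair_degree_coherence hνS hlS (hν1.trans hl1.symm)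
  obtain ⟨d, δ, n, hc⟩ := h.type345_constants hM h2
  obtain ⟨ζ, hi, hζ, hζ1⟩ := h.ref_irr' hM
  obtain ⟨s, hs, hs1⟩ := h.cTI.exists_J_ne
  have hdis := disjoint_supp h hM hTm hT2 hp.not_conj
  have ortho : ∀ α ∈ zsp0 (seqIndD ⁅M, M⁆ M ⁅M, M⁆ ⊥), ∀ β ∈ zsp0 S₂,
      cfdot ⊤ (τ₁ α) (τ₂ β) = 0 := fun α hα β hβ => by
    rw [hcoh.ext α hα, hc₂.ext β hβ]
    refine cfdot_eq_zero_of_disjoint (Dade_mem_cfOn_restr (FT_Dade0_hyp hM) (typeA1_sub0 hM)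
      (typeA1_norm M) ?_) (Dade_mem_cfOn_restr (FT_Dade0_hyp hTm) (typeA_sub0 T) (typeA_norm T)
      ((hT.prDade hTm).zsp0_on hS₂.sub hβ)) hdis
    rw [typeA1_eq, h.core_of_not_II hM h2]
    exact zsp0_seqInd_on (der1_nml M) (seqIndD_subT _ _ _ _) hα
  have hζc := cfAut_seqIndD (starRingEnd ℂ) hζ
  have hlc := hS₂.conj_mem l hlS₂
  have hζ0 := sub_conjC_mem_zsp0 hζ hζc (irr_vchar hi)
  have hl0 := sub_conjC_mem_zsp0 hlS₂ hlc (irr_vchar hli)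
  have o1 : cfdot ⊤ (τ₁ ζ) (τ₂ l) = 0 := by
    refine (vchar_pairs_orthonormal (u := 1) (v := 1) (hcoh.dirr hζ hi) (hcoh.dirr hζc (irr_conjC hi))
      (hc₂.dirr hlS₂ hli) (hc₂.dirr hlc (irr_conjC hli)) ?_ ?_ one_ne_zero one_ne_zero ?_ ?_ ?_).1
    · rw [hcoh.dot hζ hζc, seqInd_conjC_ortho (der1_nml M) (mFT_odd M) le_rfl hζ]
    · rw [hc₂.dot hlS₂ hlc, hsub.dot_conjC hlS]
    · have := ortho _ hζ0 _ hl0
      simpa only [map_sub, Complex.ofReal_one, one_smul] using this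
    · rw [← sub_eq_zero, ← Pi.sub_apply, ← map_sub, hcoh.ext _ hζ0, Dade_one (FT_Dade0_hyp hM)]
    · rw [Complex.ofReal_one, one_mul, one_mul, ← sub_eq_zero, ← Pi.sub_apply, ← map_sub,
        hc₂.ext _ hl0, Dade_one (FT_Dade0_hyp hTm)]
  have hsym : eta W W₂ W₁ = eta W W₁ W₂ := cycIso_symm _ _ _ _
  have o2 : cfdot ⊤ (τ₁ (prRed M W W₁ W₂ s)) (τ₂ l) = 0 := by
    rw [h.tau1_red hM h2 hc hi hζ hζ1 hcoh hs hs1, cfdot_smul_left, cfdot_sum_left,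
      Finset.sum_eq_zero fun i hI => cfdot_symm_zero (by
        rw [← hsym]
        exact hT.coherent_ortho_cycTIiso hTm hS₂ hc₂ hlS₂ hli (h.cTI.mul_irr hI hs)), mul_zero]
  have o3 : ∀ r' ∈ irrK W W₂, cfdot ⊤ (τ₁ ζ) (∑ j ∈ irrK W W₁, eta W W₂ W₁ (j * r')) = 0 :=
    fun r' hr' => by
      rw [cfdot_sum_right]
      refine Finset.sum_eq_zero fun j hj => ?_
      rw [hsym]
      exact h.zeta_dot_eta hM h2 hc hi hζ hζ1 hcoh (hT.cTI.mul_irr hj hr')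
  have key := ortho _ (h.red_sub_mem_zsp0 hM h2 hc hi hζ hζ1 hs hs1 (h.red_mem345 hM h2 hs hs1) hζ)
    _ (sub_mem_zsp0 (mem_zsp_of_mem hνS₂) (mem_zsp_of_mem hlS₂) (hν1.trans hl1.symm))
  rw [map_sub, map_sub, map_smul, cfdot_sub_left, cfdot_sub_right, cfdot_sub_right, o2,
    cfdot_smul_left, cfdot_smul_left, o1, h.tau1_red hM h2 hc hi hζ hζ1 hcoh hs hs1,
    cfdot_smul_left] at key
  have hδ : (δ : ℂ) ≠ 0 := left_ne_zero_of_mul_eq_one (hc.sign_sq h.cTI)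
  have hε : (prSign T W W₂ W₁ r : ℂ) ≠ 0 := left_ne_zero_of_mul_eq_one (prSign_mul_self _ _ _ _ _)
  rcases hT.coherent_TIred hTm hS₂ hc₂ hlS₂ hli hr hνS₂ with e | ⟨e, -⟩
  · rw [e, cfdot_smul_right, cfdot_smul_right, o3 r hr, eta_col_row h.cTI hs hr] at key
    simp [hδ, hε] at key
  · rw [e, cfdot_neg_right, cfdot_neg_right, cfdot_smul_right, cfdot_smul_right,
      o3 _ (conjC_irrK hr), eta_col_row h.cTI hs (conjC_irrK hr)] at key
    simp [hδ, hε] at key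

omit hcoh h2 hM in
/-- elements whose order is not prime to `|W₁|`, when `T'` is a Frobenius group. -/
theorem cover_G1 (hTm : IsCoatom T) (hT2 : IsOfTypeII T) (hT : TypeP T V W W₂ W₁)
    (hF : Frob ⁅T, T⁆ (Fc T) V) {x : G} (hx : ¬ (orderOf x).Coprime (Nat.card W₁)) :
    x ∈ classSupp (shp (Fc T)) ⊤ ∪ classSupp (cycV W W₁ W₂) ⊤ := by
  obtain ⟨p, hp, hpx, hpW⟩ := Nat.Prime.not_coprime_iff_dvd.1 hx
  obtain ⟨a, ha, hao⟩ := exists_orderOf_eq hp (card_zpowers' x ▸ hpx)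
  have hpH : p ∣ Nat.card (Fc T) := hpW.trans (card_dvd hT.le2)
  obtain ⟨P, hP⟩ := Sylow_exists hp (Fc T)
  have hPG : Syl p ⊤ P := (FTcore_facts hTm).1.syl hP hp hpH
  obtain ⟨g, -, hg⟩ := Sylow_Jsub hp hPG
    (isPi_of_card_prime hp ((card_zpowers' a).trans hao)) le_top
  have ha1 : a ≠ 1 := ne_one_of_orderOf_prime (hao ▸ hp)
  have hb : g * a * g⁻¹ ∈ shp (Fc T) :=
    ⟨hP.le (hg (conj_mem_cj g (Subgroup.mem_zpowers a))), fun e => ha1 (conj_eq_one_iff'.1 e)⟩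
  have hTI := (FTtypeII_ker_TI hTm hT2).2.2
  rw [typeA1_eq, typeCore_of_II hT2] at hTI
  have hy : g * x * g⁻¹ ∈ C{g * a * g⁻¹} := by
    rw [← cj_C1]
    exact conj_mem_cj g (C1_le_C1_of_mem_zpowers ha (self_mem_C1 x))
  have hyT : g * x * g⁻¹ ∈ T := hTI.ti _ hb _ (by rw [mem_C1_iff_conj.1 hy]; exact hb)
  by_cases hyD : g * x * g⁻¹ ∈ ⁅T, T⁆
  · left
    refine mem_classSupp.2 ⟨g, Subgroup.mem_top g, hF.cent1_ker hb.1 hb.2 ⟨hyD, hy⟩, fun e => ?_⟩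
    rw [conj_eq_one_iff'.1 e, orderOf_one] at hx
    exact hx (Nat.coprime_one_left _)
  · right
    obtain ⟨k, -, hk, hk1⟩ := exists_conj_W hT.prTI hyT hyD
    refine mem_classSupp.2 ⟨k * g, Subgroup.mem_top _, ?_⟩
    have e : k * g * x * (k * g)⁻¹ = k * (g * x * g⁻¹) * k⁻¹ := by group
    rw [e]
    refine ⟨hk, hk1, fun h2 => hx ?_⟩
    have := orderOf_dvd_card' h2
    rw [orderOf_conj, orderOf_conj] at this
    exact (h.cTI.cop.symm.coprime_dvd_left this)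

end TypeP

/-- Theorem (10.8). -/
theorem FTtype345_noncoherence (hM : IsCoatom M) (h1 : ¬ IsOfTypeI M) (h2 : ¬ IsOfTypeII M) :
    ¬ Coherent M ⊤ (seqIndD ⁅M, M⁆ M ⁅M, M⁆ ⊥) (tau0 M) := by
  classical
  rintro ⟨τ₁, hcoh⟩
  obtain ⟨U, W, W₁, W₂, h⟩ := FTtypeP_witness hM h1
  obtain ⟨T, V, hp, hT⟩ := h.pair_witness hM
  have hTm := hp.maxT
  have hT2 : IsOfTypeII T := hp.two.resolve_left h2
  have hF := h.frob_der_type2 hM h2 hcoh hp hT
  obtain ⟨d, δ, n, hc⟩ := h.type345_constants hM h2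
  obtain ⟨ζ, hi, hζ, hζ1⟩ := h.ref_irr' hM
  have hA1 : typeA1 M = shp ⁅M, M⁆ := by rw [typeA1_eq, h.core_of_not_II hM h2]
  have hD : DadeHypothesis (shp ⁅M, M⁆) M (supportR M) := hA1 ▸ FT_Dade1_hyp hM
  have hcoh' : CohWith M ⊤ (seqIndD ⁅M, M⁆ M ⁅M, M⁆ ⊥) (Dade (shp ⁅M, M⁆) M (supportR M)) τ₁ :=
    hcoh.congr fun φ hφ => by
      rw [← FT_Dade1E hM (hA1 ▸ zsp0_seqInd_on (der1_nml M) (seqIndD_subT _ _ _ _) hφ), tauA1, hA1]
  have hw1 := h.cTI.two_lt1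
  have hw2 := h.cTI.two_lt2
  have hm := h.card_der_ge hM
  obtain ⟨-, ⟨_, -, -, -, hlow⟩, -⟩ := Dade_Ind1_sub_lin hD hcoh'
    (one_lt_card_seqIndD (der1_nml M) (mFT_odd M) le_rfl hζ) hi hζ (by rw [hζ1, h.prTI.index]) _ rfl
  rw [h.prTI.index] at hlow
  have hlow' := (hlow (by nlinarith)).1
  have hd := hcoh.dirr hζ hi
  have hineq := Dade_cover_inequality (I := Unit) (A := fun _ => shp ⁅M, M⁆) (L := fun _ => M)
    (R := fun _ => supportR M) (fun _ => hD) (fun i j hij => absurd (Subsingleton.elim i j) hij)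
    hd.CF hd.norm
  rw [Set.iUnion_const, Fintype.sum_unique] at hineq
  set D := (dadeSupp (shp ⁅M, M⁆) (supportR M))ᶜ with hDdef
  set G₁ := classSupp (shp (Fc T)) ⊤ ∪ classSupp (cycV W W₁ W₂) ⊤ with hG₁
  have hsum : (D.ncard : ℝ) - G₁.ncard ≤ ∑ g ∈ fs D, ‖τ₁ ζ g‖ ^ 2 := by
    have e1 : D.ncard ≤ (D \ G₁).ncard + G₁.ncard :=
      (Set.ncard_le_ncard (Set.subset_sdiff_union D G₁)).trans (Set.ncard_union_le _ _)
    have e2 : ((D \ G₁).ncard : ℝ) ≤ ∑ g ∈ fs (D \ G₁), ‖τ₁ ζ g‖ ^ 2 := by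
      rw [← card_fs_ncard, Finset.card_eq_sum_ones, Nat.cast_sum]
      refine Finset.sum_le_sum fun g hg => ?_
      rw [mem_fs] at hg
      have := h.one_le_norm_tau1 hM h2 hc hi hζ hζ1 hcoh hg.1 (by
        by_contra hx
        exact hg.2 (h.cover_G1 hTm hT2 hT hF hx))
      push_cast
      nlinarith
    have e3 : ∑ g ∈ fs (D \ G₁), ‖τ₁ ζ g‖ ^ 2 ≤ ∑ g ∈ fs D, ‖τ₁ ζ g‖ ^ 2 :=
      Finset.sum_le_sum_of_subset_of_nonneg (fs_mono Set.sdiff_subset) fun _ _ _ => by positivity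
    have e4 : (D.ncard : ℝ) ≤ (D \ G₁).ncard + G₁.ncard := by exact_mod_cast e1
    linarith
  have hTI := (FTtypeII_ker_TI hTm hT2).2.2
  rw [typeA1_eq, typeCore_of_II hT2] at hTI
  have hshp : ∀ H : Subgroup G, ((shp H).ncard : ℝ) = Nat.card H - 1 := fun H => by
    have : (shp H).ncard + 1 = Nat.card H := Set.ncard_sdiff_singleton_add_one H.one_mem
    rw [← this]; push_cast; ring
  have hG1 : (G₁.ncard : ℝ) ≤ (Nat.card (Fc T) - 1) * T.index +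
      (Nat.card W₁ - 1) * (Nat.card W₂ - 1) * W.index := by
    have := Set.ncard_union_le (classSupp (shp (Fc T)) ⊤) (classSupp (cycV W W₁ W₂) ⊤)
    rw [card_classSupp_nti (nti_of_normedTI hTI), card_classSupp_nti h.cTI.nti, h.cTI.card_V,
      Subgroup.relIndex_top_right, Subgroup.relIndex_top_right] at this
    have h3 : ((G₁.ncard : ℕ) : ℝ) ≤ ((shp (Fc T)).ncard * T.index +
      (Nat.card W₁ - 1) * (Nat.card W₂ - 1) * W.index : ℕ) := by exact_mod_cast this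
    rw [Nat.cast_add, Nat.cast_mul, Nat.cast_mul, Nat.cast_mul, hshp, Nat.cast_sub (by omega),
      Nat.cast_sub (by omega)] at h3
    exact_mod_cast h3
  have hu : 2 * Nat.card W₂ < Nat.card V :=
    H1.ltn_odd_Frobenius_ker (hT.compl_Frobenius hTm (not_V_of_II hT2)) (mFT_odd _)
  have cT : (Nat.card G : ℝ) = Nat.card (Fc T) * Nat.card V * Nat.card W₂ * T.index := by
    rw [← T.card_mul_index, hT.sdM.card, hT.sdHU.card]; push_cast; ring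
  have cW : (Nat.card G : ℝ) = Nat.card W₁ * Nat.card W₂ * W.index := by
    rw [← W.card_mul_index, h.cTI.card_W]; push_cast; ring
  have cM : (Nat.card M : ℝ) = Nat.card ↥⁅M, M⁆ * Nat.card W₁ := by
    rw [h.sdM.card]; push_cast; ring
  rw [hshp, cM] at hineq
  have hH := cardR_pos (Fc T)
  have hiT : (0 : ℝ) < T.index := by exact_mod_cast Nat.pos_of_ne_zero T.index_ne_zero_of_finite
  have hiW : (0 : ℝ) < W.index := by exact_mod_cast Nat.pos_of_ne_zero W.index_ne_zero_of_finite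
  have hG : (0 : ℝ) < Nat.card G := by exact_mod_cast Nat.card_pos
  have hw1' : (3 : ℝ) ≤ Nat.card W₁ := by exact_mod_cast hw1
  have hw2' : (3 : ℝ) ≤ Nat.card W₂ := by exact_mod_cast hw2
  have hu' : 2 * (Nat.card W₂ : ℝ) + 1 ≤ Nat.card V := by exact_mod_cast hu
  have hm' : (2 * (Nat.card W₁ : ℝ) + 1) * Nat.card W₂ ≤ Nat.card ↥⁅M, M⁆ := by exact_mod_cast hm
  generalize (Nat.card W₁ : ℝ) = w₁ at *
  generalize (Nat.card W₂ : ℝ) = w₂ at *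
  generalize (Nat.card V : ℝ) = u at *
  generalize (Nat.card ↥⁅M, M⁆ : ℝ) = m at *
  generalize (Nat.card (Fc T) : ℝ) = hh at *
  generalize (T.index : ℝ) = iT at *
  generalize (W.index : ℝ) = iW at *
  generalize (Nat.card G : ℝ) = g at *
  have hw₁ : 0 < w₁ := by linarith
  have hw₂ : 0 < w₂ := by linarith
  have hu0 : 0 < u := by linarith
  have hm0 : 0 < m := by nlinarith
  have e1 : g⁻¹ * ((hh - 1) * iT) < 1 / (u * w₂) := by
    rw [cT, inv_mul_eq_div, div_lt_div_iff₀ (by positivity) (by positivity)]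
    have : 0 < iT * (u * w₂) := by positivity
    nlinarith
  have e2 : g⁻¹ * ((w₁ - 1) * (w₂ - 1) * iW) = 1 - 1 / w₁ - 1 / w₂ + 1 / (w₁ * w₂) := by
    rw [cW]; field_simp; ring
  have e3 : (m - 1) / (m * w₁) < 1 / w₁ := by
    rw [div_lt_div_iff₀ (by positivity) hw₁]; nlinarith
  have e4 : w₁ / m < 1 / (2 * w₂) := by
    rw [div_lt_div_iff₀ hm0 (by positivity)]; nlinarith
  have e5 : 1 / (u * w₂) ≤ 1 / (7 * w₂) :=
    one_div_le_one_div_of_le (by positivity) (by nlinarith)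
  have e6 : 1 / (w₁ * w₂) ≤ 1 / (3 * w₂) :=
    one_div_le_one_div_of_le (by positivity) (by nlinarith)
  have e7 : g⁻¹ * (-((hh - 1) * iT + (w₁ - 1) * (w₂ - 1) * iW)) ≤
      g⁻¹ * (∑ g ∈ fs D, ‖τ₁ ζ g‖ ^ 2 - D.ncard) :=
    mul_le_mul_of_nonneg_left (by linarith) (by positivity)
  have e8 : 1 / (2 * w₂) + 1 / (7 * w₂) + 1 / (3 * w₂) < 1 / w₂ := by
    field_simp; norm_num
  rw [mul_neg, mul_add] at e7
  linarith

end H27
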