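import Mathlib
import Cfsg.Agent.H27.PF10b
import Cfsg.Agent.H27.PF6
import Cfsg.Agent.H25.PG

/-!
# Peterfalvi §10 (maximal subgroups of types III, IV, V): (10.10), (10.11)
`calS = seqIndD ⁅M, M⁆ M ⁅M, M⁆ ⊥`.  (10.2)–(10.6), (10.9) are in `PF10a`, (10.7), (10.8) in `PF10b`.
-/

set_option autoImplicit false
set_option linter.unusedSectionVars false
set_option linter.unusedVariables false

namespace H27

open Cfsg H24 H25 PF10
open scoped ComplexConjugate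

universe u v

variable {G : Type u} [Group G] [Finite G] [FT G] {M U W W₁ W₂ : Subgroup G}

namespace PF10

/-- the non-linear irreducible characters of a non-abelian group of order `p ^ 3`. -/
theorem p3_irr {Γ : Type u} [Group Γ] [Finite Γ] {H : Subgroup Γ} {p : ℕ} (hp : p.Prime)
    (h3 : Nat.card H = p ^ 3) (hna : ¬ Abl H) :
    (∀ θ ∈ irrKD H ⁅H, H⁆ ⊥, deg θ = p) ∧ (irrKD H ⁅H, H⁆ ⊥).card = p - 1 ∧
      (⁅H, H⁆ : Subgroup Γ).relIndex H = p ^ 2 ∧ Nat.card ↥⁅H, H⁆ = p := by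
  have hZ := p3_der1_eq_center hp h3 hna
  have hc : Nat.card ↥⁅H, H⁆ = p := hZ ▸ p3_card_center hp h3 hna
  have hi : (⁅H, H⁆ : Subgroup Γ).relIndex H = p ^ 2 := by
    have := card_mul_relIndex (der1_le H)
    rw [hc, h3, pow_succ'] at this
    exact Nat.eq_of_mul_eq_mul_left hp.pos this
  have hdeg : ∀ θ ∈ irrKD H ⁅H, H⁆ ⊥, deg θ = p := fun θ hθ => by
    obtain ⟨h1, -, h4⟩ := mem_irrKD.1 hθ
    have h5 := irr_deg_sq_le h1 (der1_le H) fun z hz x hx => by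
      have : x * z * x⁻¹ * z⁻¹ = 1 := by
        rw [mem_C.1 (hZ ▸ hz : z ∈ Z[H]).2 x hx]; group
      rw [this]; exact one_mem _
    rw [hi] at h5
    have h6 := irr_deg_dvd_card h1
    rw [h3] at h6
    obtain ⟨k, -, hk⟩ := (Nat.dvd_prime_pow hp).1 h6
    have h7 : k ≠ 0 := by
      rintro rfl
      exact h4 ((irr_char h1).isLin_of_deg hk).der_le_cfker
    have h8 : p ≤ deg θ := hk ▸ Nat.le_self_pow h7 p
    exact le_antisymm ((Nat.pow_le_pow_iff_left two_ne_zero).1 h5) h8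
  refine ⟨hdeg, ?_, hi, hc⟩
  have := sum_irrKD_deg_sq (Nml.bot H) (der1_nml H)
  rw [Finset.sum_congr rfl fun θ hθ => by rw [hdeg θ hθ], Finset.sum_const, sup_bot_eq, hi,
    Subgroup.relIndex_bot_left, h3, smul_eq_mul] at this
  have h9 : ((irrKD H ⁅H, H⁆ ⊥).card + 1) * p ^ 2 = p * p ^ 2 := by rw [← pow_succ', ← this]; ring
  have := Nat.eq_of_mul_eq_mul_right (pow_pos hp.pos 2) h9
  omega

end PF10

namespace TypeP
variable (h : TypeP M U W W₁ W₂) (hM : IsCoatom M) (h5 : IsOfTypeV M)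
include h hM h5

/-- (10.10.1). -/
theorem typeV_facts : ∃ p : ℕ, p.Prime ∧ Nat.card ↥⁅M, M⁆ = p ^ 3 ∧ ¬ Abl ⁅M, M⁆ ∧
    p + 1 = 2 * Nat.card W₁ := by
  have h2 : ¬ IsOfTypeII M := fun h2 => not_V_of_II h2 h5
  have hnc := FTtype345_noncoherence hM h.not_typeI h2
  obtain ⟨hU, hcases⟩ := h.of_V hM h5
  have hH : Fc M = ⁅M, M⁆ := SD.eq_of_right_bot (hU ▸ h.sdHU)
  obtain ⟨R₀, hsub, -, -⟩ := h.subcoherent hM
  rw [h.core_of_not_II hM h2] at hsub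
  rw [hH] at hcases
  have hnil : Nil ⁅M, M⁆ := hH ▸ Fc_nil M
  have hq : OddFrobQuo ⁅M, M⁆ M ⊥ := ⟨mFT_odd M, Nml.bot M, bot_le, hnil.quo _, by
    rw [sup_bot_eq]; exact ⟨_, h.frob_der2 hM⟩⟩
  obtain ⟨-, hle, p, hp, hpi, hna, hdvd⟩ := (non_coherent_chief (der1_nml M)
    (mmax_sub_sol hM (der1_le M)) hsub hq).resolve_left hnc
  have hpH : IsPi {p} ⁅M, M⁆ := isPi_of_quo (Nml.bot _).norm (isPi_bot _) hpi
  have hna' : ¬ Abl ⁅M, M⁆ := fun ha => hna (der1_eq_bot.2 ha).le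
  rw [h.prTI.index] at hdvd hle
  rcases hcases with hTI | ⟨q, hq, hd, -⟩ | ⟨q, hq, h3, hd, -⟩
  · exfalso
    have hpr := h.prDade hM
    rw [h.core_of_not_II hM h2, h.typeA_of_not_II hM h2] at hpr
    refine hnc ((Sibley_coherence (W₁ := W₁) (mFT_odd M) hnil hTI (Or.inr ⟨W₂, W, _, _,
      h.type345_core_prime hM h2, h.le2der2, hpr⟩)).congr fun φ hφ => ?_)
    exact (Dade_Ind (FT_Dade0_hyp hM) hpr.sub0 (nti_of_normedTI hTI)
      (zsp0_seqInd_on (der1_nml M) (seqIndD_subT _ _ _ _) hφ)).symm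
  · obtain rfl : q = p := hpH.mem hq.1 hq.2
    exact absurd hd hdvd
  · obtain rfl : q = p := hpH.mem hq.1 hq.2
    rw [hpH.pcore_eq] at h3
    refine ⟨q, hp, h3, hna', ?_⟩
    rw [sup_bot_eq, (p3_irr hp h3 hna').2.2.1] at hle
    obtain ⟨k, hk⟩ := hd
    have hw := h.cTI.two_lt1
    have hqo : Odd q := mFT_odd_prime hq.2
    have hk2 : Even k := by
      by_contra hk2
      rw [Nat.not_even_iff_odd] at hk2
      have := h.cTI.odd1.mul hk2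
      rw [← hk] at this
      exact (Nat.not_even_iff_odd.2 this) hqo.add_one
    obtain ⟨l, rfl⟩ := hk2
    have hl : l = 1 := by
      rcases Nat.lt_trichotomy l 1 with hl | hl | hl
      · obtain rfl : l = 0 := by omega
        simp at hk
      · exact hl
      · exfalso
        have h6 : 4 * Nat.card W₁ ≤ q + 1 := by rw [hk]; nlinarith
        have h7 : 3 * Nat.card W₁ ≤ q := by omega
        nlinarith
    rw [hk, hl]; ring

end TypeP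

/-- Theorem (10.10). -/
theorem FTtype5_exclusion (hM : IsCoatom M) : ¬ IsOfTypeV M := by
  classical
  intro h5
  obtain ⟨U, W, W₁, W₂, h⟩ := typeV_witness h5
  have h2 : ¬ IsOfTypeII M := fun h2 => not_V_of_II h2 h5
  apply FTtype345_noncoherence hM h.not_typeI h2
  obtain ⟨p, hp, h3, hna, hp1⟩ := h.typeV_facts hM h5
  obtain ⟨hdeg, hcard, hidx, hc'⟩ := p3_irr hp h3 hna
  have hc := h.cTI
  have hr := h.prTI
  have hw := hc.two_lt1
  have hD := FT_Dade0_hyp hM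
  have hW₂ : W₂ = ⁅⁅M, M⁆, ⁅M, M⁆⁆ := prime_eq_of_le (hc' ▸ hp) h.le2der2 h.ne2
  have hw2 : Nat.card W₂ = p := hW₂ ▸ hc'
  obtain ⟨d, δ, n, hco⟩ := h.type345_constants hM h2
  -- (10.10.2)
  have hres : ∀ j ∈ (irrK W W₁).erase (cfOne W),
      prRes M ⁅M, M⁆ W W₁ W₂ j ∈ irrKD ⁅M, M⁆ ⁅⁅M, M⁆, ⁅M, M⁆⁆ ⊥ := fun j hj =>
    mem_irrKD.2 ⟨hr.res_irr (Finset.mem_of_mem_erase hj), bot_le,
      hW₂ ▸ hr.not_le_cfker_res (Finset.mem_of_mem_erase hj) (Finset.ne_of_mem_erase hj)⟩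
  have himg : ((irrK W W₁).erase (cfOne W)).image (prRes M ⁅M, M⁆ W W₁ W₂) =
      irrKD ⁅M, M⁆ ⁅⁅M, M⁆, ⁅M, M⁆⁆ ⊥ := by
    refine Finset.eq_of_subset_of_card_le (Finset.image_subset_iff.2 hres) (le_of_eq ?_)
    rw [Finset.card_image_of_injOn fun a ha b hb e =>
      (hr.res_inj (Finset.mem_of_mem_erase ha) (Finset.mem_of_mem_erase hb)).1 e,
      Finset.card_erase_of_mem hc.one_J, hc.card_J, hw2, hcard]
  obtain ⟨k, hk, hk1⟩ := hc.exists_J_ne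
  have hdp : d = p := by
    have e1 := hco.deg _ hc.one_I k hk hk1
    rw [one_mul_irrK hk, ← hr.res_apply_one] at e1
    rw [← deg_eq_of e1, hdeg _ (hres k (Finset.mem_erase.2 ⟨hk1, hk⟩))]
  have hn : n = 2 := by
    have e1 := hco.ratio
    have e2 : (p : ℤ) + 1 = 2 * Nat.card W₁ := by exact_mod_cast hp1
    have e3 : (3 : ℤ) ≤ Nat.card W₁ := by exact_mod_cast hw
    have e4 := (h.const_two_le hM hco).1
    rw [hdp] at e1
    by_contra hn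
    have e5 : (3 : ℤ) ≤ n := by omega
    rcases hco.sign_cases hc with e | e <;> nlinarith
  set S₁ := seqIndD ⁅M, M⁆ M ⁅M, M⁆ ⁅⁅M, M⁆, ⁅M, M⁆⁆ with hS₁
  have hS₁S : ConjSub S₁ (seqIndD ⁅M, M⁆ M ⁅M, M⁆ ⊥) := seqIndD_conjSub _ _ le_rfl bot_le
  have hS₁i : ∀ φ ∈ S₁, φ ∈ Irr M ∧ φ 1 = Nat.card W₁ := fun φ hφ => h.irr_of_mem_lin hM hφ
  have hS₁c : 8 ≤ S₁.card := by
    have e1 := sum_seqIndD_square (der1_nml M) (der1_nml M) (der1_nml M).der1 (der1_le _) le_rfl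
    rw [Finset.sum_congr rfl fun φ hφ => by
      rw [deg_eq_of (hS₁i φ hφ).2, irr_norm (hS₁i φ hφ).1], Finset.sum_const, hr.index, hidx,
      Subgroup.relIndex_self, nsmul_eq_mul] at e1
    have e2 : (p : ℝ) = 2 * Nat.card W₁ - 1 := by
      have : (p : ℝ) + 1 = 2 * Nat.card W₁ := by exact_mod_cast hp1
      linarith
    have e3 : (3 : ℝ) ≤ Nat.card W₁ := by exact_mod_cast hw
    push_cast at e1
    rw [e2] at e1
    have e4 : (S₁.card : ℝ) = 4 * (Nat.card W₁ - 1) := by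
      have : (0 : ℝ) < (Nat.card W₁ : ℝ) ^ 2 := by positivity
      apply mul_right_cancel₀ this.ne'
      rw [hS₁]
      linarith
    have : (8 : ℝ) ≤ S₁.card := by linarith
    exact_mod_cast this
  obtain ⟨R₀, hsub, -, -⟩ := h.subcoherent hM
  have hcore := h.core_of_not_II hM h2
  rw [hcore] at hsub
  obtain ⟨τ₁, hc₁⟩ := (hsub.sub hS₁S).uniform_degree_coherence fun φ hφ ψ hψ =>
    (hS₁i φ hφ).2.trans (hS₁i ψ hψ).2.symm
  obtain ⟨ζ, hi, hζ₁, hζ1⟩ := h.ref_irr hM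
  have hζ := hS₁S.sub hζ₁
  have hη : ∀ φ ∈ S₁, ∀ ω ∈ Irr W, cfdot ⊤ (τ₁ φ) (eta W W₁ W₂ ω) = 0 := fun φ hφ ω hω =>
    h.coherent_ortho_cycTIiso hM (hcore ▸ hS₁S) hc₁ hφ (hS₁i φ hφ).1 hω
  have hd := hc₁.dirr hζ₁ hi
  -- (10.10.3)
  have hα : ∀ i ∈ irrK W W₂, tau0 M (bridge345 M W W₁ W₂ δ n ζ i k) =
      (δ : ℂ) • (eta W W₁ W₂ (i * k) - eta W W₁ W₂ i) - (n : ℂ) • τ₁ ζ := by
    intro i hI
    refine h.tau_bridge_of_dot hM h2 hco hi hζ hζ1 hI hk hk1 hd (hη ζ hζ₁) ?_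
    have hv := h.vchar_Dade_bridge345 hM h2 hco hi hζ hζ1 hI hk hk1
    obtain ⟨a, ha⟩ := vchar_dot_int hv hd.vchar
    have e1 : ∀ ξ ∈ S₁.erase ζ,
        cfdot ⊤ (tau0 M (bridge345 M W W₁ W₂ δ n ζ i k)) (τ₁ ξ) = ((a + n : ℤ) : ℂ) := by
      intro ξ hξ
      have hξ₁ := Finset.mem_of_mem_erase hξ
      have e2 : ζ - ξ ∈ zsp0 S₁ := sub_mem_zsp0 (mem_zsp_of_mem hζ₁) (mem_zsp_of_mem hξ₁)
        (hζ1.trans (hS₁i ξ hξ₁).2.symm)
      have e3 := Dade_isometry hD (h.supp_bridge345 hM h2 hco hi hζ hζ1 hI hk hk1)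
        (h.zsp0_on345 hM h2 (zsp0_mono hS₁S.sub e2)).1
      rw [← hc₁.ext _ e2, map_sub, cfdot_sub_right, cfdot_sub_right, ha,
        h.bridge345_dot_irr hM h2 hco hi hζ hζ1 hI hk hi (seqIndD_subT _ _ _ _ hζ),
        h.bridge345_dot_irr hM h2 hco hi hζ hζ1 hI hk (hS₁i ξ hξ₁).1 (seqIndD_subT _ _ _ _ hξ₁),
        irr_dot_self hi, irr_dot_ne hi (hS₁i ξ hξ₁).1 (Finset.ne_of_mem_erase hξ).symm] at e3
      push_cast
      linear_combination -e3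
    have e4 := sum_sq_cfdot_le (H := ⊤) (s := S₁) (e := fun φ => τ₁ φ)
      (fun φ hφ => (hc₁.dirr hφ (hS₁i φ hφ).1).dot_self)
      (fun φ hφ ψ hψ hne => by
        rw [hc₁.dot hφ hψ, irr_dot_ne (hS₁i φ hφ).1 (hS₁i ψ hψ).1 hne])
      (tau0 M (bridge345 M W W₁ W₂ δ n ζ i k))
    rw [← Finset.add_sum_erase _ _ hζ₁, Finset.sum_congr rfl fun ξ hξ => by rw [e1 ξ hξ], ha,
      h.norm_bridge345 hM h2 hco hi hζ hζ1 hI hk hk1, Finset.sum_const,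
      Finset.card_erase_of_mem hζ₁, Complex.norm_intCast, Complex.norm_intCast, sq_abs, sq_abs,
      nsmul_eq_mul, hn] at e4
    have e5 : a ^ 2 + ((S₁.card - 1 : ℕ) : ℤ) * (a + 2) ^ 2 ≤ 6 := by
      have : (a : ℝ) ^ 2 + ((S₁.card - 1 : ℕ) : ℝ) * (a + 2) ^ 2 ≤ 6 := by
        push_cast at e4 ⊢
        linarith
      exact_mod_cast this
    have e6 : (7 : ℤ) ≤ ((S₁.card - 1 : ℕ) : ℤ) := by omega
    have e7 : a = -2 := by
      by_contra hne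
      have e8 : 1 ≤ (a + 2) ^ 2 := by
        have := sq_pos_of_ne_zero (show a + 2 ≠ 0 by omega)
        omega
      nlinarith [sq_nonneg a]
    rw [ha, e7, hn]; norm_num
  -- (10.10.4)
  obtain ⟨χ, hχ, hχd, hχη⟩ := h.type345_Dade_bridge0 hM h2 hi hζ hζ1 (by omega)
  have hχζ : τ₁ ζ = χ := by
    refine hd.eq_of_dot_one hχd ?_
    have hI := hc.one_I
    have e1 := Dade_isometry hD (h.supp_bridge345 hM h2 hco hi hζ hζ1 hI hk hk1)
      (h.red0_sub_on0 hM h2 hζ hζ1).1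
    have e2 := hc.dot_col hc.one_J hI hk
    have e3 := hc.dot_col hc.one_J hI hc.one_J
    rw [if_neg hk1.symm, sum_eta_zero] at e2
    rw [if_pos rfl, sum_eta_zero, irrK_mul_one hI] at e3
    have e4 : cfdot ⊤ (τ₁ ζ) (∑ i ∈ irrK W W₂, eta W W₁ W₂ i) = 0 := by
      rw [cfdot_sum_right]
      exact Finset.sum_eq_zero fun i hI => hη ζ hζ₁ i (irrK_irr hI)
    rw [hα _ hI, hχ, cfdot_sub_right M, h.bridge345_dot_red hM h2 hco hi hζ hζ1 hI hk hc.one_J,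
      h.bridge345_dot_irr hM h2 hco hi hζ hζ1 hI hk hi (seqIndD_subT _ _ _ _ hζ), irr_dot_self hi,
      if_neg hk1, if_pos rfl, cfdot_sub_left, cfdot_smul_left, cfdot_smul_left, cfdot_sub_left,
      cfdot_sub_right, cfdot_sub_right, cfdot_sub_right, e4, cfdot_symm_zero e2,
      cfdot_symm_real (r := 1) e3, cfdot_symm_zero (hχη _ (hc.mul_irr hI hk)),
      cfdot_symm_zero (hχη _ (irrK_irr hI)), hn] at e1
    push_cast at e1
    linear_combination e1 / 2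
  obtain ⟨τ₂, hc₂, hτ₂⟩ := (h.prDade hM).uniform_coherent hk hk1
  have hred1 : ∀ j ∈ irrK W W₁, j ≠ cfOne W → prRed M W W₁ W₂ j 1 = Nat.card W₁ * d :=
    fun j hj hj1 => by rw [hr.red_apply_one hc.one_I hj, hco.deg _ hc.one_I j hj hj1]
  have hmem : ∀ j ∈ irrK W W₁, j ≠ cfOne W → prRed M W W₁ W₂ j ∈ prUnif M W W₁ W₂ k :=
    fun j hj hj1 => mem_prUnif.2 ⟨j, hj, hj1, by rw [hred1 j hj hj1, hred1 k hk hk1], rfl⟩
  have hS₂S : ConjSub (prUnif M W W₁ W₂ k) (seqIndD ⁅M, M⁆ M ⁅M, M⁆ ⊥) := by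
    refine ⟨fun φ hφ => ?_, fun φ hφ => ?_⟩
    · obtain ⟨j, hj, hj1, -, rfl⟩ := mem_prUnif.1 hφ
      exact h.red_mem345 hM h2 hj hj1
    · obtain ⟨j, hj, hj1, -, rfl⟩ := mem_prUnif.1 hφ
      rw [conjC, ← hr.red_aut _ hj]
      exact hmem _ (conjC_irrK hj) fun e => hj1 (conjC_eq_cfOne_iff.1 e)
  refine (hsub.bridge_coherent hS₂S hc₂ hS₁S hc₁ (Finset.disjoint_left.2 fun φ hφ hφ₁ => ?_)
    (hmem k hk hk1) (natCast_smul_mem d (mem_zsp_of_mem hζ₁)) ?_ ?_).mono fun φ hφ => ?_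
  · obtain ⟨j, hj, -, -, rfl⟩ := mem_prUnif.1 hφ
    exact hr.red_not_irr hj (hS₁i _ hφ₁).1
  · rw [hred1 k hk hk1, Pi.smul_apply, hζ1, smul_eq_mul, mul_comm]
  · rw [h.tau_red_sub hM h2 hco hi hζ hζ1 hα, hχ, hχζ, sub_self, smul_zero, add_zero, hτ₂ k hk,
      hco.sign k hk hk1, map_smul, hχζ]
  · obtain ⟨θ, hθ, -, hθ1, rfl⟩ := mem_seqIndD.1 hφ
    by_cases hker : ⁅⁅M, M⁆, ⁅M, M⁆⁆ ≤ cfker ⁅M, M⁆ θ
    · exact Finset.mem_union_right _ (mem_seqIndD.2 ⟨θ, hθ, hker, hθ1, rfl⟩)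
    · have : θ ∈ irrKD ⁅M, M⁆ ⁅⁅M, M⁆, ⁅M, M⁆⁆ ⊥ := mem_irrKD.2 ⟨hθ, bot_le, hker⟩
      rw [← himg] at this
      obtain ⟨j, hj, rfl⟩ := Finset.mem_image.1 this
      rw [hr.ind_res (Finset.mem_of_mem_erase hj)]
      exact Finset.mem_union_left _
        (hmem j (Finset.mem_of_mem_erase hj) (Finset.ne_of_mem_erase hj))

/-- (10.11). -/
theorem FTtypeP_pair_primes {S T : Subgroup G} (h : TypePPair S T W W₁ W₂) :
    (Nat.card W₁).Prime ∧ (Nat.card W₂).Prime := by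
  obtain ⟨U, hS⟩ := typeP_pairW h
  obtain ⟨V, hT⟩ := typeP_pairW h.symm
  exact ⟨(hS.of_not_V h.maxS (FTtype5_exclusion h.maxS)).prime,
    (hT.of_not_V h.maxT (FTtype5_exclusion h.maxT)).prime⟩

theorem TypeP.primes (h : TypeP M U W W₁ W₂) (hM : IsCoatom M) :
    (Nat.card W₁).Prime ∧ (Nat.card W₂).Prime := by
  obtain ⟨T, V, hp, -⟩ := h.pair_witness hM
  exact FTtypeP_pair_primes hp

theorem TypeP.typeII_prime_facts (h : TypeP M U W W₁ W₂) (hM : IsCoatom M) (h2 : IsOfTypeII M) :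
    IsElementaryAbelian (Nat.card W₂) (Fc M) ∧ Nat.card (Fc M) = Nat.card W₂ ^ Nat.card W₁ ∧
      Coherent M ⊤ (pS M ⊥) (tau0 M) := by
  have h5 := not_V_of_II h2
  have hc := (h.typeII_core hM h5 h2).2
  have hp := h.def_factor_prime hM h5 (h.primes hM).2
  have hK : pK M U = ⊥ := by
    have e1 := (h.Fcore_factor_facts hM h5).2.2
    have e2 := card_mul_relIndex (h.Fcore_kernel_exists hM h5).1.lt.le
    rw [e1, hp, ← hc] at e2
    exact card_eq_one'.1 ((Nat.mul_eq_right (card_ne_zero _)).1 e2)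
  refine ⟨?_, hc, ?_⟩
  · have e1 := h.Hbar_abelem hM h5
    rw [hK, hp] at e1
    have hN : Fc M ≤ N[(⊥ : Subgroup G)] := (Nml.bot _).norm
    refine ⟨abl_of_quo hN (bot_inf_eq _) e1.1, fun x hx => ?_⟩
    have e2 := e1.2 _ (cs_mem_quo hx (hN hx))
    rwa [cs, ← ap_pow _ (hN hx), cs_eq_one (pow_mem (hN hx) _), Subgroup.mem_bot] at e2
  · have e1 := h.core_coherence hM h5
    rwa [hK, der1_eq_bot.2 ((h.of_II hM h2).2.1.of_le (h.pC_le hM h5)), sup_bot_eq] at e1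

end H27
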