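import Mathlib
import Cfsg.Agent.H27.PF10
import Cfsg.Agent.H26.Coprime
import Cfsg.Agent.H26.Abelem
import Cfsg.Agent.H3.Power
import Cfsg.Agent.H3.Extraspecial

/-!
# Peterfalvi §11, first part: (11.1)–(11.7).
`H = Fc M`, `C = U ⊓ C[H]`, `H₀ = pK M U`, `S(X) = seqIndD ⁅M, M⁆ M ⁅M, M⁆ X`, `p = |W₂|`, `q = |W₁|`.
-/

set_option autoImplicit false
set_option linter.unusedSectionVars false
set_option linter.unusedVariables false

namespace H27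

open Cfsg H24 H25
open scoped ComplexConjugate commutatorElement

universe u v

theorem PF11.three_pow {q : ℕ} (h : 5 ≤ q) : 4 * q ^ 2 + 1 < 3 ^ q := by
  induction q, h using Nat.le_induction with
  | base => norm_num
  | succ n hn ih => rw [pow_succ 3]; nlinarith

theorem PF11.five_pow {q : ℕ} (h : 3 ≤ q) : 4 * q ^ 2 + 1 < 5 ^ q := by
  induction q, h using Nat.le_induction with
  | base => norm_num
  | succ n hn ih => rw [pow_succ 5]; nlinarith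

/-- (11.1). -/
theorem lbound_expn_odd_prime {p q : ℕ} (hp : p.Prime) (hq : q.Prime) (op : Odd p) (oq : Odd q)
    (hne : p ≠ q) : 4 * q ^ 2 + 1 < p ^ q := by
  have hp2 := hp.two_le
  have hq2 := hq.two_le
  obtain ⟨a, ha⟩ := op
  obtain ⟨b, hb⟩ := oq
  by_cases h3 : p = 3
  · subst h3
    exact PF11.three_pow (by omega)
  · exact (PF11.five_pow (by omega)).trans_le (Nat.pow_le_pow_left (by omega) q)

variable {G : Type u} [Group G] [Finite G] [FT G] {M U W W₁ W₂ : Subgroup G}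

namespace PF11
variable (h : TypeP M U W W₁ W₂) (hM : IsCoatom M) (h2 : ¬ IsOfTypeII M)

include h in
theorem defHC : Fc M ⊔ (U ⊓ C[Fc M]) = F[M] := h.dpF.sup

include h in
theorem nmlHC : Fc M ⊔ (U ⊓ C[Fc M]) ⊴ M := by rw [defHC h]; exact Fitting_nml M

include h in
theorem HC_le : Fc M ⊔ (U ⊓ C[Fc M]) ≤ ⁅M, M⁆ := by rw [defHC h]; exact h.F_le

include h in
theorem nmlC : U ⊓ C[Fc M] ⊴ M := by
  refine ⟨inf_le_left.trans h.leUM, ?_⟩
  have hH := (Fc_nml M).norm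
  calc M = Fc M ⊔ U ⊔ W₁ := by rw [h.sdHU.sup, h.sdM.sup]
    _ ≤ N[U ⊓ C[Fc M]] := by
      refine sup_le (sup_le ?_ ?_) ?_
      · exact norm_of_cent (cents_symm inf_le_right)
      · exact norm_inf (norm_self U) (norm_C (h.leUM.trans hH))
      · exact norm_inf h.normU (norm_C (h.le1.trans hH))

include h hM in
theorem nmlH0 : pK M U ⊴ M := (h.Fcore_kernel_exists hM (FTtype5_exclusion hM)).1.nmlV

include h hM in
theorem H0_le : pK M U ≤ Fc M := (h.Fcore_kernel_exists hM (FTtype5_exclusion hM)).1.le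

include h hM in
theorem nmlH0C : pK M U ⊔ (U ⊓ C[Fc M]) ⊴ M := (nmlH0 h hM).sup (nmlC h)

include h hM in
theorem pP_eq : pP M U = ♯W₂ := h.def_factor_prime hM (FTtype5_exclusion hM) (h.primes hM).2

include h hM in
theorem idxH0 : (pK M U).relIndex (Fc M) = ♯W₂ ^ ♯W₁ := by
  rw [(h.Fcore_factor_facts hM (FTtype5_exclusion hM)).2.2, pP_eq h hM]

include h in
theorem infHU : Fc M ⊓ U = ⊥ := h.sdHU.inf

include h hM in
theorem idxH0C : (pK M U ⊔ (U ⊓ C[Fc M])).relIndex (Fc M ⊔ (U ⊓ C[Fc M])) = ♯W₂ ^ ♯W₁ := by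
  have hp : IsProd (pK M U ⊔ (U ⊓ C[Fc M])) (Fc M) (Fc M ⊔ (U ⊓ C[Fc M])) :=
    (isProd_sup (norm_of_cent (inf_le_right : U ⊓ C[Fc M] ≤ _))).symm.mono_left le_sup_right
      (sup_le_sup_right (H0_le h hM) _)
  rw [hp.relIndex_eq, ← Subgroup.inf_relIndex_right, ← idxH0 h hM]
  congr 1
  rw [← group_modl ((nmlC h).le.trans (nmlH0 h hM).norm) (H0_le h hM)]
  refine sup_eq_left.2 (le_trans ?_ bot_le)
  rw [← infHU h]
  exact le_inf inf_le_right (inf_le_left.trans inf_le_left)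

include h in
theorem idxK : (⁅M, M⁆ : Subgroup G).relIndex M = ♯W₁ := h.sdM.relIndex_left

include h hM in
theorem p_ne_q : ♯W₂ ≠ ♯W₁ := by
  intro e
  have := h.cTI.cop
  rw [e, Nat.coprime_self] at this
  exact (h.primes hM).1.ne_one this

include h hM h2 in
theorem subcoh : ∃ R₀, Subcoh M ⊤ (seqIndD ⁅M, M⁆ M ⁅M, M⁆ ⊥) (tau0 M) R₀ := by
  obtain ⟨R, hR, -⟩ := h.subcoherent hM
  rw [h.core_of_not_II hM h2] at hR
  exact ⟨R, hR⟩

include h in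
theorem solK : Sol (⁅M, M⁆ : Subgroup G) := h.sol.of_le (der1_le M)

end PF11

namespace TypeP
open PF11
variable (h : TypeP M U W W₁ W₂) (hM : IsCoatom M) (h2 : ¬ IsOfTypeII M)
include h hM h2

/-- (11.3). -/
theorem type34_noncoherence :
    ¬ Coherent M ⊤ (seqIndD ⁅M, M⁆ M ⁅M, M⁆ (pK M U ⊔ (U ⊓ C[Fc M]))) (tau0 M) := by
  intro hc
  obtain ⟨R, hR⟩ := subcoh h hM h2
  refine FTtype345_noncoherence hM h.not_typeI h2 ?_
  refine bounded_seqIndD_coherence (der1_nml M) (solK h) hR (Nml.bot M) (nmlHC h) (nmlH0C h hM)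
    bot_le (sup_le_sup_right (H0_le h hM) _) (HC_le h) ?_ hc ?_
  · rw [defHC h]; exact (Fitting_nil M).quo _
  · rw [idxK h, idxH0C h hM]
    exact lbound_expn_odd_prime (h.primes hM).2 (h.primes hM).1 (mFT_odd _) (mFT_odd _) (p_ne_q h hM)

end TypeP

namespace PF11
variable (h : TypeP M U W W₁ W₂) (hM : IsCoatom M) (h2 : ¬ IsOfTypeII M)

include h hM in
theorem derHC_le : ⁅Fc M ⊔ (U ⊓ C[Fc M]), Fc M ⊔ (U ⊓ C[Fc M])⁆ ≤ pK M U ⊔ (U ⊓ C[Fc M]) := by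
  rw [der1_sup_of_cent inf_le_right]
  exact sup_le_sup (h.der_le_pK hM (FTtype5_exclusion hM)) (der1_le _)

include h hM h2 in
/-- (11.4). -/
theorem bounded_proper_coherent {H₁ : Subgroup G} (hn : H₁ ⊴ M) (hlt : H₁ < ⁅M, M⁆)
    (hc : Coherent M ⊤ (seqIndD ⁅M, M⁆ M ⁅M, M⁆ H₁) (tau0 M)) :
    H₁.relIndex ⁅M, M⁆ ≤ 2 * (Fc M ⊔ (U ⊓ C[Fc M])).relIndex M + 1 := by
  obtain ⟨R, hR⟩ := subcoh h hM h2
  rcases coherent_seqIndD_bound (der1_nml M) (solK h) hR hn (nmlH0C h hM) (nmlHC h) (nmlHC h) hlt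
    (sup_le_sup_right (H0_le h hM) _) le_rfl (HC_le h) (derHC_le h hM) hc with h' | h'
  · exact absurd h' (h.type34_noncoherence hM h2)
  · rw [Subgroup.relIndex_self, mul_one] at h'
    have : (H₁.relIndex ⁅M, M⁆ - 1) ^ 2 ≤ (2 * (Fc M ⊔ (U ⊓ C[Fc M])).relIndex M) ^ 2 := by
      rw [mul_pow]; simpa using h'
    have := (Nat.pow_le_pow_iff_left two_ne_zero).1 this
    omega

/-- linear characters induce to characters of degree the index. -/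
theorem seqIndD_apply_one {K L H X : Subgroup G} (hKL : K ≤ L) (hX : ⁅K, K⁆ ≤ X) {φ : G → ℂ}
    (hφ : φ ∈ seqIndD K L H X) : φ 1 = K.relIndex L := by
  obtain ⟨θ, hθ, hk, -, rfl⟩ := mem_seqIndD.1 hφ
  rw [cfInd_one hKL, (irr_lin_of_der_le hθ (hX.trans hk)).one, mul_one]

include h in
/-- `W₁` acts fixed-point-freely on `X / V` when `W₂ ≤ V ≤ X ≤ M'`. -/
theorem dvd_relIndex_pred {V X : Subgroup G} (hV : V ⊴ M) (hX : W₁ ≤ N[X]) (h2V : W₂ ≤ V)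
    (hVX : V ≤ X) (hXK : X ≤ ⁅M, M⁆) : ♯W₁ ∣ V.relIndex X - 1 := by
  have hXV : X ≤ N[V] := (hXK.trans (der1_le M)).trans hV.norm
  have hWV : W₁ ≤ N[V] := h.le1.trans hV.norm
  have hcop := h.prTI.cop
  have hreg : Semireg (quo X V) (quo W₁ V) := by
    intro z hz hz1
    obtain ⟨x, hx, hxN, rfl⟩ := mem_quo.1 hz
    have hx1 : x ≠ 1 := by rintro rfl; exact hz1 (ap_one _)
    rw [← coprime_quo_cent1 (hX hx) hxN hXV
      ((hcop.coprime_dvd_left (card_dvd (hVX.trans hXK))).coprime_dvd_right (orderOf_dvd_card' hx))]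
    refine quo_eq_bot_of_le (le_trans ?_ h2V)
    rw [← h.cent x hx hx1]
    exact inf_le_inf_right _ hXK
  have := hreg.dvd_pred (quo_norm V hX)
  rwa [card_quo_of_inf hWV (eq_bot_of_le h.sdM.inf (inf_le_inf_right _ (hVX.trans hXK))),
    card_quo hXV] at this

include h hM in
theorem HC_ne : Fc M ⊔ (U ⊓ C[Fc M]) ≠ ⁅M, M⁆ := by
  intro e
  refine h.not_cent (h.of_not_V hM (FTtype5_exclusion hM)).neU ?_
  have hU : U ≤ (U ⊓ C[Fc M]) ⊔ Fc M := by rw [sup_comm, e]; exact h.leU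
  have := group_modl (A := U ⊓ C[Fc M]) (B := Fc M) (L := U) ((Fc_nml M).le.trans (nmlC h).norm)
    inf_le_left
  rw [infHU h, sup_bot_eq, inf_eq_right.2 hU] at this
  rw [← this]
  exact inf_le_right

end PF11

namespace TypeP
open PF11
variable (h : TypeP M U W W₁ W₂) (hM : IsCoatom M) (h2 : ¬ IsOfTypeII M)
include h hM h2

/-- (11.5). -/
theorem type34_der2 : ⁅⁅M, M⁆, ⁅M, M⁆⁆ = Fc M ⊔ (U ⊓ C[Fc M]) := by
  have hle : ⁅⁅M, M⁆, ⁅M, M⁆⁆ ≤ Fc M ⊔ (U ⊓ C[Fc M]) := by rw [defHC h]; exact h.der2_le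
  obtain ⟨R, hR⟩ := subcoh h hM h2
  have hn : ⁅⁅M, M⁆, ⁅M, M⁆⁆ ⊴ M := (der1_nml M).der1
  have hlt : ⁅⁅M, M⁆, ⁅M, M⁆⁆ < ⁅M, M⁆ := (solK h).der1_lt (ne_bot_of_le h.Fc_ne h.Fc_le)
  have hc : Coherent M ⊤ (seqIndD ⁅M, M⁆ M ⁅M, M⁆ ⁅⁅M, M⁆, ⁅M, M⁆⁆) (tau0 M) :=
    (hR.sub (seqIndD_conjSub _ _ le_rfl bot_le)).uniform_degree_coherence fun φ hφ ψ hψ => by
      rw [seqIndD_apply_one (der1_le M) le_rfl hφ, seqIndD_apply_one (der1_le M) le_rfl hψ]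
  have hb := bounded_proper_coherent h hM h2 hn hlt hc
  rw [← Subgroup.relIndex_mul_relIndex _ _ _ hle (HC_le h),
    ← Subgroup.relIndex_mul_relIndex _ _ _ (HC_le h) (der1_le M), idxK h] at hb
  have hd := dvd_relIndex_pred h hn (h.le1.trans (nmlHC h).norm) h.le2der2 hle (HC_le h)
  have hv : (Fc M ⊔ (U ⊓ C[Fc M])).relIndex ⁅M, M⁆ ≠ 1 := fun e =>
    HC_ne h hM (le_antisymm (HC_le h) (Subgroup.relIndex_eq_one.1 e))
  have hv0 := relIndex_pos (Fc M ⊔ (U ⊓ C[Fc M])) ⁅M, M⁆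
  have ht0 := relIndex_pos ⁅⁅M, M⁆, ⁅M, M⁆⁆ (Fc M ⊔ (U ⊓ C[Fc M]))
  have hto := mFT_odd_relIndex ⁅⁅M, M⁆, ⁅M, M⁆⁆ (Fc M ⊔ (U ⊓ C[Fc M]))
  refine le_antisymm hle (Subgroup.relIndex_eq_one.1 ?_)
  generalize (⁅⁅M, M⁆, ⁅M, M⁆⁆ : Subgroup G).relIndex (Fc M ⊔ (U ⊓ C[Fc M])) = t at *
  generalize (Fc M ⊔ (U ⊓ C[Fc M])).relIndex ⁅M, M⁆ = v at *
  have hq := mFT_odd W₁
  generalize ♯W₁ = q at *
  by_contra ht
  obtain ⟨k, hk⟩ := hd
  have hk2 : 2 ≤ k := by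
    rcases k with _ | _ | k
    · omega
    · obtain ⟨a, ha⟩ := hto
      obtain ⟨b, hb⟩ := hq
      omega
    · omega
  have h1 : 2 * q + 1 ≤ t := by
    have := Nat.mul_le_mul_left q hk2
    omega
  have h3 : 2 ≤ v := by omega
  nlinarith

/-- (11.6). -/
theorem type34_facts : IsPi {Nat.card W₂} (Fc M) ∧ U ≤ C[pK M U] ∧ pK M U = ⁅Fc M, Fc M⁆ ∧
    U ⊓ C[Fc M] = ⁅U, U⁆ := by
  have h5 := FTtype5_exclusion hM
  have hUH : U ≤ N[Fc M] := h.sdHU.norm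
  have hd : Fc M ⊔ (U ⊓ C[Fc M]) = ⁅Fc M, Fc M⁆ ⊔ ⁅Fc M, U⁆ ⊔ ⁅U, U⁆ := by
    rw [← h.type34_der2 hM h2, ← der1_sup hUH, h.sdHU.sup]
  have hle : ⁅Fc M, Fc M⁆ ⊔ ⁅Fc M, U⁆ ≤ Fc M := sup_le (der1_le _) (comm_le_left hUH)
  have hnorm : ⁅U, U⁆ ≤ N[⁅Fc M, Fc M⁆ ⊔ ⁅Fc M, U⁆] :=
    (der1_le U).trans (norm_sup (norm_der1 hUH) (norm_comm_right _ _))
  have hC : U ⊓ C[Fc M] = ⁅U, U⁆ := by
    refine le_antisymm ?_ (le_inf (der1_le U) h.derU_cent)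
    have := group_modr hnorm (der1_le U)
    rw [← hd, eq_bot_of_le (infHU h) (inf_le_inf_right _ hle), bot_sup_eq] at this
    rw [this]
    exact le_inf le_sup_right inf_le_left
  have hH : Fc M = ⁅Fc M, Fc M⁆ ⊔ ⁅Fc M, U⁆ := by
    have := group_modl hnorm hle
    have e : ⁅U, U⁆ ⊓ Fc M = ⊥ :=
      eq_bot_of_le (infHU h) (le_inf inf_le_right (inf_le_left.trans (der1_le U)))
    rw [← hd, e, sup_bot_eq] at this
    exact (this.trans (inf_eq_right.2 le_sup_left)).symm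
  have hH0 : pK M U = Fc M ⊓ C[U] := by
    refine (eq_of_card_eq (h.Fcore_kernel_exists hM h5).2 ?_).symm
    have e1 := (h.typeIII_IV_core hM h5 h2).2.2
    have e2 := card_mul_relIndex (H0_le h hM)
    rw [idxH0 h hM, e1, mul_comm] at e2
    exact (Nat.eq_of_mul_eq_mul_left (pow_pos (card_pos W₂) _) e2).symm
  have hcop : (♯(Fc M)).Coprime ♯U := h.Fcore_coprime.coprime_dvd_right (card_dvd le_sup_left)
  have hder : pK M U = ⁅Fc M, Fc M⁆ := by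
    refine le_antisymm ?_ (h.der_le_pK hM h5)
    have hN : Fc M ≤ N[⁅Fc M, Fc M⁆] := (der1_nml _).norm
    have hUN : U ≤ N[⁅Fc M, Fc M⁆] := norm_der1 hUH
    have h1 := H26.coprime_abel_cent_TI (quo_norm ⁅Fc M, Fc M⁆ hUH) (coprime_quo hcop _)
      (abl_quo_der1 (Fc M))
    rw [← quo_comm hN hUN, ← quo_sup_left ((comm_le_left hUH).trans hN), ← hH] at h1
    rw [← quo_eq_bot ((H0_le h hM).trans hN), hH0]
    exact eq_bot_of_le h1 (img_inf_C_le _ _ _)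
  refine ⟨?_, cents_symm (hH0.le.trans inf_le_right), hder, hC⟩
  obtain ⟨P, hP⟩ := Sylow_exists (h.primes hM).2 (Fc M)
  have hp := hP.isProd_of_idx (H0_le h hM)
    (by rw [idxH0 h hM]; exact piNat_self_pow (h.primes hM).2 _)
  have : P = Fc M := Phi_nongen hP.le (by
    rw [← hp.sup_eq]
    refine sup_le_sup_left ?_ _
    rw [hp.sup_eq, hder]
    exact (Fc_nil M).der1_le_Phi)
  rw [← this]
  exact hP.pi

end TypeP

namespace PF11

section general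
variable {Γ : Type u} [Group Γ] [Finite Γ]

theorem cs_mul {K : Subgroup Γ} {x y : Γ} (hx : x ∈ N[K]) (hy : y ∈ N[K]) :
    cs K (x * y) = cs K x * cs K y := ap_mul _ hx hy
theorem cs_pow {K : Subgroup Γ} {x : Γ} (hx : x ∈ N[K]) (n : ℕ) : cs K (x ^ n) = cs K x ^ n :=
  ap_pow _ hx n
theorem cs_conj {K : Subgroup Γ} {x y : Γ} (hx : x ∈ N[K]) (hy : y ∈ N[K]) :
    cs K (x * y * x⁻¹) = cs K x * cs K y * (cs K x)⁻¹ := ap_conj _ hx hy
theorem cs_commutator {K : Subgroup Γ} {x y : Γ} (hx : x ∈ N[K]) (hy : y ∈ N[K]) :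
    cs K ⁅x, y⁆ = ⁅cs K x, cs K y⁆ := ap_commutator _ hx hy

theorem extraspecial_card {p : ℕ} (hp : p.Prime) {S : Subgroup Γ} (h : Extraspecial p S) :
    ∃ n : ℕ, ♯S = p ^ (2 * n + 1) := by
  have := Fact.mk hp
  have hZ : Z[S] = (Subgroup.center S).map S.subtype := by
    ext x
    constructor
    · rintro ⟨hx, hc⟩
      refine ⟨⟨x, hx⟩, Subgroup.mem_center_iff.2 fun g => Subtype.ext ?_, rfl⟩
      exact mem_C.1 hc g g.2
    · rintro ⟨y, hy, rfl⟩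
      exact ⟨y.2, mem_C.2 fun g hg => congrArg Subtype.val (Subgroup.mem_center_iff.1 hy ⟨g, hg⟩)⟩
  have hi := Subgroup.map_injective S.subtype_injective
  obtain ⟨n, -, hn⟩ := H3.IsExtraspecial.card_eq (G := S) (p := p)
    ⟨⟨h.pgroup.isPGroup hp, hi (h.phi.trans hZ), hi ((der1_eq_map S).symm.trans (h.der.trans hZ))⟩,
      by rw [← h.card, hZ, Subgroup.card_map_of_injective S.subtype_injective]⟩
  exact ⟨n, hn⟩

/-- the commutator form of a section of class two. -/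
theorem cs_comm_pow {H H₀ Q : Subgroup Γ} (hQ : H ≤ N[Q]) (h0 : H₀ ≤ H) (hd : ⁅H, H⁆ ≤ H₀)
    (hc : ⁅H, H₀⁆ ≤ Q) {x y a b : Γ} (hx : x ∈ H) (hy : y ∈ H) (ha : a ∈ H₀) (hb : b ∈ H₀)
    (r s : ℕ) : cs Q ⁅a * x ^ r, b * y ^ s⁆ = cs Q ⁅x, y⁆ ^ (r * s) := by
  have hcent : ∀ z ∈ H₀, ∀ g ∈ H, Commute (cs Q z) (cs Q g) := fun z hz g hg =>
    (comm_of_cent ((quo_cents hQ (h0.trans hQ)).2 hc) (cs_mem_quo hg (hQ hg))
      (cs_mem_quo hz (hQ (h0 hz)))).symm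
  have hxr := H.pow_mem hx r
  have hys := H.pow_mem hy s
  have hcm : ∀ g ∈ H, ∀ g' ∈ H, ∀ k ∈ H, Commute ⁅cs Q g, cs Q g'⁆ (cs Q k) := fun g hg g' hg' k hk => by
    rw [← cs_commutator (hQ hg) (hQ hg')]
    exact hcent _ (hd (Subgroup.commutator_mem_commutator hg hg')) k hk
  rw [cs_commutator (hQ (H.mul_mem (h0 ha) hxr)) (hQ (H.mul_mem (h0 hb) hys)),
    cs_mul (hQ (h0 ha)) (hQ hxr), cs_mul (hQ (h0 hb)) (hQ hys), cs_commutator (hQ hx) (hQ hy)]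
  have e1 : ∀ g ∈ H, ∀ g' ∈ H, ⁅cs Q a * cs Q g, cs Q g'⁆ = ⁅cs Q g, cs Q g'⁆ := fun g hg g' hg' => by
    rw [H3.commutator_mul_left_of_commute (hcm g hg g' hg' a (h0 ha)),
      commutatorElement_eq_one_iff_commute.2 (hcent a ha g' hg'), mul_one]
  have e2 : ∀ g ∈ H, ∀ g' ∈ H, ⁅cs Q g, cs Q b * cs Q g'⁆ = ⁅cs Q g, cs Q g'⁆ := fun g hg g' hg' => by
    rw [H3.commutator_mul_right, commutatorElement_eq_one_iff_commute.2 (hcent b hb g hg).symm,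
      one_mul, ← (hcm g hg g' hg' b (h0 hb)).eq, mul_inv_cancel_right]
  have := e1 _ hxr _ (H.mul_mem (h0 hb) hys)
  rw [cs_mul (hQ (h0 hb)) (hQ hys)] at this
  rw [this, e2 _ hxr _ hys, cs_pow (hQ hx), H3.commutator_pow_left (hcm x hx _ hys x hx),
    cs_pow (hQ hy), H3.commutator_pow_right (hcm x hx y hy y hy), ← pow_mul, mul_comm]

/-- the non-Galois case of (11.7): the character of `U` on a line is trivial. -/
theorem line_cent {H H₀ Q U : Subgroup Γ} {p : ℕ} (hp : p.Prime) (hQ : H ≤ N[Q]) (h0 : H₀ ⊴ H)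
    (hd : ⁅H, H⁆ ≤ H₀) (hc : ⁅H, H₀⁆ ≤ Q) (hpow : ∀ z ∈ H₀, z ^ p ∈ Q) (hpow0 : ∀ z ∈ H, z ^ p ∈ H₀)
    (hU : U ≤ C[H₀]) (hodd : Odd ♯U) {x w : Γ} (hx : x ∈ H) (hwH : w ∈ N[H]) (hw0 : w ∈ N[H₀])
    (hwU : w ∈ N[U]) (hwo : Odd (orderOf w)) (hn : U ≤ N[H₀ ⊔ Subgroup.zpowers x])
    (hne : ⁅x, w * x * w⁻¹⁆ ∉ Q) : ⁅U, H₀ ⊔ Subgroup.zpowers x⁆ ≤ H₀ := by
  have := Fact.mk hp
  have hxN : x ∈ N[H₀] := h0.norm hx
  have hUN : U ≤ N[H₀] := norm_of_cent hU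
  have hzN : Subgroup.zpowers x ≤ N[H₀] := (Subgroup.zpowers_le).2 hxN
  have hex : ∀ u ∈ U, ∃ r : ℕ, ∃ a ∈ H₀, u * x * u⁻¹ = a * x ^ r := fun u hu => by
    obtain ⟨a, ha, b, hb, e⟩ := (mem_sup_of_norm hzN).1
      (conj_mem (hn hu) (Subgroup.mem_sup_right (Subgroup.mem_zpowers x)))
    obtain ⟨r, rfl⟩ := (mem_powers_iff_mem_zpowers.2 hb : b ∈ Submonoid.powers x)
    exact ⟨r, a, ha, e⟩
  choose! ρ hρ using hex
  set y := w * x * w⁻¹ with hy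
  have hyH : y ∈ H := conj_mem hwH hx
  have hxy : ⁅x, y⁆ ∈ H₀ := hd (Subgroup.commutator_mem_commutator hx hyH)
  have hxyN : ⁅x, y⁆ ∈ N[Q] := hQ (h0.le hxy)
  have hord : orderOf (cs Q ⁅x, y⁆) = p := orderOf_eq_prime
    (by rw [← cs_pow hxyN]; exact cs_of_mem (hpow _ hxy)) (fun e => hne ((cs_eq_one hxyN).1 e))
  have key : ∀ u ∈ U, (ρ u : ZMod p) * ρ (w⁻¹ * u * w) = 1 := fun u hu => by
    obtain ⟨a, ha, e⟩ := hρ u hu
    obtain ⟨b, hb, e'⟩ := hρ _ (conj_mem' hwU hu)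
    have e2 : u * y * u⁻¹ = (w * b * w⁻¹) * y ^ ρ (w⁻¹ * u * w) := by
      rw [hy, conj_pow]
      calc u * (w * x * w⁻¹) * u⁻¹ = w * (w⁻¹ * u * w * x * (w⁻¹ * u * w)⁻¹) * w⁻¹ := by group
        _ = _ := by rw [e']; group
    have e3 : ⁅x, y⁆ = ⁅u * x * u⁻¹, u * y * u⁻¹⁆ := by
      rw [← conj_eq_of_mem_C (hU hu) hxy]
      simp only [commutatorElement_def]; group
    have e4 := cs_comm_pow hQ h0.le hd hc hx hyH ha (conj_mem hw0 hb) (ρ u) (ρ (w⁻¹ * u * w))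
    rw [← e, ← e2, ← e3] at e4
    have e5 : 1 ≡ ρ u * ρ (w⁻¹ * u * w) [MOD p] := by
      rw [← hord, ← pow_eq_pow_iff_modEq, pow_one]; exact e4
    have := (ZMod.natCast_eq_natCast_iff _ _ _).2 e5
    push_cast at this
    exact this.symm
  have hsq : ∀ u ∈ U, (ρ u : ZMod p) ^ 2 = 1 := fun u hu => by
    set a : ℕ → ZMod p := fun k => ρ ((w ^ k)⁻¹ * u * w ^ k) with ha
    have h1 : ∀ k, a k * a (k + 1) = 1 := fun k => by
      have := key _ (conj_mem' (Subgroup.pow_mem _ hwU k) hu)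
      have e : w⁻¹ * ((w ^ k)⁻¹ * u * w ^ k) * w = (w ^ (k + 1))⁻¹ * u * w ^ (k + 1) := by
        rw [pow_succ]; group
      rwa [e] at this
    have h3 : ∀ k, a (2 * k) = a 0 := fun k => by
      induction k with
      | zero => rfl
      | succ k ih =>
        have e1 := h1 (2 * k)
        have e2 := h1 (2 * k + 1)
        rw [show 2 * (k + 1) = 2 * k + 1 + 1 by ring, ← ih]
        calc a (2 * k + 1 + 1) = a (2 * k) * a (2 * k + 1) * a (2 * k + 1 + 1) := by rw [e1, one_mul]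
          _ = a (2 * k) := by rw [mul_assoc, e2, mul_one]
    obtain ⟨m, hm⟩ := hwo
    have e1 := h1 (2 * m)
    have e2 : a (2 * m + 1) = a 0 := by simp only [ha, ← hm, pow_orderOf_eq_one, pow_zero]
    rw [h3, e2] at e1
    simpa [ha, sq] using e1
  rw [← quo_cents hUN (sup_le (norm_self _) hzN), quo_sup_left hzN, quo_zpowers hxN, C_zpowers]
  intro z hz
  obtain ⟨u, hu, huN, rfl⟩ := mem_quo.1 hz
  obtain ⟨a, ha, e⟩ := hρ u hu
  have e1 : cs H₀ u * cs H₀ x * (cs H₀ u)⁻¹ = cs H₀ x ^ ρ u := by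
    rw [← cs_conj huN hxN, e, cs_mul (norm_self _ ha) (Subgroup.pow_mem _ hxN _), cs_of_mem ha,
      one_mul, cs_pow hxN]
  have e2 := H26.conj_pow_conj e1 2
  have e3 : cs H₀ x ^ ρ u ^ 2 = cs H₀ x := by
    conv_rhs => rw [← pow_one (cs H₀ x)]
    rw [pow_eq_pow_iff_modEq]
    refine Nat.ModEq.of_dvd (orderOf_dvd_of_pow_eq_one (n := p) ?_) ?_
    · rw [← cs_pow hxN]; exact cs_of_mem (hpow0 x hx)
    · rw [← ZMod.natCast_eq_natCast_iff]; push_cast; exact hsq u hu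
  rw [e3, ← mem_C1_iff_conj] at e2
  have hco : Nat.Coprime 2 (orderOf (cs H₀ u)) :=
    Nat.coprime_two_left.2 (hodd.of_dvd_nat ((orderOf_ap_dvd _ huN).trans (orderOf_dvd_card' hu)))
  have := (Subgroup.zpowers_le).2 e2
  rw [zpowers_pow_eq_of_coprime hco] at this
  exact this (Subgroup.mem_zpowers _)

end general

end PF11

namespace TypeP
open PF11
variable (h : TypeP M U W W₁ W₂) (hM : IsCoatom M) (h2 : ¬ IsOfTypeII M)
include h hM h2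

/-- (11.7). -/
theorem type34_Fcore_kernel_trivial : IsElementaryAbelian (Nat.card W₂) (Fc M) ∧
    Nat.card (Fc M) = Nat.card W₂ ^ Nat.card W₁ ∧ pK M U = ⊥ := by
  have h5 := FTtype5_exclusion hM
  obtain ⟨hpH, hU, hder, -⟩ := h.type34_facts hM h2
  have hp := (h.primes hM).2
  have hn0 : pK M U ⊴ Fc M := (nmlH0 h hM).of_le (H0_le h hM) (Fc_nml M).le
  have hab := h.Hbar_abelem hM h5
  rw [pP_eq h hM, elem_quo_iff hn0.norm] at hab
  suffices h0 : pK M U = ⊥ by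
    have e := idxH0 h hM
    rw [h0] at hab e
    rw [Subgroup.relIndex_bot_left] at e
    exact ⟨⟨der1_eq_bot.1 (le_bot_iff.1 hab.1), fun a ha => Subgroup.mem_bot.1 (hab.2 a ha)⟩, e, h0⟩
  by_contra h0
  obtain ⟨Q, hQ1, hQ2, hQ3⟩ := exists_maximal_pgroup hp (hpH.of_le hn0.le)
    (nil_comm_properr (Fc_nil M) hn0.le h0 le_rfl hn0.norm)
  have hHQ : Fc M ≤ N[Q] := norm_of_comm_le_right ((comm_mono_right hQ2.le).trans hQ1)
  have hUQ : U ≤ N[Q] := norm_of_cent (cents_of_le hU hQ2.le)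
  have hnQ : ¬ pK M U ≤ Q := fun e => hp.ne_one (hQ3 ▸ Subgroup.relIndex_eq_one.2 e)
  have hnab : ¬ ⁅Fc M, Fc M⁆ ≤ Q := hder ▸ hnQ
  have hcent : quo (pK M U) Q ≤ C[quo (Fc M) Q] :=
    cents_symm ((quo_cents hHQ hQ2.norm).2 hQ1)
  have hUH : U ≤ N[Fc M] := h.sdHU.norm
  by_cases hg : TypePGalois M U
  · have hZ : Z[quo (Fc M) Q] = quo (pK M U) Q := by
      have hle : quo (pK M U) Q ≤ Z[quo (Fc M) Q] := le_inf (quo_mono _ hn0.le) hcent
      rcases hg (coq Q Z[quo (Fc M) Q]) ((quo_le_iff hQ2.norm).1 hle)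
        (coq_le_of_le_quo ⟨hQ2.le.trans hn0.le, hHQ⟩ inf_le_left)
        (norm_coq hUQ (norm_Z (quo_norm Q hUH))) with e | e
      · rw [← e, quo_coq]
      · refine absurd ((quo_cents hHQ hHQ).1 ?_) hnab
        calc quo (Fc M) Q = Z[quo (Fc M) Q] := by conv_lhs => rw [← e, quo_coq]
          _ ≤ _ := inf_le_right
    have hder' : ⁅quo (Fc M) Q, quo (Fc M) Q⁆ = quo (pK M U) Q := by rw [← quo_comm hHQ hHQ, hder]
    have hes : Extraspecial (♯W₂) (quo (Fc M) Q) :=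
      { pgroup := hpH.quo Q
        phi := by
          rw [hZ]
          refine le_antisymm ?_ (hder' ▸ (hpH.quo Q).der1_le_Phi hp)
          rw [← quo_Phi hp hpH hHQ]
          exact quo_mono _ (Phi_le_of_pow hp hab.1 hab.2)
        der := by rw [hZ, hder']
        card := by rw [hZ, card_quo hQ2.norm, hQ3] }
    obtain ⟨n, hn⟩ := extraspecial_card hp hes
    rw [card_quo hHQ, ← Subgroup.relIndex_mul_relIndex _ _ _ hQ2.le hn0.le, hQ3, idxH0 h hM,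
      ← pow_succ'] at hn
    have := Nat.pow_right_injective hp.two_le hn
    obtain ⟨k, hk⟩ := mFT_odd W₁
    omega
  · obtain ⟨H₁, a, h1⟩ := h.Galois_Pn hM h5 hg
    have hcov : pK M U ⋖ H₁ := covBy_of_relIndex_prime h1.le0 (by rw [h1.card, pP_eq h hM]; exact hp)
    obtain ⟨x, hx1, hx0⟩ := SetLike.exists_of_lt hcov.lt
    have hxH : x ∈ Fc M := h1.leH hx1
    have hH₁ : H₁ = pK M U ⊔ Subgroup.zpowers x := by
      rcases covBy_eq_or hcov (le_sup_left (b := Subgroup.zpowers x))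
        (sup_le h1.le0 ((Subgroup.zpowers_le).2 hx1)) with e | e
      · exact absurd (e ▸ Subgroup.mem_sup_right (Subgroup.mem_zpowers x)) hx0
      · exact e.symm
    have hW0 : W₁ ≤ N[pK M U] := h.le1.trans (nmlH0 h hM).norm
    have hWH : W₁ ≤ N[Fc M] := h.le1.trans (Fc_nml M).norm
    have hcj : ∀ w ∈ W₁, H24.cj w H₁ = pK M U ⊔ Subgroup.zpowers (w * x * w⁻¹) := fun w hw => by
      rw [hH₁, cj_sup, cj_of_mem_N (hW0 hw), cj_zpowers]
    have hgen : ∀ X : Subgroup (QN Q), quo (pK M U) Q ≤ X → (∀ w ∈ W₁, cs Q (w * x * w⁻¹) ∈ X) →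
        quo (Fc M) Q ≤ X := fun X hX1 hX2 => by
      rw [quo_le_iff hHQ, ← h1.sup]
      refine iSup_le fun w => ?_
      rw [hcj w w.2]
      exact sup_le ((quo_le_iff hQ2.norm).1 hX1) ((Subgroup.zpowers_le).2
        (mem_coq.2 ⟨hHQ (conj_mem (hWH w.2) hxH), hX2 w w.2⟩))
    obtain ⟨w₁, hw₁, w₂, hw₂, hne⟩ : ∃ w₁ ∈ W₁, ∃ w₂ ∈ W₁, ⁅w₁ * x * w₁⁻¹, w₂ * x * w₂⁻¹⁆ ∉ Q := by
      by_contra hall
      push Not at hall
      refine hnab ((quo_cents hHQ hHQ).1 (hgen _ hcent fun w hw => ?_))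
      have hxw := conj_mem (hWH hw) hxH
      rw [mem_C_iff_le_C1]
      refine hgen _ (hcent.trans (C_le_C1 (cs_mem_quo hxw (hHQ hxw)))) fun w' hw' => ?_
      have hxw' := conj_mem (hWH hw') hxH
      rw [mem_C1, ← commutatorElement_eq_one_iff_mul_comm, ← cs_commutator (hHQ hxw') (hHQ hxw)]
      exact cs_of_mem (hall w' hw' w hw)
    have hw : w₂ * w₁⁻¹ ∈ W₁ := W₁.mul_mem hw₂ (W₁.inv_mem hw₁)
    have hUw : H24.cj w₁ U = U := cj_of_mem_N (h.normU hw₁)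
    have := line_cent hp hHQ hn0 hab.1 hQ1
      (fun z hz => by
        rw [← cs_eq_one (hQ2.norm (Subgroup.pow_mem _ hz _)), cs_pow (hQ2.norm hz), ← hQ3,
          ← card_quo hQ2.norm]
        exact orderOf_dvd_iff_pow_eq_one.1 (orderOf_dvd_card' (cs_mem_quo hz (hQ2.norm hz))))
      hab.2 hU (mFT_odd U) (conj_mem (hWH hw₁) hxH) (hWH hw) (hW0 hw) (h.normU hw)
      (mFT_odd_orderOf _) (by rw [← hcj w₁ hw₁, ← hUw]; exact norm_cj h1.norm w₁)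
      (by
        have e : w₂ * w₁⁻¹ * (w₁ * x * w₁⁻¹) * (w₂ * w₁⁻¹)⁻¹ = w₂ * x * w₂⁻¹ := by group
        rw [e]; exact hne)
    rw [← hcj w₁ hw₁, ← hUw, ← cj_comm, hUw] at this
    conv_rhs at this => rw [← cj_of_mem_N (hW0 hw₁)]
    have hle : U ≤ centQ H₁ (pK M U) :=
      (le_centQ (h1.leH.trans hn0.norm)).2 ⟨norm_of_cent hU, cj_le_cj.1 this⟩
    have := h1.one_lt
    rw [h1.defa, inf_eq_left.2 hle, Subgroup.relIndex_self] at this
    exact lt_irrefl _ this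

theorem type34_pC : pC M U = U ⊓ C[Fc M] := by
  have h5 := FTtype5_exclusion hM
  refine le_antisymm (le_inf (h.pC_le hM h5) ?_) (h.cent_le_pC hM h5)
  rw [← comm_eq_bot, ← le_bot_iff, ← (h.type34_Fcore_kernel_trivial hM h2).2.2]
  exact h.pC_cent hM h5

end TypeP

end H27
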