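import Mathlib
import Cfsg.Agent.H27.PF11a

/-!
# Peterfalvi §11, second part: (11.8).
-/

set_option autoImplicit false
set_option linter.unusedSectionVars false
set_option linter.unusedVariables false

namespace H27

open Cfsg H24 H25
open scoped ComplexConjugate

universe u v

variable {G : Type u} [Group G] [Finite G] [FT G] {M U W W₁ W₂ : Subgroup G}

namespace PF11

/-- `S₁ = S(HC)`. -/
noncomputable abbrev S1 (M U : Subgroup G) : Finset (G → ℂ) :=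
  seqIndD ⁅M, M⁆ M ⁅M, M⁆ (Fc M ⊔ (U ⊓ C[Fc M]))

/-- `S₂ = S(C) − S(HC)`. -/
noncomputable abbrev S2 (M U : Subgroup G) : Finset (G → ℂ) :=
  seqIndD ⁅M, M⁆ M (Fc M) (U ⊓ C[Fc M])

variable (h : TypeP M U W W₁ W₂) (hM : IsCoatom M) (h2 : ¬ IsOfTypeII M)

theorem S1_sub : ConjSub (S1 M U) (seqIndD ⁅M, M⁆ M ⁅M, M⁆ ⊥) := seqIndD_conjSub _ _ le_rfl bot_le

include h in
theorem S2_sub : ConjSub (S2 M U) (seqIndD ⁅M, M⁆ M ⁅M, M⁆ ⊥) := seqIndD_conjSub _ _ h.Fc_le bot_le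

include h hM h2 in
theorem S1_sub' : ConjSub (S1 M U) (seqIndD ⁅M, M⁆ M (typeCore M) ⊥) := by
  rw [h.core_of_not_II hM h2]; exact S1_sub

include h hM h2 in
theorem S2_sub' : ConjSub (S2 M U) (seqIndD ⁅M, M⁆ M (typeCore M) ⊥) := by
  rw [h.core_of_not_II hM h2]; exact S2_sub h

include h in
theorem S12_disj : Disjoint (S1 M U) (S2 M U) := by
  rw [Finset.disjoint_left]
  intro φ h1 h2
  rw [mem_seqIndD_iff_ker (der1_le M) (der1_nml M) (nmlHC h)] at h1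
  rw [mem_seqIndD_iff_ker (der1_le M) (Fc_nml M) (nmlC h)] at h2
  exact h2.2.2 (le_sup_left.trans h1.2.1)

theorem S12_cases {φ : G → ℂ} (hφ : φ ∈ seqIndD ⁅M, M⁆ M ⁅M, M⁆ (U ⊓ C[Fc M])) :
    φ ∈ S1 M U ∨ φ ∈ S2 M U := by
  obtain ⟨θ, hθ, h1, h2, rfl⟩ := mem_seqIndD.1 hφ
  by_cases hk : Fc M ≤ cfker ⁅M, M⁆ θ
  · exact Or.inl (mem_seqIndD.2 ⟨θ, hθ, sup_le hk h1, h2, rfl⟩)
  · exact Or.inr (mem_seqIndD.2 ⟨θ, hθ, h1, hk, rfl⟩)

include h in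
theorem red_not_mem_S1 {j : G → ℂ} (hj : j ∈ irrK W W₁) : prRed M W W₁ W₂ j ∉ S1 M U := by
  intro hm
  rw [← h.prTI.ind_res hj, cfInd_mem_seqIndD_iff (der1_nml M) (der1_nml M).norm (nmlHC h).norm
    (h.prTI.res_irr hj)] at hm
  by_cases h1 : j = cfOne W
  · subst h1
    exact hm.2 (by rw [h.prTI.res_one, cfker_cfOne])
  · exact h.prTI.not_le_cfker_res hj h1 (h.le2.trans (le_sup_left.trans hm.1))

include h in
theorem S1_spec {ζ : G → ℂ} (hζ : ζ ∈ S1 M U) :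
    ζ ∈ Irr M ∧ ∀ ω ∈ Irr W, cfdot M (prMu M W W₁ W₂ ω) ζ = 0 := by
  rcases h.prTI.seqIndT_cases (seqIndD_subT _ _ _ _ hζ) with ⟨j, hj, rfl⟩ | h'
  · exact absurd hζ (red_not_mem_S1 h hj)
  · exact h'

include h in
theorem S1_irr : S1 M U ⊆ Irr M := fun _ hζ => (S1_spec h hζ).1

include h in
theorem S1_orthon : Orthon M (S1 M U) := (irr_orthon M).mono (S1_irr h)

include h hM h2 in
theorem S1_one {ζ : G → ℂ} (hζ : ζ ∈ S1 M U) : ζ 1 = ♯W₁ := by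
  rw [seqIndD_apply_one (der1_le M) (h.type34_der2 hM h2).le hζ, idxK h]

include h hM h2 in
theorem idxHC : (Fc M ⊔ (U ⊓ C[Fc M])).relIndex ⁅M, M⁆ = pU M U := by
  rw [(h.sdHU.isProd.mono_left le_sup_left (HC_le h)).relIndex_eq, ← Subgroup.inf_relIndex_right,
    ← group_modr (norm_of_cent inf_le_right) inf_le_left, infHU h, bot_sup_eq, pU,
    h.type34_pC hM h2]

include h hM h2 in
theorem card_S1 : ♯W₁ * (S1 M U).card + 1 = pU M U := by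
  have e := size_irr_subseq_seqInd (der1_nml M) (seqIndD_subT _ _ _ _) (S1_irr h)
  have e2 : {θ | θ ∈ Irr ⁅M, M⁆ ∧ cfInd M ⁅M, M⁆ θ ∈ S1 M U} =
      ↑(irrKD ⁅M, M⁆ ⁅M, M⁆ (Fc M ⊔ (U ⊓ C[Fc M]))) := by
    ext θ
    simp only [Set.mem_ofPred_eq, Finset.mem_coe, mem_irrKD]
    exact and_congr_right fun hθ =>
      cfInd_mem_seqIndD_iff (der1_nml M) (der1_nml M).norm (nmlHC h).norm hθ
  rw [e2, Set.ncard_coe_finset, idxK h] at e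
  have e3 := sum_irrKD_deg_sq ((nmlHC h).of_le (HC_le h) (der1_le M)) (Nml.refl ⁅M, M⁆)
  rw [sup_eq_left.2 (HC_le h), Subgroup.relIndex_self, idxHC h hM h2,
    Finset.sum_congr rfl (g := fun _ => 1) fun θ hθ => by
      obtain ⟨h1, h3, -⟩ := mem_irrKD.1 hθ
      rw [(irr_lin_of_der_le h1 ((h.type34_der2 hM h2).le.trans h3)).deg, one_pow]] at e3
  rw [e, ← e3]
  simp

include h hM h2 in
theorem red_mem_S2 {j : G → ℂ} (hj : j ∈ irrK W W₁) (hj1 : j ≠ cfOne W) :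
    prRed M W W₁ W₂ j ∈ S2 M U ∧ prRed M W W₁ W₂ j 1 = (♯W₁ * pU M U : ℕ) := by
  have h0 := (h.type34_Fcore_kernel_trivial hM h2).2.2
  have := (h.reducible_core_Ind hM (FTtype5_exclusion hM)).2.2.2 (prRed M W W₁ W₂ j)
    (mem_redPart.2 ⟨by rw [h0]; exact (h.prDadeF hM).red_mem hj hj1, h.prTI.red_not_irr hj⟩)
  refine ⟨?_, this.one⟩
  have hm := this.mem
  rwa [h0, bot_sup_eq, h.type34_pC hM h2] at hm

include h hM h2 in
theorem const : Const345 M W W₁ W₂ (pU M U) 1 (S1 M U).card := by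
  obtain ⟨d, δ, n, hc⟩ := h.type345_constants hM h2
  obtain ⟨j, hj, hj1⟩ := h.cTI.exists_J_ne
  have e := (red_mem_S2 h hM h2 hj hj1).2
  rw [h.prTI.red_apply_one h.cTI.one_I hj, hc.deg _ h.cTI.one_I j hj hj1] at e
  have hd : d = pU M U := by
    have : ♯W₁ * d = ♯W₁ * pU M U := by exact_mod_cast e
    exact Nat.eq_of_mul_eq_mul_left (card_pos W₁) this
  subst hd
  have e1 := card_S1 h hM h2
  have e2 := hc.ratio
  have hq := h.cTI.two_lt1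
  have hδ : δ = 1 := by
    rcases prSign_cases M W W₁ W₂ j with e3 | e3
    · rw [← hc.sign j hj hj1, e3]
    · rw [hc.sign j hj hj1] at e3
      subst e3
      have : (♯W₁ : ℤ) ∣ 2 := ⟨n - (S1 M U).card, by rw [← e1] at e2; push_cast at e2; linarith⟩
      have := Int.le_of_dvd two_pos this
      omega
  subst hδ
  have hn : n = (S1 M U).card := by
    rw [← e1] at e2
    push_cast at e2
    have : (♯W₁ : ℤ) * n = ♯W₁ * (S1 M U).card := by linarith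
    have := mul_left_cancel₀ (by omega) this
    exact_mod_cast this
  exact hn ▸ hc

include h hM h2 in
theorem on_A {α : G → ℂ} (hα : α ∈ zsp0 (seqIndT ⁅M, M⁆ M)) : α ∈ CFon M (typeA M) := by
  rw [h.typeA_of_not_II hM h2]
  exact zsp0_seqInd_on (der1_nml M) (Finset.Subset.refl _) hα

include h hM h2 in
theorem on_A0 {α : G → ℂ} (hα : α ∈ zsp0 (seqIndT ⁅M, M⁆ M)) : α ∈ CFon M (typeA0 M) :=
  CFon_mono (typeA_sub0 M) (on_A h hM h2 hα)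

include h hM h2 in
theorem bridge0_mem {ζ : G → ℂ} (hζ : ζ ∈ S1 M U) :
    prRed M W W₁ W₂ (cfOne W) - ζ ∈ zsp0 (seqIndT ⁅M, M⁆ M) := by
  refine sub_mem_zsp0 (mem_zsp_of_mem (h.prTI.red_mem_seqIndT h.cTI.one_J))
    (mem_zsp_of_mem (seqIndD_subT _ _ _ _ hζ)) ?_
  rw [S1_one h hM h2 hζ, h.prTI.red_one, cfInd_one (der1_le M), idxK h, cfOne_apply_one, mul_one]

include h hM h2 in
theorem sub_mem_S1 {ζ ξ : G → ℂ} (hζ : ζ ∈ S1 M U) (hξ : ξ ∈ S1 M U) : ζ - ξ ∈ zsp0 (S1 M U) :=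
  sub_mem_zsp0 (mem_zsp_of_mem hζ) (mem_zsp_of_mem hξ) (by rw [S1_one h hM h2 hζ, S1_one h hM h2 hξ])

include h hM h2 in
theorem coh_S1 : Coherent M ⊤ (S1 M U) (tau0 M) := by
  obtain ⟨R, hR⟩ := subcoh h hM h2
  exact (hR.sub S1_sub).uniform_degree_coherence fun φ hφ ψ hψ => by
    rw [S1_one h hM h2 hφ, S1_one h hM h2 hψ]

include h hM h2 in
theorem coh_S2 : Coherent M ⊤ (S2 M U) (tau0 M) := by
  refine (h.core_coherence hM (FTtype5_exclusion hM)).mono (seqIndD_mono _ _ le_rfl ?_)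
  rw [(h.type34_Fcore_kernel_trivial hM h2).2.2, bot_sup_eq, h.type34_pC hM h2]
  exact der1_le _

include h hM h2 in
theorem coh_orth {τ₁ : (G → ℂ) →ₗ[ℂ] (G → ℂ)} (hc : CohWith M ⊤ (S1 M U) (tau0 M) τ₁)
    {φ ω : G → ℂ} (hφ : φ ∈ zsp (S1 M U)) (hω : ω ∈ Irr W) :
    cfdot ⊤ (τ₁ φ) (eta W W₁ W₂ ω) = 0 := by
  obtain ⟨c, rfl⟩ := mem_zsp_iff.1 hφ
  rw [map_sum, cfdot_sum_left]
  refine Finset.sum_eq_zero fun χ hχ => ?_
  rw [map_smul, cfdot_smul_left,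
    h.coherent_ortho_cycTIiso hM (S1_sub' h hM h2) hc hχ (S1_irr h hχ) hω, mul_zero]

include h hM h2 in
theorem Dade_sub_orth {ζ ξ ω : G → ℂ} (hζ : ζ ∈ S1 M U) (hξ : ξ ∈ S1 M U) (hω : ω ∈ Irr W) :
    cfdot ⊤ (tau0 M (ζ - ξ)) (eta W W₁ W₂ ω) = 0 := by
  obtain ⟨τ₁, hc⟩ := coh_S1 h hM h2
  have hm := sub_mem_S1 h hM h2 hζ hξ
  rw [← hc.ext _ hm]
  exact coh_orth h hM h2 hc (zsp0_le_zsp _ hm) hω

include h in
theorem red0_dot {ζ : G → ℂ} (hζ : ζ ∈ S1 M U) : cfdot M ζ (prRed M W W₁ W₂ (cfOne W)) = 0 := by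
  rw [h.prTI.red_one]
  exact seqInd_ortho_Ind1 (der1_nml M) le_rfl hζ

include h hM h2 in
theorem norm_bridge0 {ζ : G → ℂ} (hζ : ζ ∈ S1 M U) :
    cfnorm ⊤ (tau0 M (prRed M W W₁ W₂ (cfOne W) - ζ)) = ♯W₁ + 1 := by
  rw [cfnorm_Dade (FT_Dade0_hyp hM) (on_A0 h hM h2 (bridge0_mem h hM h2 hζ)),
    cfnorm_sub_orth (cfdot_symm_zero (red0_dot h hζ)), h.prTI.red_norm h.cTI.one_J,
    irr_norm (S1_irr h hζ)]

include h hM h2 in
theorem vchar_bridge0 {ζ : G → ℂ} (hζ : ζ ∈ S1 M U) :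
    tau0 M (prRed M W W₁ W₂ (cfOne W) - ζ) ∈ vchar (⊤ : Subgroup G) :=
  have hm := bridge0_mem h hM h2 hζ
  Dade_vchar (FT_Dade0_hyp hM)
    (zsp_seqInd_vchar (der1_le M) (Finset.Subset.refl _) (zsp0_le_zsp _ hm))
    (mem_CFon.1 (on_A0 h hM h2 hm)).2

include h in
theorem eta_vchar {ω : G → ℂ} (hω : ω ∈ Irr W) : eta W W₁ W₂ ω ∈ vchar (⊤ : Subgroup G) :=
  h.cTI.iso_vchar (irr_vchar hω)

include h in
theorem sumI_vchar : ∑ i ∈ irrK W W₂, eta W W₁ W₂ i ∈ vchar (⊤ : Subgroup G) :=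
  Submodule.sum_mem _ fun _ hi => eta_vchar h (irrK_sub _ _ hi)

include h in
theorem sumI_dot [DecidableEq (G → ℂ)] {i j : G → ℂ} (hi : i ∈ irrK W W₂) (hj : j ∈ irrK W W₁) :
    cfdot ⊤ (∑ i ∈ irrK W W₂, eta W W₁ W₂ i) (eta W W₁ W₂ (i * j)) =
      if j = cfOne W then 1 else 0 := by
  rw [← if_congr eq_comm rfl rfl, ← h.cTI.dot_col h.cTI.one_J hi hj]
  congr 1
  exact Finset.sum_congr rfl fun k hk => by rw [mul_cfOne (irr_cfOn (irrK_sub _ _ hk))]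

include h in
theorem sumI_norm : cfnorm ⊤ (∑ i ∈ irrK W W₂, eta W W₁ W₂ i) = ♯W₁ := by
  classical
  rw [cfnorm_sum_orth _ _ fun i hi j hj hne => by
    rw [h.cTI.iso_dot_irr (irrK_sub _ _ hi) (irrK_sub _ _ hj), if_neg hne],
    Finset.sum_congr rfl (g := fun _ => 1) fun i hi => (h.cTI.iso_dirr (irrK_sub _ _ hi)).norm]
  simp [h.cTI.card_I]

include h in
theorem sumI_real : conjC (∑ i ∈ irrK W W₂, eta W W₁ W₂ i) = ∑ i ∈ irrK W W₂, eta W W₁ W₂ i := by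
  rw [conjC_sum]
  refine Finset.sum_nbij' conjC conjC (fun i hi => aut_mem_irrK hi _) (fun i hi => aut_mem_irrK hi _)
    (fun i _ => conjC_conjC i) (fun i _ => conjC_conjC i) fun i hi => ?_
  exact h.cTI.iso_aut _ (irr_CF (irrK_sub _ _ hi))

theorem dot_sum_eq_zero {φ : G → ℂ} (ho : ∀ ω ∈ Irr W, cfdot ⊤ φ (eta W W₁ W₂ ω) = 0)
    (X : Subgroup G) : cfdot ⊤ φ (∑ i ∈ irrK W X, eta W W₁ W₂ i) = 0 := by
  rw [cfdot_sum_right]
  exact Finset.sum_eq_zero fun i hi => ho i (irrK_sub _ _ hi)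

include h hM h2 in
/-- (11.8.4). -/
theorem exists_tau1 {ζ : G → ℂ} (hζ : ζ ∈ S1 M U)
    (he : EqProjEta W W₁ W₂ (tau0 M (prRed M W W₁ W₂ (cfOne W) - ζ))
      (∑ i ∈ irrK W W₂, eta W W₁ W₂ i)) :
    ∃ τ₁, CohWith M ⊤ (S1 M U) (tau0 M) τ₁ ∧
      tau0 M (prRed M W W₁ W₂ (cfOne W) - ζ) = ∑ i ∈ irrK W W₂, eta W W₁ W₂ i - τ₁ ζ := by
  set ψ := tau0 M (prRed M W W₁ W₂ (cfOne W) - ζ) with hψ
  set s := ∑ i ∈ irrK W W₂, eta W W₁ W₂ i with hs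
  have hD := FT_Dade0_hyp hM
  have hv : s - ψ ∈ vchar (⊤ : Subgroup G) :=
    Submodule.sub_mem _ (sumI_vchar h) (vchar_bridge0 h hM h2 hζ)
  have hn : cfdot ⊤ (s - ψ) (s - ψ) = 1 := by
    have e := cfnorm_add_orth (dot_sum_eq_zero he W₂)
    rw [← hs, sub_add_cancel, norm_bridge0 h hM h2 hζ, sumI_norm h, cfnorm_sub_comm] at e
    rw [← cfnorm_eq_one_iff]
    linarith
  have hA : ∀ ξ ∈ S1 M U, ξ - ζ ∈ CFon M (typeA0 M) := fun ξ hξ =>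
    on_A0 h hM h2 (zsp0_mono (seqIndD_subT _ _ _ _) (sub_mem_S1 h hM h2 hξ hζ))
  have hvA : ∀ ξ ∈ S1 M U, tau0 M (ξ - ζ) ∈ vchar (⊤ : Subgroup G) := fun ξ hξ =>
    Dade_vchar hD (Submodule.sub_mem _ (irr_vchar (S1_irr h hξ)) (irr_vchar (S1_irr h hζ)))
      (mem_CFon.1 (hA ξ hξ)).2
  have hd : ∀ ξ ∈ S1 M U, cfdot ⊤ (tau0 M (ξ - ζ)) (s - ψ) = cfdot M ξ ζ - 1 := fun ξ hξ => by
    rw [cfdot_sub_right, dot_sum_eq_zero (fun ω hω => Dade_sub_orth h hM h2 hξ hζ hω), hψ,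
      Dade_isometry hD (hA ξ hξ) (mem_CFon.1 (on_A0 h hM h2 (bridge0_mem h hM h2 hζ))).1]
    simp [red0_dot h hξ, red0_dot h hζ, irr_dot_self (S1_irr h hζ)]
  obtain ⟨τ₁, hc, hf⟩ := coherent_of_values (τ := tau0 M) (G := ⊤) (S1_orthon h).2
    (fun χ hχ => by rw [(S1_orthon h).1 χ hχ]; exact one_ne_zero)
    (fun ξ => tau0 M (ξ - ζ) + (s - ψ)) (fun ξ hξ => Submodule.add_mem _ (hvA ξ hξ) hv)
    (fun ξ hξ ξ' hξ' => by
      rw [cfdot_add_left, cfdot_add_right, cfdot_add_right, hn, hd ξ hξ,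
        vchar_dot_comm hv (hvA ξ' hξ'), hd ξ' hξ',
        Dade_isometry hD (hA ξ hξ) (mem_CFon.1 (hA ξ' hξ')).1,
        vchar_dot_comm (irr_vchar (S1_irr h hξ')) (irr_vchar (S1_irr h hζ))]
      simp only [cfdot_sub_left, cfdot_sub_right, irr_dot_self (S1_irr h hζ)]
      ring)
    (fun c hc => by
      rw [Finset.sum_congr rfl fun χ hχ => by rw [S1_one h hM h2 hχ], ← Finset.sum_mul,
        mul_eq_zero_iff_right (cardC_ne_zero W₁)] at hc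
      simp only [map_sub, smul_add, smul_sub, Finset.sum_add_distrib, Finset.sum_sub_distrib,
        ← Finset.sum_smul, hc, zero_smul, map_sum, map_smul, sub_zero, add_zero])
  exact ⟨τ₁, hc, by rw [hf ζ hζ]; simp⟩

/-- `α_ij`. -/
noncomputable def alp (M U W W₁ W₂ : Subgroup G) (ζ i j : G → ℂ) : G → ℂ :=
  prMu M W W₁ W₂ (i * j) - prMu M W W₁ W₂ i - ((S1 M U).card : ℂ) • ζ

theorem alp_eq (M U W W₁ W₂ : Subgroup G) (ζ i j : G → ℂ) :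
    bridge345 M W W₁ W₂ 1 (S1 M U).card ζ i j = alp M U W W₁ W₂ ζ i j := by
  simp [bridge345, alp]

/-- `β` of (11.8.3). -/
noncomputable def bet (M U W W₁ W₂ : Subgroup G) (τ₁ : (G → ℂ) →ₗ[ℂ] (G → ℂ)) (ζ i j : G → ℂ) :
    G → ℂ :=
  tau0 M (alp M U W W₁ W₂ ζ i j) - (eta W W₁ W₂ (i * j) - eta W W₁ W₂ i) +
    ((S1 M U).card : ℂ) • τ₁ ζ

section main
variable {ζ i j k : G → ℂ} {τ₁ : (G → ℂ) →ₗ[ℂ] (G → ℂ)}

include h hM h2 in
theorem alp_on (hζ : ζ ∈ S1 M U) (hi : i ∈ irrK W W₂) (hj : j ∈ irrK W W₁) (hj1 : j ≠ cfOne W) :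
    alp M U W W₁ W₂ ζ i j ∈ CFon M (typeA0 M) := by
  rw [← alp_eq]
  exact h.supp_bridge345 hM h2 (const h hM h2) (S1_irr h hζ) (S1_sub.sub hζ) (S1_one h hM h2 hζ)
    hi hj hj1

include h hM h2 in
theorem alp_vchar (hζ : ζ ∈ S1 M U) (hi : i ∈ irrK W W₂) (hj : j ∈ irrK W W₁) (hj1 : j ≠ cfOne W) :
    tau0 M (alp M U W W₁ W₂ ζ i j) ∈ vchar (⊤ : Subgroup G) := by
  rw [← alp_eq]
  exact h.vchar_Dade_bridge345 hM h2 (const h hM h2) (S1_irr h hζ) (S1_sub.sub hζ)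
    (S1_one h hM h2 hζ) hi hj hj1

include h hM h2 in
theorem alp_norm (hζ : ζ ∈ S1 M U) (hi : i ∈ irrK W W₂) (hj : j ∈ irrK W W₁) (hj1 : j ≠ cfOne W) :
    cfnorm ⊤ (tau0 M (alp M U W W₁ W₂ ζ i j)) = 2 + ((S1 M U).card : ℝ) ^ 2 := by
  rw [← alp_eq]
  exact h.norm_bridge345 hM h2 (const h hM h2) (S1_irr h hζ) (S1_sub.sub hζ)
    (S1_one h hM h2 hζ) hi hj hj1

include h hM h2 in
theorem bet_I (hi : i ∈ irrK W W₂) (hj : j ∈ irrK W W₁) (hj1 : j ≠ cfOne W) :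
    bet M U W W₁ W₂ τ₁ ζ i j = bet M U W W₁ W₂ τ₁ ζ (cfOne W) j := by
  have e := (h.prDade hM).sub2 hi hj
  rw [(const h hM h2).sign j hj hj1, Int.cast_one, one_smul, one_smul] at e
  have e1 : alp M U W W₁ W₂ ζ i j = alp M U W W₁ W₂ ζ (cfOne W) j +
      (prMu M W W₁ W₂ (i * j) - prMu M W W₁ W₂ j - prMu M W W₁ W₂ i + cfOne M) := by
    rw [alp, alp, cfOne_mul (irr_cfOn (irrK_sub _ _ hj)), h.prTI.mu_one]; abel
  rw [bet, bet, e1, map_add, e, cfOne_mul (irr_cfOn (irrK_sub _ _ hj)), h.cTI.iso_one]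
  abel

include h hM h2 in
theorem bet_J (hj : j ∈ irrK W W₁) (hj1 : j ≠ cfOne W) (hk : k ∈ irrK W W₁) (hk1 : k ≠ cfOne W) :
    bet M U W W₁ W₂ τ₁ ζ (cfOne W) j = bet M U W W₁ W₂ τ₁ ζ (cfOne W) k := by
  have hc := const h hM h2
  have e := (h.prDade hM).sub_mu h.cTI.one_I hj hk hj1 hk1
    (by rw [hc.deg _ h.cTI.one_I j hj hj1, hc.deg _ h.cTI.one_I k hk hk1])
  rw [hc.sign j hj hj1, Int.cast_one, one_smul] at e
  have e1 : alp M U W W₁ W₂ ζ (cfOne W) j = alp M U W W₁ W₂ ζ (cfOne W) k +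
      (prMu M W W₁ W₂ (cfOne W * j) - prMu M W W₁ W₂ (cfOne W * k)) := by
    rw [alp, alp]; abel
  rw [bet, bet, e1, map_add, e]
  abel

include h hM h2 in
theorem bet_real (hζ : ζ ∈ S1 M U) (hc : CohWith M ⊤ (S1 M U) (tau0 M) τ₁) (hi : i ∈ irrK W W₂)
    (hj : j ∈ irrK W W₁) (hj1 : j ≠ cfOne W) :
    conjC (bet M U W W₁ W₂ τ₁ ζ i j) = bet M U W W₁ W₂ τ₁ ζ i j := by
  have hj' : conjC j ∈ irrK W W₁ := aut_mem_irrK hj _
  have hj1' : conjC j ≠ cfOne W := fun e => hj1 (conjC_eq_cfOne_iff.1 e)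
  have hjW := irrK_sub _ _ hj
  rw [bet_I h hM h2 hi hj hj1]
  conv_rhs => rw [bet_J h hM h2 hj hj1 hj' hj1']
  have e1 : conjC (alp M U W W₁ W₂ ζ (cfOne W) j) =
      alp M U W W₁ W₂ ζ (cfOne W) (conjC j) + ((S1 M U).card : ℂ) • (ζ - conjC ζ) := by
    rw [alp, alp, cfOne_mul (irr_cfOn hjW), cfOne_mul (irr_cfOn (irr_conjC hjW)), h.prTI.mu_one,
      conjC_sub, conjC_sub, conjC_cfOne, conjC_natCast_smul, h.prTI.mu_aut _ hjW, smul_sub]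
    abel
  have e2 : tau0 M (ζ - conjC ζ) = τ₁ ζ - τ₁ (conjC ζ) := by
    rw [← hc.ext _ (sub_mem_S1 h hM h2 hζ (S1_sub.conj_mem ζ hζ)), map_sub]
  rw [bet, bet, conjC_add, conjC_sub, conjC_sub, ← Dade_conjC, e1, map_add, map_smul, e2,
    conjC_natCast_smul, cfConjC_Dade_coherent (FT_Dade0_hyp hM) hc (mFT_odd M) (der1_nml M) le_rfl
      (S1_irr h hζ) hζ, cfOne_mul (irr_cfOn hjW), cfOne_mul (irr_cfOn (irr_conjC hjW)),
    h.cTI.iso_one, conjC_cfOne, show conjC (eta W W₁ W₂ j) = eta W W₁ W₂ (conjC j) from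
      h.cTI.iso_aut _ (irr_CF hjW), smul_sub]
  abel

include h hM h2 in
theorem bet_vchar (hζ : ζ ∈ S1 M U) (hc : CohWith M ⊤ (S1 M U) (tau0 M) τ₁) (hi : i ∈ irrK W W₂)
    (hj : j ∈ irrK W W₁) (hj1 : j ≠ cfOne W) : bet M U W W₁ W₂ τ₁ ζ i j ∈ vchar (⊤ : Subgroup G) :=
  Submodule.add_mem _ (Submodule.sub_mem _ (alp_vchar h hM h2 hζ hi hj hj1)
    (Submodule.sub_mem _ (eta_vchar h (h.cTI.mul_irr hi hj)) (eta_vchar h (irrK_sub _ _ hi))))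
    (natCast_smul_mem _ (hc.vchar hζ))

include h hM h2 in
theorem bet_dot_one (hζ : ζ ∈ S1 M U) (hc : CohWith M ⊤ (S1 M U) (tau0 M) τ₁) (hi : i ∈ irrK W W₂)
    (hj : j ∈ irrK W W₁) (hj1 : j ≠ cfOne W) :
    cfdot ⊤ (bet M U W W₁ W₂ τ₁ ζ i j) (cfOne ⊤) = 0 := by
  classical
  have hjW := irrK_sub _ _ hj
  have h1W := cfOne_mem_Irr W
  have e1 : cfdot M (prMu M W W₁ W₂ j) (cfOne M) = 0 := by
    rw [← h.prTI.mu_one]
    exact irr_dot_ne (h.prTI.mu_irr hjW) (h.prTI.mu_irr h1W)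
      fun e => hj1 ((h.prTI.mu_inj hjW h1W).1 e)
  have e2 : cfdot ⊤ (eta W W₁ W₂ j) (cfOne ⊤) = 0 := by
    rw [← h.cTI.iso_one, h.cTI.iso_dot_irr hjW h1W, if_neg hj1]
  have e3 : cfdot ⊤ (τ₁ ζ) (cfOne ⊤) = 0 := by
    rw [← h.cTI.iso_one]
    exact coh_orth h hM h2 hc (mem_zsp_of_mem hζ) h1W
  rw [bet_I h hM h2 hi hj hj1, bet, cfdot_add_left, cfdot_sub_left,
    cfdot_Dade_one (FT_Dade0_hyp hM) (alp_on h hM h2 hζ h.cTI.one_I hj hj1), alp,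
    cfOne_mul (irr_cfOn hjW), h.prTI.mu_one, h.cTI.iso_one]
  simp [e1, e2, e3, seqInd_ortho_one (der1_le M) le_rfl hζ]

include h hM h2 in
theorem bet_dot_sum (hζ : ζ ∈ S1 M U) (hc : CohWith M ⊤ (S1 M U) (tau0 M) τ₁)
    (hτ : tau0 M (prRed M W W₁ W₂ (cfOne W) - ζ) = ∑ i ∈ irrK W W₂, eta W W₁ W₂ i - τ₁ ζ)
    (hi : i ∈ irrK W W₂) (hj : j ∈ irrK W W₁) (hj1 : j ≠ cfOne W) :
    cfdot ⊤ (bet M U W W₁ W₂ τ₁ ζ i j) (∑ i ∈ irrK W W₂, eta W W₁ W₂ i) =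
      cfdot ⊤ (tau0 M (alp M U W W₁ W₂ ζ i j)) (τ₁ ζ) + (S1 M U).card := by
  classical
  have hiW := irrK_sub _ _ hi
  have e := Dade_isometry (FT_Dade0_hyp hM) (alp_on h hM h2 hζ hi hj hj1)
    (mem_CFon.1 (on_A0 h hM h2 (bridge0_mem h hM h2 hζ))).1
  have e1 := h.prTI.mu_red_dot hi hj h.cTI.one_J
  have e2 := h.prTI.mu_red_dot hi h.cTI.one_J h.cTI.one_J
  have e3 := cfdot_symm_zero ((sumI_dot h hi hj).trans (if_neg hj1))
  have e4 := (vchar_dot_comm (eta_vchar h (h.cTI.mul_irr hi h.cTI.one_J)) (sumI_vchar h)).trans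
    ((sumI_dot h hi h.cTI.one_J).trans (if_pos rfl))
  rw [mul_cfOne (irr_cfOn hiW)] at e2 e4
  rw [if_neg hj1] at e1
  rw [if_pos rfl] at e2
  have e5 := dot_sum_eq_zero (fun ω hω => coh_orth h hM h2 hc (mem_zsp_of_mem hζ) hω) W₂
  rw [show Dade (typeA0 M) M (supportR M) (prRed M W W₁ W₂ (cfOne W) - ζ) = _ from hτ,
    cfdot_sub_right] at e
  conv_rhs at e => rw [alp]
  simp only [cfdot_sub_left, cfdot_sub_right, cfdot_smul_left, e1, e2, red0_dot h hζ,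
    (S1_spec h hζ).2 _ hiW, (S1_spec h hζ).2 _ (h.cTI.mul_irr hi hj),
    irr_dot_self (S1_irr h hζ)] at e
  rw [bet, cfdot_add_left, cfdot_sub_left, cfdot_sub_left, cfdot_smul_left, e3, e4, e5]
  linear_combination e

include h hM h2 in
/-- (11.8.5). -/
theorem alp_dot (hζ : ζ ∈ S1 M U) (hc : CohWith M ⊤ (S1 M U) (tau0 M) τ₁)
    (hτ : tau0 M (prRed M W W₁ W₂ (cfOne W) - ζ) = ∑ i ∈ irrK W W₂, eta W W₁ W₂ i - τ₁ ζ)
    (hi : i ∈ irrK W W₂) (hj : j ∈ irrK W W₁) (hj1 : j ≠ cfOne W) :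
    cfdot ⊤ (tau0 M (alp M U W W₁ W₂ ζ i j)) (τ₁ ζ) = -(S1 M U).card := by
  classical
  have hD := FT_Dade0_hyp hM
  have hiW := irrK_sub _ _ hi
  obtain ⟨m, hm⟩ := cfdot_real_vchar_even (mFT_odd ⊤) (bet_vchar h hM h2 hζ hc hi hj hj1)
    (bet_real h hM h2 hζ hc hi hj hj1) (sumI_vchar h) (sumI_real h)
  rw [bet_dot_one h hM h2 hζ hc hi hj hj1, zero_mul, zero_add] at hm
  have ha := (bet_dot_sum h hM h2 hζ hc hτ hi hj hj1).symm.trans hm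
  set n := (S1 M U).card with hn
  set s := ∑ ξ ∈ S1 M U, ξ with hs
  have hsz : s ∈ zsp (S1 M U) := Submodule.sum_mem _ fun ξ hξ => mem_zsp_of_mem hξ
  have hsd : ∀ ξ ∈ S1 M U, cfdot M s ξ = 1 := fun ξ hξ => by
    simpa using (S1_orthon h).cfdot_sum_left (fun _ => 1) hξ
  set φ := ((2 * m : ℤ) : ℂ) • s - (n : ℂ) • ζ with hφ
  have hφz : φ ∈ zsp (S1 M U) :=
    Submodule.sub_mem _ (intCast_smul_mem _ hsz) (natCast_smul_mem _ (mem_zsp_of_mem hζ))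
  have hX : ∀ ξ ∈ S1 M U, cfdot ⊤ (tau0 M (alp M U W W₁ W₂ ζ i j) - τ₁ φ) (τ₁ ξ) = 0 := by
    intro ξ hξ
    have e1 := hc.ext _ (sub_mem_S1 h hM h2 hξ hζ)
    have e := Dade_isometry hD (alp_on h hM h2 hζ hi hj hj1)
      (Submodule.sub_mem _ (irr_CF (S1_irr h hξ)) (irr_CF (S1_irr h hζ)))
    rw [← show τ₁ (ξ - ζ) = Dade (typeA0 M) M (supportR M) (ξ - ζ) from e1, map_sub,
      cfdot_sub_right] at e
    conv_rhs at e => rw [alp]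
    simp only [cfdot_sub_left, cfdot_sub_right, cfdot_smul_left,
      (S1_spec h hζ).2 _ hiW, (S1_spec h hζ).2 _ (h.cTI.mul_irr hi hj),
      (S1_spec h hξ).2 _ hiW, (S1_spec h hξ).2 _ (h.cTI.mul_irr hi hj),
      irr_dot_self (S1_irr h hζ)] at e
    rw [cfdot_sub_left, hc.isom.dot _ hφz _ (mem_zsp_of_mem hξ), hφ, cfdot_sub_left,
      cfdot_smul_left, cfdot_smul_left, hsd ξ hξ]
    push_cast
    linear_combination e + ha
  have hXY : cfdot ⊤ (tau0 M (alp M U W W₁ W₂ ζ i j) - τ₁ φ) (τ₁ φ) = 0 := by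
    obtain ⟨c, hc⟩ := mem_zsp_iff.1 hφz
    conv_lhs => arg 3; rw [hc, map_sum]
    rw [cfdot_sum_right]
    exact Finset.sum_eq_zero fun ξ hξ => by rw [map_smul, cfdot_smul_right, hX ξ hξ, mul_zero]
  have hY : cfnorm ⊤ (τ₁ φ) = 4 * n * (m * (m - 1) : ℤ) + (n : ℝ) ^ 2 := by
    rw [hc.isom.norm hφz, hφ, cfnorm_sub, cfnorm_intCast_smul, cfnorm_natCast_smul,
      (S1_orthon h).cfnorm_sum, irr_norm (S1_irr h hζ), cfdot_smul_left, cfdot_smul_right,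
      hsd ζ hζ]
    simp
    ring
  have hle := cfnorm_add_orth hXY
  rw [sub_add_cancel, alp_norm h hM h2 hζ hi hj hj1, hY] at hle
  have hn1 : (1 : ℝ) ≤ n := by exact_mod_cast Finset.card_pos.2 ⟨ζ, hζ⟩
  have hm0 : m * (m - 1) = 0 := by
    have h0 : 0 ≤ m * (m - 1) := by
      rcases le_or_gt m 0 with h' | h'
      · exact mul_nonneg_of_nonpos_of_nonpos h' (by omega)
      · exact mul_nonneg h'.le (by omega)
    by_contra hne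
    have h1 : (1 : ℝ) ≤ (m * (m - 1) : ℤ) := by exact_mod_cast (by omega : 1 ≤ m * (m - 1))
    have := cfnorm_nonneg ⊤ (tau0 M (alp M U W W₁ W₂ ζ i j) - τ₁ φ)
    nlinarith
  rw [hm0] at hY
  have hXe := h.bridge345_coherence hM h2 (const h hM h2) (S1_irr h hζ) (S1_sub.sub hζ)
    (S1_one h hM h2 hζ) hc (S1_sub' h hM h2) (S1_irr h) hi hj hj1
    (X := tau0 M (alp M U W W₁ W₂ ζ i j) - τ₁ φ) (Y := τ₁ φ) (by rw [alp_eq, sub_add_cancel])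
    ⟨φ, hφz, rfl⟩ hX (by rw [hY, ← hn]; simp)
  rw [Int.cast_one, one_smul] at hXe
  have hb : bet M U W W₁ W₂ τ₁ ζ i j = ((2 * m : ℤ) : ℂ) • τ₁ s := by
    rw [bet, ← hXe, hφ, map_sub, map_smul, map_smul]; abel
  rw [hb, cfdot_smul_left, dot_sum_eq_zero (fun ω hω => coh_orth h hM h2 hc hsz hω), mul_zero] at hm
  linear_combination ha - hm

include h hM h2 in
theorem red_dot (hζ : ζ ∈ S1 M U) (hc : CohWith M ⊤ (S1 M U) (tau0 M) τ₁)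
    (hτ : tau0 M (prRed M W W₁ W₂ (cfOne W) - ζ) = ∑ i ∈ irrK W W₂, eta W W₁ W₂ i - τ₁ ζ)
    (hj : j ∈ irrK W W₁) (hj1 : j ≠ cfOne W) :
    cfdot ⊤ (tau0 M (prRed M W W₁ W₂ j - (pU M U : ℂ) • ζ)) (τ₁ ζ) = -(pU M U) := by
  have e : prRed M W W₁ W₂ j - (pU M U : ℂ) • ζ =
      ∑ i ∈ irrK W W₂, alp M U W W₁ W₂ ζ i j + (prRed M W W₁ W₂ (cfOne W) - ζ) := by
    have e1 : prRed M W W₁ W₂ (cfOne W) = ∑ i ∈ irrK W W₂, prMu M W W₁ W₂ i :=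
      Finset.sum_congr rfl fun k hk => by rw [mul_cfOne (irr_cfOn (irrK_sub _ _ hk))]
    simp only [alp, Finset.sum_sub_distrib, Finset.sum_const, h.cTI.card_I, ← e1]
    rw [← card_S1 h hM h2, prRed, ← Nat.cast_smul_eq_nsmul ℂ]
    push_cast
    module
  rw [e, map_add, map_sum, cfdot_add_left, cfdot_sum_left,
    Finset.sum_congr rfl fun i hi => alp_dot h hM h2 hζ hc hτ hi hj hj1, hτ, cfdot_sub_left,
    cfdot_symm_zero (dot_sum_eq_zero (fun ω hω => coh_orth h hM h2 hc (mem_zsp_of_mem hζ) hω) W₂),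
    hc.dot hζ hζ, irr_dot_self (S1_irr h hζ), Finset.sum_const, h.cTI.card_I, ← card_S1 h hM h2]
  push_cast
  ring

end main

end PF11

namespace TypeP
open PF11
variable (h : TypeP M U W W₁ W₂) (hM : IsCoatom M) (h2 : ¬ IsOfTypeII M)
include h hM h2

/-- (11.8). -/
theorem type34_not_ortho_cycTIiso {ζ : G → ℂ}
    (hζ : ζ ∈ seqIndD ⁅M, M⁆ M ⁅M, M⁆ (Fc M ⊔ (U ⊓ C[Fc M]))) :
    ¬ EqProjEta W W₁ W₂ (tau0 M (prRed M W W₁ W₂ (cfOne W) - ζ))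
      (∑ i ∈ irrK W W₂, eta W W₁ W₂ i) := by
  intro he
  obtain ⟨τ₁, hc, hτ⟩ := exists_tau1 h hM h2 hζ he
  obtain ⟨τ₂, hc₂⟩ := coh_S2 h hM h2
  obtain ⟨R, hR⟩ := subcoh h hM h2
  obtain ⟨j, hj, hj1⟩ := h.cTI.exists_J_ne
  obtain ⟨hjS, hj2⟩ := red_mem_S2 h hM h2 hj hj1
  refine h.type34_noncoherence hM h2 ?_
  rw [(h.type34_Fcore_kernel_trivial hM h2).2.2, bot_sup_eq]
  refine (hR.sub (seqIndD_conjSub _ _ le_rfl bot_le)).pivot_coherence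
    (seqIndD_mono _ _ le_rfl le_sup_right hζ) (hc.vchar hζ) (fun ξ hξ hne => ?_)
    (hc.isom.norm (mem_zsp_of_mem hζ))
  rw [irr_norm (S1_irr h hζ), S1_one h hM h2 hζ]
  rcases S12_cases hξ with h1 | h1
  · refine ⟨1, by rw [S1_one h hM h2 h1]; simp, ?_⟩
    rw [Nat.cast_one, one_smul, ← hc.ext _ (sub_mem_S1 h hM h2 h1 hζ), map_sub, cfdot_sub_left,
      hc.dot h1 hζ, hc.dot hζ hζ, irr_dot_self (S1_irr h hζ),
      irr_dot_ne (S1_irr h h1) (S1_irr h hζ) hne]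
    simp
  · have hT := seqIndD_subT _ _ _ _ h1
    obtain ⟨a, ha⟩ := dvd_index_seqInd1 (der1_le M) hT
    have ha' : ξ 1 = a * ♯W₁ := by
      rw [(seqInd_char (der1_le M) hT).one_eq, ha, idxK h]; push_cast; ring
    refine ⟨a, ha', ?_⟩
    have hz : (pU M U : ℂ) • ξ - (a : ℂ) • prRed M W W₁ W₂ j ∈ zsp0 (S2 M U) :=
      sub_mem_zsp0 (natCast_smul_mem _ (mem_zsp_of_mem h1)) (natCast_smul_mem _ (mem_zsp_of_mem hjS))
        (by rw [Pi.smul_apply, Pi.smul_apply, ha', hj2]; push_cast; simp only [smul_eq_mul]; ring)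
    have e1 := hR.coherent_ortho (S2_sub h) hc₂ S1_sub hc (S12_disj h).symm (zsp0_le_zsp _ hz)
      (mem_zsp_of_mem hζ)
    rw [hc₂.ext _ hz] at e1
    have e2 := red_dot h hM h2 hζ hc hτ hj hj1
    have hu : (pU M U : ℂ) ≠ 0 := relIndexC_ne_zero _ _
    refine mul_left_cancel₀ hu ?_
    simp only [map_sub, map_smul, cfdot_sub_left, cfdot_smul_left] at e1 e2 ⊢
    push_cast
    linear_combination e1 + a * e2

end TypeP

end H27
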