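import Mathlib
import Cfsg.Agent.H27.PF10
import Cfsg.Agent.H27.PF11b

/-!
# Peterfalvi §11 (maximal subgroups of types III, IV).
`H = Fc M`, `C = U ⊓ C[H]`, `H₀ = pK M U`, `S(X) = seqIndD ⁅M, M⁆ M ⁅M, M⁆ X`, `p = |W₂|`, `q = |W₁|`.
(11.1)–(11.7) are in `PF11a`, (11.8) is in `PF11b`; here is (11.9).
-/

set_option autoImplicit false
set_option linter.unusedSectionVars false
set_option linter.unusedVariables false

namespace H27

open Cfsg H24 H25
open scoped ComplexConjugate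

universe u v

variable {G : Type u} [Group G] [Finite G] [FT G] {M U W W₁ W₂ : Subgroup G}

namespace PF11
variable (h : TypeP M U W W₁ W₂) (hM : IsCoatom M) (h2 : ¬ IsOfTypeII M) {ζ : G → ℂ}

include h hM h2 in
theorem bridge0_aut (hζ : ζ ∈ S1 M U) (u : ℂ →+* ℂ) {ω : G → ℂ} (hω : ω ∈ Irr W) :
    cfdot ⊤ (tau0 M (prRed M W W₁ W₂ (cfOne W) - ζ)) (eta W W₁ W₂ (cfAut u ω)) =
      cfdot ⊤ (tau0 M (prRed M W W₁ W₂ (cfOne W) - ζ)) (eta W W₁ W₂ ω) := by
  have hζ' : cfAut u ζ ∈ S1 M U := cfAut_seqIndD u hζ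
  rw [← cfdot_cfAut_vchar u (vchar_bridge0 h hM h2 hζ) (eta_vchar h hω),
    show cfAut u (eta W W₁ W₂ ω) = eta W W₁ W₂ (cfAut u ω) from h.cTI.iso_aut _ (irr_CF hω),
    ← Dade_aut, map_sub (cfAut u), ← h.prTI.red_aut u h.cTI.one_J, cfAut_cfOne]
  have e := Dade_sub_orth h hM h2 hζ hζ' (irr_aut hω u)
  simp only [map_sub, cfdot_sub_left] at e ⊢
  linear_combination -e

include h hM h2 in
/-- (11.9)(a), (b). -/
theorem bridge0_coeff [DecidableEq (G → ℂ)] (hζ : ζ ∈ S1 M U) :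
    (∀ i ∈ irrK W W₂, ∀ j ∈ irrK W W₁,
      cfdot ⊤ (tau0 M (prRed M W W₁ W₂ (cfOne W) - ζ)) (eta W W₁ W₂ (i * j)) =
        if i = cfOne W then 1 else 0) ∧ ♯W₂ < ♯W₁ := by
  have h8 := h.type34_not_ortho_cycTIiso hM h2 hζ
  have haut := fun u ω hω => bridge0_aut h hM h2 hζ u (ω := ω) hω
  have hV := fun x hx => (h.prDade hM).Dade_V (on_A h hM h2 (bridge0_mem h hM h2 hζ)) (x := x) hx
  have h1 := cfdot_Dade_one (FT_Dade0_hyp hM) (on_A0 h hM h2 (bridge0_mem h hM h2 hζ))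
  have hv := vchar_bridge0 h hM h2 hζ
  have hNC := h.cTI.NC_le_norm hv
  rw [norm_bridge0 h hM h2 hζ] at hNC
  have hNC' : cycNC ⊤ W W₁ W₂ (tau0 M (prRed M W W₁ W₂ (cfOne W) - ζ)) ≤ ♯W₁ + 1 := by
    exact_mod_cast hNC
  rw [cfdot_sub_left, seqInd_ortho_one (der1_le M) le_rfl hζ, sub_zero] at h1
  conv_rhs at h1 =>
    rw [h.prTI.red_one, cfdot_cfInd_left (der1_le M) _ (cfOne_mem_CF M), ← cfdot_cfRes_right,
      cfRes_cfOne (der1_le M), cfdot_cfOne_cfOne]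
  change cfdot ⊤ (tau0 M _) _ = _ at h1
  change ∀ x ∈ _, tau0 M _ x = 0 at hV
  generalize tau0 M (prRed M W W₁ W₂ (cfOne W) - ζ) = ψ at *
  have hI := h.cTI.one_I
  have hJ := h.cTI.one_J
  have h11 : cfOne W * cfOne W = cfOne W := mul_cfOne (irr_cfOn (cfOne_mem_Irr W))
  have a00 : cfdot ⊤ ψ (eta W W₁ W₂ (cfOne W * cfOne W)) = 1 := by rw [h11, h.cTI.iso_one, h1]
  obtain ⟨i₁, hi₁, hi₁1⟩ := h.cTI.exists_I_ne
  obtain ⟨j₁, hj₁, hj₁1⟩ := h.cTI.exists_J_ne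
  set b := cfdot ⊤ ψ (eta W W₁ W₂ (i₁ * cfOne W)) with hb
  set c := cfdot ⊤ ψ (eta W W₁ W₂ (cfOne W * j₁)) with hc
  have ai0 : ∀ i ∈ irrK W W₂, i ≠ cfOne W → cfdot ⊤ ψ (eta W W₁ W₂ (i * cfOne W)) = b := by
    intro i hi hi1
    obtain ⟨u, hu, -⟩ := h.cTI.symm.exists_aut_J (h.primes hM).1 hi₁ hi₁1 hi hi1
    rw [hb, ← haut u _ (h.cTI.mul_irr hi₁ hJ), cfAut_mul, hu, cfAut_cfOne]
  have a0j : ∀ j ∈ irrK W W₁, j ≠ cfOne W → cfdot ⊤ ψ (eta W W₁ W₂ (cfOne W * j)) = c := by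
    intro j hj hj1
    obtain ⟨u, hu, -⟩ := h.cTI.exists_aut_J (h.primes hM).2 hj₁ hj₁1 hj hj1
    rw [hc, ← haut u _ (h.cTI.mul_irr hI hj₁), cfAut_mul, hu, cfAut_cfOne]
  have aij : ∀ i ∈ irrK W W₂, i ≠ cfOne W → ∀ j ∈ irrK W W₁, j ≠ cfOne W →
      cfdot ⊤ ψ (eta W W₁ W₂ (i * j)) = b + c - 1 := by
    intro i hi hi1 j hj hj1
    have e := h.cTI.cfdot_exchange (vchar_CF hv) hV hi hj hI hJ
    change cfdot ⊤ ψ (eta W W₁ W₂ _) + cfdot ⊤ ψ (eta W W₁ W₂ _) =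
      cfdot ⊤ ψ (eta W W₁ W₂ _) + cfdot ⊤ ψ (eta W W₁ W₂ _) at e
    rw [a00, ai0 i hi hi1, a0j j hj hj1] at e
    linear_combination e
  have hq := h.cTI.two_lt1
  have hp := h.cTI.two_lt2
  have cI : ((irrK W W₂).erase (cfOne W)).card = ♯W₁ - 1 := by
    rw [Finset.card_erase_of_mem hI, h.cTI.card_I]
  have cJ : ((irrK W W₁).erase (cfOne W)).card = ♯W₂ - 1 := by
    rw [Finset.card_erase_of_mem hJ, h.cTI.card_J]
  have hbc : b + c - 1 = 0 := by
    by_contra hne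
    have := h.cTI.card_le_NC (ψ := ψ) (T := insert (cfOne W, cfOne W)
      ((irrK W W₂).erase (cfOne W) ×ˢ (irrK W W₁).erase (cfOne W))) (by
        intro p hp
        rcases Finset.mem_insert.1 hp with rfl | hp
        · exact ⟨hI, hJ, by rw [show cfdot ⊤ ψ (cycIso ⊤ W W₁ W₂ _) = _ from a00]; exact one_ne_zero⟩
        · simp only [Finset.mem_product, Finset.mem_erase] at hp
          exact ⟨hp.1.2, hp.2.2, by
            rw [show cfdot ⊤ ψ (cycIso ⊤ W W₁ W₂ _) = _ from aij _ hp.1.2 hp.1.1 _ hp.2.2 hp.2.1]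
            exact hne⟩)
    rw [Finset.card_insert_of_notMem (by simp), Finset.card_product, cI, cJ] at this
    have h3 : (♯W₁ - 1) * 2 ≤ (♯W₁ - 1) * (♯W₂ - 1) := Nat.mul_le_mul_left _ (by omega)
    omega
  have hb0 : b = 0 := by
    by_contra hb0
    by_cases hc0 : c = 0
    · refine h8 fun ω hω => ?_
      obtain ⟨i, hi, j, hj, rfl⟩ := h.cTI.exists_ij hω
      rw [cfdot_sub_left, sumI_dot h hi hj, sub_eq_zero]
      split_ifs with hj1
      · subst hj1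
        by_cases hi1 : i = cfOne W
        · rw [hi1, a00]
        · rw [ai0 i hi hi1]; linear_combination hbc - hc0
      · by_cases hi1 : i = cfOne W
        · rw [hi1, a0j j hj hj1, hc0]
        · rw [aij i hi hi1 j hj hj1, hbc]
    · have := h.cTI.card_le_NC (ψ := ψ) (T := (irrK W W₂ ×ˢ {cfOne W}) ∪
        ({cfOne W} ×ˢ (irrK W W₁).erase (cfOne W))) (by
          rintro ⟨i, j⟩ hp
          simp only [Finset.mem_union, Finset.mem_product, Finset.mem_singleton,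
            Finset.mem_erase] at hp
          rcases hp with ⟨hi, rfl⟩ | ⟨rfl, hj1, hj⟩
          · refine ⟨hi, hJ, ?_⟩
            by_cases hi1 : i = cfOne W
            · subst hi1
              rw [show cfdot ⊤ ψ (cycIso ⊤ W W₁ W₂ _) = _ from a00]; exact one_ne_zero
            · rw [show cfdot ⊤ ψ (cycIso ⊤ W W₁ W₂ _) = _ from ai0 i hi hi1]; exact hb0
          · exact ⟨hI, hj, by
              rw [show cfdot ⊤ ψ (cycIso ⊤ W W₁ W₂ _) = _ from a0j j hj hj1]; exact hc0⟩)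
      rw [Finset.card_union_of_disjoint (by
          rw [Finset.disjoint_left]
          rintro ⟨i, j⟩ h3 h4
          simp only [Finset.mem_product, Finset.mem_singleton, Finset.mem_erase] at h3 h4
          exact h4.2.1 h3.2),
        Finset.card_product, Finset.card_product, cJ, h.cTI.card_I, Finset.card_singleton] at this
      omega
  have hc1 : c = 1 := by linear_combination hbc - hb0
  have hall : ∀ i ∈ irrK W W₂, ∀ j ∈ irrK W W₁,
      cfdot ⊤ ψ (eta W W₁ W₂ (i * j)) = if i = cfOne W then 1 else 0 := by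
    intro i hi j hj
    split_ifs with hi1
    · subst hi1
      by_cases hj1 : j = cfOne W
      · rw [hj1, a00]
      · rw [a0j j hj hj1, hc1]
    · by_cases hj1 : j = cfOne W
      · rw [hj1, ai0 i hi hi1, hb0]
      · rw [aij i hi hi1 j hj hj1, hbc]
  refine ⟨hall, ?_⟩
  have := h.cTI.card_le_NC (ψ := ψ) (T := {cfOne W} ×ˢ irrK W W₁) (by
    rintro ⟨i, j⟩ hp
    simp only [Finset.mem_product, Finset.mem_singleton] at hp
    obtain ⟨rfl, hj⟩ := hp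
    exact ⟨hI, hj, by
      rw [show cfdot ⊤ ψ (cycIso ⊤ W W₁ W₂ _) = _ from hall _ hI j hj, if_pos rfl]
      exact one_ne_zero⟩)
  rw [Finset.card_product, Finset.card_singleton, h.cTI.card_J] at this
  have hne := p_ne_q h hM
  obtain ⟨x, hx⟩ := mFT_odd W₁
  obtain ⟨y, hy⟩ := mFT_odd W₂
  omega

include h hM h2 in
theorem S1_nonempty : (S1 M U).Nonempty :=
  seqIndD_nonempty M ((nmlHC h).of_le (HC_le h) (der1_le M))
    fun e => HC_ne h hM (le_antisymm (HC_le h) e)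

include h hM h2 in
/-- (11.9)(c). -/
theorem galois : TypePGalois M U := by
  classical
  have h5 := FTtype5_exclusion hM
  by_contra hg
  obtain ⟨H₁, a, h1⟩ := h.Galois_Pn hM h5 hg
  obtain ⟨ha, -, -, hd, hle⟩ := h.nonGalois_characters hM h5 hg h1
  obtain ⟨ζ, hζ⟩ := S1_nonempty h hM h2
  obtain ⟨hall, hlt⟩ := bridge0_coeff h hM h2 hζ
  have h0 := (h.type34_Fcore_kernel_trivial hM h2).2.2
  have hp := (h.primes hM).2
  rw [pP_eq h hM] at hd hle
  have hpos : 0 < (♯W₂ - 1) * ♯U := Nat.mul_pos (by have := hp.two_le; omega) (card_pos U)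
  obtain ⟨lam, hlam⟩ := Finset.card_pos.1
    ((Nat.div_pos (Nat.le_of_dvd hpos hd) (Nat.pos_of_dvd_of_pos hd hpos)).trans_le hle)
  rw [Finset.mem_filter, mem_irrPart, h0, bot_sup_eq, ← (h.type34_facts hM h2).2.2.2] at hlam
  obtain ⟨⟨hlS, hlI⟩, hld⟩ := hlam
  obtain ⟨j, hj, hj1⟩ := h.cTI.exists_J_ne
  obtain ⟨hjS, hj2⟩ := red_mem_S2 h hM h2 hj hj1
  have hc := const h hM h2
  obtain ⟨b, hb⟩ : a ∣ pU M U := by
    have := ha (prRes M ⁅M, M⁆ W W₁ W₂ j) (mem_irrKD.2 ⟨h.prTI.res_irr hj, by rw [h0]; exact bot_le,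
      (h.prDadeF hM).not_le_cfker_res hj hj1⟩)
    rwa [deg_eq_of (n := pU M U) (by
      rw [h.prTI.res_apply_one, ← h.prTI.mu_apply_one h.cTI.one_I hj,
        hc.deg _ h.cTI.one_I j hj hj1])] at this
  have hz : prRed M W W₁ W₂ j - (b : ℂ) • lam ∈ zsp0 (S2 M U) :=
    sub_mem_zsp0 (mem_zsp_of_mem hjS) (natCast_smul_mem _ (mem_zsp_of_mem hlS)) (by
      rw [Pi.smul_apply, hj2, irr_one_eq hlI, hld, hb]; push_cast; simp only [smul_eq_mul]; ring)
  obtain ⟨τ₂, hc₂⟩ := coh_S2 h hM h2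
  have horth : ∀ φ ∈ S2 M U, cfdot M φ (prRed M W W₁ W₂ (cfOne W) - ζ) = 0 := fun φ hφ => by
    rw [cfdot_sub_right, h.prTI.red_one, seqInd_ortho_Ind1 (der1_nml M) h.Fc_le hφ,
      seqInd_orth (der1_nml M) φ (seqIndD_subT _ _ _ _ hφ) ζ (seqIndD_subT _ _ _ _ hζ)
        (fun e => Finset.disjoint_left.1 (S12_disj h) hζ (e ▸ hφ)), sub_zero]
  have e := Dade_isometry (FT_Dade0_hyp hM) (on_A0 h hM h2 (zsp0_mono (seqIndD_subT _ _ _ _) hz))
    (mem_CFon.1 (on_A0 h hM h2 (bridge0_mem h hM h2 hζ))).1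
  rw [← show τ₂ _ = Dade (typeA0 M) M (supportR M) _ from hc₂.ext _ hz, map_sub, map_smul,
    cfdot_sub_left, cfdot_sub_left, cfdot_smul_left, cfdot_smul_left, horth _ hjS, horth _ hlS] at e
  have hv := vchar_bridge0 h hM h2 hζ
  obtain ⟨z, hz⟩ := vchar_dot_int (hc₂.vchar hlS) hv
  have hcol : ∀ k ∈ irrK W W₁, cfdot ⊤ (∑ i ∈ irrK W W₂, eta W W₁ W₂ (i * k))
      (tau0 M (prRed M W W₁ W₂ (cfOne W) - ζ)) = 1 := fun k hk => by
    rw [cfdot_sum_left, Finset.sum_congr rfl fun i hi => by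
      rw [vchar_dot_comm (eta_vchar h (h.cTI.mul_irr hi hk)) hv, hall i hi k hk]]
    simp [h.cTI.one_I]
  change cfdot ⊤ _ (tau0 M _) - _ * cfdot ⊤ _ (tau0 M _) = _ at e
  have hb1 : b = 1 := by
    have : (b : ℤ) ∣ 1 := by
      rcases h.coherent_TIred hM (S2_sub' h hM h2) hc₂ hlS hlI hj hjS with e1 | ⟨e1, -⟩
      · rw [e1, hc.sign j hj hj1, cfdot_smul_left, hcol j hj, hz] at e
        refine ⟨z, ?_⟩
        have : (1 : ℂ) = b * z := by push_cast at e; linear_combination e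
        exact_mod_cast this
      · rw [e1, hc.sign j hj hj1, cfdot_neg_left, cfdot_smul_left, hcol _ (aut_mem_irrK hj _),
          hz] at e
        refine ⟨-z, ?_⟩
        have : (1 : ℂ) = b * -z := by push_cast at e; linear_combination -e
        exact_mod_cast this
    exact_mod_cast Int.eq_one_of_dvd_one (Int.natCast_nonneg b) this
  have e1 := card_S1 h hM h2
  have e2 := Nat.le_of_dvd (by have := (h.pP_prime hM h5).two_le; omega) h1.dvd
  rw [pP_eq h hM] at e2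
  have e3 := Nat.le_mul_of_pos_right ♯W₁ (Finset.card_pos.2 ⟨ζ, hζ⟩)
  rw [hb1, mul_one] at hb
  omega

end PF11

namespace TypeP
open PF11
variable (h : TypeP M U W W₁ W₂) (hM : IsCoatom M) (h2 : ¬ IsOfTypeII M)
include h hM h2

/-- (11.9). -/
theorem type34_structure :
    (∀ ζ ∈ seqIndD ⁅M, M⁆ M ⁅M, M⁆ (Fc M ⊔ (U ⊓ C[Fc M])),
      EqProjEta W W₁ W₂ (tau0 M (prRed M W W₁ W₂ (cfOne W) - ζ))
        (∑ j ∈ irrK W W₁, eta W W₁ W₂ j)) ∧
    Nat.card W₂ < Nat.card W₁ ∧ IsOfTypeIII M ∧ TypePGalois M U := by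
  classical
  have h5 := FTtype5_exclusion hM
  have hg := galois h hM h2
  obtain ⟨ζ₀, hζ₀⟩ := S1_nonempty h hM h2
  refine ⟨fun ζ hζ ω hω => ?_, (bridge0_coeff h hM h2 hζ₀).2, ?_, hg⟩
  · obtain ⟨i, hi, j, hj, rfl⟩ := h.cTI.exists_ij hω
    rw [cfdot_sub_left, (bridge0_coeff h hM h2 hζ).1 i hi j hj, sub_eq_zero,
      ← if_congr eq_comm rfl rfl, ← h.cTI.dot_row h.cTI.one_I hi hj]
    congr 1
    exact Finset.sum_congr rfl fun k hk => by rw [cfOne_mul (irr_cfOn (irrK_sub _ _ hk))]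
  · have hc := (h.Galois_P hM h5 hg).2.1
    rw [h.type34_pC hM h2, (h.type34_facts hM h2).2.2.2] at hc
    have hU := (h.nilU.cyc_of_quo_der1 hc).abl
    rcases FTtype_cases hM with h' | h' | h' | h' | h'
    · exact absurd h' h.not_typeI
    · exact absurd h' h2
    · exact h'
    · exact absurd hU (h.of_IV hM h').2.1
    · exact absurd h' h5

end TypeP

end H27
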