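import Mathlib
import Cfsg.Agent.H27.PF8

/-!
# Peterfalvi (12.2)–(12.5)
-/

set_option autoImplicit false
set_option linter.unusedSectionVars false
set_option linter.unusedVariables false

namespace H27.PF12

open Cfsg H24 H25 H27
open scoped ComplexConjugate

universe u v

section cst
variable {Γ : Type u} [Group Γ] [Finite Γ] {L : Subgroup Γ} {χ ξ φ : Γ → ℂ}

open scoped Classical in
/-- the irreducible constituents of `χ`. -/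
noncomputable def cst (L : Subgroup Γ) (χ : Γ → ℂ) : Finset (Γ → ℂ) :=
  (Irr L).filter (fun φ => cfdot L χ φ ≠ 0)

theorem mem_cst : φ ∈ cst L χ ↔ φ ∈ Irr L ∧ cfdot L χ φ ≠ 0 := by
  classical
  unfold cst; convert Finset.mem_filter

theorem cst_sum {X : Finset (Γ → ℂ)} (hX : X ⊆ Irr L) : cst L (∑ φ ∈ X, φ) = X := by
  classical
  ext φ
  rw [mem_cst, cfdot_sum_left]
  constructor
  · rintro ⟨h1, h2⟩
    obtain ⟨ψ, hψ, h3⟩ := Finset.exists_ne_zero_of_sum_ne_zero h2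
    rwa [← irr_eq_of_dot_ne (hX hψ) h1 h3]
  · intro h
    refine ⟨hX h, ?_⟩
    rw [Finset.sum_eq_single φ (fun ψ hψ hne => irr_dot_ne (hX hψ) (hX h) hne)
      (fun h' => absurd h h'), irr_dot_self (hX h)]
    exact one_ne_zero

theorem dot_sum_irr {X : Finset (Γ → ℂ)} (hX : X ⊆ Irr L) (h : φ ∈ X) :
    cfdot L (∑ ψ ∈ X, ψ) φ = 1 := by
  classical
  rw [cfdot_sum_left, Finset.sum_eq_single φ (fun ψ hψ hne => irr_dot_ne (hX hψ) (hX h) hne)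
      (fun h' => absurd h h'), irr_dot_self (hX h)]

theorem conjC_mem_cst (h : φ ∈ cst L χ) : conjC φ ∈ cst L (conjC χ) := by
  rw [mem_cst] at h ⊢
  refine ⟨irr_conjC h.1, ?_⟩
  rw [cfdot_conjC_conjC]
  exact (map_ne_zero _).2 h.2

theorem not_mem_cst (hχ : IsChar L χ) (hξ : IsChar L ξ) (h : cfdot L χ ξ = 0) (h1 : φ ∈ cst L χ) :
    φ ∉ cst L ξ := fun h2 =>
  char_dot_ne_zero_of_constt hχ hξ (mem_cst.1 h1).1 (mem_cst.1 h1).2 (mem_cst.1 h2).2 h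

theorem dirr_dot_zero_of_sum {G : Subgroup Γ} {R : Finset (Γ → ℂ)} (hR : Orthon G R)
    (hd : ∀ a ∈ R, IsDirr G a) {α : Γ → ℂ} (hα : IsDirr G α) (h : cfdot G (∑ a ∈ R, a) α = 0)
    {a : Γ → ℂ} (ha : a ∈ R) : cfdot G a α = 0 := by
  classical
  have h1 : cfdot G (∑ a ∈ R, a) a = 1 := by
    have := hR.cfdot_sum_left (fun _ => 1) ha
    simpa using this
  rcases (hd a ha).cases hα with e | e | e
  · rw [← e, h1] at h; exact absurd h one_ne_zero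
  · have : α = -a := by rw [e, neg_neg]
    rw [this, cfdot_neg_right, h1] at h
    exact absurd (neg_eq_zero.1 h) one_ne_zero
  · exact e

end cst

variable {G : Type u} [Group G] [Finite G] [FT G] {L : Subgroup G}

theorem ref_irr (hL : IsCoatom L) :
    ∃ φ ∈ seqIndD (Fc L) L (Fc L) ⊥, φ 1 = (Fc L).relIndex L :=
  exists_linInd_sol (Fc_nml L).le (Fc_nil L).sol (Nml.bot _) (mmax_Fcore_neq1 hL).symm

theorem irr_on (hL : IsCoatom L) (h1 : IsOfTypeI L) {φ : G → ℂ}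
    (hφ : φ ∈ irrKD L (Fc L) ⊥) : φ ∈ cfOn (insert 1 (typeA L)) := by
  obtain ⟨hi, -, hk⟩ := mem_irrKD.1 hφ
  intro x hx
  by_cases hxL : x ∈ L
  · refine irr_reg_off_ker_0 (Fc_nml L) hi hk hxL ?_
    by_contra hne
    obtain ⟨y, hy, hy1⟩ := exists_ne_one hne
    apply hx
    by_cases hx1 : x = 1
    · exact Or.inl hx1
    · right
      rw [typeA_of_typeI h1]
      exact ⟨hxL, hx1, y, hy.1, hy1, (mem_C1.1 hy.2).symm⟩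
  · exact CF_zero (irr_CF hi) hxL

theorem Irr_isometry (hL : IsCoatom L) (h1 : IsOfTypeI L) :
    ZIsom L ⊤ (zsp0 (irrKD L (Fc L) ⊥)) (tauA L) :=
  Dade_ZIsom0 (FT_Dade_hyp hL) fun χ hχ => ⟨irr_vchar (mem_irrKD.1 hχ).1, irr_on hL h1 hχ⟩

theorem ne_cfOne_of_irrKD {H : Subgroup G} (hH : H ≤ L) {φ : G → ℂ} (hφ : φ ∈ irrKD L H ⊥) :
    φ ≠ cfOne L := by
  rintro rfl
  exact (mem_irrKD.1 hφ).2.2 (by rw [cfker_cfOne]; exact hH)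

theorem irr_subcoh (hL : IsCoatom L) (h1 : IsOfTypeI L) :
    ∃ R₁, Subcoh L ⊤ (irrKD L (Fc L) ⊥) (tauA L) R₁ :=
  irr_subcoherent (fun χ hχ => (mem_irrKD.1 hχ).1) (fun χ hχ => aut_mem_irrKD hχ _)
    (fun χ hχ => odd_conjC_ne (mFT_odd L) (mem_irrKD.1 hχ).1 (ne_cfOne_of_irrKD (Fc_nml L).le hχ))
    (Irr_isometry hL h1) (fun φ _ => Dade_one (FT_Dade_hyp hL) φ)

/-- (12.2)(a), for a given `θ`. -/
theorem ind_facts (hL : IsCoatom L) (h1 : IsOfTypeI L) {θ : G → ℂ} (hθ : θ ∈ Irr (Fc L))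
    (hn : θ ≠ cfOne (Fc L)) :
    ∃ X ⊆ Irr L, cfInd L (Fc L) θ = ∑ φ ∈ X, φ ∧ (∀ φ ∈ X, ∀ ψ ∈ X, φ 1 = ψ 1) := by
  obtain ⟨U, hU⟩ := typeI_witness hL h1
  obtain ⟨U₁, hU₁⟩ := hU.tF.inert
  have hH := Fc_nml L
  have hHT : Fc L ≤ inertia L θ := le_inertia hH.le (irr_CF hθ)
  have hsd := hU.tF.sd.modl hHT (inertia_le L θ)
  have hV : U ⊓ inertia L θ ≤ U₁ := by
    rw [← inertia_eq_inf hU.tF.sd.right_le]
    exact hU.tF.inertia_le hU₁ hθ hn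
  have hab : ⁅inertia L θ, inertia L θ⁆ ≤ Fc L := by
    rw [← hsd.sup, der1_sup hsd.norm]
    refine sup_le (sup_le (der1_le _) (comm_le_left hsd.norm)) ?_
    rw [der1_eq_bot.2 (Abl.of_le hU₁.abl hV)]
    exact bot_le
  obtain ⟨X, hX, -, he, hd, -⟩ := cfInd_Hall_central_inertia hH hθ hab
    ((Fc_isHall L).of_le hHT (inertia_le L θ))
  refine ⟨X, hX, he, fun φ hφ ψ hψ => ?_⟩
  rw [irr_one_eq (hX hφ), irr_one_eq (hX hψ), hd φ hφ, hd ψ hψ]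

section seqInd
variable (hL : IsCoatom L) (h1 : IsOfTypeI L) {χ φ ψ : G → ℂ}
include hL h1

theorem eq_sum_cst (hχ : χ ∈ seqIndD (Fc L) L (Fc L) ⊥) : χ = ∑ φ ∈ cst L χ, φ := by
  obtain ⟨θ, hθ, hn, rfl⟩ := mem_seqIndC1.1 hχ
  obtain ⟨X, hX, he, -⟩ := ind_facts hL h1 hθ hn
  rw [he, cst_sum hX]

theorem cst_deg (hχ : χ ∈ seqIndD (Fc L) L (Fc L) ⊥) (hφ : φ ∈ cst L χ) (hψ : ψ ∈ cst L χ) :
    φ 1 = ψ 1 := by
  obtain ⟨θ, hθ, hn, rfl⟩ := mem_seqIndC1.1 hχ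
  obtain ⟨X, hX, he, hd⟩ := ind_facts hL h1 hθ hn
  rw [he, cst_sum hX] at hφ hψ
  exact hd φ hφ ψ hψ

theorem cst_dot (hχ : χ ∈ seqIndD (Fc L) L (Fc L) ⊥) (hφ : φ ∈ cst L χ) : cfdot L χ φ = 1 := by
  conv_lhs => rw [eq_sum_cst hL h1 hχ]
  exact dot_sum_irr (fun ψ hψ => (mem_cst.1 hψ).1) hφ

omit hL h1 in
theorem cst_sub (hχ : χ ∈ seqIndD (Fc L) L (Fc L) ⊥) : cst L χ ⊆ irrKD L (Fc L) ⊥ := by
  obtain ⟨θ, hθ, hn, rfl⟩ := mem_seqIndC1.1 hχ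
  intro φ hφ
  obtain ⟨hi, hd⟩ := mem_cst.1 hφ
  have hH := Fc_nml L
  rw [cfdot_cfInd_left hH.le _ (irr_CF hi)] at hd
  refine mem_irrKD.2 ⟨hi, bot_le, fun hk => hn ?_⟩
  rw [irr_eq_cfOne_iff hθ]
  exact (le_cfker_constt_res_iff hH hH le_rfl hi hθ (fun h => hd (cfdot_symm_zero h))).2 hk

omit hL h1 in
theorem exists_cst (hφ : φ ∈ irrKD L (Fc L) ⊥) : ∃ χ ∈ seqIndD (Fc L) L (Fc L) ⊥, φ ∈ cst L χ := by
  obtain ⟨hi, -, hk⟩ := mem_irrKD.1 hφ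
  have hH := Fc_nml L
  obtain ⟨θ, hθ, hd⟩ := exists_irr_under hH.le hi
  refine ⟨_, mem_seqIndC1.2 ⟨θ, hθ, fun h => hk ?_, rfl⟩, mem_cst.2 ⟨hi, ?_⟩⟩
  · exact (le_cfker_constt_res_iff hH hH le_rfl hi hθ hd).1 ((irr_eq_cfOne_iff hθ).1 h)
  · rw [cfdot_cfInd_left hH.le _ (irr_CF hi)]
    exact fun h => hd (cfdot_symm_zero h)

theorem cst_res (hχ : χ ∈ seqIndD (Fc L) L (Fc L) ⊥) (hφ : φ ∈ cst L χ) (hψ : ψ ∈ cst L χ)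
    {x : G} (hx : x ∈ Fc L) : φ x = ψ x := by
  have d1 := cst_dot hL h1 hχ hφ
  have d2 := cst_dot hL h1 hχ hψ
  obtain ⟨θ, hθ, hn, rfl⟩ := mem_seqIndC1.1 hχ
  have hH := Fc_nml L
  rw [cfdot_cfInd_left hH.le _ (irr_CF (mem_cst.1 hφ).1)] at d1
  rw [cfdot_cfInd_left hH.le _ (irr_CF (mem_cst.1 hψ).1)] at d2
  have e1 : cfdot (Fc L) φ θ = 1 := by rw [← conj_cfdot, d1, map_one]
  have e2 : cfdot (Fc L) ψ θ = 1 := by rw [← conj_cfdot, d2, map_one]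
  have r1 := clifford_res hH (mem_cst.1 hφ).1 hθ (by rw [e1]; exact one_ne_zero)
  have r2 := clifford_res hH (mem_cst.1 hψ).1 hθ (by rw [e2]; exact one_ne_zero)
  rw [e1] at r1
  rw [e2, ← r1] at r2
  rw [← cfRes_of_mem φ hx, ← cfRes_of_mem ψ hx, r2]

end seqInd

theorem seqInd_facts (hL : IsCoatom L) (h1 : IsOfTypeI L) {χ : G → ℂ}
    (hχ : χ ∈ seqIndD (Fc L) L (Fc L) ⊥) :
    ∃ X ⊆ irrKD L (Fc L) ⊥, χ = ∑ φ ∈ X, φ ∧ (∀ φ ∈ X, ∀ ψ ∈ X, φ 1 = ψ 1) :=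
  ⟨cst L χ, cst_sub hχ, eq_sum_cst hL h1 hχ, fun _ hφ _ hψ => cst_deg hL h1 hχ hφ hψ⟩

theorem seqInd_charF {χ : G → ℂ} (hχ : χ ∈ seqIndD (Fc L) L (Fc L) ⊥) : IsChar L χ :=
  seqInd_char (Fc_nml L).le (seqIndD_subT _ _ _ _ hχ)

open scoped Classical in
/-- the sets `R(χ)` of (12.2)(b). -/
noncomputable def Rof (L : Subgroup G) (R₁ : (G → ℂ) → Finset (G → ℂ)) (χ : G → ℂ) :
    Finset (G → ℂ) := (cst L χ).biUnion R₁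

theorem mem_Rof {R₁ : (G → ℂ) → Finset (G → ℂ)} {χ α : G → ℂ} :
    α ∈ Rof L R₁ χ ↔ ∃ φ ∈ cst L χ, α ∈ R₁ φ := by
  classical
  unfold Rof; convert Finset.mem_biUnion

/-- (12.2)(b). -/
theorem seqInd_subcoh (hL : IsCoatom L) (h1 : IsOfTypeI L) {R₁ : (G → ℂ) → Finset (G → ℂ)}
    (s : Subcoh L ⊤ (irrKD L (Fc L) ⊥) (tauA L) R₁) :
    Subcoh L ⊤ (seqIndD (Fc L) L (Fc L) ⊥) (tauA L) (Rof L R₁) := by
  classical
  have hH := Fc_nml L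
  have key : ∀ χ ∈ seqIndD (Fc L) L (Fc L) ⊥, ∀ φ ∈ cst L χ, ∀ ψ ∈ cst L χ, φ ≠ ψ →
      Orth ⊤ (R₁ φ) (R₁ ψ) := by
    intro χ hχ φ hφ ψ hψ hne
    refine s.R_orth_of_ne (cst_sub hχ hψ) (cst_sub hχ hφ) hne ?_
    rintro rfl
    exact not_mem_cst (seqInd_charF hχ) (seqInd_charF hχ).conjC
      (seqInd_conjC_ortho hH (mFT_odd L) le_rfl hχ) hφ (conjC_mem_cst hψ)
  refine ⟨fun χ hχ => seqInd_charF hχ, fun χ hχ => cfAut_seqIndD _ hχ,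
    fun χ hχ => seqInd_conjC_ne hH (mFT_odd L) le_rfl hχ, ?_, fun φ _ => Dade_one (FT_Dade_hyp hL) φ,
    seqIndD_orth hH _ _, ?_, ?_, ?_, ?_⟩
  · refine Dade_ZIsom0 (FT_Dade_hyp hL) fun χ hχ => ⟨(seqInd_charF hχ).vchar, ?_⟩
    refine cfOn_mono ?_ (seqInd_on hH (seqIndD_subT _ _ _ _ hχ))
    intro x hx
    by_cases hx1 : x = 1
    · exact Or.inl hx1
    · exact Or.inr (Fc_sub_typeA hL ⟨hx, hx1⟩)
  · intro χ hχ α hα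
    obtain ⟨φ, hφ, hα⟩ := mem_Rof.1 hα
    exact s.R_vchar φ (cst_sub hχ hφ) α hα
  · intro χ hχ
    refine ⟨fun α hα => ?_, fun α hα β hβ hne => ?_⟩
    · obtain ⟨φ, hφ, hα⟩ := mem_Rof.1 hα
      exact (s.R_orthon φ (cst_sub hχ hφ)).1 α hα
    · obtain ⟨φ, hφ, hα⟩ := mem_Rof.1 hα
      obtain ⟨ψ, hψ, hβ⟩ := mem_Rof.1 hβ
      by_cases e : φ = ψ
      · subst e
        exact (s.R_orthon φ (cst_sub hχ hφ)).2 α hα β hβ hne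
      · exact key χ hχ φ hφ ψ hψ e α hα β hβ
  · intro χ hχ
    have e : χ - conjC χ = ∑ φ ∈ cst L χ, (φ - conjC φ) := by
      rw [Finset.sum_sub_distrib, ← map_sum, ← eq_sum_cst hL h1 hχ]
    rw [e, map_sum]
    unfold Rof
    rw [Finset.sum_biUnion]
    · exact Finset.sum_congr rfl fun φ hφ => s.R_sum φ (cst_sub hχ hφ)
    · intro φ hφ ψ hψ hne
      refine Finset.disjoint_left.2 fun α ha hb => ?_
      have h0 := key χ hχ φ hφ ψ hψ hne α ha α hb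
      rw [(s.R_orthon φ (cst_sub hχ hφ)).1 α ha] at h0
      exact one_ne_zero h0
  · intro χ hχ ξ hξ o1 o2 α hα β hβ
    obtain ⟨φ, hφ, hα⟩ := mem_Rof.1 hα
    obtain ⟨ψ, hψ, hβ⟩ := mem_Rof.1 hβ
    refine s.R_orth_of_ne (cst_sub hχ hψ) (cst_sub hξ hφ) ?_ ?_ α hα β hβ
    · rintro rfl
      exact not_mem_cst (seqInd_charF hξ) (seqInd_charF hχ) o1 hφ hψ
    · rintro rfl
      exact not_mem_cst (seqInd_charF hξ) (seqInd_charF hχ).conjC o2 hφ (conjC_mem_cst hψ)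

/-- on functions supported on `L_F^#` the two Dade maps agree. -/
theorem tauA_eq_tauF (hL : IsCoatom L) {α : G → ℂ} (hα : α ∈ CFon L (shp (Fc L))) :
    tauA L α = tauF L α := by
  rw [FT_DadeFE hL hα, FT_DadeE hL (CFon_mono (Fc_sub_typeA hL) hα)]

/-- (12.3), asymmetric form. -/
theorem seqInd_ortho_aux {L₁ L₂ : Subgroup G} (hL₁ : IsCoatom L₁) (hL₂ : IsCoatom L₂)
    (h₁ : IsOfTypeI L₁) (h₂ : IsOfTypeI L₂)
    (hd : Disjoint (tildeOf L₁ (typeA1 L₁)) (tildeOf L₂ (typeA L₂)))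
    {R₁ R₂ : (G → ℂ) → Finset (G → ℂ)} (s₁ : Subcoh L₁ ⊤ (irrKD L₁ (Fc L₁) ⊥) (tauA L₁) R₁)
    (s₂ : Subcoh L₂ ⊤ (irrKD L₂ (Fc L₂) ⊥) (tauA L₂) R₂) {φ₁ φ₂ : G → ℂ}
    (m₁ : φ₁ ∈ irrKD L₁ (Fc L₁) ⊥) (m₂ : φ₂ ∈ irrKD L₂ (Fc L₂) ⊥) : Orth ⊤ (R₁ φ₁) (R₂ φ₂) := by
  classical
  obtain ⟨χ, hχ, hφ⟩ := exists_cst m₁
  have s := seqInd_subcoh hL₁ h₁ s₁
  have hz : χ - conjC χ ∈ zsp0 (seqIndD (Fc L₁) L₁ (Fc L₁) ⊥) :=
    sub_conjC_mem_zsp0 hχ (s.conj_mem χ hχ) (seqInd_charF hχ).vchar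
  have hon := zsp0_seqInd_on (Fc_nml L₁) (seqIndD_subT _ _ _ _) hz
  set β := tauA L₁ (χ - conjC χ) with hβ
  have hβv : β ∈ vchar (⊤ : Subgroup G) := s.isom.vchar _ hz
  have hβc : conjC β = -β := by
    rw [hβ, ← map_neg]
    show cfAut _ (Dade _ _ _ _) = _
    rw [← Dade_aut, map_sub, neg_sub]
    congr 2
    exact conjC_conjC χ
  obtain ⟨μ, hμ, he⟩ := Dade_irr_sub_conjC (FT_Dade_hyp hL₂) (mem_irrKD.1 m₂).1 (irr_on hL₂ h₂ m₂)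
  have o : cfdot ⊤ β (μ - conjC μ) = 0 := by
    rw [← he, hβ, tauA_eq_tauF hL₁ hon]
    rw [tildeOf_eq, tildeOf_eq, typeA1_eq, typeCore_of_I h₁] at hd
    exact cfdot_eq_zero_of_disjoint (Dade_mem_cfOn _ _ _ _) (Dade_mem_cfOn _ _ _ _) hd
  have o' : cfdot ⊤ β (conjC μ) = -cfdot ⊤ β μ := by
    rw [cfdot_conjC_right, hβc, cfdot_neg_left, map_neg, conj_vchar_dot hβv (irr_vchar hμ)]
  have o1 : cfdot ⊤ β μ = 0 := by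
    rw [cfdot_sub_right, o'] at o
    linear_combination (1 / 2 : ℂ) * o
  have o2 : cfdot ⊤ β (conjC μ) = 0 := by rw [o', o1, neg_zero]
  intro a ha α hα
  have hαd := s₂.R_dirr m₂ hα
  have d1 : cfdot ⊤ (μ - conjC μ) α = 1 := by
    rw [← he]
    have := (s₂.R_orthon φ₂ m₂).cfdot_sum_left (fun _ => 1) hα
    simp only [one_smul] at this
    rw [← this, ← s₂.R_sum φ₂ m₂]
  have aux : ∀ ν, ν ∈ Irr (⊤ : Subgroup G) → cfdot ⊤ β ν = 0 → cfdot ⊤ ν α ≠ 0 → cfdot ⊤ β α = 0 := by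
    intro ν hν h0 hne
    rcases (irr_dirr hν).cases hαd with e | e | e
    · rwa [← e]
    · have : α = -ν := by rw [e, neg_neg]
      rw [this, cfdot_neg_right, h0, neg_zero]
    · exact absurd e hne
  have oα : cfdot ⊤ β α = 0 := by
    by_cases e1 : cfdot ⊤ μ α = 0
    · refine aux _ (irr_conjC hμ) o2 fun e2 => ?_
      rw [cfdot_sub_left, e1, e2, sub_zero] at d1
      exact zero_ne_one d1
    · exact aux _ hμ o1 e1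
  rw [hβ, s.R_sum χ hχ] at oα
  exact dirr_dot_zero_of_sum (s.R_orthon χ hχ) (fun a ha => s.R_dirr hχ ha) hαd oα
    (mem_Rof.2 ⟨φ₁, hφ, ha⟩)

/-- (12.3). -/
theorem seqInd_ortho {L₁ L₂ : Subgroup G} (hL₁ : IsCoatom L₁) (hL₂ : IsCoatom L₂)
    (h₁ : IsOfTypeI L₁) (h₂ : IsOfTypeI L₂) (hn : ∀ g, L₂ ≠ cj g L₁)
    {R₁ R₂ : (G → ℂ) → Finset (G → ℂ)} (s₁ : Subcoh L₁ ⊤ (irrKD L₁ (Fc L₁) ⊥) (tauA L₁) R₁)
    (s₂ : Subcoh L₂ ⊤ (irrKD L₂ (Fc L₂) ⊥) (tauA L₂) R₂) {φ₁ φ₂ : G → ℂ}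
    (m₁ : φ₁ ∈ irrKD L₁ (Fc L₁) ⊥) (m₂ : φ₂ ∈ irrKD L₂ (Fc L₂) ⊥) : Orth ⊤ (R₁ φ₁) (R₂ φ₂) := by
  rcases (FT_Dade_support_disjoint hL₁ hL₂ hn).2.2.2 with hd | hd
  · exact seqInd_ortho_aux hL₁ hL₂ h₁ h₂ hd s₁ s₂ m₁ m₂
  · exact (seqInd_ortho_aux hL₂ hL₁ h₂ h₁ hd s₂ s₁ m₂ m₁).symm

/-- a function orthogonal to all `R χ` is orthogonal to `τ (χ₁ - χ₂)` when the degrees agree. -/
theorem dot_sub_eq_zero {Γ : Type u} [Group Γ] [Finite Γ] {L G : Subgroup Γ}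
    {S : Finset (Γ → ℂ)} {τ : (Γ → ℂ) →ₗ[ℂ] (Γ → ℂ)} {R : (Γ → ℂ) → Finset (Γ → ℂ)}
    (s : Subcoh L G S τ R) {ψ φ₁ φ₂ : Γ → ℂ} (h₁ : φ₁ ∈ S) (h₂ : φ₂ ∈ S) (hd : φ₁ 1 = φ₂ 1)
    (o₁ : ∀ α ∈ R φ₁, cfdot G ψ α = 0) (o₂ : ∀ α ∈ R φ₂, cfdot G ψ α = 0) :
    cfdot G (τ (φ₁ - φ₂)) ψ = 0 := by
  obtain ⟨S₁, m₁, m₂, hS, ν, hν⟩ := s.pair_degree_coherence h₁ h₂ hd
  rw [← hν.ext _ (sub_mem_zsp0 (mem_zsp_of_mem m₁) (mem_zsp_of_mem m₂) hd), map_sub]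
  obtain ⟨E₁, hE₁, e₁⟩ := s.mem_coherent_sum_subseq hS hν m₁
  obtain ⟨E₂, hE₂, e₂⟩ := s.mem_coherent_sum_subseq hS hν m₂
  rw [cfdot_sub_left, e₁, e₂, cfdot_sum_left, cfdot_sum_left,
    Finset.sum_eq_zero fun α hα => cfdot_symm_zero (o₁ α (hE₁ hα)),
    Finset.sum_eq_zero fun α hα => cfdot_symm_zero (o₂ α (hE₂ hα)), sub_zero]

/-- (12.4). -/
theorem ortho_constant (hL : IsCoatom L) (h1 : IsOfTypeI L)
    {R₁ : (G → ℂ) → Finset (G → ℂ)} (s : Subcoh L ⊤ (irrKD L (Fc L) ⊥) (tauA L) R₁) {ψ : G → ℂ}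
    (hψ : ψ ∈ CF (⊤ : Subgroup G)) (ho : ∀ φ ∈ irrKD L (Fc L) ⊥, ∀ α ∈ R₁ φ, cfdot ⊤ ψ α = 0)
    {x y : G} (hx : x ∈ L) (hxH : x ∉ Fc L) (hy : y ∈ Fc L) : ψ (x * y) = ψ x := by
  classical
  have hH := Fc_nml L
  obtain ⟨U, hU⟩ := typeI_witness hL h1
  have hti := (FTtypeI_II_facts hL (Or.inl ⟨h1, hU.tF.sd⟩)).2.2
  have hc : ∀ χ ∈ seqIndD (Fc L) L (Fc L) ⊥, ∀ φ₁ ∈ cst L χ, ∀ φ₂ ∈ cst L χ,
      cfdot L ψ φ₁ = cfdot L ψ φ₂ := by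
    intro χ hχ φ₁ m₁ φ₂ m₂
    have i₁ := cst_sub hχ m₁
    have i₂ := cst_sub hχ m₂
    have h0 := dot_sub_eq_zero s i₁ i₂ (cst_deg hL h1 hχ m₁ m₂) (ho _ i₁) (ho _ i₂)
    have hon : φ₁ - φ₂ ∈ CFon L (typeA L \ typeA1 L) := by
      refine mem_CFon.2 ⟨sub_mem (irr_CF (mem_cst.1 m₁).1) (irr_CF (mem_cst.1 m₂).1), ?_⟩
      intro z hz
      by_cases hzH : z ∈ Fc L
      · rw [Pi.sub_apply, cst_res hL h1 hχ m₁ m₂ hzH, sub_self]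
      · have hz' : z ∉ insert 1 (typeA L) := by
          rintro (rfl | hz')
          · exact hzH (one_mem _)
          · apply hz
            refine ⟨hz', fun h => hzH ?_⟩
            rw [typeA1_eq, typeCore_of_I h1] at h
            exact h.1
        rw [Pi.sub_apply, irr_on hL h1 i₁ z hz', irr_on hL h1 i₂ z hz', sub_self]
    rw [show tauA L (φ₁ - φ₂) = cfInd ⊤ L (φ₁ - φ₂) from
      Dade_Ind (FT_Dade_hyp hL) Set.sdiff_subset hti hon, cfdot_cfInd_left le_top _ hψ] at h0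
    have := cfdot_symm_zero h0
    rwa [cfdot_sub_right, sub_eq_zero] at this
  have hβ : ∀ z, z ∉ Fc L → ∑ φ ∈ irrKD L (Fc L) ⊥, cfdot L ψ φ * φ z = 0 := by
    intro z hz
    have e : irrKD L (Fc L) ⊥ = (seqIndD (Fc L) L (Fc L) ⊥).biUnion (cst L) := by
      ext φ
      rw [Finset.mem_biUnion]
      exact ⟨exists_cst, fun ⟨χ, hχ, hφ⟩ => cst_sub hχ hφ⟩
    rw [e, Finset.sum_biUnion]
    · refine Finset.sum_eq_zero fun χ hχ => ?_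
      rcases (cst L χ).eq_empty_or_nonempty with h0 | ⟨φ₀, h0⟩
      · rw [h0, Finset.sum_empty]
      · rw [Finset.sum_congr rfl fun φ hφ => by rw [hc χ hχ φ hφ φ₀ h0], ← Finset.mul_sum,
          ← Finset.sum_apply, ← eq_sum_cst hL h1 hχ,
          seqInd_on hH (seqIndD_subT _ _ _ _ hχ) z hz, mul_zero]
    · intro χ hχ ξ hξ hne
      exact Finset.disjoint_left.2 fun φ h₁ h₂ => not_mem_cst (seqInd_charF hχ) (seqInd_charF hξ)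
        (seqIndD_orth hH _ _ χ hχ ξ hξ hne) h₁ h₂
  have hsplit : ∀ z ∈ L, z ∉ Fc L → ψ z = ∑ φ ∈ irrK L (Fc L), cfdot L ψ φ * φ z := by
    intro z hz hzH
    have e1 := CF_apply_eq_sum (cfRes_mem_CF le_top hψ : cfRes L ψ ∈ CF L) z
    rw [cfRes_of_mem ψ hz] at e1
    simp only [cfdot_cfRes_left] at e1
    have e2 : irrKD L (Fc L) ⊥ = Irr L \ irrK L (Fc L) := by
      rw [irrKD_eq_sdiff, irrK_bot, sup_bot_eq]
    rw [e1, ← Finset.sum_sdiff (irrK_sub L (Fc L)), ← e2, hβ z hzH, zero_add]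
  have hxy : x * y ∉ Fc L := fun h => hxH (by simpa using mul_mem h (inv_mem hy))
  rw [hsplit _ (mul_mem hx (hH.le hy)) hxy, hsplit _ hx hxH]
  refine Finset.sum_congr rfl fun φ hφ => ?_
  rw [cfker_mul_right (irr_CF (mem_irrK.1 hφ).1) ((mem_irrK.1 hφ).2 hy)]

/-- a class function whose coefficients on non-principal characters depend only on the degree is
constant outside the derived subgroup. -/
theorem const_of_deg {Γ : Type u} [Group Γ] [Finite Γ] {H : Subgroup Γ} {f : Γ → ℂ} (hf : f ∈ CF H)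
    (h : ∀ θ₁ ∈ Irr H, ∀ θ₂ ∈ Irr H, θ₁ ≠ cfOne H → θ₂ ≠ cfOne H → θ₁ 1 = θ₂ 1 →
      cfdot H f θ₁ = cfdot H f θ₂) {x y : Γ} (hx : x ∈ H) (hx' : x ∉ ⁅H, H⁆) (hy : y ∈ H)
    (hy' : y ∉ ⁅H, H⁆) : f x = f y := by
  obtain ⟨l₀, hl₀, hk₀⟩ := exists_irrK_not_mem (der1_nml H) hx'
  have lin₀ := irrK_lin le_rfl hl₀
  have n₀ : l₀ ≠ cfOne H := by
    rintro rfl
    exact hk₀ (by rw [cfker_cfOne]; exact hx)
  set c := cfdot H f (cfOne H) - cfdot H f l₀ with hc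
  set g := f - c • cfOne H with hg
  have hgC : g ∈ CF H := sub_mem hf (Submodule.smul_mem _ _ (cfOne_mem_CF H))
  have e1 : cfdot H g (cfOne H) = cfdot H f l₀ := by
    rw [hg, cfdot_sub_left, cfdot_smul_left, cfdot_cfOne_cfOne, hc]; ring
  have e2 : ∀ θ ∈ Irr H, θ ≠ cfOne H → cfdot H g θ = cfdot H f θ := by
    intro θ hθ hn
    rw [hg, cfdot_sub_left, cfdot_smul_left, irr_dot_ne (cfOne_mem_Irr H) hθ hn.symm]; ring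
  have e3 : ∀ θ ∈ Irr H, θ 1 = 1 → cfdot H g θ = cfdot H f l₀ := by
    intro θ hθ hd
    by_cases hn : θ = cfOne H
    · rw [hn, e1]
    · rw [e2 θ hθ hn, h θ hθ l₀ lin₀.irr hn n₀ (by rw [hd, lin₀.one])]
  have h' : ∀ θ₁ ∈ Irr H, ∀ θ₂ ∈ Irr H, θ₁ 1 = θ₂ 1 → cfdot H g θ₁ = cfdot H g θ₂ := by
    intro θ₁ m₁ θ₂ m₂ hd
    by_cases hd1 : θ₁ 1 = 1
    · rw [e3 θ₁ m₁ hd1, e3 θ₂ m₂ (hd ▸ hd1)]
    · have n₁ : θ₁ ≠ cfOne H := fun e => hd1 (by rw [e, cfOne_apply_one])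
      have n₂ : θ₂ ≠ cfOne H := fun e => hd1 (by rw [hd, e, cfOne_apply_one])
      rw [e2 θ₁ m₁ n₁, e2 θ₂ m₂ n₂, h θ₁ m₁ θ₂ m₂ n₁ n₂ hd]
  have key : ∀ z ∈ H, z ∉ ⁅H, H⁆ → f z = c := by
    intro z hz hz'
    obtain ⟨l, hl, hk⟩ := exists_irrK_not_mem (der1_nml H) hz'
    have lin := irrK_lin le_rfl hl
    have e : g * l = g := by
      refine CF_ext_dot (mul_mem_CF hgC (irr_CF lin.irr)) hgC fun θ hθ => ?_
      rw [cfdot_mul_left]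
      refine h' _ (irr_mul_lin hθ lin.conjC) θ hθ ?_
      rw [Pi.mul_apply, lin.conjC.one, mul_one]
    have e' := congrFun e z
    rw [Pi.mul_apply] at e'
    have hne : l z ≠ 1 := fun h1 => hk (lin.mem_cfker.2 ⟨hz, h1⟩)
    have h0 : g z = 0 := by
      have : g z * (l z - 1) = 0 := by rw [mul_sub, e', mul_one, sub_self]
      exact (mul_eq_zero.1 this).resolve_right (sub_ne_zero.2 hne)
    rw [hg, Pi.sub_apply, Pi.smul_apply, cfOne_of_mem hz, smul_eq_mul, mul_one, sub_eq_zero] at h0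
    exact h0
  rw [key x hx hx', key y hy hy']

/-- (12.5). -/
theorem invDade_ortho_constant_aux (hL : IsCoatom L) (h1 : IsOfTypeI L)
    {R₁ : (G → ℂ) → Finset (G → ℂ)} (s : Subcoh L ⊤ (irrKD L (Fc L) ⊥) (tauA L) R₁) {ψ ρ : G → ℂ}
    (ho : ∀ φ ∈ irrKD L (Fc L) ⊥, ∀ α ∈ R₁ φ, cfdot ⊤ ψ α = 0) (hρ : ρ ∈ CF L)
    (hr : ∀ α ∈ CFon L (shp (Fc L)), cfdot ⊤ (tauF L α) ψ = cfdot L α ρ)
    {x y : G} (hx : x ∈ Fc L) (hx' : x ∉ ⁅Fc L, Fc L⁆) (hy : y ∈ Fc L) (hy' : y ∉ ⁅Fc L, Fc L⁆) :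
    ρ x = ρ y := by
  have hH := Fc_nml L
  have s' := seqInd_subcoh hL h1 s
  rw [← cfRes_of_mem ρ hx, ← cfRes_of_mem ρ hy]
  refine const_of_deg (cfRes_mem_CF hH.le hρ) ?_ hx hx' hy hy'
  intro θ₁ m₁ θ₂ m₂ n₁ n₂ hd
  have i₁ : cfInd L (Fc L) θ₁ ∈ seqIndD (Fc L) L (Fc L) ⊥ := mem_seqIndC1.2 ⟨θ₁, m₁, n₁, rfl⟩
  have i₂ : cfInd L (Fc L) θ₂ ∈ seqIndD (Fc L) L (Fc L) ⊥ := mem_seqIndC1.2 ⟨θ₂, m₂, n₂, rfl⟩
  have hd' : cfInd L (Fc L) θ₁ 1 = cfInd L (Fc L) θ₂ 1 := by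
    rw [cfInd_one hH.le, cfInd_one hH.le, hd]
  have o : ∀ χ ∈ seqIndD (Fc L) L (Fc L) ⊥, ∀ α ∈ Rof L R₁ χ, cfdot ⊤ ψ α = 0 := by
    intro χ hχ α hα
    obtain ⟨φ, hφ, hα⟩ := mem_Rof.1 hα
    exact ho φ (cst_sub hχ hφ) α hα
  have h0 := dot_sub_eq_zero s' i₁ i₂ hd' (o _ i₁) (o _ i₂)
  have hon := zsp0_seqInd_on hH (seqIndD_subT _ _ _ _)
    (sub_mem_zsp0 (mem_zsp_of_mem i₁) (mem_zsp_of_mem i₂) hd')
  rw [tauA_eq_tauF hL hon, hr _ hon] at h0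
  have h2 := cfdot_symm_zero h0
  rw [cfdot_sub_right, cfdot_cfInd_right hH.le hρ, cfdot_cfInd_right hH.le hρ, sub_eq_zero] at h2
  rw [cfdot_cfRes_left, cfdot_cfRes_left, h2]

theorem Frobenius_type1 (hL : IsCoatom L) (hF : FrobK L (Fc L)) : IsOfTypeI L := by
  by_contra h
  obtain ⟨U, W, W₁, W₂, hP⟩ := FTtypeP_witness hL h
  obtain ⟨E, hE⟩ := hF
  exact hP.not_typeF E (Frobenius_of_typeF hE)

theorem supp_Frobenius (hL : IsCoatom L) (hF : FrobK L (Fc L)) : typeA L = shp (Fc L) := by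
  refine Set.Subset.antisymm ?_ (Fc_sub_typeA hL)
  rw [typeA_of_typeI (Frobenius_type1 hL hF)]
  rintro a ⟨ha, ha1, x, hx, hx1, hc⟩
  exact ⟨hF.cent_le hx hx1 ⟨ha, mem_C1.2 hc⟩, ha1⟩

end H27.PF12
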