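import Mathlib
import Cfsg.Agent.H27.PF7
import Cfsg.Agent.H27.PF12a
import Cfsg.Agent.H26.Abelem
import Cfsg.Agent.H1.BG33

/-!
# Peterfalvi (12.5), (12.6), (12.17) and the group theory of (12.12)
-/

set_option autoImplicit false
set_option linter.unusedSectionVars false
set_option linter.unusedVariables false

namespace H27.PF12

open Cfsg H24 H25 H27
open scoped ComplexConjugate

universe u v

section lines
variable {Γ : Type u} [Group Γ] [Finite Γ] {T A E X : Subgroup Γ} {p q : ℕ}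

/-- an elementary abelian group of order `p ^ 2` has `p + 1` subgroups of order `p`. -/
theorem card_lines (hp : p.Prime) {H : Subgroup Γ} (hT : PnElem p 2 H T) :
    Nat.card {X : Subgroup Γ // PnElem p 1 T X} = p + 1 := by
  classical
  have hfin : Finite (Subgroup Γ) := inferInstance
  have key := Finset.card_eq_sum_card_fiberwise (s := fs (shp T))
    (t := fs {X : Subgroup Γ | PnElem p 1 T X}) (f := fun t => Subgroup.zpowers t)
    (fun t ht => by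
      have ht' := mem_fs.1 (Finset.mem_coe.1 ht)
      exact Finset.mem_coe.2 (mem_fs.2 (pnElem_zpowers_of_elem hp hT.elem ht'.1 ht'.2)))
  have h1 : (fs (shp T)).card = p ^ 2 - 1 := by
    rw [card_fs_ncard, Set.ncard_sdiff_singleton_of_mem (by exact T.one_mem), ← hT.card]
    rfl
  have h2 : ∀ X ∈ fs {X : Subgroup Γ | PnElem p 1 T X},
      ((fs (shp T)).filter (fun t => Subgroup.zpowers t = X)).card = p - 1 := by
    intro X hX
    have hX' : PnElem p 1 T X := mem_fs.1 hX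
    have e : (fs (shp T)).filter (fun t => Subgroup.zpowers t = X) = fs (shp X) := by
      ext t
      rw [Finset.mem_filter, mem_fs, mem_fs]
      constructor
      · rintro ⟨h, rfl⟩; exact ⟨Subgroup.mem_zpowers t, h.2⟩
      · intro h; exact ⟨⟨hX'.le h.1, h.2⟩, hX'.eq_zpowers hp h.1 h.2⟩
    rw [e, card_fs_ncard, Set.ncard_sdiff_singleton_of_mem (by exact X.one_mem), ← hX'.card_one]
    rfl
  rw [h1, Finset.sum_congr rfl h2, Finset.sum_const, smul_eq_mul, card_fs] at key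
  have h3 : p ^ 2 - 1 = (p + 1) * (p - 1) := by
    have := Nat.sq_sub_sq p 1
    simpa using this
  have h4 : 0 < p - 1 := by have := hp.two_le; omega
  rw [h3] at key
  exact (Nat.eq_of_mul_eq_mul_right h4 key).symm

/-- a group of prime order `q ∤ p + 1` normalises a line. -/
theorem exists_norm_line (hp : p.Prime) {H : Subgroup Γ} (hT : PnElem p 2 H T) (hq : q.Prime)
    (hA : Nat.card A = q) (hAT : A ≤ N[T]) (hd : ¬ q ∣ p + 1) : ∃ X, PnElem p 1 T X ∧ A ≤ N[X] := by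
  classical
  have := Fact.mk hq
  let act : MulAction A {X : Subgroup Γ // PnElem p 1 T X} :=
    { smul := fun a X => ⟨cj (a : Γ) X.1, by
        have := X.2.cj (a : Γ)
        rwa [cj_of_mem_N (hAT a.2)] at this⟩
      one_smul := fun X => Subtype.ext (cj_one X.1)
      mul_smul := fun a b X => Subtype.ext (cj_mul (a : Γ) (b : Γ) X.1) }
  have hP : IsPGroup q A := IsPGroup.of_card (n := 1) (by rw [hA, pow_one])
  obtain ⟨X, hX⟩ := hP.nonempty_fixed_point_of_prime_not_dvd_card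
    {X : Subgroup Γ // PnElem p 1 T X} (by rw [card_lines hp hT]; exact hd)
  refine ⟨X.1, X.2, fun a ha => mem_N_iff_cj.2 ?_⟩
  exact congrArg Subtype.val (MulAction.mem_fixedPoints.1 hX ⟨a, ha⟩)

/-- an element normalising three lines normalises every line. -/
theorem norm_of_three_lines (hp : p.Prime) {H : Subgroup Γ} (hT : PnElem p 2 H T) {X₁ X₂ X₃ : Subgroup Γ}
    (h₁ : PnElem p 1 T X₁) (h₂ : PnElem p 1 T X₂) (h₃ : PnElem p 1 T X₃) (n12 : X₁ ≠ X₂)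
    (n13 : X₁ ≠ X₃) (n23 : X₂ ≠ X₃) {a : Γ} (a₁ : a ∈ N[X₁]) (a₂ : a ∈ N[X₂]) (a₃ : a ∈ N[X₃])
    {x : Γ} (hx : x ∈ T) : a ∈ N[Subgroup.zpowers x] := by
  have hdp := hT.dp_of_ne hp h₁ h₂ h₁.le h₂.le n12
  obtain ⟨w, hw, hw1, -, hwX⟩ := h₃.exists_generator hp
  obtain ⟨u, hu, v, hv, rfl⟩ := hdp.isProd.mul w (h₃.le hw)
  have hu1 : u ≠ 1 := by
    rintro rfl
    rw [one_mul] at hw hw1 hwX
    exact n23 ((h₂.eq_zpowers hp hv hw1).symm.trans hwX)
  have hv1 : v ≠ 1 := by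
    rintro rfl
    rw [mul_one] at hw hw1 hwX
    exact n13 ((h₁.eq_zpowers hp hu hw1).symm.trans hwX)
  obtain ⟨k, hk⟩ := H26.exists_conj_eq_pow (a := a) (x := u * v) (by rw [hwX]; exact a₃)
  have hc : ∀ s ∈ T, ∀ t ∈ T, Commute s t := fun s hs t ht => hT.abl.comm hs ht
  have e : (a * u * a⁻¹) * (a * v * a⁻¹) = u ^ k * v ^ k := by
    rw [← (hc u (h₁.le hu) v (h₂.le hv)).mul_pow, ← hk]; group
  obtain ⟨e1, e2⟩ := mul_eq_mul_of_inf hdp.inf (H24.conj_mem a₁ hu) (pow_mem hu k)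
    (H24.conj_mem a₂ hv) (pow_mem hv k) e
  have f : ∀ s : Γ, a * s * a⁻¹ = s ^ k → ∀ t ∈ Subgroup.zpowers s, a * t * a⁻¹ = t ^ k := by
    rintro s hs t ⟨i, rfl⟩
    show a * s ^ i * a⁻¹ = (s ^ i) ^ k
    rw [← conj_zpow, hs, ← zpow_natCast, ← zpow_natCast, ← zpow_mul, ← zpow_mul, mul_comm]
  obtain ⟨s, hs, t, ht, rfl⟩ := hdp.isProd.mul x hx
  have e3 : a * (s * t) * a⁻¹ = (s * t) ^ k := by
    rw [(hc s (h₁.le hs) t (h₂.le ht)).mul_pow, ← f u e1 s (by rwa [h₁.eq_zpowers hp hu hu1]),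
      ← f v e2 t (by rwa [h₂.eq_zpowers hp hv hv1])]
    group
  refine mem_N_of_finite fun y hy => ?_
  rw [f _ e3 y hy]
  exact pow_mem hy k

theorem two_mul_le_of_dvd {e n : ℕ} (he : Odd e) (hn : Even n) (h0 : n ≠ 0) (h : e ∣ n) : 2 * e ≤ n :=
  Nat.le_of_dvd (Nat.pos_of_ne_zero h0)
    (Nat.Coprime.mul_dvd_of_dvd_of_dvd ((Nat.coprime_two_left).2 he) (even_iff_two_dvd.1 hn) h)

/-- the group theory of (12.12). -/
theorem two_mul_card_le (hp : p.Prime) (hp2 : Odd p) {H : Subgroup Γ} (hT : PnElem p 2 H T)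
    (hodd : Odd (Nat.card E)) (hET : E ≤ N[T]) (hreg : Semireg T E) {x : Γ} (hx : x ∈ T)
    (hN : E ⊓ N[Subgroup.zpowers x] = ⊥) : 2 * Nat.card E ≤ p + 1 := by
  have hp1 : p - 1 ≠ 0 := by have := hp.two_le; omega
  by_cases h : ∃ X, PnElem p 1 T X ∧ E ≤ N[X]
  · obtain ⟨X, hX, hn⟩ := h
    have := (hreg.mono hX.le le_rfl).dvd_pred hn
    rw [hX.card_one] at this
    have := two_mul_le_of_dvd hodd (Nat.Odd.sub_odd hp2 odd_one) hp1 this
    omega
  have hq : ∀ q, q.Prime → q ∣ Nat.card E → q ∣ p + 1 := by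
    intro q hq hd
    by_contra hnd
    obtain ⟨A, hAE, hA⟩ := exists_card_prime hq hd
    have hAn : A ⊴ E := H1.prime_odd_regular_normal (hA ▸ hq) hodd hAE (hT.ne_bot hp two_pos) hET hreg
    obtain ⟨X, hX, hAX⟩ := exists_norm_line hp hT hq hA (hAE.trans hET) hnd
    have : ∃ g ∈ E, g ∉ N[X] := by
      by_contra hc
      push Not at hc
      exact h ⟨X, hX, hc⟩
    obtain ⟨g, hg, hgX⟩ := this
    have hl : ∀ y ∈ E, PnElem p 1 T (cj y X) ∧ A ≤ N[cj y X] := by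
      intro y hy
      constructor
      · have := hX.cj y
        rwa [cj_of_mem_N (hET hy)] at this
      · have := norm_cj hAX y
        rwa [cj_of_mem_N (hAn.norm hy)] at this
    have n12 : X ≠ cj g X := fun e => hgX (mem_N_iff_cj.2 e.symm)
    have n23 : cj g X ≠ cj (g * g) X := by
      rw [cj_mul]
      exact fun e => n12 (cj_inj.1 e)
    have n13 : X ≠ cj (g * g) X := by
      intro e
      apply hgX
      have h2 : g * g ∈ N[X] := mem_N_iff_cj.2 e.symm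
      obtain ⟨k, hk⟩ := H26.exists_sq_pow_eq_of_odd hodd (⟨g, hg⟩ : E)
      have hk' : (g * g) ^ k = g := by simpa using congrArg Subtype.val hk
      rw [← hk']
      exact pow_mem h2 k
    obtain ⟨a, ha, ha1⟩ := exists_ne_one (ne_bot_of_prime (hA ▸ hq : (Nat.card A).Prime))
    have := norm_of_three_lines hp hT hX (hl g hg).1 (hl _ (mul_mem hg hg)).1 n12 n13 n23 (hAX ha)
      ((hl g hg).2 ha) ((hl _ (mul_mem hg hg)).2 ha) hx
    have h3 : a ∈ E ⊓ N[Subgroup.zpowers x] := ⟨hAE ha, this⟩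
    rw [hN] at h3
    exact ha1 h3
  have hc : (Nat.card E).Coprime (p - 1) := by
    refine Nat.coprime_of_dvd fun q hq' h1 h2 => ?_
    have h3 := hq q hq' h1
    have h4 : q ∣ 2 := by
      have := (Nat.dvd_sub h3 h2)
      rwa [show p + 1 - (p - 1) = 2 by omega] at this
    have h5 : q = 2 := (Nat.prime_dvd_prime_iff_eq hq' Nat.prime_two).1 h4
    rw [h5] at h1
    exact (Nat.not_even_iff_odd.2 hodd) (even_iff_two_dvd.2 h1)
  have hd := hreg.dvd_pred hET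
  rw [hT.card, show p ^ 2 - 1 = (p + 1) * (p - 1) by simpa using Nat.sq_sub_sq p 1] at hd
  exact two_mul_le_of_dvd hodd (hp2.add_odd odd_one) (by omega) (hc.dvd_of_dvd_mul_right hd)

end lines

variable {G : Type u} [Group G] [Finite G] [FT G] {L : Subgroup G}

/-- (12.5). -/
theorem invDade_ortho_constant (hL : IsCoatom L) (h1 : IsOfTypeI L)
    {R₁ : (G → ℂ) → Finset (G → ℂ)} (s : Subcoh L ⊤ (irrKD L (Fc L) ⊥) (tauA L) R₁) {ψ : G → ℂ}
    (hψ : ψ ∈ CF (⊤ : Subgroup G)) (ho : ∀ φ ∈ irrKD L (Fc L) ⊥, ∀ α ∈ R₁ φ, cfdot ⊤ ψ α = 0)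
    {x y : G} (hx : x ∈ Fc L) (hx' : x ∉ ⁅Fc L, Fc L⁆) (hy : y ∈ Fc L) (hy' : y ∉ ⁅Fc L, Fc L⁆) :
    invDade (shp (Fc L)) (supportR L) ψ x = invDade (shp (Fc L)) (supportR L) ψ y :=
  invDade_ortho_constant_aux hL h1 s ho (mem_CFon.1 (invDade_on (FT_DadeF_hyp hL) hψ)).1
    (fun α hα => invDade_reciprocity (FT_DadeF_hyp hL) hα hψ) hx hx' hy hy'

theorem seqInd_irr (hF : FrobK L (Fc L)) : seqIndD (Fc L) L (Fc L) ⊥ ⊆ Irr L := by
  intro χ hχ
  obtain ⟨θ, hθ, hn, rfl⟩ := mem_seqIndC1.1 hχ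
  exact irr_induced_Frobenius_ker hF.nml (fun x hx h1 => hF.cent_le hx h1) hθ hn

theorem tauA_Frobenius (hL : IsCoatom L) (hF : FrobK L (Fc L)) : tauA L = tauF L := by
  show Dade (typeA L) L _ = _
  rw [supp_Frobenius hL hF]

/-- (12.6). -/
theorem Frobenius_coherence (hL : IsCoatom L) (hF : FrobK L (Fc L)) :
    seqIndD (Fc L) L (Fc L) ⊥ ⊆ Irr L ∧ Coherent L ⊤ (seqIndD (Fc L) L (Fc L) ⊥) (tauF L) := by
  refine ⟨seqInd_irr hF, ?_⟩
  have h1 := Frobenius_type1 hL hF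
  have hH := Fc_nml L
  obtain ⟨R₁, s₁⟩ := irr_subcoh hL h1
  have s := seqInd_subcoh hL h1 s₁
  rw [tauA_Frobenius hL hF] at s
  obtain ⟨E, hE⟩ := hF
  have hI := compl_of_typeI hL hE.sd h1
  rcases hI.cases with hti | ⟨hab, -⟩ | ⟨hexp, -⟩
  · refine (Sibley_coherence (mFT_odd L) (Fc_nil L) hti (Or.inl hE)).congr fun φ hφ => ?_
    exact (Dade_Ind (FT_DadeF_hyp hL) subset_rfl (nti_of_normedTI hti)
      (zsp0_seqInd_on hH (seqIndD_subT _ _ _ _) hφ)).symm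
  · refine s.uniform_degree_coherence fun φ hφ ψ hψ => ?_
    obtain ⟨θ, hθ, -, rfl⟩ := mem_seqIndC1.1 hφ
    obtain ⟨θ', hθ', -, rfl⟩ := mem_seqIndC1.1 hψ
    rw [cfInd_one hH.le, cfInd_one hH.le, (irr_lin_of_abl hab hθ).one, (irr_lin_of_abl hab hθ').one]
  · have hq : OddFrobQuo (Fc L) L ⊥ := by
      refine ⟨mFT_odd L, Nml.bot L, bot_le, (Fc_nil L).quo ⊥, quo E (⁅Fc L, Fc L⁆ ⊔ ⊥), ?_⟩
      rw [sup_bot_eq]
      exact hE.quo hH.der1 ((Fc_nil L).sol.der1_lt hE.ker_ne)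
    rcases non_coherent_chief hH (Fc_nil L).sol s hq with h | ⟨-, -, p, hp, hpi, -, hnd⟩
    · exact h
    · exfalso
      apply hnd
      have hc : Nat.card E = Monoid.exponent E :=
        hI.tF.card_compl (mFT_odd L) ⟨le_rfl, rfl, by rw [hE.sd.sup]; exact hE⟩
      rw [hE.sd.relIndex_left, hc]
      refine hexp p ⟨hp, ?_⟩
      have h2 : quo (Fc L) ⊥ ≠ ⊥ := by
        rw [Ne, quo_eq_bot (by rw [N_bot]; exact le_top), le_bot_iff]
        exact hE.ker_ne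
      exact (hpi.dvd_card h2).trans (card_quo_dvd _ _)

/-- (12.17), given (12.7). -/
theorem not_all_of_Frob (hfrob : ∀ M : Subgroup G, IsCoatom M → IsOfTypeI M → FrobK M (Fc M)) :
    ∃ M : Subgroup G, IsCoatom M ∧ ¬ IsOfTypeI M := by
  classical
  by_contra hcon
  push Not at hcon
  have hF : ∀ M : Subgroup G, IsCoatom M → FrobK M (Fc M) := fun M hM => hfrob M hM (hcon M hM)
  have hC : ∀ M : Subgroup G, IsCoatom M → ∀ x ∈ shp (Fc M), C{x} ≤ M := by
    intro M hM x hx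
    by_contra hn
    obtain ⟨-, N, hN, -, -, -, -, hA, hA1, -⟩ := FTsupport_facts hM (Fc_sub_typeA0 hM hx) hn
    rw [supp_Frobenius hN.coatom (hF N hN.coatom)] at hA
    exact hA1 (Fc_sub_typeA1 hN.coatom hA)
  have hTI : ∀ M : Subgroup G, IsCoatom M → NormedTI (shp (Fc M)) M := by
    intro M hM
    obtain ⟨y, hy, hy1⟩ := exists_ne_one (mmax_Fcore_neq1 hM)
    refine ⟨⟨y, hy, hy1⟩, le_normalizer_set_iff.2 fun g hg x hx =>
      ⟨(Fc_nml M).conj_mem hg hx.1, fun h => hx.2 (conj_eq_one_iff'.1 h)⟩, fun a ha g hg => ?_⟩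
    obtain ⟨m, hm, e⟩ := FTsupp0_fusion hM (Fc_sub_typeA0 hM ha) (Fc_sub_typeA0 hM hg)
    have : m⁻¹ * g ∈ C{a} := by
      rw [mem_C1_iff_conj]
      calc m⁻¹ * g * a * (m⁻¹ * g)⁻¹ = m⁻¹ * (g * a * g⁻¹) * m := by group
        _ = a := by rw [← e]; group
    simpa using mul_mem hm (hC M hM a ha this)
  let s : Setoid {M : Subgroup G // IsCoatom M} :=
    ⟨fun M N => ∃ g, N.1 = cj g M.1, ⟨fun M => ⟨1, (cj_one _).symm⟩,
      fun ⟨g, h⟩ => ⟨g⁻¹, by rw [h, cj_inv_cj]⟩,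
      fun ⟨g, h⟩ ⟨k, h'⟩ => ⟨k * g, by rw [h', h, cj_mul]⟩⟩⟩
  let I := Quotient s
  have : Finite {M : Subgroup G // IsCoatom M} := inferInstance
  have : Fintype I := Fintype.ofFinite I
  let Li : I → Subgroup G := fun i => (Quotient.out i).1
  have hLi : ∀ i, IsCoatom (Li i) := fun i => (Quotient.out i).2
  have hne : ∀ i j, i ≠ j → ∀ g, Li j ≠ cj g (Li i) := fun i j hij g e =>
    hij (Quotient.out_equiv_out.1 (⟨g, e⟩ : s.r _ _))
  have hrep : ∀ M : Subgroup G, IsCoatom M → ∃ i g, M = cj g (Li i) := by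
    intro M hM
    obtain ⟨g, hg⟩ : s.r (Quotient.out (Quotient.mk s ⟨M, hM⟩)) ⟨M, hM⟩ := Quotient.mk_out _
    exact ⟨_, g, hg⟩
  have hI : 2 ≤ Fintype.card I := by
    obtain ⟨M, hM, -⟩ := exists_coatom (X := (⊥ : Subgroup G)) mFT_top_ne_bot.symm
    obtain ⟨E, hE⟩ := hF M hM
    obtain ⟨q, hq, hd⟩ := H24.exists_prime_dvd_card hE.compl_ne
    obtain ⟨N, hN, hqN⟩ := FTcore_cover hq (hd.trans (Subgroup.card_subgroup_dvd_card E))
    rw [typeCore_of_I (hcon N hN)] at hqN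
    obtain ⟨i, g, rfl⟩ := hrep M hM
    obtain ⟨j, k, rfl⟩ := hrep N hN
    refine Fintype.one_lt_card_iff.2 ⟨i, j, ?_⟩
    rintro rfl
    have hc := hE.coprime
    rw [Fc_cj, card_cj] at hqN hc
    exact hq.one_lt.ne' (Nat.eq_one_of_dvd_coprimes hc hqN hd)
  obtain ⟨g, hg1, hg⟩ := no_coherent_Frobenius_partition (L := Li) (H := fun i => Fc (Li i))
    mFT_odd_card hI (fun i => hF _ (hLi i)) (fun i => Fc_nil _) (fun i => hTI _ (hLi i))
    (fun i j hij => by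
      have := FTcore_coprime (hLi i) (hLi j) (hne i j hij)
      rwa [typeCore_of_I (hcon _ (hLi i)), typeCore_of_I (hcon _ (hLi j))] at this)
  obtain ⟨M, hM, hgM⟩ := FT_Dade1_cover_typeI hcon hg1
  obtain ⟨i, k, rfl⟩ := hrep M hM
  rw [(tildeOf_cj k (Li i)).1, tildeOf_eq, typeA1_eq, typeCore_of_I (hcon _ (hLi i)),
    dadeSupp_of_bot fun a ha => supportR_of_le (hC _ (hLi i) a ha)] at hgM
  exact hg i hgM

end H27.PF12
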