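import Mathlib
import Cfsg.Agent.H27.PF12b

/-!
# Peterfalvi (12.13)–(12.16): the character theory of Theorem (12.7)
-/

set_option autoImplicit false
set_option linter.unusedSectionVars false
set_option linter.unusedVariables false

namespace H27.PF12

open Cfsg H24 H25 H27
open scoped ComplexConjugate

universe u v

section rho
variable {Γ : Type u} [Group Γ] [Finite Γ] {L H : Subgroup Γ} {R : Γ → Subgroup Γ}

/-- the computation of (12.14). -/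
theorem invDade_eq_of_large (hD : DadeHypothesis (shp H) L R) {ν : (Γ → ℂ) →ₗ[ℂ] (Γ → ℂ)}
    (hc : CohWith L ⊤ (seqIndD H L H ⊥) (Dade (shp H) L R) ν) (h2 : 1 < (seqIndD H L H ⊥).card)
    (hS : seqIndD H L H ⊥ ⊆ Irr L) {ζ : Γ → ℂ} (hζ : ζ ∈ seqIndD H L H ⊥)
    (h1 : ζ 1 = H.relIndex L) (hbig : H.relIndex L * (H.relIndex L + 2) + 1 < Nat.card H)
    {x : Γ} (hx : x ∈ shp H) : invDade (shp H) R (ν ζ) x = ζ x := by
  classical
  have hH : H ⊴ L := nml_of_Dade_shp hD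
  have hi := hS hζ
  obtain ⟨⟨o1, -, -⟩, ⟨Gam, oG, -, ⟨a, hβ⟩, -⟩, -⟩ := Dade_Ind1_sub_lin hD hc h2 hi hζ h1 _ rfl
  set β := Dade (shp H) L R (cfInd L H (cfOne H) - ζ) with hβdef
  set e := H.relIndex L with he
  have e0 : (0 : ℝ) < e := by exact_mod_cast H24.relIndex_pos H L
  have e0C : (e : ℂ) ≠ 0 := relIndexC_ne_zero H L
  have n1 : ∀ ξ ∈ seqIndD H L H ⊥, cfdot ⊤ (ν ξ) (ν ξ) = 1 := fun ξ hξ => by
    rw [hc.dot hξ hξ, irr_dot_self (hS hξ)]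
  have n2 : ∀ ξ ∈ seqIndD H L H ⊥, ∀ μ ∈ seqIndD H L H ⊥, ξ ≠ μ → cfdot ⊤ (ν ξ) (ν μ) = 0 :=
    fun ξ hξ μ hμ hne => by rw [hc.dot hξ hμ, irr_dot_ne (hS hξ) (hS hμ) hne]
  have hdot : ∀ ξ ∈ seqIndD H L H ⊥,
      cfdot ⊤ β (ν ξ) = (((a : ℝ) * (deg ξ / e) - if ξ = ζ then 1 else 0 : ℝ) : ℂ) := by
    intro ξ hξ
    rw [hβ, cfdot_add_left, cfdot_add_left, cfdot_sub_left, cfdot_smul_left,
      cfdot_sum_orth_left n2 _ hξ, n1 ξ hξ, oG ξ hξ, cfdot_symm_zero (o1 ξ hξ), irr_norm (hS hξ),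
      irr_one_eq (hS hξ)]
    split_ifs with h
    · rw [h, n1 ζ hζ]; push_cast; ring
    · rw [n2 ζ hζ ξ hξ (Ne.symm h)]; push_cast; ring
  have hon : cfInd L H (cfOne H) - ζ ∈ CFon L (shp H) := by
    have := H2.sub_mem_CFon1 hH (H2.ind1_mem_seqIndT H L) (seqIndD_subT _ _ _ _ hζ) (c := 1)
      (by rw [H2.ind1_apply_one hH.le, h1, one_mul])
    rwa [one_smul] at this
  have hnβ : cfnorm ⊤ β = e + 1 := by
    rw [hβdef, cfnorm_Dade hD hon, cfnorm_sub_orth (cfdot_symm_zero (H2.seqIndC1_dot_ind1 hH hζ)),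
      H2.ind1_norm hH, irr_norm hi]
  have hdζ : (deg ζ : ℝ) = e := by rw [deg_eq_of h1]
  have hsq : ∑ ξ ∈ seqIndD H L H ⊥, (deg ξ : ℝ) ^ 2 = e * ((Nat.card H : ℝ) - 1) := by
    rw [← sum_seqIndC1_square hH]
    exact Finset.sum_congr rfl fun ξ hξ => by rw [irr_norm (hS hξ), div_one]
  have hb := sum_sq_cfdot_le n1 n2 β
  rw [hnβ, Finset.sum_congr rfl fun ξ hξ => by rw [hdot ξ hξ, Complex.norm_real, Real.norm_eq_abs,
    sq_abs]] at hb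
  have hsum : ∑ ξ ∈ seqIndD H L H ⊥, ((a : ℝ) * (deg ξ / e) - if ξ = ζ then 1 else 0) ^ 2 =
      (a : ℝ) ^ 2 * (((Nat.card H : ℝ) - 1) / e) - 2 * a + 1 := by
    have : ∀ ξ ∈ seqIndD H L H ⊥, ((a : ℝ) * (deg ξ / e) - if ξ = ζ then 1 else 0) ^ 2 =
        (a : ℝ) ^ 2 / e ^ 2 * (deg ξ : ℝ) ^ 2 + if ξ = ζ then (1 - 2 * (a : ℝ)) else 0 := by
      intro ξ _
      split_ifs with h
      · rw [h, hdζ]; field_simp; ring
      · field_simp; ring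
    rw [Finset.sum_congr rfl this, Finset.sum_add_distrib, ← Finset.mul_sum, hsq,
      Finset.sum_ite_eq' _ ζ, if_pos hζ]
    field_simp; ring
  rw [hsum] at hb
  have ha : a = 0 := by
    by_contra ha
    have a1 : (1 : ℝ) ≤ (a : ℝ) ^ 2 := by
      have : (1 : ℤ) ≤ a ^ 2 := by have := sq_pos_of_ne_zero ha; omega
      exact_mod_cast this
    have a2 : (a : ℝ) ≤ (a : ℝ) ^ 2 := by
      have : a ≤ a ^ 2 := Int.le_self_sq a
      exact_mod_cast this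
    have hN : (e : ℝ) + 2 < ((Nat.card H : ℝ) - 1) / e := by
      rw [lt_div_iff₀ e0]
      have : ((e * (e + 2) + 1 : ℕ) : ℝ) < Nat.card H := by exact_mod_cast hbig
      push_cast at this
      linarith
    nlinarith
  have hψ : ν ζ ∈ CF (⊤ : Subgroup Γ) := vchar_CF (hc.vchar hζ)
  have hρ := (mem_CFon.1 (invDade_on hD hψ)).1
  rw [← sub_eq_zero, ← Pi.sub_apply]
  refine H2.eq_zero_of_dot_seqIndT hH (ξ₀ := ζ) (sub_mem hρ (irr_CF hi)) ?_ hx.1 hx.2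
  intro ξ hξ
  have hζ0 : ζ 1 ≠ 0 := irr_one_ne_zero hi
  have hon' := H2.sub_mem_CFon1 hH hξ (seqIndD_subT _ _ _ _ hζ) (c := ξ 1 / ζ 1)
    (by rw [div_mul_cancel₀ _ hζ0])
  rw [cfdot_sub_right, ← invDade_reciprocity hD hon' hψ, sub_eq_zero]
  rcases H2.seqIndT_cases hξ with rfl | hξ'
  · rw [H2.ind1_apply_one hH.le, h1, div_self e0C, one_smul, ← hβdef, hdot ζ hζ, ha, if_pos rfl,
      cfdot_sub_left, cfdot_symm_zero (H2.seqIndC1_dot_ind1 hH hζ), irr_dot_self hi]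
    simp
  · obtain ⟨d, hd, hz⟩ := seqInd_sub_lin hH.le (seqIndD_subT _ _ _ _) hζ hξ' h1
    have : ξ 1 / ζ 1 = d := by rw [hd, mul_div_cancel_right₀ _ hζ0]
    rw [this, ← hc.ext _ hz]
    exact hc.isom.dot _ (zsp0_le_zsp _ hz) _ (mem_zsp_of_mem hζ)

theorem sum_add_sum_le_norm {A B : Set Γ} (h : Disjoint A B) (ψ : Γ → ℂ) :
    (Nat.card Γ : ℝ)⁻¹ * ∑ g ∈ fs A, ‖ψ g‖ ^ 2 + (Nat.card Γ : ℝ)⁻¹ * ∑ g ∈ fs B, ‖ψ g‖ ^ 2 ≤
      cfnorm ⊤ ψ := by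
  rw [← mul_add, ← sum_fs_union h, cfnorm, Subgroup.card_top]
  refine mul_le_mul_of_nonneg_left ?_ (by positivity)
  exact Finset.sum_le_sum_of_subset_of_nonneg (fs_mono fun x _ => Subgroup.mem_top x)
    fun _ _ _ => by positivity

end rho

variable {G : Type u} [Group G] [Finite G] [FT G] {L M : Subgroup G}

theorem not_conj_of_Frob (hF : FrobK L (Fc L)) {N : Subgroup G} (hN : ¬ FrobK N (Fc N)) (g : G) :
    N ≠ cj g L := by
  rintro rfl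
  obtain ⟨E, hE⟩ := hF
  exact hN ⟨cj g E, by rw [Fc_cj]; exact hE.cj g⟩

theorem seven_le_index (hM : IsCoatom M) (h1 : IsOfTypeI M) :
    7 ≤ (⁅Fc M, Fc M⁆ : Subgroup G).relIndex (Fc M) := by
  obtain ⟨U, hU⟩ := typeI_witness hM h1
  obtain ⟨U₀, hU₀⟩ := hU.tF.compl
  have hF := hU₀.frob.quo hU₀.frob.nml.der1 ((Fc_nil M).sol.der1_lt hU.tF.ne)
  have h2 := H1.ltn_odd_Frobenius_ker hF (odd_quo (mFT_odd _) _)
  rw [card_quo (der1_nml _).norm] at h2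
  have h3 := one_lt_card hF.compl_ne
  have h4 := odd_quo (mFT_odd U₀) ⁅Fc M, Fc M⁆
  obtain ⟨k, hk⟩ := h4
  omega

/-- (12.13)–(12.16). -/
theorem final_contra {p : ℕ} (hp : p.Prime) (hM : IsCoatom M) (M1 : IsOfTypeI M)
    (nF : ¬ FrobK M (Fc M)) (hL : IsCoatom L) (hF : FrobK L (Fc L)) {x g : G} (hx : x ∈ Fc L)
    (ox : orderOf x = p) (hxM : x ∈ M) (hxK : x ∉ Fc M) (hg : g ∈ Fc M) (hgx : g ∈ C{x})
    (hg' : g ∉ ⁅Fc M, Fc M⁆) (hR : supportR L x = Fc M ⊓ C{x})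
    (he : 2 * (Fc L).relIndex L ≤ p + 1) (hh : p ^ 2 ≤ Nat.card (Fc L))
    (hc : Nat.card M ≤ Nat.card (Fc M) * Nat.card (Fc L)) : False := by
  classical
  have L1 := Frobenius_type1 hL hF
  have hH := Fc_nml L
  have hx1 : x ≠ 1 := ne_one_of_orderOf_prime (ox ▸ hp)
  have e3 : 3 ≤ (Fc L).relIndex L := by
    have h1 := hF.one_lt_index
    obtain ⟨k, hk⟩ := mFT_odd_relIndex (Fc L) L
    omega
  obtain ⟨hS, ν, hν⟩ := Frobenius_coherence hL hF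
  obtain ⟨χ, hχ, hχ1⟩ := ref_irr hL
  obtain ⟨R₁, s₁⟩ := irr_subcoh hL L1
  have s := seqInd_subcoh hL L1 s₁
  have hψd := hν.dirr hχ (hS hχ)
  set ψ := ν χ with hψdef
  have hψ : ψ ∈ CF (⊤ : Subgroup G) := hψd.CF
  have hortho : ∀ N : Subgroup G, IsCoatom N → IsOfTypeI N → ¬ FrobK N (Fc N) →
      ∀ R₂, Subcoh N ⊤ (irrKD N (Fc N) ⊥) (tauA N) R₂ →
        ∀ φ ∈ irrKD N (Fc N) ⊥, ∀ α ∈ R₂ φ, cfdot ⊤ ψ α = 0 := by
    intro N hN N1 nN R₂ s₂ φ hφ α hα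
    obtain ⟨E, hE, e⟩ := s.mem_coherent_sum_subseq (ConjSub.refl s.conj_mem)
      (by rw [tauA_Frobenius hL hF]; exact hν) hχ
    rw [hψdef, e, cfdot_sum_left]
    refine Finset.sum_eq_zero fun a ha => ?_
    obtain ⟨φ₁, m₁, ha⟩ := mem_Rof.1 (hE ha)
    exact seqInd_ortho hL hN L1 N1 (not_conj_of_Frob hF nN) s₁ s₂ (cst_sub hχ m₁) hφ a ha α hα
  have hconst : ∀ N : Subgroup G, IsCoatom N → IsOfTypeI N → ¬ FrobK N (Fc N) →
      ∀ y ∈ N, y ∉ Fc N → ∀ z ∈ Fc N, ψ (y * z) = ψ y := by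
    intro N hN N1 nN y hy hy' z hz
    obtain ⟨R₂, s₂⟩ := irr_subcoh hN N1
    exact ortho_constant hN N1 s₂ hψ (hortho N hN N1 nN R₂ s₂) hy hy' hz
  have h2 := one_lt_card_seqIndD hH (mFT_odd L) le_rfl hχ
  -- (12.14)
  have hxg : ψ (x * g) = χ x := by
    rw [hconst M hM M1 nF x hxM hxK g hg, ← invDade_of_const (A := shp (Fc L)) (R := supportR L)
      ⟨hx, hx1⟩ fun u hu => hconst M hM M1 nF x hxM hxK u (by rw [hR] at hu; exact hu.1)]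
    refine invDade_eq_of_large (FT_DadeF_hyp hL) hν h2 hS hχ hχ1 ?_ ⟨hx, hx1⟩
    nlinarith
  -- (12.15)
  have hρM : ∀ y ∈ shp (Fc M), invDade (shp (Fc M)) (supportR M) ψ y = ψ y := by
    intro y hy
    refine invDade_of_const hy fun u hu => ?_
    by_cases hC : C{y} ≤ M
    · rw [supportR_of_le hC, Subgroup.mem_bot] at hu
      rw [hu, mul_one]
    · obtain ⟨-, N, hN, hRN, -, -, -, hA, hA1, hty, h2'⟩ :=
        FTsupport_facts hM (Fc_sub_typeA0 hM hy) hC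
      have N1 : IsOfTypeI N := hty.resolve_right fun h => nF (h2' h)
      have hyN : y ∉ Fc N := fun h => hA1 (Fc_sub_typeA1 hN.coatom ⟨h, hy.2⟩)
      refine hconst N hN.coatom N1 (fun h => ?_) y (hN.le (self_mem_C1 y)) hyN u
        (by rw [hRN] at hu; exact hu.1)
      rw [supp_Frobenius hN.coatom h] at hA
      exact hyN hA.1
  have hcK : ∀ y ∈ Fc M, y ∉ ⁅Fc M, Fc M⁆ → ψ y = ψ g := by
    intro y hy hy'
    obtain ⟨R₂, s₂⟩ := irr_subcoh hM M1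
    have ne1 : ∀ z, z ∉ ⁅Fc M, Fc M⁆ → z ≠ 1 := fun z hz e => hz (e ▸ one_mem _)
    rw [← hρM y ⟨hy, ne1 y hy'⟩, ← hρM g ⟨hg, ne1 g hg'⟩]
    exact invDade_ortho_constant hM M1 s₂ hψ (hortho M hM M1 nF R₂ s₂) hy hy' hg hg'
  obtain ⟨n, hn⟩ : ∃ n : ℤ, ψ g = n := by
    refine vchar_int_of_pow hψd.vchar fun k hk => hcK _ (pow_mem hg k) fun h => hg' ?_
    have : g ∈ Subgroup.zpowers (g ^ k) := by
      rw [zpowers_pow_eq_of_coprime hk]; exact Subgroup.mem_zpowers g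
    exact (Subgroup.zpowers_le.2 h) this
  -- (12.16)
  have hε := Complex.isPrimitiveRoot_exp p hp.ne_zero
  obtain ⟨w₁, i₁, e₁⟩ := vchar_ker_mod_prim hp hε hψd.vchar (Subgroup.mem_top x) ox
    (mem_C1.1 hgx).symm
  obtain ⟨w₂, i₂, e₂⟩ := vchar_ker_mod_prim hp hε (irr_vchar (hS hχ)) (hH.le hx) ox
    (y := 1) (by rw [mul_one, one_mul])
  rw [mul_one, hχ1] at e₂
  rw [hxg, hn] at e₁
  have hdvd : (p : ℤ) ∣ n - (Fc L).relIndex L := by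
    refine int_dvd_of_prim hp hε (i₂.sub i₁) ?_
    push_cast
    linear_combination e₂ - e₁
  set e := (Fc L).relIndex L with hedef
  have hn2 : ((e : ℝ) - 1) ^ 2 ≤ (n : ℝ) ^ 2 := by
    have : ((e : ℤ) - 1) ^ 2 ≤ n ^ 2 := by
      obtain ⟨t, ht⟩ := hdvd
      have he' : 2 * (e : ℤ) ≤ p + 1 := by exact_mod_cast he
      have e3' : (3 : ℤ) ≤ e := by exact_mod_cast e3
      have hp0 : (0 : ℤ) ≤ p := by positivity
      rcases le_or_gt 0 t with h | h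
      · have : (e : ℤ) ≤ n := by nlinarith
        nlinarith
      · have : n ≤ 1 - (e : ℤ) := by nlinarith
        nlinarith
    exact_mod_cast this
  -- the norm inequality
  obtain ⟨-, ⟨Gam, -, -, -, hb⟩, -⟩ :=
    Dade_Ind1_sub_lin (FT_DadeF_hyp hL) hν h2 (hS hχ) hχ hχ1 _ rfl
  have b1 := (hb (odd_Frobenius_index_ler (mFT_odd L) hF)).1
  have b2 := (leC_cfnorm_invDade_support (FT_DadeF_hyp hL) hψ).1
  have b3 := (leC_cfnorm_invDade_support (FT_DadeF_hyp hM) hψ).1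
  have hdisj := FT_Dade1_support_disjoint hL hM (not_conj_of_Frob hF nF)
  rw [tildeOf_eq, tildeOf_eq, typeA1_eq, typeA1_eq, typeCore_of_I L1, typeCore_of_I M1] at hdisj
  have b4 := sum_add_sum_le_norm hdisj ψ
  rw [hψd.norm] at b4
  set k := (⁅Fc M, Fc M⁆ : Subgroup G).relIndex (Fc M) with hk
  have k7 : 7 ≤ k := seven_le_index hM M1
  have hK : Nat.card ↥⁅Fc M, Fc M⁆ * k = Nat.card (Fc M) := card_mul_relIndex (der1_le _)
  have b5 : (Nat.card M : ℝ)⁻¹ * (Nat.card ↥⁅Fc M, Fc M⁆ * ((k : ℝ) - 1) * (n : ℝ) ^ 2) ≤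
      cfnorm M (invDade (shp (Fc M)) (supportR M) ψ) := by
    rw [cfnormE_invDade (FT_DadeF_hyp hM)]
    refine mul_le_mul_of_nonneg_left ?_ (by positivity)
    have hsub : ((Fc M : Set G) \ (⁅Fc M, Fc M⁆ : Subgroup G)) ⊆ shp (Fc M) :=
      fun y hy => ⟨hy.1, fun e => hy.2 (by rw [Set.mem_singleton_iff.1 e]; exact one_mem _)⟩
    refine le_trans (le_of_eq ?_) (Finset.sum_le_sum_of_subset_of_nonneg (fs_mono hsub)
      fun _ _ _ => by positivity)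
    rw [sum_fs_congr (g := fun _ => (n : ℝ) ^ 2) fun y hy => by
      rw [hρM y (hsub hy), hcK y hy.1 hy.2, hn, Complex.norm_intCast, sq_abs]]
    have h3 := sum_fs_diff (M := ℝ) (show ((⁅Fc M, Fc M⁆ : Subgroup G) : Set G) ⊆ Fc M from
      der1_le (Fc M)) (fun _ => (n : ℝ) ^ 2)
    rw [sum_fs_const (Fc M : Set G), sum_fs_const ((⁅Fc M, Fc M⁆ : Subgroup G) : Set G)] at h3
    have hK' : (Nat.card ↥⁅Fc M, Fc M⁆ : ℝ) * k = Nat.card (Fc M) := by exact_mod_cast hK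
    simp only [nsmul_eq_mul, SetLike.coe_sort_coe] at h3
    linear_combination (n : ℝ) ^ 2 * hK' + h3
  have b6 : (Nat.card M : ℝ)⁻¹ * (Nat.card ↥⁅Fc M, Fc M⁆ * ((k : ℝ) - 1) * (n : ℝ) ^ 2) ≤
      (e : ℝ) / Nat.card (Fc L) := by linarith
  have pM := cardR_pos M
  have pH := cardR_pos (Fc L)
  have pK := cardR_pos ⁅Fc M, Fc M⁆
  have hc' : (Nat.card M : ℝ) ≤ Nat.card ↥⁅Fc M, Fc M⁆ * k * Nat.card (Fc L) := by
    rw [← hK] at hc; exact_mod_cast hc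
  rw [inv_mul_le_iff₀ pM, mul_div_assoc', le_div_iff₀ pH] at b6
  have k7' : (7 : ℝ) ≤ k := by exact_mod_cast k7
  have e3' : (3 : ℝ) ≤ e := by exact_mod_cast e3
  have b7 : ((k : ℝ) - 1) * (n : ℝ) ^ 2 ≤ k * e := by
    have h4 : (Nat.card M : ℝ) * e ≤ Nat.card ↥⁅Fc M, Fc M⁆ * k * Nat.card (Fc L) * e :=
      mul_le_mul_of_nonneg_right hc' (by positivity)
    have h5 : (Nat.card ↥⁅Fc M, Fc M⁆ * Nat.card (Fc L) : ℝ) * (((k : ℝ) - 1) * (n : ℝ) ^ 2) ≤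
        (Nat.card ↥⁅Fc M, Fc M⁆ * Nat.card (Fc L) : ℝ) * (k * e) := by linarith
    exact le_of_mul_le_mul_left h5 (by positivity)
  have b8 : ((k : ℝ) - 1) * ((e : ℝ) - 1) ^ 2 ≤ k * e :=
    le_trans (mul_le_mul_of_nonneg_left hn2 (by linarith)) b7
  have b9 : 4 * (e : ℝ) ≤ 3 * ((e : ℝ) - 1) ^ 2 := by nlinarith
  nlinarith

end H27.PF12
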