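import Mathlib
import Cfsg.Agent.H27.PF11
import Cfsg.Agent.H27.PF12c

/-!
# Peterfalvi (12.8)–(12.12) and Theorem (12.7)
-/

set_option autoImplicit false
set_option linter.unusedSectionVars false
set_option linter.unusedVariables false

namespace H27.PF12

open Cfsg H24 H25 H27
open scoped ComplexConjugate

universe u v

variable {G : Type u} [Group G] [Finite G]

theorem dvd_exponent_of_prime {U : Subgroup G} {q : ℕ} (hq : q.Prime) (hd : q ∣ Nat.card U) :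
    q ∣ Monoid.exponent U := by
  obtain ⟨y, hy, ho⟩ := exists_orderOf_eq hq hd
  rw [← ho, ← Subgroup.orderOf_mk y hy]
  exact Monoid.order_dvd_exponent _

theorem TypeFCompl_dvd {M U U₀ : Subgroup G} (h : TypeFCompl M U U₀) {q : ℕ} (hq : q.Prime)
    (hd : q ∣ Nat.card U) : q ∣ Nat.card U₀ :=
  (h.exp ▸ dvd_exponent_of_prime hq hd : q ∣ Monoid.exponent U₀).trans Group.exponent_dvd_nat_card

/-- the primes of Hypothesis (12.8). -/
def Bad (G : Type u) [Group G] (p : ℕ) : Prop :=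
  p.Prime ∧ ∃ M U P : Subgroup G, IsCoatom M ∧ IsOfTypeI M ∧ SD (Fc M) U M ∧ Syl p U P ∧ ¬ Cyc P

variable [FT G] {L M P : Subgroup G} {p : ℕ} {x : G}

theorem frob_of_not_bad (hL : IsCoatom L) (h1 : IsOfTypeI L)
    (h : ∀ U, TypeI L U → ∀ q, q.Prime → q ∣ Nat.card U → ¬ Bad G q) : FrobK L (Fc L) := by
  obtain ⟨U, hU⟩ := typeI_witness hL h1
  refine ⟨U, (hU.tF.frob_iff (mFT_odd L)).2 fun q Q hq hQ => ?_⟩
  by_contra hn
  have hne : Q ≠ ⊥ := by rintro rfl; exact hn H24.cyc_bot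
  exact h U hU q hq ((hQ.pi.dvd_card hne).trans (card_dvd hQ.le)) ⟨hq, L, U, Q, hL, h1, hU.tF.sd, hQ, hn⟩

/-- (12.10), first part: `L` is of type I. -/
theorem typeI_of_cent (hp : p.Prime) (hL : IsCoatom L) (hP : IsPi {p} P) (hnc : ¬ Cyc P)
    (hPL : P ≤ typeCore L) (hx : x ∈ P) (hx1 : x ≠ 1) (hC : ¬ C{x} ≤ L) : IsOfTypeI L := by
  by_contra h1
  have h2 : ¬ IsOfTypeII L := fun h2 =>
    hC ((FTtypeII_ker_TI hL h2).2.2.cent1_le ⟨hPL hx, hx1⟩)
  obtain ⟨V, W, W₁, W₂, h⟩ := FTtypeP_witness hL h1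
  have h5 := FTtype5_exclusion hL
  obtain ⟨-, -, h3, hgal⟩ := h.type34_structure hL h2
  obtain ⟨h24, hV, -⟩ := h.of_III hL h3
  have hC0 : pC L V = ⊥ := by
    rw [h.type34_pC hL h2, (h.type34_facts hL h2).2.2.2, der1_eq_bot.2 hV]
  have hcyc : Cyc V := by
    have := (h.Galois_P hL h5 hgal).2.1
    rw [hC0] at this
    exact cyc_of_quo (by rw [N_bot]; exact le_top) (bot_inf_eq _) this
  rw [h.core_of_not_II hL h2] at hPL
  have hPH : P ≤ Fc L := by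
    by_cases hd : p ∣ Nat.card (Fc L)
    · exact (Fc_isHall L).hall.le_of_nml (Fc_nml L).norm (hP.of_mem ⟨hp, hd⟩) (hPL.trans (der1_le L))
    · exfalso
      refine hnc (cyc_of_quo (K := Fc L) (hPL.trans ((der1_le L).trans (Fc_nml L).norm))
        (IsPi.inf_eq_bot' ((isPi_compl_iff hp).2 hd) hP) ?_)
      refine Cyc.of_le (hcyc.quo (Fc L)) ?_
      rw [← h.sdHU.quo_eq]
      exact quo_mono _ hPL
  exact hC (h24.ti.cent1_le ⟨Fc_le_Fit L (hPH hx), hx1⟩)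

/-- (12.10), second part. -/
theorem frob_of_min (hp : p.Prime) (hmin : ∀ q < p, ¬ Bad G q) (hL : IsCoatom L) (h1 : IsOfTypeI L)
    {T : Subgroup G} (hT : PnElem p 2 (Fc L) T) (hx : x ∈ Fc L) (hx1 : x ≠ 1) (hC : ¬ C{x} ≤ L) :
    FrobK L (Fc L) := by
  refine frob_of_not_bad hL h1 fun U hU q hq hd => hmin q ?_
  have hp1 : p - 1 ≠ 0 := by have := hp.two_le; omega
  have hlt : q ∣ p - 1 → q < p := fun h => by
    have := Nat.le_of_dvd (Nat.pos_of_ne_zero hp1) h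
    have := hp.two_le
    omega
  have hpH : p ∣ Nat.card (Fc L) := hT.prime_dvd_card two_pos
  rcases hU.cases with hti | ⟨hab, hr⟩ | ⟨hexp, -⟩
  · exact absurd (hti.cent1_le ⟨hx, hx1⟩) hC
  · obtain ⟨U₀, hU₀⟩ := hU.tF.compl
    have hT' := omegaOne_pnElem hp hab
    have hr2 : prank p (Fc L) = 2 :=
      le_antisymm (rank_le_iff_prank.1 hr.le p hp) (hT.le_prank hp)
    rw [hr2] at hT'
    have hd2 := (hU₀.frob.reg.mono hT'.le le_rfl).dvd_pred (norm_omegaOne p hU₀.frob.norm)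
    rw [hT'.card, show p ^ 2 - 1 = (p + 1) * (p - 1) by simpa using Nat.sq_sub_sq p 1] at hd2
    rcases (Nat.Prime.dvd_mul hq).1 ((TypeFCompl_dvd hU₀ hq hd).trans hd2) with h | h
    · have h3 := two_mul_le_of_dvd (mFT_odd_prime hd) ((mFT_odd_prime hpH).add_odd odd_one)
        (by omega) h
      have := mFT_three_le hp hpH
      omega
    · exact hlt h
  · exact hlt ((dvd_exponent_of_prime hq hd).trans (hexp p ⟨hp, hpH⟩))

/-- (12.11). -/
theorem inf_le_Fc (hp : p.Prime) (hM : IsCoatom M) (M1 : IsOfTypeI M) (hF : FrobK L (Fc L))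
    (hsd : SD (Fc M) (L ⊓ M) M) (hP : Syl p M P) (hPH : P ≤ Fc L) (hx : x ∈ P) (hx1 : x ≠ 1)
    (hKx : Fc M ⊓ C{x} ≠ ⊥) : L ⊓ M ≤ Fc L := by
  obtain ⟨U, hU⟩ := typeI_witness hM M1
  have tF := compl_of_typeF hsd hU.tF
  obtain ⟨U₀, hU₀⟩ := tF.compl
  obtain ⟨U₁, hU₁⟩ := tF.inert
  obtain ⟨E, hE⟩ := hF
  have hH := Fc_nml L
  have hP1 : P ≠ ⊥ := ne_bot_of_mem hx hx1
  have hpP : p ∣ Nat.card P := hP.pi.dvd_card hP1
  have hPU : P ≤ L ⊓ M := le_inf (hPH.trans hH.le) hP.le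
  have hPeq : O[{p}, Fc L] ⊓ M = P :=
    hP.eq_of_le ((pcore_pi _ _).inf_left _) (le_inf ((Fc_nil L).le_pcore hP.pi hPH) hP.le)
      inf_le_right
  have hnP : L ⊓ M ≤ N[P] := by
    rw [← hPeq]
    exact norm_inf (inf_le_left.trans (hH.pcore _).norm) (norm_of_le inf_le_right)
  have hcop : (Nat.card (Fc M)).Coprime (Nat.card ↥(L ⊓ M)) :=
    hsd.coprime_of_isHall_left (Fc_isHall M)
  have hPK : ¬ P ≤ C[Fc M] := by
    intro h
    obtain ⟨y, hy, oy⟩ := exists_orderOf_eq hp (TypeFCompl_dvd hU₀ hp (hpP.trans (card_dvd hPU)))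
    have hy' := hU₀.le hy
    have pe := piElt_of_orderOf_prime hp oy
    have hyH : y ∈ Fc L := (Fc_isHall L).hall.mem_of_nml hH.norm
      (pe.of_mem ⟨hp, hpP.trans (card_dvd hPH)⟩) hy'.1
    have hyP : y ∈ P := by
      rw [← hPeq]; exact ⟨(Fc_nil L).mem_pcore pe hyH, hy'.2⟩
    have := hU₀.frob.reg y hy (ne_one_of_orderOf_prime (oy ▸ hp))
    rw [inf_eq_left.2 (mem_C_iff_le_C1.1 (h hyP))] at this
    exact tF.ne this
  by_contra hn
  obtain ⟨q, hq, hd⟩ := Nat.exists_prime_and_dvd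
    (show (Fc L).relIndex (L ⊓ M) ≠ 1 from fun h => hn (Subgroup.relIndex_eq_one.1 h))
  have hqH : ¬ q ∣ Nat.card (Fc L) := fun h => hq.one_lt.ne'
    (Nat.eq_one_of_dvd_coprimes (Fc_isHall L).coprime h
      (hd.trans (relIndex_dvd_of_nml hH inf_le_left)))
  obtain ⟨a, ha, oa⟩ := exists_orderOf_eq hq (hd.trans (Subgroup.relIndex_dvd_card _ _))
  have haH : a ∉ Fc L := fun h => hqH (oa ▸ orderOf_dvd_card' h)
  have hreg := hE.inf_C1_of_not_mem ha.1 haH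
  have hA : (Nat.card (Subgroup.zpowers a)).Prime := by rw [card_zpowers', oa]; exact hq
  have hAU : Subgroup.zpowers a ≤ L ⊓ M := Subgroup.zpowers_le.2 ha
  have hFr := Frob.mk' (hAU.trans hnP) hP1 (ne_bot_of_prime hA) (semireg_of_prime hA (by
    rw [C_zpowers]; exact eq_bot_of_le hreg (inf_le_inf_right _ hPH)))
  have hKa : Fc M ⊓ C{a} ≠ ⊥ := by
    intro h
    refine hPK (H1.Frobenius_cent_compl_sol hFr (Fc_nil M).sol ((sup_le hPU hAU).trans hsd.norm)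
      (hcop.coprime_dvd_right (card_dvd (sup_le hPU hAU))) (by rw [C_zpowers]; exact h))
  have hU1 : ∀ b ∈ L ⊓ M, Fc M ⊓ C{b} ≠ ⊥ → b ∈ U₁ := by
    intro b hb h
    obtain ⟨z, hz, hz1⟩ := exists_ne_one h
    exact hU₁.cent z hz.1 hz1 ⟨hb, mem_C1_comm.1 hz.2⟩
  have : x ∈ Fc L ⊓ C{a} := ⟨hPH hx, mem_C1.2 (hU₁.abl.comm (hU1 x (hPU hx) hKx) (hU1 a ha hKa))⟩
  rw [hreg] at this
  exact hx1 this

/-- (12.12). -/
theorem two_mul_index_le (hp : p.Prime) (hF : FrobK L (Fc L)) (hP : Syl p M P) (hPH : P ≤ Fc L)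
    (hT : PnElem p 2 P (omegaOne p P)) (hx : x ∈ omegaOne p P) (hN : N[Subgroup.zpowers x] ≤ M)
    (hLM : L ⊓ M ≤ Fc L) : 2 * (Fc L).relIndex L ≤ p + 1 := by
  obtain ⟨E, hE⟩ := hF
  have hH := Fc_nml L
  have hpP : p ∣ Nat.card P := hT.prime_dvd_card two_pos
  have hPO : P ≤ O[{p}, Fc L] := (Fc_nil L).le_pcore hP.pi hPH
  have hPeq : O[{p}, Fc L] ⊓ M = P :=
    hP.eq_of_le ((pcore_pi _ _).inf_left _) (le_inf hPO hP.le) inf_le_right
  have hO1 : O[{p}, Fc L] ≠ ⊥ := ne_bot_of_le (ne_bot_of_prime_dvd hp hpP) hPO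
  have hZ : IsPi {p} Z[O[{p}, Fc L]] := (pcore_pi _ _).inf_left _
  set T := omegaOne p Z[O[{p}, Fc L]] with hTdef
  have hT1 : T ≠ ⊥ := omegaOne_ne_bot_of_pgroup hZ (((pcore_pi _ _).nil hp).center_ne_bot hO1)
  have hTn : T ⊴ L := (hH.pcore _).center.omegaOne p
  have hTe : IsElementaryAbelian p T := omegaOne_elem (abl_center _)
  have hTZ : T ≤ Z[O[{p}, Fc L]] := omegaOne_le _ _
  have hTP : T ≤ P := by
    rw [← hPeq]
    refine le_inf (hTZ.trans inf_le_left) (hTZ.trans (inf_le_right.trans ?_))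
    refine (C_le_C1 (hPO (hT.le hx))).trans (le_trans ?_ hN)
    rw [← C_zpowers]; exact C_le_N _
  have hTT : T ≤ omegaOne p P := hTe.le_omegaOne hTP
  have hreg : Semireg T E := hE.reg.mono (hTP.trans hPH) le_rfl
  have hET : E ≤ N[T] := hE.compl_le.trans hTn.norm
  have hp2 : Odd p := mFT_odd_prime hpP
  rw [hE.sd.relIndex_left]
  by_cases e : T = omegaOne p P
  · rw [e] at hreg hET
    refine two_mul_card_le hp hp2 hT (mFT_odd E) hET hreg hx ?_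
    refine eq_bot_of_le hE.sd.inf (le_inf (le_trans ?_ hLM) inf_le_left)
    exact inf_le_inf hE.compl_le hN
  · have h1 := hT.one_of_lt hp hTT e hT1
    have := hreg.dvd_pred hET
    rw [h1.card_one] at this
    have := two_mul_le_of_dvd (mFT_odd E) (Nat.Odd.sub_odd hp2 odd_one)
      (by have := hp.two_le; omega) this
    omega

theorem not_bad (p : ℕ) : ¬ Bad G p := by
  induction p using Nat.strong_induction_on with
  | _ p hmin =>
  rintro ⟨hp, M, U, P, hM, M1, hsd, hP, hnc⟩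
  have hP1 : P ≠ ⊥ := by rintro rfl; exact hnc H24.cyc_bot
  have hpP : p ∣ Nat.card P := hP.pi.dvd_card hP1
  have hcop := hsd.coprime_of_isHall_left (Fc_isHall M)
  have hpK : ¬ p ∣ Nat.card (Fc M) := fun h =>
    hp.one_lt.ne' (Nat.eq_one_of_dvd_coprimes hcop h (hpP.trans (card_dvd hP.le)))
  have hPM : Syl p M P := hP.of_idx hsd.right_le (by
    rw [hsd.relIndex_right]; exact (piNat_compl_singleton hp).2 hpK)
  have nF : ¬ FrobK M (Fc M) := by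
    rintro ⟨E, hE⟩
    refine hnc (H1.odd_regular_pgroup_cyclic hp hP.pi (mFT_odd P) hE.ker_ne
      (hPM.le.trans hE.nml.norm) fun y hy hy1 => hE.inf_C1_of_not_mem (hPM.le hy) fun hyK => hy1 ?_)
    have : y ∈ Fc M ⊓ U := ⟨hyK, hP.le hy⟩
    rwa [hsd.inf] at this
  obtain ⟨f1, f2, -⟩ := FTtypeI_II_facts hM (Or.inl ⟨M1, hsd⟩)
  obtain ⟨hab, hr⟩ := f1 p P hp hP
  have hT := omegaOne_pnElem hp hab
  rw [show prank p P = 2 from le_antisymm (rank_le_iff_prank.1 hr p hp)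
    (odd_pgroup_two_le_prank hp hP.pi (mFT_odd P) hnc)] at hT
  -- the maximal subgroup `L`
  obtain ⟨L, hL, hPL⟩ : ∃ L : Subgroup G, IsCoatom L ∧ P ≤ typeCore L := by
    obtain ⟨L₀, hL₀, hd⟩ := FTcore_cover hp (hpP.trans (Subgroup.card_subgroup_dvd_card P))
    obtain ⟨S, hS⟩ := Sylow_exists hp (typeCore L₀)
    obtain ⟨g, -, hg⟩ := Sylow_subJ hp ((FTcore_facts hL₀).2.1.syl hS hp hd) hP.pi le_top
    exact ⟨cj g L₀, isCoatom_cj hL₀ g, by rw [typeCore_cj]; exact hg.trans (cj_mono g hS.le)⟩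
  -- the element `x`
  obtain ⟨x, hx, hx1, hKx⟩ : ∃ x ∈ omegaOne p P, x ≠ 1 ∧ ¬ Fc M ⊓ C{x} ≤ ⁅Fc M, Fc M⁆ := by
    by_contra h
    push Not at h
    exact ((Fc_nil M).sol.der1_lt (mmax_Fcore_neq1 hM)).not_ge
      (H26.coprime_abelian_gen_cent1 hT.abl (hT.not_cyc hp le_rfl)
        (hT.le.trans (hP.le.trans hsd.norm))
        (hcop.coprime_dvd_right (card_dvd (hT.le.trans hP.le))) h)
  have hxP : x ∈ P := hT.le hx
  have hKx' : Fc M ⊓ C{x} ≠ ⊥ := fun h => hKx (by rw [h]; exact bot_le)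
  have hU : UniqMax C{x} M := f2 {x} (Set.singleton_nonempty x)
    (Set.singleton_subset_iff.2 ⟨hP.le hxP, hx1⟩) hKx'
  have hxK : x ∉ Fc M := fun h => hx1 (by
    have : x ∈ Fc M ⊓ U := ⟨h, hP.le hxP⟩
    rwa [hsd.inf] at this)
  have hC : ¬ C{x} ≤ L := fun h => hxK (by
    have := hPL hxP
    rwa [hU.uniq L hL h, typeCore_of_I M1] at this)
  have hN : N[Subgroup.zpowers x] ≤ M := by
    refine hU.le_of_ne_top (by rw [← C_zpowers]; exact C_le_N _) (mFT_norm_proper ?_ ?_)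
    · exact ne_bot_of_mem (Subgroup.mem_zpowers x) hx1
    · exact mFT_abl_proper (abl_zpowers x)
  have L1 := typeI_of_cent hp hL hP.pi hnc hPL hxP hx1 hC
  rw [typeCore_of_I L1] at hPL
  have hF := frob_of_min hp hmin hL L1 (hT.mono hPL) (hPL hxP) hx1 hC
  obtain ⟨-, N, hNu, hR, hsd', -⟩ := FTsupport_facts hL (Fc_sub_typeA0 hL ⟨hPL hxP, hx1⟩) hC
  obtain rfl := hNu.eq hU
  have hLM := inf_le_Fc hp hM M1 hF hsd' hPM hPL hxP hx1 hKx'
  obtain ⟨g, hg, hg'⟩ := SetLike.not_le_iff_exists.1 hKx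
  refine final_contra hp hM M1 nF hL hF (hPL hxP) (hT.elem.orderOf_eq hp hx hx1) (hPM.le hxP) hxK
    hg.1 hg.2 hg' hR (two_mul_index_le hp hF hPM hPL hT hx hN hLM) ?_ ?_
  · rw [← hT.card]; exact card_le (hT.le.trans hPL)
  · rw [hsd'.card]; exact Nat.mul_le_mul_left _ (card_le hLM)

/-- Theorem (12.7). -/
theorem type1_Frobenius (hL : IsCoatom L) (h1 : IsOfTypeI L) : FrobK L (Fc L) :=
  frob_of_not_bad hL h1 fun _ _ q _ _ => not_bad q

end H27.PF12
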