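import Mathlib
import Cfsg.Agent.H27.PF11
import Cfsg.Agent.H27.PF12d

/-!
# Peterfalvi §12 (maximal subgroups of type I).  Statements S1540, S1541, S1542.
`H = Fc L`, `calS = seqIndD H L H ⊥`, `calI = irrKD L H ⊥`, `tau = tauA L`.
-/

set_option autoImplicit false
set_option linter.unusedSectionVars false
set_option linter.unusedVariables false

namespace H27

open Cfsg H24 H25
open scoped ComplexConjugate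

universe u v

variable {G : Type u} [Group G] [Finite G] [FT G] {L : Subgroup G}

theorem FTtype1_ref_irr (hL : IsCoatom L) :
    ∃ φ ∈ seqIndD (Fc L) L (Fc L) ⊥, φ 1 = (Fc L).relIndex L :=
  PF12.ref_irr hL
theorem FTtype1_Irr_isometry (hL : IsCoatom L) (h1 : IsOfTypeI L) :
    ZIsom L ⊤ (zsp0 (irrKD L (Fc L) ⊥)) (tauA L) :=
  PF12.Irr_isometry hL h1
/-- (12.2)(a). -/
theorem FTtype1_seqInd_facts (hL : IsCoatom L) (h1 : IsOfTypeI L) {χ : G → ℂ}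
    (hχ : χ ∈ seqIndD (Fc L) L (Fc L) ⊥) :
    ∃ X ⊆ irrKD L (Fc L) ⊥, χ = ∑ φ ∈ X, φ ∧ (∀ φ ∈ X, ∀ ψ ∈ X, φ 1 = ψ 1) :=
  PF12.seqInd_facts hL h1 hχ
theorem FTtype1_irr_on (hL : IsCoatom L) (h1 : IsOfTypeI L) {φ : G → ℂ}
    (hφ : φ ∈ irrKD L (Fc L) ⊥) : φ ∈ cfOn (insert 1 (typeA L)) :=
  PF12.irr_on hL h1 hφ
theorem FTtype1_irr_subcoherent (hL : IsCoatom L) (h1 : IsOfTypeI L) :
    ∃ R₁, Subcoh L ⊤ (irrKD L (Fc L) ⊥) (tauA L) R₁ :=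
  PF12.irr_subcoh hL h1
/-- (12.3), for the irreducible constituents. -/
theorem FTtype1_seqInd_ortho {L₁ L₂ : Subgroup G} (hL₁ : IsCoatom L₁) (hL₂ : IsCoatom L₂)
    (h₁ : IsOfTypeI L₁) (h₂ : IsOfTypeI L₂) (hn : ∀ g, L₂ ≠ cj g L₁)
    {R₁ R₂ : (G → ℂ) → Finset (G → ℂ)} (s₁ : Subcoh L₁ ⊤ (irrKD L₁ (Fc L₁) ⊥) (tauA L₁) R₁)
    (s₂ : Subcoh L₂ ⊤ (irrKD L₂ (Fc L₂) ⊥) (tauA L₂) R₂) {φ₁ φ₂ : G → ℂ}
    (m₁ : φ₁ ∈ irrKD L₁ (Fc L₁) ⊥) (m₂ : φ₂ ∈ irrKD L₂ (Fc L₂) ⊥) : Orth ⊤ (R₁ φ₁) (R₂ φ₂) :=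
  PF12.seqInd_ortho hL₁ hL₂ h₁ h₂ hn s₁ s₂ m₁ m₂
/-- (12.4). -/
theorem FTtype1_ortho_constant (hL : IsCoatom L) (h1 : IsOfTypeI L)
    {R₁ : (G → ℂ) → Finset (G → ℂ)} (s : Subcoh L ⊤ (irrKD L (Fc L) ⊥) (tauA L) R₁) {ψ : G → ℂ}
    (hψ : ψ ∈ CF (⊤ : Subgroup G)) (ho : ∀ φ ∈ irrKD L (Fc L) ⊥, ∀ α ∈ R₁ φ, cfdot ⊤ ψ α = 0)
    {x y : G} (hx : x ∈ L) (hxH : x ∉ Fc L) (hy : y ∈ Fc L) : ψ (x * y) = ψ x :=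
  PF12.ortho_constant hL h1 s hψ ho hx hxH hy
/-- (12.5). -/
theorem FtypeI_invDade_ortho_constant (hL : IsCoatom L) (h1 : IsOfTypeI L)
    {R₁ : (G → ℂ) → Finset (G → ℂ)} (s : Subcoh L ⊤ (irrKD L (Fc L) ⊥) (tauA L) R₁) {ψ : G → ℂ}
    (hψ : ψ ∈ CF (⊤ : Subgroup G)) (ho : ∀ φ ∈ irrKD L (Fc L) ⊥, ∀ α ∈ R₁ φ, cfdot ⊤ ψ α = 0)
    {x y : G} (hx : x ∈ Fc L) (hx' : x ∉ ⁅Fc L, Fc L⁆) (hy : y ∈ Fc L) (hy' : y ∉ ⁅Fc L, Fc L⁆) :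
    invDade (shp (Fc L)) (supportR L) ψ x = invDade (shp (Fc L)) (supportR L) ψ y :=
  PF12.invDade_ortho_constant hL h1 s hψ ho hx hx' hy hy'
theorem FT_Frobenius_type1 (hL : IsCoatom L) (hF : FrobK L (Fc L)) : IsOfTypeI L :=
  PF12.Frobenius_type1 hL hF
theorem FTsupp_Frobenius (hL : IsCoatom L) (hF : FrobK L (Fc L)) : typeA L = shp (Fc L) :=
  PF12.supp_Frobenius hL hF
/-- (12.6). -/
theorem FT_Frobenius_coherence (hL : IsCoatom L) (hF : FrobK L (Fc L)) :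
    seqIndD (Fc L) L (Fc L) ⊥ ⊆ Irr L ∧ Coherent L ⊤ (seqIndD (Fc L) L (Fc L) ⊥) (tauF L) :=
  PF12.Frobenius_coherence hL hF
/-- Theorem (12.7). -/
theorem FTtype1_Frobenius (hL : IsCoatom L) (h1 : IsOfTypeI L) : FrobK L (Fc L) :=
  PF12.type1_Frobenius hL h1
/-- Theorem (12.17). -/
theorem not_all_FTtype1 : ∃ M : Subgroup G, IsCoatom M ∧ ¬ IsOfTypeI M :=
  PF12.not_all_of_Frob fun _ hM h => PF12.type1_Frobenius hM h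

end H27
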