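import Mathlib

/-!
# Arithmetic of `(p ^ q - 1) / (p - 1)` (Peterfalvi (13.14))
-/

set_option autoImplicit false

namespace H27

theorem geom_sum_modEq {p m : ℕ} (h : p ≡ 1 [MOD m]) (q : ℕ) :
    ∑ i ∈ Finset.range q, p ^ i ≡ q [MOD m] := by
  induction q with
  | zero => rfl
  | succ n ih =>
    rw [Finset.sum_range_succ]
    exact ih.add (by simpa using h.pow n)

theorem primes_mod_cases {p q : ℕ} (hp : p.Prime) (hq : q.Prime) (hp2 : p ≠ 2) (hq2 : q ≠ 2) :
    Odd ((p ^ q - 1) / (p - 1)) ∧ (p % q = 1 → q ∣ (p ^ q - 1) / (p - 1)) ∧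
      (p % q ≠ 1 → Nat.Coprime ((p ^ q - 1) / (p - 1)) (p - 1) ∧
        ∀ x : ℕ, x ∣ (p ^ q - 1) / (p - 1) → x % q = 1) := by
  have hN := Nat.geomSum_eq hp.two_le q
  have hq1 : 1 % q = 1 := Nat.mod_eq_of_lt hq.one_lt
  rw [← hN]
  refine ⟨?_, fun h => ?_, fun h => ?_⟩
  · have := geom_sum_modEq (m := 2) (Nat.odd_iff.mp (hp.odd_of_ne_two hp2)) q
    rw [Nat.odd_iff, this, Nat.odd_iff.mp (hq.odd_of_ne_two hq2)]
  · have := geom_sum_modEq (m := q) (h.trans hq1.symm) q
    exact (Nat.modEq_zero_iff_dvd).mp (this.trans (Nat.modEq_zero_iff_dvd.mpr dvd_rfl))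
  · have h1 : ∀ r : ℕ, r.Prime → r ∣ ∑ i ∈ Finset.range q, p ^ i → ¬ p ≡ 1 [MOD r] := by
      intro r hr hd hm
      have := (geom_sum_modEq hm q).symm.trans (Nat.modEq_zero_iff_dvd.mpr hd)
      have e := (Nat.prime_dvd_prime_iff_eq hr hq).mp (Nat.modEq_zero_iff_dvd.mp this)
      subst e
      exact h (Eq.trans hm hq1)
    refine ⟨Nat.Coprime.symm (Nat.coprime_of_dvd fun r hr h2 h3 => h1 r hr h3
      ((Nat.modEq_iff_dvd' hp.one_le).mpr h2).symm), fun x => ?_⟩
    have hpos : ∑ i ∈ Finset.range q, p ^ i ≠ 0 :=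
      (Finset.sum_pos (fun i _ => pow_pos hp.pos i) ⟨0, Finset.mem_range.mpr hq.pos⟩).ne'
    induction x using induction_on_primes with
    | zero => exact fun h => absurd (zero_dvd_iff.mp h) hpos
    | one => exact fun _ => hq1
    | prime_mul r a hr ih =>
      intro hd
      have h2 := (dvd_mul_right r a).trans hd
      have : Fact r.Prime := ⟨hr⟩
      have : Fact q.Prime := ⟨hq⟩
      have h3 : (p : ZMod r) ^ q = 1 := by
        have h4 : ((∑ i ∈ Finset.range q, p ^ i : ℕ) : ZMod r) = 0 :=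
          (ZMod.natCast_eq_zero_iff _ _).mpr h2
        push_cast at h4
        rw [← sub_eq_zero, ← geom_sum_mul, h4, zero_mul]
      have h4 : (p : ZMod r) ≠ 1 := fun e => h1 r hr h2
        ((ZMod.natCast_eq_natCast_iff p 1 r).mp (by simpa using e))
      have h5 : orderOf (p : ZMod r) = q := orderOf_eq_prime h3 h4
      have h6 : (p : ZMod r) ≠ 0 := by
        rintro e; rw [e, zero_pow hq.ne_zero] at h3; exact zero_ne_one h3
      have h7 := ZMod.orderOf_dvd_card_sub_one h6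
      rw [h5] at h7
      have h8 : r % q = 1 := Eq.trans ((Nat.modEq_iff_dvd' hr.one_le).mpr h7).symm hq1
      rw [Nat.mul_mod, h8, ih ((dvd_mul_left a r).trans hd), one_mul, hq1]

end H27
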