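import Mathlib
import Cfsg.Agent.H9.M21

/-! The orthogonal space `O₆⁺(2) ⊗ F₄` with the action of `S₈`. -/

set_option autoImplicit false

namespace H27.G4

open H9 (F4)
open Equiv

/-- a primitive element. -/
def om : F4 := F4.mk 2

instance decAllF4 (p : F4 → Prop) [h : DecidablePred p] : Decidable (∀ a, p a) :=
  @Nat.decidableForallFin 4 p h
instance decExF4 (p : F4 → Prop) [h : DecidablePred p] : Decidable (∃ a, p a) :=
  @Nat.decidableExistsFin 4 p h

@[simp] theorem f4_aa : ∀ x : F4, x + x = 0 := by decide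
theorem f4_two : (2 : F4) = 0 := by decide
theorem f4_sq_add : ∀ x y : F4, (x + y) * (x + y) = x * x + y * y := by decide
theorem f4_four : ∀ x : F4, x * x * (x * x) = x := by decide
theorem f4_cases : ∀ x : F4, x = 0 ∨ x = 1 ∨ x = om ∨ x = om * om := by decide

/-- sum-zero vectors of length `8` modulo constants; the last coordinate is normalised to `0`. -/
@[ext] structure W where
  a : F4
  b : F4
  c : F4
  d : F4
  e : F4
  f : F4
  deriving DecidableEq

namespace W

instance instZero : Zero W := ⟨⟨0, 0, 0, 0, 0, 0⟩⟩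
instance instAdd : Add W :=
  ⟨fun x y => ⟨x.a + y.a, x.b + y.b, x.c + y.c, x.d + y.d, x.e + y.e, x.f + y.f⟩⟩
instance instNeg : Neg W := ⟨fun x => x⟩
instance instSMul : SMul F4 W :=
  ⟨fun t x => ⟨t * x.a, t * x.b, t * x.c, t * x.d, t * x.e, t * x.f⟩⟩

theorem all {p : W → Prop} : (∀ x, p x) ↔ ∀ a b c d e f, p ⟨a, b, c, d, e, f⟩ :=
  ⟨fun h _ _ _ _ _ _ => h _, fun h x => h x.a x.b x.c x.d x.e x.f⟩
theorem ex {p : W → Prop} : (∃ x, p x) ↔ ∃ a b c d e f, p ⟨a, b, c, d, e, f⟩ :=
  ⟨fun ⟨x, h⟩ => ⟨x.a, x.b, x.c, x.d, x.e, x.f, h⟩, fun ⟨_, _, _, _, _, _, h⟩ => ⟨_, h⟩⟩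
instance decAll (p : W → Prop) [DecidablePred p] : Decidable (∀ x, p x) :=
  decidable_of_iff _ all.symm
instance decEx (p : W → Prop) [DecidablePred p] : Decidable (∃ x, p x) :=
  decidable_of_iff _ ex.symm

@[simp] theorem add_a (x y : W) : (x + y).a = x.a + y.a := rfl
@[simp] theorem add_b (x y : W) : (x + y).b = x.b + y.b := rfl
@[simp] theorem add_c (x y : W) : (x + y).c = x.c + y.c := rfl
@[simp] theorem add_d (x y : W) : (x + y).d = x.d + y.d := rfl
@[simp] theorem add_e (x y : W) : (x + y).e = x.e + y.e := rfl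
@[simp] theorem add_f (x y : W) : (x + y).f = x.f + y.f := rfl
@[simp] theorem smul_a (t : F4) (y : W) : (t • y).a = t * y.a := rfl
@[simp] theorem smul_b (t : F4) (y : W) : (t • y).b = t * y.b := rfl
@[simp] theorem smul_c (t : F4) (y : W) : (t • y).c = t * y.c := rfl
@[simp] theorem smul_d (t : F4) (y : W) : (t • y).d = t * y.d := rfl
@[simp] theorem smul_e (t : F4) (y : W) : (t • y).e = t * y.e := rfl
@[simp] theorem smul_f (t : F4) (y : W) : (t • y).f = t * y.f := rfl
@[simp] theorem zero_a : (0 : W).a = 0 := rfl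
@[simp] theorem zero_b : (0 : W).b = 0 := rfl
@[simp] theorem zero_c : (0 : W).c = 0 := rfl
@[simp] theorem zero_d : (0 : W).d = 0 := rfl
@[simp] theorem zero_e : (0 : W).e = 0 := rfl
@[simp] theorem zero_f : (0 : W).f = 0 := rfl
theorem neg_def (x : W) : -x = x := rfl

instance instAddCommGroup : AddCommGroup W where
  add_assoc x y z := by ext <;> simp [add_assoc]
  zero_add x := by ext <;> simp
  add_zero x := by ext <;> simp
  add_comm x y := by ext <;> simp [add_comm]
  neg_add_cancel x := by ext <;> simp [neg_def]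
  nsmul := nsmulRec
  zsmul := zsmulRec

instance instModule : Module F4 W where
  one_smul x := by ext <;> simp
  mul_smul s t x := by ext <;> simp [mul_assoc]
  smul_zero t := by ext <;> simp
  smul_add t x y := by ext <;> simp [mul_add]
  add_smul s t x := by ext <;> simp [add_mul]
  zero_smul x := by ext <;> simp

/-- coordinates. -/
def equiv : W ≃ F4 × F4 × F4 × F4 × F4 × F4 :=
  ⟨fun x => (x.a, x.b, x.c, x.d, x.e, x.f), fun x => ⟨x.1, x.2.1, x.2.2.1, x.2.2.2.1, x.2.2.2.2.1,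
    x.2.2.2.2.2⟩, fun _ => rfl, fun _ => rfl⟩

instance instFintype : Fintype W := Fintype.ofEquiv _ equiv.symm

theorem card : Fintype.card W = 4096 := by
  rw [Fintype.card_congr equiv]; simp [F4.card]

@[simp] theorem aa (x : W) : x + x = 0 := by ext <;> simp

end W

/-- the eight coordinates. -/
def emb (x : W) (i : Fin 8) : F4 :=
  match i.1 with
  | 0 => x.a | 1 => x.b | 2 => x.c | 3 => x.d | 4 => x.e | 5 => x.f
  | 6 => x.a + x.b + x.c + x.d + x.e + x.f
  | _ => 0

/-- the class of a sum-zero vector. -/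
def prj (y : Fin 8 → F4) : W :=
  ⟨y 0 + y 7, y 1 + y 7, y 2 + y 7, y 3 + y 7, y 4 + y 7, y 5 + y 7⟩

/-- the action of `S₈`. -/
def act (σ : Perm (Fin 8)) (x : W) : W := prj fun i => emb x (σ.symm i)

/-- the bilinear form. -/
def bf (x y : W) : F4 :=
  x.a * y.a + x.b * y.b + x.c * y.c + x.d * y.d + x.e * y.e + x.f * y.f +
    (x.a + x.b + x.c + x.d + x.e + x.f) * (y.a + y.b + y.c + y.d + y.e + y.f)

/-- the quadratic form (second elementary symmetric function of the eight coordinates). -/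
def qf (x : W) : F4 :=
  x.a * (x.b + x.c + x.d + x.e + x.f) + x.b * (x.c + x.d + x.e + x.f) + x.c * (x.d + x.e + x.f) +
    x.d * (x.e + x.f) + x.e * x.f +
    (x.a + x.b + x.c + x.d + x.e + x.f) * (x.a + x.b + x.c + x.d + x.e + x.f)

/-- the Frobenius map. -/
def fr (x : W) : W := ⟨x.a * x.a, x.b * x.b, x.c * x.c, x.d * x.d, x.e * x.e, x.f * x.f⟩

/-- rational vectors. -/
def Rat (x : W) : Prop := fr x = x
instance decRat (x : W) : Decidable (Rat x) := inferInstanceAs (Decidable (fr x = x))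

/-- `e_i + ω e_j + ω² e_k`. -/
def vec (i j k : Fin 8) : W :=
  prj fun n => if n = i then 1 else if n = j then om else if n = k then om * om else 0

/-- `e_i + e_j`. -/
def ee (i j : Fin 8) : W := prj fun n => if n = i ∨ n = j then 1 else 0

/-- vectors of type `V`. -/
def VT (x : W) : Prop := ∃ i j k, i ≠ j ∧ i ≠ k ∧ j ≠ k ∧ x = vec i j k
instance decVT (x : W) : Decidable (VT x) :=
  inferInstanceAs (Decidable (∃ i j k, i ≠ j ∧ i ≠ k ∧ j ≠ k ∧ x = vec i j k))

/-- `e_0 + ω e_1 + ω² e_2`. -/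
def v0 : W := ⟨1, om, om * om, 0, 0, 0⟩
/-- `e_0 + e_1 + e_2 + e_3 = e_4 + e_5 + e_6 + e_7`. -/
def w0 : W := ⟨1, 1, 1, 1, 0, 0⟩

/-- even permutations. -/
abbrev A8 : Subgroup (Perm (Fin 8)) := alternatingGroup (Fin 8)

theorem v0_eq : v0 = vec 0 1 2 := by decide
theorem sum_emb (x : W) : ∑ i, emb x i = 0 := by
  simp only [Fin.sum_univ_eight, emb]
  simp only [Fin.isValue, Fin.coe_ofNat_eq_mod]
  rw [add_zero]; exact f4_aa _

theorem emb_prj {y : Fin 8 → F4} (h : ∑ i, y i = 0) (i : Fin 8) : emb (prj y) i = y i + y 7 := by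
  rw [Fin.sum_univ_eight] at h
  fin_cases i <;> simp only [emb, prj, Fin.zero_eta, Fin.mk_one, Fin.reduceFinMk, Fin.isValue]
  · linear_combination h + (3 * y 7 - y 6 - y 7) * f4_two
  · exact (f4_aa _).symm

theorem prj_emb (x : W) : prj (emb x) = x := by ext <;> simp [prj, emb]

theorem prj_add_const (y : Fin 8 → F4) (t : F4) : prj (fun i => y i + t) = prj y := by
  ext <;> simp only [prj] <;> linear_combination t * f4_two

theorem emb_act (σ : Perm (Fin 8)) (x : W) (i : Fin 8) :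
    emb (act σ x) i = emb x (σ.symm i) + emb x (σ.symm 7) :=
  emb_prj (by rw [Equiv.sum_comp σ.symm (emb x), sum_emb]) i

theorem act_prj (σ : Perm (Fin 8)) {y : Fin 8 → F4} (h : ∑ i, y i = 0) :
    act σ (prj y) = prj fun i => y (σ.symm i) := by
  rw [act]; simp only [emb_prj h]; exact prj_add_const _ _

@[simp] theorem act_one (x : W) : act 1 x = x := prj_emb x

theorem act_mul (σ τ : Perm (Fin 8)) (x : W) : act (σ * τ) x = act σ (act τ x) := by
  rw [act, act]; simp only [emb_act]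
  exact (prj_add_const (fun i => emb x (τ.symm (σ.symm i))) _).symm

theorem emb_add (x y : W) (i : Fin 8) : emb (x + y) i = emb x i + emb y i := by
  fin_cases i <;> simp [emb]; ring
theorem emb_smul (t : F4) (y : W) (i : Fin 8) : emb (t • y) i = t * emb y i := by
  fin_cases i <;> simp [emb]; ring
theorem emb_fr (y : W) (i : Fin 8) : emb (fr y) i = emb y i * emb y i := by
  fin_cases i <;> simp [emb, fr, f4_sq_add]

theorem act_add (σ : Perm (Fin 8)) (x y : W) : act σ (x + y) = act σ x + act σ y := by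
  ext <;> simp [act, prj, emb_add] <;> ring
theorem act_smul (σ : Perm (Fin 8)) (t : F4) (y : W) : act σ (t • y) = t • act σ y := by
  ext <;> simp [act, prj, emb_smul] <;> ring
@[simp] theorem act_zero (σ : Perm (Fin 8)) : act σ 0 = 0 := by
  simpa using act_smul σ 0 0
theorem act_fr (σ : Perm (Fin 8)) (y : W) : act σ (fr y) = fr (act σ y) := by
  simp only [act, emb_fr]
  ext <;> simp only [prj, fr, f4_sq_add]
@[simp] theorem act_inv_act (σ : Perm (Fin 8)) (x : W) : act σ⁻¹ (act σ x) = x := by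
  rw [← act_mul, inv_mul_cancel, act_one]
@[simp] theorem act_act_inv (σ : Perm (Fin 8)) (x : W) : act σ (act σ⁻¹ x) = x := by
  rw [← act_mul, mul_inv_cancel, act_one]
theorem act_inj (σ : Perm (Fin 8)) {x y : W} (h : act σ x = act σ y) : x = y := by
  rw [← act_inv_act σ x, h, act_inv_act]
theorem act_eq_zero {σ : Perm (Fin 8)} {x : W} : act σ x = 0 ↔ x = 0 :=
  ⟨fun h => act_inj σ (h.trans (act_zero σ).symm), fun h => h ▸ act_zero σ⟩

theorem fr_add (x y : W) : fr (x + y) = fr x + fr y := by ext <;> simp [fr, f4_sq_add]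
theorem fr_smul (t : F4) (y : W) : fr (t • y) = (t * t) • fr y := by ext <;> simp [fr] <;> ring
@[simp] theorem fr_fr (y : W) : fr (fr y) = y := by ext <;> simp [fr, f4_four]
@[simp] theorem fr_zero : fr 0 = 0 := by decide
theorem Rat.act {x : W} (h : Rat x) (σ : Perm (Fin 8)) : Rat (act σ x) := by
  rw [Rat, ← act_fr, h]
theorem Rat.add {x y : W} (h : Rat x) (h' : Rat y) : Rat (x + y) := by rw [Rat, fr_add, h, h']
theorem rat_zero : Rat 0 := fr_zero
theorem rat_tr (x : W) : Rat (x + fr x) := by rw [Rat, fr_add, fr_fr, add_comm]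
/-- `W = W₀ ⊕ ω W₀`. -/
theorem exists_rat (x : W) : ∃ y u, Rat y ∧ Rat u ∧ x = y + om • u := by
  refine ⟨(om * om) • x + fr ((om * om) • x), x + fr x, rat_tr _, rat_tr _, ?_⟩
  revert x; decide +kernel

theorem bf_eq (x y : W) : bf x y = ∑ i, emb x i * emb y i := by
  simp [Fin.sum_univ_eight, emb, bf]
theorem bf_comm (x y : W) : bf x y = bf y x := by simp only [bf]; ring
theorem bf_add (x y u : W) : bf x (y + u) = bf x y + bf x u := by simp [bf]; ring
theorem add_bf (x y u : W) : bf (x + y) u = bf x u + bf y u := by simp [bf]; ring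
theorem bf_smul (t : F4) (x y : W) : bf x (t • y) = t * bf x y := by simp [bf]; ring
theorem smul_bf (t : F4) (x y : W) : bf (t • x) y = t * bf x y := by simp [bf]; ring
@[simp] theorem bf_zero (x : W) : bf x 0 = 0 := by simp [bf]
@[simp] theorem zero_bf (x : W) : bf 0 x = 0 := by simp [bf]
@[simp] theorem bf_self : ∀ x : W, bf x x = 0 := by decide +kernel
theorem bf_fr (x y : W) : bf (fr x) (fr y) = bf x y * bf x y := by
  rw [bf_eq, bf_eq]
  simp only [emb_fr, Fin.sum_univ_eight]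
  rw [f4_sq_add, f4_sq_add, f4_sq_add, f4_sq_add, f4_sq_add, f4_sq_add, f4_sq_add]; ring
theorem qf_add (x y : W) : qf (x + y) = qf x + qf y + bf x y := by
  simp only [qf, bf, W.add_a, W.add_b, W.add_c, W.add_d, W.add_e, W.add_f]
  linear_combination ((x.a + x.b + x.c + x.d + x.e + x.f) * (y.a + y.b + y.c + y.d + y.e + y.f) -
    (x.a * y.a + x.b * y.b + x.c * y.c + x.d * y.d + x.e * y.e + x.f * y.f)) * f4_two
theorem qf_smul (t : F4) (x : W) : qf (t • x) = t * t * qf x := by simp [qf]; ring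
@[simp] theorem qf_zero : qf 0 = 0 := by decide
theorem qf_fr : ∀ x : W, qf (fr x) = qf x * qf x := by decide +kernel
theorem bf_nd {x : W} (h : ∀ y, bf x y = 0) : x = 0 := by
  have k : ∀ x : W, bf x (ee 0 6) = 0 → bf x (ee 1 6) = 0 → bf x (ee 2 6) = 0 → bf x (ee 3 6) = 0 →
      bf x (ee 4 6) = 0 → bf x (ee 5 6) = 0 → x = 0 := by decide +kernel
  exact k x (h _) (h _) (h _) (h _) (h _) (h _)
theorem bf_surj {x : W} (h : x ≠ 0) (c : F4) : ∃ y, bf x y = c := by
  obtain ⟨y, hy⟩ := not_forall.1 (mt bf_nd h)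
  exact ⟨(c * (bf x y)⁻¹) • y, by rw [bf_smul, inv_mul_cancel_right₀ hy]⟩

theorem bf_act (σ : Perm (Fin 8)) (x y : W) : bf (act σ x) (act σ y) = bf x y := by
  rw [bf_eq, bf_eq]
  simp only [emb_act, add_mul, mul_add, Finset.sum_add_distrib, ← Finset.mul_sum, ← Finset.sum_mul,
    Equiv.sum_comp σ.symm (emb _), sum_emb, Equiv.sum_comp σ.symm fun i => emb x i * emb y i]
  simp only [Finset.sum_const, Finset.card_univ, Fintype.card_fin, nsmul_eq_mul]
  linear_combination (4 * emb x (σ.symm 7) * emb y (σ.symm 7)) * f4_two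

theorem act_ee (σ : Perm (Fin 8)) {i j : Fin 8} (h : i ≠ j) : act σ (ee i j) = ee (σ i) (σ j) := by
  have k : ∀ i j : Fin 8, i ≠ j → ∑ n, (if n = i ∨ n = j then (1 : F4) else 0) = 0 := by
    decide +kernel
  rw [ee, act_prj σ (k i j h), ee]
  simp only [Equiv.symm_apply_eq]

theorem act_vec (σ : Perm (Fin 8)) {i j k : Fin 8} (h1 : i ≠ j) (h2 : i ≠ k) (h3 : j ≠ k) :
    act σ (vec i j k) = vec (σ i) (σ j) (σ k) := by
  have e : ∀ i j k : Fin 8, i ≠ j → i ≠ k → j ≠ k → ∑ n, (if n = i then (1 : F4) else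
      if n = j then om else if n = k then om * om else 0) = 0 := by decide +kernel
  rw [vec, act_prj σ (e i j k h1 h2 h3), vec]
  simp only [Equiv.symm_apply_eq]

theorem qf_ee : ∀ i j : Fin 8, i ≠ j → qf (ee i j) = 1 := by decide +kernel
theorem rat_ee : ∀ i j : Fin 8, Rat (ee i j) := by decide +kernel
theorem basis (x : W) : x = x.a • ee 0 6 + x.b • ee 1 6 + x.c • ee 2 6 + x.d • ee 3 6 +
    x.e • ee 4 6 + x.f • ee 5 6 := by
  revert x; decide +kernel

theorem qf_act (σ : Perm (Fin 8)) (x : W) : qf (act σ x) = qf x := by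
  have k : ∀ i : Fin 8, i ≠ 6 → qf (act σ (ee i 6)) = qf (ee i 6) := fun i h => by
    rw [act_ee σ h, qf_ee _ _ h, qf_ee _ _ (σ.injective.ne h)]
  rw [basis x]
  simp only [act_add, act_smul, qf_add, qf_smul, add_bf, bf_smul, smul_bf, bf_act]
  rw [k 0 (by decide), k 1 (by decide), k 2 (by decide), k 3 (by decide), k 4 (by decide),
    k 5 (by decide)]

theorem ee_inj : ∀ i j k l : Fin 8, i ≠ j → k ≠ l → ee i j = ee k l →
    (i = k ∧ j = l) ∨ (i = l ∧ j = k) := by decide +kernel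
theorem vec_inj : ∀ i j k : Fin 8, i ≠ j → i ≠ k → j ≠ k → vec i j k = vec 0 1 2 →
    i = 0 ∧ j = 1 ∧ k = 2 := by decide +kernel

/-- the action is faithful, even on rational vectors. -/
theorem act_faith {σ : Perm (Fin 8)} (h : ∀ x, Rat x → act σ x = x) : σ = 1 := by
  ext i
  obtain ⟨j, k, h1, h2, h3⟩ : ∃ j k : Fin 8, i ≠ j ∧ i ≠ k ∧ j ≠ k := by revert i; decide
  have a := ee_inj _ _ _ _ (σ.injective.ne h1) h1 ((act_ee σ h1).symm.trans (h _ (rat_ee _ _)))
  have b := ee_inj _ _ _ _ (σ.injective.ne h2) h2 ((act_ee σ h2).symm.trans (h _ (rat_ee _ _)))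
  rcases a with a | a
  · simp [a.1]
  rcases b with b | b
  · simp [b.1]
  · exact absurd (a.1.symm.trans b.1) h3

theorem act_ext {σ τ : Perm (Fin 8)} (h : ∀ x, act σ x = act τ x) : σ = τ := by
  rw [← inv_mul_eq_one.1 (act_faith (σ := τ⁻¹ * σ) fun x _ => by rw [act_mul, h, act_inv_act])]

theorem VT.act {x : W} (h : VT x) (σ : Perm (Fin 8)) : VT (act σ x) := by
  obtain ⟨i, j, k, h1, h2, h3, rfl⟩ := h
  exact ⟨_, _, _, σ.injective.ne h1, σ.injective.ne h2, σ.injective.ne h3, act_vec σ h1 h2 h3⟩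
theorem vt_v0 : VT v0 := ⟨0, 1, 2, by decide, by decide, by decide, v0_eq⟩
theorem qf_v0 : qf v0 = 0 := by decide
theorem qf_w0 : qf w0 = 0 := by decide
theorem rat_w0 : Rat w0 := by decide
theorem v0_ne : v0 ≠ 0 := by decide
theorem w0_ne : w0 ≠ 0 := by decide

end H27.G4
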