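import Mathlib
import Cfsg.Agent.H27.GW
import Cfsg.Agent.H24.SuX
import Cfsg.Agent.H24.Gw0

/-! A standard subgroup of type `G₂(4)` with noncyclic centraliser: vocabulary. -/

set_option autoImplicit false
set_option linter.unusedSectionVars false

namespace H27.G4

open H24 H26 H26.Gold Subgroup Equiv
open H9 (F4)
open H24.Sz (Ex Ac Hs Zs)
open H24.G4 (Dat)

variable {G : Type*} [Group G]

/-- the Sylow subgroup of `C(L)`. -/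
def RR (Λ : AddSubgroup F4) (r : F4 → G) : Subgroup G := closure (r '' Λ)

/-- the odd part of `C_K(R)`. -/
def OO (X : Dat G) (Λ : AddSubgroup F4) (r : F4 → G) : Subgroup G := Od[X.K ⊓ C[RR Λ r]]

/-- `r` lists a Sylow subgroup of `K = C(L)`; long root elements are not in `I`. -/
structure S1 (X : Dat G) (Λ : AddSubgroup F4) (r : F4 → G) : Prop extends X.St where
  one : 1 ∈ Λ
  r_add : ∀ x ∈ Λ, ∀ y ∈ Λ, r (x + y) = r x * r y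
  rK : ∀ x ∈ Λ, r x ∈ X.K
  r_inj : ∀ x ∈ Λ, r x = 1 → x = 0
  sylR : Syl 2 X.K (RR Λ r)
  IL : ∀ c, ¬ X.I (X.z c)

/-- the output of the tight embedding. -/
structure S2 (X : Dat G) (Λ : AddSubgroup F4) (r : F4 → G) : Prop extends S1 X Λ r where
  d1 : ∃ g ∈ C[X.Z], ∀ x ∈ Λ, g * r x * g⁻¹ = r x * X.z x

/-- translations by `xc`. -/
def qq (X : Dat G) (d : F4 → G) (x : F4) : G := X.wb * d x * X.wb⁻¹

/-- the groups `U = {d x}` and `U* = {qq x}`. -/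
structure S3 (X : Dat G) (Λ : AddSubgroup F4) (r d : F4 → G) (δ : F4) : Prop
    extends S1 X Λ r where
  d_add : ∀ x y, d (x + y) = d x * d y
  dP : ∀ x, d x ∈ C[X.P]
  dO : ∀ x, d x ∈ C[OO X Λ r]
  hd : ∀ x, X.h * d x * X.h⁻¹ = d (om * x)
  dr : ∀ x, ∀ y ∈ Λ, d x * r y * (d x)⁻¹ = r y * X.z (x * y)
  lam : ∀ s x, δ * s * (x * x) ∈ Λ
  qd : ∀ x y, qq X d x * d y * (qq X d x)⁻¹ = d y * X.xc (δ * (x * x) * y) * X.z (δ * x * (y * y))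
  qb : ∀ x s, ∃ n, qq X d x * X.xb s * (qq X d x)⁻¹ =
    X.xb s * d (s * x) * r (δ * s * (x * x)) * X.xc (δ * s * (x * x * x)) * X.z n

/-- The data of `P = 2^(2+12)`: `p x * z c` are its elements; `D` is the odd core. -/
structure Md (G : Type*) [Group G] where
  p : W → G
  z : F4 → G
  β : W → W → F4
  D : Subgroup G

namespace Md

variable (Y : Md G)

/-- conjugate everything. -/
def cj (g : G) : Md G :=
  ⟨fun x => g * Y.p x * g⁻¹, fun x => g * Y.z x * g⁻¹, Y.β, H24.cj g Y.D⟩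
/-- the group `2^(2+12)`. -/
def P : Subgroup G := Hs Y.p Y.z
/-- its centre. -/
def Z : Subgroup G := Zs Y.z
/-- the centraliser of `Z`. -/
def X : Subgroup G := C[Y.Z]
/-- `M = P : A₈` (times `D`). -/
def M : Subgroup G := Y.X ⊓ N[Y.P]
/-- an involution centralising `L`. -/
def v : G := Y.p v0
/-- long root elements. -/
def a (c : F4) : G := Y.p (c • w0)
/-- `g` centralises `Z` and acts on `P / Z` as `σ`. -/
def As (g : G) (σ : Perm (Fin 8)) : Prop := Ac Y.p Y.z g (act σ) fun c => c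
/-- `g` acts on `Z` as the Frobenius map and on `P / Z` as `fr ∘ σ`. -/
def Af (g : G) (σ : Perm (Fin 8)) : Prop := Ac Y.p Y.z g (fun x => fr (act σ x)) fun c => c * c

/-- all that is used about `P`, `C(v)`, `N(A)`. -/
structure MD : Prop where
  ex : Ex Y.p Y.z Y.β
  sq : ∀ x, Y.β x x = qf x
  cm : ∀ x y, Y.β x y + Y.β y x = bf x y
  odd : OddG Y.D
  DP : Y.D ≤ C[Y.P]
  lift : ∀ σ ∈ A8, ∃ m ∈ C[Y.D], Y.As m σ
  scal : ∃ s ∈ C[Y.D], Ac Y.p Y.z s (fun x => (om * om) • x) fun c => om * c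
  ker : ∀ g, Y.As g 1 → g ∈ Y.P ⊔ Y.D
  stab : ∀ g ∈ Y.X, g * Y.v * g⁻¹ = Y.v → ∃ σ ∈ A8, Y.As g σ
  out : ∀ g ∈ N[Y.P], g * Y.v * g⁻¹ = Y.v → (∀ c, g * Y.z c * g⁻¹ = Y.z (c * c)) →
    ∃ σ ∈ A8, Y.Af g σ
  pv : ∀ c c' : F4, Y.p ((c + c') • v0) = Y.p (c • v0) * Y.p (c' • v0)
  pa : ∀ c c', Y.a (c + c') = Y.a c * Y.a c'
  nb : ∃ n ∈ C[Y.D], (∀ c, n * Y.a c * n⁻¹ = Y.z c) ∧ ∀ c, n * Y.z c * n⁻¹ = Y.a c
  mu : ∃ t ∈ C[Y.D], (∀ c, t * Y.z c * t⁻¹ = Y.z c) ∧ ∀ c, t * Y.a c * t⁻¹ = Y.a c * Y.z (c * c)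

/-- the rational part of `P`, order `2⁸`. -/
def Q0 : Subgroup G := closure (Y.p '' {x | Rat x}) ⊔ Y.Z
/-- the group `2^(1+8)`. -/
def Q (t : G) : Subgroup G := Y.Q0 ⊔ zpowers t
/-- `H = 2^(1+8) . Ω₈⁺(2)` (times `D`). -/
def H (t : G) : Subgroup G := C{Y.z 1} ⊓ N[Y.Q t]

/-- the extraspecial group. -/
structure HD (t g : G) : Prop extends Y.MD where
  cz : Y.X ≤ N[Y.P]
  tA : Y.Af t 1
  tD : t ∈ C[Y.D]
  t2 : t * t ∈ zpowers (Y.z 1)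
  tc : ∀ x, Rat x → t * Y.p x * t⁻¹ * (Y.p x)⁻¹ ∈ zpowers (Y.z 1)
  gD : g ∈ C[Y.D]
  gH : g ∈ Y.H t
  gz : g * Y.z om * g⁻¹ = Y.a 1 * Y.z om

variable {Y} [Finite G] {g u : G}

theorem cj_P : (Y.cj g).P = H24.cj g Y.P := by
  rw [P, P, Hs, Hs, cj_def, MonoidHom.map_closure, Set.image_union, ← Set.range_comp,
    ← Set.range_comp]; rfl
theorem cj_Z : (Y.cj g).Z = H24.cj g Y.Z := by
  rw [Z, Z, Zs, Zs, cj_def, MonoidHom.map_closure, ← Set.range_comp]; rfl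
theorem cj_D : (Y.cj g).D = H24.cj g Y.D := rfl
theorem cj_X : (Y.cj g).X = H24.cj g Y.X := by rw [X, X, cj_Z, cj_C]
theorem cj_M : (Y.cj g).M = H24.cj g Y.M := by rw [M, M, cj_X, cj_P, cj_inf, cj_N]
theorem cj_v : (Y.cj g).v = g * Y.v * g⁻¹ := rfl
theorem cj_a (c : F4) : (Y.cj g).a c = g * Y.a c * g⁻¹ := rfl
theorem cj_z (c : F4) : (Y.cj g).z c = g * Y.z c * g⁻¹ := rfl
theorem cj_p (x : W) : (Y.cj g).p x = g * Y.p x * g⁻¹ := rfl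
theorem cj_Q0 : (Y.cj g).Q0 = H24.cj g Y.Q0 := by
  rw [Q0, Q0, cj_sup, cj_Z, cj_def g (closure _), MonoidHom.map_closure, Set.image_image]; rfl
theorem cj_Q (t : G) : (Y.cj g).Q (g * t * g⁻¹) = H24.cj g (Y.Q t) := by
  rw [Q, Q, cj_sup, cj_Q0, cj_zpowers]
theorem cj_H (t : G) : (Y.cj g).H (g * t * g⁻¹) = H24.cj g (Y.H t) := by
  rw [H, H, cj_inf, cj_Q, cj_N, cj_C1]; rfl

theorem cj_ac {f : W → W} {φ : F4 → F4} :
    Ac (Y.cj g).p (Y.cj g).z u f φ ↔ Ac Y.p Y.z (g⁻¹ * u * g) f φ := by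
  have k : ∀ a b : G, u * (g * a * g⁻¹) * u⁻¹ = g * b * g⁻¹ ↔
      g⁻¹ * u * g * a * (g⁻¹ * u * g)⁻¹ = b := fun a b => by
    constructor <;> intro e
    · rw [show g⁻¹ * u * g * a * (g⁻¹ * u * g)⁻¹ = g⁻¹ * (u * (g * a * g⁻¹) * u⁻¹) * g by group, e]
      group
    · rw [← e]; group
  refine and_congr (forall_congr' fun x => exists_congr fun c => ?_) (forall_congr' fun c => k _ _)
  rw [← k]; simp only [cj_p, cj_z]; rw [show g * (Y.p (f x) * Y.z c) * g⁻¹ =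
    g * Y.p (f x) * g⁻¹ * (g * Y.z c * g⁻¹) by group]

theorem cj_ac' {f : W → W} {φ : F4 → F4} (h : Ac Y.p Y.z u f φ) :
    Ac (Y.cj g).p (Y.cj g).z (g * u * g⁻¹) f φ := cj_ac.2 (by simpa [mul_assoc] using h)

theorem MD.cj (h : Y.MD) (g : G) : (Y.cj g).MD := by
  have m : ∀ a b : G, g * a * g⁻¹ * (g * b * g⁻¹) = g * (a * b) * g⁻¹ := fun a b => by group
  have i : ∀ a : G, (g * a * g⁻¹)⁻¹ = g * a⁻¹ * g⁻¹ := fun a => by group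
  have cD : ∀ {a : G}, a ∈ C[Y.D] → g * a * g⁻¹ ∈ C[(Y.cj g).D] := fun ha => by
    rw [cj_D, ← cj_C]; exact conj_mem_cj g ha
  have back : ∀ {u a b : G}, u * (g * a * g⁻¹) * u⁻¹ = g * b * g⁻¹ →
      g⁻¹ * u * g * a * (g⁻¹ * u * g)⁻¹ = b := fun {u a b} e => by
    rw [show g⁻¹ * u * g * a * (g⁻¹ * u * g)⁻¹ = g⁻¹ * (u * (g * a * g⁻¹) * u⁻¹) * g by group, e]
    group
  refine ⟨⟨fun x y => ?_, fun x y => ?_, fun x y => ?_, ?_, fun x c e => h.ex.inj x c ?_, h.ex.vv,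
    h.ex.cc, h.ex.nd⟩, h.sq, h.cm, h.odd.cj g, ?_, fun σ hσ => ?_, ?_, fun u e => ?_,
    fun u hu e => ?_, fun u hu e e' => ?_, fun c c' => ?_, fun c c' => ?_, ?_, ?_⟩
  · simp only [cj_p, cj_z, m, h.ex.mul]; rfl
  · simp only [cj_z, m, h.ex.z_add]
  · simp only [cj_p, cj_z, m, h.ex.cen]
  · simp only [cj_p, h.ex.p0, mul_one, mul_inv_cancel]
  · rw [cj_p, cj_z, m] at e; exact conj_eq_one_iff'.1 e
  · rw [cj_P, cj_D, ← cj_C]; exact cj_mono g h.DP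
  · obtain ⟨a, h1, h2⟩ := h.lift σ hσ
    exact ⟨_, cD h1, cj_ac' h2⟩
  · obtain ⟨a, h1, h2⟩ := h.scal
    exact ⟨_, cD h1, cj_ac' h2⟩
  · rw [cj_P, cj_D, ← cj_sup, mem_cj]; exact h.ker _ (cj_ac.1 e)
  · rw [cj_X, mem_cj] at hu
    obtain ⟨σ, h1, h2⟩ := h.stab _ hu (back e)
    exact ⟨σ, h1, cj_ac.2 h2⟩
  · rw [cj_P, ← cj_N, mem_cj] at hu
    obtain ⟨σ, h1, h2⟩ := h.out _ hu (back e) fun c => back (e' c)
    exact ⟨σ, h1, cj_ac.2 h2⟩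
  · simp only [cj_p, m, h.pv]
  · simp only [cj_a, m, h.pa]
  · obtain ⟨a, h1, h2, h3⟩ := h.nb
    exact ⟨_, cD h1, fun c => by simp only [cj_a, cj_z, m, i, h2],
      fun c => by simp only [cj_a, cj_z, m, i, h3]⟩
  · obtain ⟨a, h1, h2, h3⟩ := h.mu
    exact ⟨_, cD h1, fun c => by simp only [cj_z, m, i, h2],
      fun c => by simp only [cj_a, cj_z, m, i, h3]⟩

theorem HD.cj {t k : G} (h : Y.HD t k) (g : G) : (Y.cj g).HD (g * t * g⁻¹) (g * k * g⁻¹) := by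
  have m : ∀ a b : G, g * a * g⁻¹ * (g * b * g⁻¹) = g * (a * b) * g⁻¹ := fun a b => by group
  have i : ∀ a : G, (g * a * g⁻¹)⁻¹ = g * a⁻¹ * g⁻¹ := fun a => by group
  have cD : ∀ {a : G}, a ∈ C[Y.D] → g * a * g⁻¹ ∈ C[(Y.cj g).D] := fun ha => by
    rw [cj_D, ← cj_C]; exact conj_mem_cj g ha
  refine ⟨h.toMD.cj g, ?_, cj_ac' h.tA, cD h.tD, ?_, fun x hx => ?_, cD h.gD, ?_, ?_⟩
  · rw [cj_X, cj_P, ← cj_N]; exact cj_mono g h.cz
  · rw [m, cj_z, ← cj_zpowers]; exact conj_mem_cj g h.t2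
  · rw [cj_p, cj_z, ← cj_zpowers, i, i, m, m, m]; exact conj_mem_cj g (h.tc x hx)
  · rw [cj_H]; exact conj_mem_cj g h.gH
  · simp only [cj_a, cj_z, m, i, h.gz]

end Md

end H27.G4
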