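import Mathlib
import Cfsg.Agent.H27.GD0

/-! Fixed points of groups of permutations on `W`. -/

set_option autoImplicit false

namespace H27.G4

open H24 H26 H26.Gold Subgroup Equiv
open H9 (F4)

/-- fixed vectors of a group. -/
def Fx (E : Subgroup (Perm (Fin 8))) : AddSubgroup W where
  carrier := {x | ∀ σ ∈ E, act σ x = x}
  add_mem' ha hb σ h := by rw [act_add, ha σ h, hb σ h]
  zero_mem' σ _ := act_zero σ
  neg_mem' ha := ha

/-- fixed vectors of a permutation. -/
def F1 (σ : Perm (Fin 8)) : AddSubgroup W where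
  carrier := {x | act σ x = x}
  add_mem' {a b} (ha : act σ a = a) (hb : act σ b = b) := show act σ (a + b) = a + b by
    rw [act_add, ha, hb]
  zero_mem' := act_zero σ
  neg_mem' ha := ha

/-- the commutator space `[W, σ]`. -/
def Rg (σ : Perm (Fin 8)) : AddSubgroup W where
  carrier := {x | ∃ y, x = y + act σ y}
  add_mem' := by
    rintro _ _ ⟨a, rfl⟩ ⟨b, rfl⟩
    exact ⟨a + b, by rw [act_add]; abel⟩
  zero_mem' := ⟨0, by simp⟩
  neg_mem' ha := ha

/-- the orthogonal complement. -/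
def Pp (J : AddSubgroup W) : AddSubgroup W where
  carrier := {x | ∀ y ∈ J, bf x y = 0}
  add_mem' ha hb y h := by rw [add_bf, ha y h, hb y h, add_zero]
  zero_mem' y _ := zero_bf y
  neg_mem' ha := ha

/-- fixed point free. -/
def FPF (σ : Perm (Fin 8)) : Prop := ∀ i, σ i ≠ i

/-- the values `0, 1`. -/
def F2 (c : F4) : Prop := c = 0 ∨ c = 1
instance decF2 (c : F4) : Decidable (F2 c) := inferInstanceAs (Decidable (c = 0 ∨ c = 1))

theorem mem_Fx {E : Subgroup (Perm (Fin 8))} {x : W} : x ∈ Fx E ↔ ∀ σ ∈ E, act σ x = x := Iff.rfl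
theorem mem_F1 {σ : Perm (Fin 8)} {x : W} : x ∈ F1 σ ↔ act σ x = x := Iff.rfl
theorem mem_Rg {σ : Perm (Fin 8)} {x : W} : x ∈ Rg σ ↔ ∃ y, x = y + act σ y := Iff.rfl
theorem mem_Pp {J : AddSubgroup W} {x : W} : x ∈ Pp J ↔ ∀ y ∈ J, bf x y = 0 := Iff.rfl
theorem om_eq : H24.Sz.om = om := rfl

end H27.G4
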