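import Mathlib
import Cfsg.Agent.H27.GW2
import Cfsg.Agent.H24.Gw2

/-! Coordinates on `W` adapted to the frame of `G₂(4)`. -/

set_option autoImplicit false
set_option synthInstance.maxSize 4000

namespace H27.G4.C

open Equiv
open H9 (F4)
open H24.G4 (V be Aa Wa)

/-- coordinates `r, d, xb, x1, x2, xc`. -/
abbrev U : Type := F4 × F4 × V

def u0 : W := ⟨1, om * om, om, 0, 0, 0⟩
def b0 : W := ⟨0, 0, 0, 1, 1, 1⟩
def u1 : W := ⟨0, 0, 0, 0, 1, om * om⟩
def v1 : W := ⟨0, 0, 0, 0, 1, om⟩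
def w1 : W := ⟨0, 1, 1, 0, 0, 1⟩

def toU (x : W) : U := (bf x u0, bf x v0, bf x w0, bf x v1, bf x u1, bf x b0)
def toW (a : U) : W := a.1 • v0 + a.2.1 • u0 + a.2.2.1 • b0 + a.2.2.2.1 • u1 + a.2.2.2.2.1 • v1 +
  a.2.2.2.2.2 • w0
/-- the cocycle. -/
def β0 (a b : U) : F4 := b.1 * a.2.1 + be a.2.2 b.2.2
/-- transport of a map. -/
def tr (f : U → U) (x : W) : W := toW (f (toU x))
/-- maps that come from `Q / Z`. -/
def fq (φ : V → V) (a : U) : U := (a.1, a.2.1, φ a.2.2)
def Ka (v : V) : V := (v.1, om * om * v.2.1, om * v.2.2.1, v.2.2.2)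
def Fb (v : V) : V := (v.1 * v.1, v.2.1 * v.2.1, v.2.2.1 * v.2.2.1, v.2.2.2 * v.2.2.2)
def fh (a : U) : U := (a.1, om * a.2.1, (om * om) • a.2.2)
def fe (γ x : F4) (a : U) : U :=
  (a.1 + γ * a.2.2.1 * (x * x), a.2.1 + a.2.2.1 * x, a.2.2.1, a.2.2.2.1, a.2.2.2.2.1,
    a.2.2.2.2.2 + a.1 * x + γ * (x * x) * a.2.1 + γ * a.2.2.1 * (x * x * x))

def sa (r : F4) : Perm (Fin 8) :=
  if r = 0 then 1 else if r = 1 then swap 4 7 * swap 5 6 else if r = om then swap 4 6 * swap 5 7
  else swap 4 5 * swap 6 7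
def se (r : F4) : Perm (Fin 8) :=
  if r = 0 then 1 else if r = 1 then swap 0 3 * swap 1 2 else if r = om then swap 0 2 * swap 1 3
  else swap 0 1 * swap 2 3
def sw : Perm (Fin 8) := swap 3 7 * swap 5 6
def sk : Perm (Fin 8) := swap 4 5 * swap 4 6
def s3 : Perm (Fin 8) := swap 0 2 * swap 0 1
def s0 : Perm (Fin 8) := swap 1 2 * swap 5 6
def s1 : Perm (Fin 8) := swap 0 5 * swap 3 6

theorem add_ext {M : Type} [AddCommGroup M] {f g : W → M} (hf : ∀ x y, f (x + y) = f x + f y)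
    (hg : ∀ x y, g (x + y) = g x + g y) (h : ∀ (c : F4) (i : Fin 8), f (c • ee i 6) = g (c • ee i 6))
    (x : W) : f x = g x := by
  rw [basis x]; simp only [hf, hg, h]
theorem toU_add (x y : W) : toU (x + y) = toU x + toU y := by simp [toU, add_bf]
theorem toW_add (a b : U) : toW (a + b) = toW a + toW b := by
  simp only [toW, Prod.fst_add, Prod.snd_add, add_smul]; abel
theorem tr_add {f : U → U} (h : ∀ a b, f (a + b) = f a + f b) (x y : W) :
    tr f (x + y) = tr f x + tr f y := by rw [tr, toU_add, h, toW_add]; rfl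
theorem toW_toU : ∀ x, toW (toU x) = x :=
  add_ext (fun x y => by rw [toU_add, toW_add]) (fun _ _ => rfl) (by decide +kernel)
theorem toU_inj {x y : W} (h : toU x = toU y) : x = y := by rw [← toW_toU x, h, toW_toU]
theorem toU_toW (a : U) : toU (toW a) = a := by
  have : Function.Surjective toU := (Fintype.bijective_iff_injective_and_card toU).2
    ⟨fun _ _ => toU_inj, by simp [W.card, F4.card]⟩ |>.2
  obtain ⟨x, rfl⟩ := this a
  rw [toW_toU]
theorem toU_zero : toU 0 = 0 := by simp [toU]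
theorem toU_tr (f : U → U) (x : W) : toU (tr f x) = f (toU x) := toU_toW _
theorem β0_sq : ∀ x, β0 (toU x) (toU x) = qf x := by decide +kernel
theorem β0_add (a b : U) : β0 (a + b) (a + b) = β0 a a + β0 b b + (β0 a b + β0 b a) := by
  simp only [β0, be, Prod.fst_add, Prod.snd_add]; ring
theorem β0_cm (x y : W) : β0 (toU x) (toU y) + β0 (toU y) (toU x) = bf x y := by
  have := β0_add (toU x) (toU y)
  rw [← toU_add, β0_sq, β0_sq, β0_sq, qf_add] at this
  exact (add_left_cancel this).symm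
theorem toU_v : ∀ c : F4, toU (c • v0) = (c, 0, 0) := by decide
theorem toU_v0 : toU v0 = (1, 0, 0) := by decide
theorem toU_u0 : toU u0 = (0, 1, 0) := by decide
theorem toU_w : ∀ c : F4, toU (c • w0) = (0, 0, 0, 0, 0, c) := by decide
theorem toU_w1 : ∀ c : F4, toU (c • w1) = (c, c, 0, c, c, 0) := by decide
theorem tr_a (r : F4) : ∀ x, tr (fq (Aa r)) x = act (sa r) x :=
  add_ext (tr_add fun a b => by
    simp only [fq, Aa, Prod.ext_iff, Prod.fst_add, Prod.snd_add, true_and]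
    refine ⟨?_, ?_, ?_⟩ <;> ring)
    (act_add _) (by revert r; decide +kernel)
theorem tr_e (r : F4) : ∀ x, tr (fe 1 r) x = act (se r) x :=
  add_ext (tr_add fun a b => by
    simp only [fe, Prod.ext_iff, Prod.fst_add, Prod.snd_add, true_and]
    refine ⟨?_, ?_, ?_⟩ <;> ring)
    (act_add _) (by revert r; decide +kernel)
theorem tr_w : ∀ x, tr (fq Wa) x = act sw x :=
  add_ext (tr_add fun _ _ => rfl) (act_add _) (by decide +kernel)
theorem tr_k : ∀ x, tr (fq Ka) x = act sk x :=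
  add_ext (tr_add fun a b => by
    simp only [fq, Ka, Prod.ext_iff, Prod.fst_add, Prod.snd_add, mul_add, and_self])
    (act_add _) (by decide +kernel)
theorem tr_h : ∀ x, tr fh (act s3 x) = (om * om) • x :=
  add_ext (fun x y => by
    rw [act_add, tr_add fun a b => by simp only [fh, Prod.fst_add, Prod.snd_add, mul_add, smul_add]; rfl])
    (smul_add _) (by decide +kernel)
theorem sa_A8 : ∀ r, sa r ∈ A8 := by simp only [Perm.mem_alternatingGroup]; decide +kernel
theorem se_A8 : ∀ r, se r ∈ A8 := by simp only [Perm.mem_alternatingGroup]; decide +kernel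
theorem sw_A8 : sw ∈ A8 := by rw [Perm.mem_alternatingGroup]; decide +kernel
theorem sk_A8 : sk ∈ A8 := by rw [Perm.mem_alternatingGroup]; decide +kernel
theorem s3_A8 : s3 ∈ A8 := by rw [Perm.mem_alternatingGroup]; decide +kernel
theorem s0_A8 : s0 ∈ A8 := by rw [Perm.mem_alternatingGroup]; decide +kernel
theorem s1_A8 : s1 ∈ A8 := by rw [Perm.mem_alternatingGroup]; decide +kernel
theorem s1_w : act s1 w1 = w0 := by decide
theorem toU_fr : ∀ x, toU (fr (act s0 x)) = (bf x u0 * bf x u0, bf x v0 * bf x v0,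
    bf x w0 * bf x w0, bf x v1 * bf x v1, bf x u1 * bf x u1, bf x b0 * bf x b0) :=
  add_ext (fun x y => by rw [act_add, fr_add, toU_add])
    (fun x y => by simp only [add_bf, f4_sq_add]; rfl) (by decide +kernel)
theorem eq_u0 {x : W} (h : qf x = 0) (h1 : bf x v0 = 1) (h2 : bf x w0 = 0) (h3 : bf x v1 = 0)
    (h4 : bf x u1 = 0) (h5 : bf x b0 = 0) : x = u0 := by
  rw [← β0_sq] at h
  refine toU_inj ?_
  simp only [toU, β0, be, h1, h2, h3, h4, h5, mul_one, mul_zero, add_zero] at h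
  rw [toU_u0, toU, h, h1, h2, h3, h4, h5]; rfl

theorem kill1 : let w := tr (fq Wa); let a := tr (fe om 1); let b := tr (fe om (om * om))
    a (w (b (w (b (w (a v0)))))) = v0 ∧ a (w (b (w (b (w (a u0)))))) ≠ u0 := by
  decide +kernel
theorem kill2 : let w := tr (fq Wa); let a := tr (fe (om * om) 1); let b := tr (fe (om * om) om)
    a (w (b (w (b (w (a v0)))))) = v0 ∧ a (w (b (w (b (w (a u0)))))) ≠ u0 := by
  decide +kernel

theorem alt_le0 {P : Subgroup (Perm (Fin 8))} (h : ∀ k, k ≠ 4 → swap 4 5 * swap 4 k ∈ P) :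
    A8 ≤ P := by
  have k1 : ∀ {σ τ : Perm (Fin 8)}, σ * σ = 1 → swap 4 5 * σ ∈ P → swap 4 5 * τ ∈ P →
      σ * τ ∈ P := fun {σ τ} e a b => by
    have := mul_mem (inv_mem a) b
    rwa [mul_inv_rev, mul_assoc, inv_mul_cancel_left, inv_eq_of_mul_eq_one_right e] at this
  have k2 : ∀ a b : Fin 8, a ≠ b → swap 4 5 * swap a b ∈ P := fun a b n => by
    by_cases a0 : a = 4
    · subst a0; exact h b n.symm
    by_cases b0 : b = 4
    · subst b0; rw [swap_comm a]; exact h a n
    have := mul_mem (h a a0) (k1 (swap_mul_self _ _) (h b b0) (h a a0))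
    rwa [mul_assoc, ← mul_assoc (swap 4 a), swap_comm 4 b, swap_mul_swap_mul_swap b0 n.symm] at this
  rw [A8, ← Perm.closure_three_cycles_eq_alternating, Subgroup.closure_le]
  intro π hπ
  have hπ : π.IsThreeCycle := hπ
  obtain ⟨a, ha⟩ := Finset.card_pos.1 (hπ.card_support ▸ three_pos : 0 < π.support.card)
  have n := (Perm.mem_support.1 ha).symm
  rw [hπ.eq_swap_mul_swap_iff_mem_support.2 ha]
  exact k1 (swap_mul_self _ _) (k2 _ _ n) (k2 _ _ (π.injective.ne n))

theorem alt_le {P : Subgroup (Perm (Fin 8))} (ha : ∀ r, sa r ∈ P) (he : ∀ r, se r ∈ P)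
    (hw : sw ∈ P) (hk : sk ∈ P) : A8 ≤ P := by
  have k : ∀ k : Fin 8, k ≠ 4 → swap 4 5 * swap 4 k = 1 ∨ swap 4 5 * swap 4 k = sk ∨
      swap 4 5 * swap 4 k = sa om * sk * sk ∨
      ∃ r, swap 4 5 * swap 4 k = sa om * se r * sw * sa (om * om) * sk * se r := by decide +kernel
  refine alt_le0 fun i hi => ?_
  rcases k i hi with e | e | e | ⟨r, e⟩ <;> rw [e]
  · exact one_mem _
  · exact hk
  · exact mul_mem (mul_mem (ha _) hk) hk
  · exact mul_mem (mul_mem (mul_mem (mul_mem (mul_mem (ha _) (he _)) hw) (ha _)) hk) (he _)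

end H27.G4.C
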