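import Mathlib
import Cfsg.Agent.H24.GwB

/-! Automorphisms of `G₂(4)` that act on `Z` as the Frobenius map. -/

set_option autoImplicit false
set_option linter.unusedSectionVars false
set_option synthInstance.maxSize 4000

namespace H24.G4

open H26 H26.Gold Subgroup
open H9 (F4)
open H7.SJ (p2)
open H24.Sz (om f4_add_self)

namespace Ca

open Dat

variable {G : Type*} [Group G] [Finite G] {X : Dat G} {g p : G}

/-- the conclusion -/
def Gd (X : Dat G) (g : G) : Prop := ∃ l ∈ X.P, ∀ v : V, ∃ c, g * l * X.q v * (g * l)⁻¹ =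
  X.q (v.1 * v.1, v.2.1 * v.2.1, v.2.2.1 * v.2.2.1, v.2.2.2 * v.2.2.2) * X.z c

theorem solve {c A B x y z : V} (h1 : c + A + B = x) (h2 : c + (om * om) • A + om • B = y)
    (h3 : c + om • A + (om * om) • B = z) :
    A = x + om • y + (om * om) • z ∧ B = x + (om * om) • y + om • z ∧ c = x + y + z := by
  have k : ∀ c A B : F4, A = c + A + B + om * (c + om * om * A + om * B) + om * om * (c + om * A + om * om * B) ∧
      B = c + A + B + om * om * (c + om * om * A + om * B) + om * (c + om * A + om * om * B) ∧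
      c = c + A + B + (c + om * om * A + om * B) + (c + om * A + om * om * B) := by decide
  subst h1 h2 h3
  exact ⟨Prod.ext (k _ _ _).1 (Prod.ext (k _ _ _).1 (Prod.ext (k _ _ _).1 (k _ _ _).1)),
    Prod.ext (k _ _ _).2.1 (Prod.ext (k _ _ _).2.1 (Prod.ext (k _ _ _).2.1 (k _ _ _).2.1)),
    Prod.ext (k _ _ _).2.2 (Prod.ext (k _ _ _).2.2 (Prod.ext (k _ _ _).2.2 (k _ _ _).2.2))⟩

variable (h : X.Fr) (hg : g ∈ N[X.L]) (e : ∀ c, g * X.z c * g⁻¹ = X.z (c * c))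
include h hg e

theorem NP : g ∈ N[X.P] := h.N_P hg (mem_N_of_finite fun u hu => by
  obtain ⟨c, rfl⟩ := h.mem_Z.1 hu
  exact e c ▸ z_Z _)

theorem red (hp : p ∈ X.P) (k : p * g ∈ N[X.L] → (∀ c, p * g * X.z c * (p * g)⁻¹ = X.z (c * c)) →
    Gd X (p * g)) : Gd X g := by
  obtain ⟨l, hl, k⟩ := k (mul_mem (norm_self _ (h.P_L hp)) hg) fun c => by
    rw [← h.P_z hp (c * c), ← e]; group
  exact ⟨g⁻¹ * p * g * l, mul_mem (conj_mem' (NP h hg e) hp) hl, by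
    rwa [show g * (g⁻¹ * p * g * l) = p * g * l by group]⟩

theorem core (hS : g ∈ N[X.S]) {μ d : F4} (hb : g * X.xb 1 * g⁻¹ = X.xb μ * X.z d) : Gd X g := by
  obtain ⟨f, θ, a⟩ := h.act_Q (h.N_Q (NP h hg e))
  have az : ∀ v c, g * (X.q v * X.z c) * g⁻¹ = X.q (f v) * X.z (θ v + c * c) := fun v c => by
    rw [← cj_mul', a, e, mul_assoc, h.z_add]
  have mu : ∀ v w, f (v + w) = f v + f w ∧
      θ (v + w) + be v w * be v w = θ v + θ w + be (f v) (f w) := fun v w => by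
    have := az (v + w) (be v w)
    rw [← h.q_mul, ← cj_mul', a, a, h.qz_mul] at this
    exact ⟨(h.inj_Q this).1.symm, (h.inj_Q this).2.symm⟩
  have ff : ∀ v w, fm (f v) (f w) = fm v w * fm v w := fun v w => by
    have k1 := (mu v w).2
    have k2 := (mu w v).2
    rw [add_comm w, add_comm (θ w)] at k2
    exact (by decide +kernel : ∀ a b c d s t : F4, s + a * a = t + c → s + b * b = t + d →
      c + d = (a + b) * (a + b)) _ _ _ _ _ _ k1 k2
  have fa : ∀ v w u, fm (v + w) u = fm v u + fm w u := fun v w u => by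
    simp only [fm, be, Prod.fst_add, Prod.snd_add]; ring
  have fs : ∀ (c : F4) v u, fm (c • v) u = c * fm v u := fun c v u => by
    simp only [fm, be, Prod.smul_fst, Prod.smul_snd, smul_eq_mul]; ring
  have sur : Function.Surjective f := Finite.surjective_of_injective fun v w k => V_eq (fm_nd fun u =>
    mul_self_eq_zero.1 (by rw [← ff, (mu _ _).1, k, V_add_self]; simp [fm, be]))
  have sm : ∀ (c : F4) v, f (c • v) = (c * c) • f v := fun c v => V_eq (fm_nd fun u => by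
    obtain ⟨u, rfl⟩ := sur u
    rw [fa, fs, ff, ff, fs, mul_mul_mul_comm, f4_add_self])
  have f0 : f (1, 0, 0, 0) = (μ, 0, 0, 0) := by
    have := a (1, 0, 0, 0)
    rw [h.qb, hb, ← h.qb] at this
    exact (h.inj_Q this).1.symm
  obtain ⟨l, f3⟩ := h.q_mem_Z2 (a (0, 0, 0, 1) ▸ conj_mem (h.N_Z2 hS) (h.qc 1 ▸ c_Z2 1))
  choose π w c hs using fun r => h.mem_S.1 (conj_mem hS (a_S r))
  have eqv : ∀ r v, f (Aa r v) = Aa (π r) (f v) ∧
      θ (Aa r v) + al r v * al r v = al (π r) (f v) + fm (w r) (f v) + θ v := fun r v => by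
    have := az (Aa r v) (al r v)
    rw [← h.a_q, ← cj_mul', ← cj_mul', ← cj_inv', hs, a, ← cj_mul', h.conj_q, h.P_z (S_P (s_S _ _ _)),
      mul_assoc, ← h.z_add] at this
    exact ⟨(h.inj_Q this).1.symm, (h.inj_Q this).2.symm⟩
  have ex : ∀ v : V, f v = (v.1 * v.1 * μ, 0, 0, v.2.2.2 * v.2.2.2 * l) + (v.2.1 * v.2.1) • f (0, 1, 0, 0) +
      (v.2.2.1 * v.2.2.1) • f (0, 0, 1, 0) := fun v => by
    conv_lhs => rw [show v = v.1 • (1, 0, 0, 0) + v.2.2.2 • (0, 0, 0, 1) + v.2.1 • (0, 1, 0, 0) +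
      v.2.2.1 • (0, 0, 1, 0) by simp]
    rw [(mu _ _).1, (mu _ _).1, (mu _ _).1, sm, sm, sm, sm, f0, f3]
    simp
  have t : ∀ r, r ≠ 0 → (μ, 0, 0, l) + (r * r) • f (0, 1, 0, 0) + r • f (0, 0, 1, 0) =
      Aa (π r) (μ, 0, 0, 0) := fun r hr => by
    have k := (by decide : ∀ r : F4, r ≠ 0 → let v := Aa r (1, 0, 0, 0)
      v.1 * v.1 = 1 ∧ v.2.2.2 * v.2.2.2 = 1 ∧ v.2.1 * v.2.1 = r * r ∧ v.2.2.1 * v.2.2.1 = r) r hr
    rw [← f0, ← (eqv r _).1, ex (Aa r _), k.1, k.2.1, k.2.2.1, k.2.2.2, one_mul, one_mul]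
  obtain ⟨s1, s2, s3⟩ := solve (by simpa using t 1 one_ne_zero) (t om (by decide))
    ((by decide : om * om * (om * om) = om) ▸ t (om * om) (by decide))
  have b1 : be (f (0, 1, 0, 0)) (f (0, 1, 0, 0)) = 0 := by
    have := (mu (0, 1, 0, 0) (0, 1, 0, 0)).2
    have k := (mu 0 0).2
    have k0 : f 0 = 0 := by simpa using sm 0 0
    rw [V_add_self, f4_add_self, zero_add] at this k
    rw [← this]
    simpa [k0, be] using k
  have b2 := ff (1, 0, 0, 0) (0, 0, 0, 1)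
  rw [f0, f3] at b2
  rw [s1] at b1
  obtain ⟨rfl, rfl, k⟩ := (by decide +kernel : ∀ μ l p q r : F4,
    let x := Aa p (μ, 0, 0, 0)
    let y := Aa q (μ, 0, 0, 0)
    let z := Aa r (μ, 0, 0, 0)
    let A := x + om • y + (om * om) • z
    let B := x + (om * om) • y + om • z
    (μ, 0, 0, l) = x + y + z → be A A = 0 →
    fm (μ, 0, 0, 0) (0, 0, 0, l) = fm (1, 0, 0, 0) (0, 0, 0, 1) * fm (1, 0, 0, 0) (0, 0, 0, 1) →
    μ = 1 ∧ l = 1 ∧ ((p ≠ 0 ∧ B = (0, p, 0, 0)) ∨ (A = (0, 1, 0, 0) ∧ B = (0, 0, 1, 0)) ∨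
      (A = (0, om * om, 0, 0) ∧ B = (0, 0, om, 0)) ∨ (A = (0, om, 0, 0) ∧ B = (0, 0, om * om, 0))))
    _ _ _ _ _ s3 b1 b2
  rw [← s1, ← s2] at k
  have gk : ∀ v, g * X.k * X.q v * (g * X.k)⁻¹ = g * X.q (v.1, om * om * v.2.1, om * v.2.2.1, v.2.2.2) * g⁻¹ :=
    fun v => by rw [← h.k_q]; group
  have u : ∀ x : F4, om * om * x * (om * om * x) * (om * om) = x * x ∧ om * x * (om * x) * om = x * x ∧
      om * om * (om * om * x) * (om * om * (om * om * x)) * om = x * x ∧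
      om * (om * x) * (om * (om * x)) * (om * om) = x * x := by decide
  rcases k with ⟨k0, k⟩ | ⟨k1, k2⟩ | ⟨k1, k2⟩ | ⟨k1, k2⟩
  · exfalso
    have n : ∀ y, g * X.wb * g⁻¹ * X.z (y * y) * (g * X.wb * g⁻¹)⁻¹ = X.xc (y * y) * X.z (θ (0, 0, 0, y)) :=
      fun y => by
        rw [← e, cj_inv', cj_mul', cj_mul', h.wb_z, ← h.qc, a, ex, ← h.qc]
        simp
    have m : ∀ y, X.wb * X.xb (θ (0, 0, 0, 1)) * (g * X.wb * g⁻¹) * X.z (y * y) *
        (X.wb * X.xb (θ (0, 0, 0, 1)) * (g * X.wb * g⁻¹))⁻¹ =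
        X.z (y * y) * X.xc (y * y * θ (0, 0, 0, 1) + θ (0, 0, 0, y)) := fun y => by
      conv_rhs => rw [← h.wb_c, ← h.wb_z (_ + _), cj_mul', ← h.b_c, ← n]
      group
    have m1 := m 1
    rw [mul_one, one_mul, f4_add_self, h.c0, mul_one, mul_inv_eq_iff_eq_mul] at m1
    have m2 := h.cz _ (mul_mem (mul_mem h.wbL (h.bL _)) (conj_mem hg h.wbL)) m1
    have th : ∀ y, y * y * θ (0, 0, 0, 1) + θ (0, 0, 0, y) = 0 := fun y => by
      have := m y
      rw [h.P_z m2, left_eq_mul] at this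
      exact congrArg (·.2.2.2) (h.one_Q (v := (0, 0, 0, _)) (c := 0) (by rwa [h.qc, h.z0, mul_one])).1
    have fin : ∀ y, y * y * θ (0, 0, 0, 1) = π 1 * (y * y * π 1 * (y * y * π 1)) + (w 1).2.2.1 * (y * y * π 1) :=
      fun y => by
        have k1 := (eqv 1 (0, 0, y, 0)).2
        have k2 := (mu (0, 0, y, 0) (0, 0, 0, y)).2
        rw [ex (0, 0, y, 0), k] at k1 k2
        rw [ex (0, 0, 0, y)] at k2
        simp only [Aa, al, fm, be, Prod.mk_add_mk, Prod.smul_mk, smul_eq_mul, mul_zero, zero_mul, add_zero,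
          zero_add, one_mul, zero_smul] at k1 k2
        rw [f4_eq (th y)]
        exact add_left_cancel (k2.symm.trans (k1.trans (add_comm _ _)))
    exact (by decide : ∀ p s t : F4, p ≠ 0 →
      ¬ ∀ y, y * y * t = p * (y * y * p * (y * y * p)) + s * (y * y * p)) _ _ _ k0 fin
  · exact ⟨1, one_mem _, fun v => ⟨θ v, by rw [mul_one, a, ex, k1, k2]; simp⟩⟩
  · refine ⟨X.k, k_P, fun v => ?_⟩
    rw [gk, a, ex, k1, k2]
    simp [u]
  · refine ⟨X.k * X.k, mul_mem k_P k_P, fun v => ?_⟩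
    rw [show g * (X.k * X.k) * X.q v * (g * (X.k * X.k))⁻¹ = g * X.k * (X.k * X.q v * X.k⁻¹) * (g * X.k)⁻¹
      by group, h.k_q, gk, a, ex, k1, k2]
    simp [u]

theorem core2 (hS : g ∈ N[X.S]) : Gd X g := by
  obtain ⟨y, c, k⟩ := h.mem_Z2.1 (conj_mem (h.N_Z2 hS) (c_Z2 1))
  have b : g * X.xb 1 * g⁻¹ = g * X.wa * g⁻¹ * (X.xc y * X.z c) * (g * X.wa * g⁻¹)⁻¹ := by
    rw [← k, ← h.wa_c]; group
  rcases h.bruhat (conj_mem (NP h hg e) wa_P) with m | ⟨r, s, hs, m⟩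
  · have := (conj_mem_iff (h.N_Z2 hS)).1 (b ▸ conj_mem (h.N_Z2 (h.B_NS m)) (mul_mem (c_Z2 y) (z_Z2 c)))
    rw [← h.qb, ← mul_one (X.q _), ← h.z0] at this
    obtain ⟨_, k⟩ := h.q_mem_Z2 this
    exact absurd (congrArg (·.1) k) one_ne_zero
  · obtain ⟨d, k⟩ := h.cell_c hs r y
    refine red h hg e (S_P (a_S r)) fun h1 h2 => core h h1 h2 (mul_mem (norm_self _ (a_S r)) hS)
      (μ := y) (d := al r (Aa r (y, 0, 0, 0)) + (d + c)) ?_
    rw [← cj_mul', h.P_z (conj_mem (NP h hg e) wa_P), m, k, mul_assoc (X.q _), ← h.z_add] at b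
    rw [show X.xa r * g * X.xb 1 * (X.xa r * g)⁻¹ = X.xa r * (g * X.xb 1 * g⁻¹) * (X.xa r)⁻¹ by group, b,
      ← cj_mul', h.a_q, h.a_z, Aa_Aa, h.qb, mul_assoc, ← h.z_add]

end Ca

theorem Dat.Fr.autF {G : Type*} [Group G] [Finite G] {X : Dat G} {g : G} (h : X.Fr)
    (hg : g ∈ N[X.L]) (e : ∀ c, g * X.z c * g⁻¹ = X.z (c * c)) :
    ∃ l ∈ X.P, ∀ v : V, ∃ c, g * l * X.q v * (g * l)⁻¹ =
      X.q (v.1 * v.1, v.2.1 * v.2.1, v.2.2.1 * v.2.2.1, v.2.2.2 * v.2.2.2) * X.z c := by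
  have s := h.syl.of_le Dat.S_P h.P_L
  obtain ⟨p, hp, k⟩ := Sylow_trans p2 (cj_of_mem_N (Ca.NP h hg e) ▸ s.cj g) s
  exact Ca.red h hg e hp fun h1 h2 => Ca.core2 h h1 h2 (mem_N_iff_cj.2 (by rw [cj_mul, ← k]))

end H24.G4
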