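import Mathlib
import Cfsg.Agent.H27.GC0
import Cfsg.Agent.H27.GCa

/-! The group `2^(2+12)` from the translations. -/

set_option autoImplicit false
set_option linter.unusedSectionVars false
set_option synthInstance.maxSize 4000

namespace H27.G4.C

open H24 H26 H26.Gold Subgroup Equiv
open H9 (F4)
open H24.Sz (Ex Ac Hs Zs)
open H24.G4 (V be Aa Wa Dat Dx)
open H24.G4.Dat (cj_mul' cj_inv')
open H7.SJ (p2)

variable {G : Type*} [Group G]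

/-- the elements of `P` modulo `Z`. -/
def pp (X : Dx G) (a : U) : G := X.r a.1 * X.d a.2.1 * X.q a.2.2

/-- the data of `P`. -/
def md (X : Dx G) : Md G := ⟨fun x => pp X (toU x), X.z, fun x y => β0 (toU x) (toU y), X.O⟩

/-- `g` lies over `a`. -/
def Ov (X : Dx G) (g : G) (a : U) : Prop := ∃ c, g = pp X a * X.z c

/-- the Sylow subgroup of `K` has order `4`. -/
structure S4 (X : Dx G) (γ : F4) : Prop extends X.S3 γ where
  top : ∀ x, x ∈ X.Λ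

variable [Finite G] {X : Dx G} {γ x y c : F4} {g u l o : G} {a b : U} {F : W → W}

theorem odd_mem {H : Subgroup G} (h : OddE g) (h2 : g * g ∈ H) : g ∈ H := by
  have : g ∈ zpowers (g ^ 2) :=
    mem_zpowers_pow_iff.2 ((Nat.coprime_two_left).2 (oddE_iff.1 h))
  exact zpowers_le.2 (by rwa [pow_two]) this

theorem cc (a b x : G) : a * b * x * (a * b)⁻¹ = a * (b * x * b⁻¹) * a⁻¹ := by group

namespace S4

variable (h : S4 X γ)
include h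

theorem fr : X.toDat.Fr := h.toFr
theorem radd (x y : F4) : X.r (x + y) = X.r x * X.r y := h.r_add x (h.top x) y (h.top y)
theorem rL (hl : l ∈ X.L) (x : F4) : l * X.r x = X.r x * l := mem_C.1 (h.rK x (h.top x)) l hl
theorem dPl (hl : l ∈ X.P) (x : F4) : l * X.d x = X.d x * l := mem_C.1 (h.dP x) l hl
theorem d0 : X.d 0 = 1 := H24.Sz.Dat.add_zero' h.d_add
theorem dd (x : F4) : X.d x * X.d x = 1 := H24.Sz.Dat.add_sq h.d_add x
theorem di (x : F4) : (X.d x)⁻¹ = X.d x := H24.Sz.Dat.add_inv h.d_add x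
theorem qP (v : V) : X.q v ∈ X.P := Dat.Q_P (Dat.q_Q v)
theorem qL (v : V) : X.q v ∈ X.L := h.fr.P_L (h.qP v)
theorem zP (c : F4) : X.z c ∈ X.P := Dat.Z_P (Dat.z_Z c)
theorem dr' (x y : F4) : X.d x * X.r y = X.r y * X.d x * X.z (y * x) := by
  rw [mul_assoc, ← h.dPl (h.zP _), ← mul_assoc, ← h.dr x y (h.top y), inv_mul_cancel_right]
theorem zpp (a : U) (c : F4) : X.z c * pp X a = pp X a * X.z c :=
  ((Commute.mul_right (h.rL (h.fr.zL c) _) (h.dPl (h.zP c) _)).mul_right (h.fr.zq _ c)).eq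

theorem pp_mul (a b : U) : pp X a * pp X b = pp X (a + b) * X.z (β0 a b) := by
  have t : ∀ {a b : G}, a * b = b * a → ∀ w, a * (b * w) = b * (a * w) := fun e w => by
    rw [← mul_assoc, e, mul_assoc]
  have e1 : ∀ w, X.d a.2.1 * (X.r b.1 * w) = X.r b.1 * (X.d a.2.1 * (X.z (b.1 * a.2.1) * w)) :=
    fun w => by rw [← mul_assoc, h.dr']; simp only [mul_assoc]
  simp only [pp, β0, Prod.fst_add, Prod.snd_add, h.radd, h.d_add, h.fr.z_add, mul_assoc,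
    t (h.rL (h.qL _) _), t (h.dPl (h.qP _) _), e1, t (h.dPl (h.zP _) _), h.fr.q_mul,
    t (h.fr.zq _ _)]

theorem pr (x : F4) : pp X (x, 0, 0) = X.r x := by simp [pp, h.d0, h.fr.q0]
theorem pd (x : F4) : pp X (0, x, 0) = X.d x := by simp [pp, h.toS1.r0, h.fr.q0]
theorem pq (v : V) : pp X (0, 0, v) = X.q v := by simp [pp, h.toS1.r0, h.d0]

theorem pp_inj (e : pp X a * X.z c = 1) : a = 0 ∧ c = 0 := by
  obtain ⟨α, δ, v⟩ := a
  have e1 : X.r α * X.d δ = (X.q v * X.z c)⁻¹ := by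
    rw [eq_inv_iff_mul_eq_one, ← mul_assoc]; exact e
  have hL : (X.q v * X.z c)⁻¹ ∈ X.L := inv_mem (mul_mem (h.qL v) (h.fr.zL c))
  have e2 := h.rL hL 1
  rw [← e1, mul_assoc, h.dr', ← mul_assoc, ← mul_assoc, ← h.radd, ← mul_assoc, ← h.radd, add_comm,
    mul_eq_left, one_mul] at e2
  obtain rfl := h.z_inj δ e2
  rw [h.d0, mul_one] at e1
  obtain rfl : α = 0 := h.r_inj α (h.top α) (by
    by_contra n
    exact h.fr.not_K (e1 ▸ hL) n (h.rK α (h.top α)))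
  rw [h.pq] at e
  obtain ⟨rfl, rfl⟩ := h.fr.one_Q e
  exact ⟨rfl, rfl⟩

theorem ex : Ex (md X).p (md X).z (md X).β where
  mul x y := by simp only [md, toU_add, h.pp_mul]
  z_add := h.fr.z_add
  cen x c := h.zpp _ c
  p0 := by simp only [md, toU_zero]; exact (h.pr 0).trans h.toS1.r0
  inj x c e := ⟨toU_inj ((h.pp_inj e).1.trans toU_zero.symm), (h.pp_inj e).2⟩
  vv := W.aa
  cc := f4_aa
  nd x e := bf_nd fun y => by rw [← β0_cm, show β0 (toU x) (toU y) = β0 (toU y) (toU x) from e y, f4_aa]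

theorem Ov_mul (e : Ov X g a) (e' : Ov X u b) : Ov X (g * u) (a + b) := by
  obtain ⟨c, rfl⟩ := e
  obtain ⟨d, rfl⟩ := e'
  exact ⟨β0 a b + c + d, by
    rw [mul_assoc, ← mul_assoc (X.z c), h.zpp, ← mul_assoc, ← mul_assoc, h.pp_mul, h.fr.z_add,
      h.fr.z_add]; simp only [mul_assoc]⟩
theorem Ov_r (x : F4) : Ov X (X.r x) (x, 0, 0) := ⟨0, by rw [h.pr, h.fr.z0, mul_one]⟩
theorem Ov_d (x : F4) : Ov X (X.d x) (0, x, 0) := ⟨0, by rw [h.pd, h.fr.z0, mul_one]⟩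
theorem Ov_q (x : V) : Ov X (X.q x) (0, 0, x) := ⟨0, by rw [h.pq, h.fr.z0, mul_one]⟩
theorem Ov_z (x : F4) : Ov X (X.z x) 0 := ⟨x, by rw [show pp X 0 = X.r 0 from h.pr 0, h.toS1.r0, one_mul]⟩
theorem Ov_P (e : Ov X g a) : g ∈ (md X).P := by
  obtain ⟨c, rfl⟩ := e
  rw [← toU_toW a]; exact H24.Sz.pz_Hs (p := (md X).p) (toW a) c
theorem r_P (x : F4) : X.r x ∈ (md X).P := h.Ov_P (h.Ov_r x)
theorem d_P (x : F4) : X.d x ∈ (md X).P := h.Ov_P (h.Ov_d x)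
theorem Q_P : X.Q ≤ (md X).P := fun u hu => by
  obtain ⟨v, c, rfl⟩ := h.fr.mem_Q.1 hu
  exact h.Ov_P (h.Ov_mul (h.Ov_q v) (h.Ov_z c))

theorem ac_tr {f : U → U} {φ : F4 → F4} (e : ∀ a, Ov X (g * pp X a * g⁻¹) (f a))
    (e' : ∀ c, g * X.z c * g⁻¹ = X.z (φ c)) : Ac (md X).p (md X).z g (tr f) φ :=
  ⟨fun x => by simp only [md, toU_tr]; exact e (toU x), e'⟩

theorem ac_q {φ : V → V} (hl : l ∈ X.P) (e : ∀ v, ∃ c, l * X.q v * l⁻¹ = X.q (φ v) * X.z c) :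
    Ac (md X).p (md X).z l (tr (fq φ)) fun c => c :=
  h.ac_tr (fun a => by
    obtain ⟨c, e⟩ := e a.2.2
    refine ⟨c, ?_⟩
    rw [pp, ← cj_mul', ← cj_mul', e, h.rL (h.fr.P_L hl), h.dPl hl, mul_inv_cancel_right,
      mul_inv_cancel_right, ← mul_assoc]; rfl) (h.fr.P_z hl)

theorem ac_a (r : F4) : (md X).As (X.xa r) (sa r) :=
  (h.ac_q (Dat.S_P (Dat.a_S r)) fun v => ⟨_, h.fr.a_q r v⟩).congr (tr_a r) fun _ => rfl
theorem ac_w0 : Ac (md X).p (md X).z X.wa (tr (fq Wa)) fun c => c :=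
  h.ac_q Dat.wa_P fun v => ⟨_, h.fr.wa_q v⟩
theorem ac_w : (md X).As X.wa sw := h.ac_w0.congr tr_w fun _ => rfl
theorem ac_k : (md X).As X.k sk :=
  (h.ac_q (φ := Ka) Dat.k_P fun v => ⟨0, by rw [h.fr.k_q, h.fr.z0, mul_one]; rfl⟩).congr tr_k
    fun _ => rfl
theorem ac_h : Ac (md X).p (md X).z X.h (tr fh) fun c => om * c :=
  h.ac_tr (fun a => ⟨0, by
    rw [pp, ← cj_mul', ← cj_mul', h.fr.h_q, h.hd, h.rL h.hL, mul_inv_cancel_right, h.fr.z0,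
      mul_one]; rfl⟩) h.hz

theorem ee (x : F4) : X.e x * X.e x = 1 := by rw [Dx.e, cj_mul', h.dd, mul_one, mul_inv_cancel]
theorem ei (x : F4) : (X.e x)⁻¹ = X.e x := inv_eq_of_mul_eq_one_right (h.ee x)
theorem e_fix (hl : l ∈ X.P) (x : F4) :
    X.e x * (X.wb * l * X.wb⁻¹) * (X.e x)⁻¹ = X.wb * l * X.wb⁻¹ := by
  rw [Dx.e, cj_mul', cj_inv', cj_mul', ← h.dPl hl, mul_inv_cancel_right]
theorem e_z (x c : F4) : X.e x * X.z c * (X.e x)⁻¹ = X.z c := by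
  rw [← h.wb_c]; exact h.e_fix (Dat.Q_P (Dat.c_Q c)) x
theorem e_c (x c : F4) : X.e x * X.xc c * (X.e x)⁻¹ = X.xc c := by
  rw [← h.fr.wb_z]; exact h.e_fix (h.zP c) x
theorem e_1 (x c : F4) : X.e x * X.x1 c * (X.e x)⁻¹ = X.x1 c := by
  rw [← h.wb_a]; exact h.e_fix (Dat.S_P (Dat.a_S c)) x
theorem e_2 (x c : F4) : X.e x * X.x2 c * (X.e x)⁻¹ = X.x2 c := by
  rw [← h.wb_2]; exact h.e_fix (Dat.S_P (Dat.x2_S c)) x
theorem e_r (x y : F4) : X.e x * X.r y * (X.e x)⁻¹ = X.r y * X.xc (y * x) := by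
  have k : X.wb * X.r y * X.wb⁻¹ = X.r y := by rw [h.rL h.wbL, mul_inv_cancel_right]
  rw [← k, Dx.e, cj_mul', cj_inv', cj_mul', h.dr x y (h.top y), ← cj_mul', h.fr.wb_z]
theorem e_b (x y : F4) : X.e x * X.xb y * (X.e x)⁻¹ =
    X.d (y * x) * X.r (γ * y * (x * x)) * X.xc (γ * y * (x * x * x)) * X.xb y := by
  have := h.be y x
  rw [mul_inv_eq_iff_eq_mul] at this
  rw [mul_assoc, h.ei, this]
  simp only [← mul_assoc, h.ee, one_mul]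

theorem ac_e (x : F4) : Ac (md X).p (md X).z (X.e x) (tr (fe γ x)) fun c => c :=
  h.ac_tr (fun a => by
    obtain ⟨α, δ, u, s, k, y⟩ := a
    rw [pp, Dat.q, ← cj_mul', ← cj_mul', ← cj_mul', ← cj_mul', ← cj_mul', h.e_r, h.ed, h.e_b, h.e_1,
      h.e_2, h.e_c]
    simp only [← h.fr.qc, ← h.fr.qb, ← h.fr.q1, ← h.fr.q2]
    convert h.Ov_mul (h.Ov_mul (h.Ov_mul (h.Ov_r _) (h.Ov_q _)) (h.Ov_mul (h.Ov_mul (h.Ov_d _)
      (h.Ov_q _)) (h.Ov_z _))) (h.Ov_mul (h.Ov_mul (h.Ov_mul (h.Ov_mul (h.Ov_mul (h.Ov_mul (h.Ov_d _)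
      (h.Ov_r _)) (h.Ov_q _)) (h.Ov_q _)) (h.Ov_q _)) (h.Ov_q _)) (h.Ov_q _)) using 1
    simp only [fe, Prod.mk_add_mk, add_zero, zero_add, Prod.mk.injEq, true_and]
    ring) (h.e_z x)

theorem O_L : X.L ≤ C[X.O] := cents_symm Dx.O_K
theorem e_O (x : F4) : X.e x ∈ C[X.O] :=
  mul_mem (mul_mem (h.O_L h.wbL) (h.dO x)) (inv_mem (h.O_L h.wbL))
theorem O_P : X.O ≤ C[(md X).P] := cents_symm (H24.Sz.Hs_le (fun _ => mul_mem (mul_mem
  (cents_symm Dx.O_T (Dx.r_T (h.top _))) (h.dO _)) (h.O_L (h.qL _))) fun c => h.O_L (h.fr.zL c))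
theorem r1 : X.r 1 ≠ 1 := fun e => one_ne_zero (h.r_inj 1 h.one e)
theorem C_r1 (e : g * X.r 1 * g⁻¹ = X.r 1) : g ∈ N[X.L] :=
  h.toS1.C_r h.one one_ne_zero (mem_C1_iff_conj.2 e)

theorem ne0 : γ ≠ 0 := by
  rintro rfl
  have a1 : ∀ y, X.e 1 * X.r y * (X.e 1)⁻¹ = X.r y * X.xc y := fun y => by rw [h.e_r, mul_one]
  have a2 : ∀ y, X.e 1 * X.xb y * (X.e 1)⁻¹ = X.d y * X.xb y := fun y => by
    simp [h.e_b, h.toS1.r0, h.fr.c0]
  have a3 : ∀ y, X.e 1 * X.d y * (X.e 1)⁻¹ = X.d y := fun y => by simp [h.ed, h.fr.z0, h.fr.c0]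
  have wr : ∀ y, X.wa * X.r y * X.wa⁻¹ = X.r y := fun y => by
    rw [h.rL h.waL, mul_inv_cancel_right]
  have wd : ∀ y, X.wa * X.d y * X.wa⁻¹ = X.d y := fun y => by
    rw [h.dPl Dat.wa_P, mul_inv_cancel_right]
  obtain ⟨f, hf⟩ : ∃ f, f = X.wa * X.e 1 * X.wa⁻¹ := ⟨_, rfl⟩
  have k : ∀ {a b : G}, X.e 1 * a * (X.e 1)⁻¹ = b →
      f * (X.wa * a * X.wa⁻¹) * f⁻¹ = X.wa * b * X.wa⁻¹ := fun e => by
    rw [hf, cj_mul', cj_inv', cj_mul', e]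
  have b1 : ∀ y, f * X.r y * f⁻¹ = X.r y * X.xb y := fun y => by
    simpa only [← cj_mul', wr, h.fr.wa_c] using k (a1 y)
  have b2 : ∀ y, f * X.xc y * f⁻¹ = X.d y * X.xc y := fun y => by
    simpa only [← cj_mul', wd, h.wa_b] using k (a2 y)
  have b3 : ∀ y, f * X.z y * f⁻¹ = X.z y := fun y => by
    simpa only [h.wa_z] using k (h.e_z 1 y)
  have c1 : ∀ y, X.e 1 * f * X.r y * (X.e 1 * f)⁻¹ =
      f * X.e 1 * (X.r y * X.z (y * y)) * (f * X.e 1)⁻¹ := fun y => by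
    rw [cc (X.e 1), cc f, b1, ← cj_mul' (X.e 1), ← cj_mul' (X.e 1), a1, a2, h.e_z, ← cj_mul' f,
      ← cj_mul' f, b1, b2, b3, mul_assoc, mul_assoc, mul_assoc, ← mul_assoc (X.xc y),
      h.dPl (Dat.Q_P (Dat.c_Q y)), ← mul_assoc (X.xb y), ← mul_assoc (X.xb y),
      h.dPl (Dat.Q_P (Dat.b_Q y)), mul_assoc, h.cb]
    simp only [mul_assoc]
  have c2 : ∀ y, X.d 1 * ((f * X.e 1)⁻¹ * (X.e 1 * f)) * X.r y *
      (X.d 1 * ((f * X.e 1)⁻¹ * (X.e 1 * f)))⁻¹ = X.r y * X.z (y + y * y) := fun y => by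
    rw [cc, cc, c1, inv_inv, show ∀ a b : G, a⁻¹ * (a * b * a⁻¹) * a = b from
      fun a b => by group, ← cj_mul', h.dr 1 y (h.top y), ← h.dPl (h.zP _), mul_inv_cancel_right,
      mul_one, mul_assoc, h.fr.z_add]
  have c3 := h.C_r1 ((c2 1).trans (by rw [mul_one, f4_aa, h.fr.z0, mul_one]))
  have c4 := conj_mem (h.toSt.N_K ▸ c3) (h.rK om (h.top om))
  rw [c2, mul_mem_cancel_left (h.rK om (h.top om)), show om + om * om = 1 by decide] at c4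
  exact h.fr.not_K (h.fr.zL 1) h.fr.z1 c4

theorem odd_K (ho : OddE o) (h1 : o ∈ X.K) (h2 : o * X.r 1 = X.r 1 * o) (x : F4) :
    X.d x * o * (X.d x)⁻¹ ∈ X.K := by
  have a : X.d x * o * (X.d x)⁻¹ ∈ N[X.L] := h.C_r1 (by
    have e : (X.d x)⁻¹ * X.r 1 * X.d x = X.r 1 * X.z x := by
      have := h.dr x 1 h.one
      rw [one_mul, h.di] at this
      rwa [h.di]
    have e' : o * (X.r 1 * X.z x) * o⁻¹ = X.r 1 * X.z x := by
      rw [← cj_mul', h2, ← mem_C.1 h1 _ (h.fr.zL x), mul_inv_cancel_right, mul_inv_cancel_right]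
    rw [show X.d x * o * (X.d x)⁻¹ * X.r 1 * (X.d x * o * (X.d x)⁻¹)⁻¹ =
      X.d x * (o * ((X.d x)⁻¹ * X.r 1 * X.d x) * o⁻¹) * (X.d x)⁻¹ by group, e, e', ← e]
    group)
  have b := h.fr.cent_P a (mul_mem (mul_mem (h.dP x) (C_anti h.fr.P_L h1)) (inv_mem (h.dP x)))
  obtain ⟨z, hz, k, hk, e⟩ := (h.fr.mem_MK (Dat.Z_P.trans h.fr.P_L)).1 b
  refine odd_mem (ho.conj _) ?_
  rw [e, mul_assoc, ← mul_assoc k, ← mem_C.1 hk z (h.fr.P_L (Dat.Z_P hz)), ← mul_assoc, ← mul_assoc,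
    h.fr.eaZ.sq hz, one_mul]
  exact mul_mem hk hk

theorem odd_T (ho : OddE o) (h1 : o ∈ X.K) (h2 : o * X.r 1 = X.r 1 * o) : o ∈ C[X.T] := by
  have a : ∀ x y, X.d (y * x) * X.r (γ * y * (x * x)) ∈ C{o} := fun x y => by
    have k : ∀ {l u : G}, l ∈ X.L → u ∈ X.K → l * u * l⁻¹ = u := fun hl hu => by
      rw [mem_C.1 hu _ hl, mul_inv_cancel_right]
    have e1 : X.e x * o * (X.e x)⁻¹ = X.d x * o * (X.d x)⁻¹ := by
      rw [Dx.e, cc, cc, k (inv_mem h.wbL) h1, k h.wbL (h.odd_K ho h1 h2 x)]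
    have e2 : X.xb y * X.e x * (X.xb y)⁻¹ * o * (X.xb y * X.e x * (X.xb y)⁻¹)⁻¹ =
        X.e x * o * (X.e x)⁻¹ := by
      rw [cc, cc, k (inv_mem (h.bL y)) h1, e1, k (h.bL y) (h.odd_K ho h1 h2 x)]
    rw [h.be, cc, k (h.fr.cL _) h1, mul_assoc (X.e x), cc, mul_left_inj,
      mul_right_inj] at e2
    exact mem_C1_iff_conj.2 e2
  have b : ∀ γ y : F4, γ ≠ 0 → ∃ s t u v : F4, s * t = u * v ∧
      y = γ * s * (t * t) + γ * u * (v * v) := by decide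
  refine mem_C_iff_le_C1.2 (Dx.T_le fun y _ => ?_)
  obtain ⟨s, t, u, v, e, rfl⟩ := b γ y h.ne0
  have := mul_mem (inv_mem (a t s)) (a v u)
  rwa [e, mul_inv_rev, mul_assoc, inv_mul_cancel_left,
    inv_eq_of_mul_eq_one_right (h.toS1.rr (h.top _)), ← h.radd] at this

theorem CK_r : X.K ⊓ C{X.r 1} ≤ C[X.T] := by
  refine le_of_syl_le fun p hp _ => ?_
  by_cases e : p = 2
  · subst e
    exact ⟨X.T, h.sylT.of_le (le_inf h.sylT.le (mem_C_iff_le_C1.1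
      (h.toS1.eaT.le_C (Dx.r_T h.one)))) inf_le_left, h.toS1.eaT.le_C⟩
  · obtain ⟨P, hP⟩ := Sylow_exists hp (X.K ⊓ C{X.r 1})
    exact ⟨P, hP, fun o ho => h.odd_T ((hP.pi.compl_of_ne e).piElt ho) (hP.le ho).1
      (mem_C1.1 (hP.le ho).2)⟩

/-- the centraliser of `r 1` modulo `Z`. -/
theorem key (hg : ∀ c, g * X.z c * g⁻¹ = X.z c) (e : g * X.r 1 * g⁻¹ = X.r 1 * X.z c) :
    ∃ u ∈ (md X).P, ∃ l ∈ X.P, ∃ o ∈ X.O, g = u * l * o := by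
  have e1 : X.d c * g * X.r 1 * (X.d c * g)⁻¹ = X.r 1 := by
    rw [cc, e, ← cj_mul', h.dr c 1 h.one, ← h.dPl (h.zP _), mul_inv_cancel_right, one_mul,
      mul_assoc, h.fr.zz, mul_one]
  have e2 := h.fr.aut_Z (h.C_r1 e1) (mul_mem (C_anti Dat.Z_P (h.dP c)) (mem_C_iff_le_C1.2
    (Dat.Z_le fun c => mem_C1_comm.1 (mem_C1_iff_conj.2 (hg c)))))
  obtain ⟨x, -, l, hl, o, ho, e3⟩ := h.toS1.CX h.fr.P_L e2 (by
    obtain ⟨l, hl, k, hk, e3⟩ := (h.fr.mem_MK h.fr.P_L).1 e2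
    have hT : l ∈ C[X.T] := cents_symm h.sylT.le (h.fr.P_L hl)
    rw [e3] at e1 ⊢
    exact mul_mem hT (h.CK_r ⟨hk, (mul_mem_cancel_left (mem_C1.2 (h.rL (h.fr.P_L hl) 1))).1
      (mem_C1_iff_conj.2 e1)⟩))
  exact ⟨(X.d c)⁻¹ * X.r x, mul_mem (inv_mem (h.d_P c)) (h.r_P x), l, hl, o, ho, by
    rw [mul_assoc, mul_assoc, ← mul_assoc (X.r x), ← e3, inv_mul_cancel_left]⟩

theorem pv (c : F4) : (md X).p (c • v0) = X.r c := by simp only [md, toU_v, h.pr]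
theorem v_eq : (md X).v = X.r 1 := by simp only [Md.v, md, toU_v0, h.pr]
theorem a_eq (c : F4) : (md X).a c = X.xc c := by simp only [Md.a, md, toU_w, h.pq, h.fr.qc]

theorem key2 (e : Ac (md X).p (md X).z g F fun c => c) (e' : F v0 = v0) :
    ∃ u ∈ (md X).P, ∃ l ∈ X.P, ∃ o ∈ X.O, g = u * l * o ∧ Ac (md X).p (md X).z l F fun c => c := by
  obtain ⟨c, e1⟩ := e.1 v0
  rw [e', show (md X).p v0 = X.r 1 from h.v_eq] at e1
  obtain ⟨u, hu, l, hl, o, ho, rfl⟩ := h.key e.2 e1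
  refine ⟨u, hu, l, hl, o, ho, rfl, ?_⟩
  have := h.ex.ac_mul (h.ex.ac_mul (h.ex.ac_in (inv_mem hu)) e) (h.ex.ac_cent (inv_mem (h.O_P ho)))
  rwa [show u⁻¹ * (u * l * o) * o⁻¹ = l by group] at this

theorem fix_u (e : Ac (md X).p (md X).z g F fun c => c) (e' : F v0 = v0) : F u0 = u0 := by
  obtain ⟨-, -, l, hl, -, -, -, e1⟩ := h.key2 e e'
  refine h.ex.ac_eq e1 (c := 0) (c' := 0) ?_
  simp only [md, toU_u0, h.pd, h.fr.z0, mul_one]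
  rw [h.dPl hl, mul_inv_cancel_right]

theorem word {a b : G} {A B : W → W} (ha : Ac (md X).p (md X).z a A fun c => c)
    (hb : Ac (md X).p (md X).z b B fun c => c)
    (e : A (tr (fq Wa) (B (tr (fq Wa) (B (tr (fq Wa) (A v0)))))) = v0) :
    A (tr (fq Wa) (B (tr (fq Wa) (B (tr (fq Wa) (A u0)))))) = u0 :=
  h.fix_u (h.ex.ac_mul ha (h.ex.ac_mul h.ac_w0 (h.ex.ac_mul hb (h.ex.ac_mul h.ac_w0
    (h.ex.ac_mul hb (h.ex.ac_mul h.ac_w0 ha)))))) e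

theorem eq1 : γ = 1 := by
  rcases f4_cases γ with e | e | e | e
  · exact absurd e h.ne0
  · exact e
  · subst e
    exact absurd (h.word (h.ac_e 1) (h.ac_e (om * om)) kill1.1) kill1.2
  · subst e
    exact absurd (h.word (h.ac_e 1) (h.ac_e om) kill2.1) kill2.2

end S4

end H27.G4.C
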