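import Mathlib
import Cfsg.Agent.H27.GC1

/-! The group `2^(2+12) : A₈`. -/

set_option autoImplicit false
set_option linter.unusedSectionVars false
set_option synthInstance.maxSize 4000

namespace H27.G4.C

open H24 H26 H26.Gold Subgroup Equiv
open H9 (F4)
open H24.Sz (Ex Ac Hs Zs)
open H24.G4 (V be Aa Wa Dat Dx)
open H24.G4.Dat (cj_mul' cj_inv')
open H7.SJ (p2)

variable {G : Type*} [Group G] [Finite G] {X : Dx G} {γ x y c : F4} {g u l o : G} {a b : U}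
  {F : W → W} {σ τ : Perm (Fin 8)}

namespace S4

variable (h : S4 X γ)
include h

theorem as_mul (e : (md X).As g σ) (e' : (md X).As u τ) : (md X).As (g * u) (σ * τ) :=
  (h.ex.ac_mul e e').congr (fun x => (act_mul σ τ x).symm) fun _ => rfl
theorem as_inv (e : (md X).As g σ) : (md X).As g⁻¹ σ⁻¹ := h.ex.ac_inv e (act_inv_act σ) fun _ => rfl
theorem as_in (hu : u ∈ (md X).P) : (md X).As u 1 :=
  (h.ex.ac_in hu).congr (fun x => (act_one x).symm) fun _ => rfl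
theorem as_O (hu : u ∈ X.O) : (md X).As u 1 :=
  (h.ex.ac_cent (h.O_P hu)).congr (fun x => (act_one x).symm) fun _ => rfl
theorem as_e (x : F4) : (md X).As (X.e x) (se x) :=
  (h.ac_e x).congr (by rw [h.eq1]; exact tr_e x) fun _ => rfl

theorem lift (hσ : σ ∈ A8) : ∃ m ∈ C[X.O], (md X).As m σ := by
  let A : Subgroup (Perm (Fin 8)) :=
    { carrier := {σ | ∃ m ∈ C[X.O], (md X).As m σ}
      mul_mem' := fun ⟨_, a, b⟩ ⟨_, c, d⟩ => ⟨_, mul_mem a c, h.as_mul b d⟩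
      one_mem' := ⟨1, one_mem _, h.as_in (one_mem _)⟩
      inv_mem' := fun ⟨_, a, b⟩ => ⟨_, inv_mem a, h.as_inv b⟩ }
  exact alt_le (P := A) (fun r => ⟨_, h.O_L (h.aL r), h.ac_a r⟩) (fun r => ⟨_, h.e_O r, h.as_e r⟩)
    ⟨_, h.O_L h.waL, h.ac_w⟩ ⟨_, h.O_L h.kL, h.ac_k⟩ hσ

theorem as_P (hl : l ∈ X.P) : ∃ σ ∈ A8, (md X).As l σ := by
  let A : Subgroup G :=
    { carrier := {l | ∃ σ ∈ A8, (md X).As l σ}
      mul_mem' := fun ⟨_, a, b⟩ ⟨_, c, d⟩ => ⟨_, mul_mem a c, h.as_mul b d⟩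
      one_mem' := ⟨1, one_mem _, h.as_in (one_mem _)⟩
      inv_mem' := fun ⟨_, a, b⟩ => ⟨_, inv_mem a, h.as_inv b⟩ }
  exact Dat.P_le (M := A) (Dat.S_le (fun r => ⟨_, sa_A8 r, h.ac_a r⟩)
    fun u hu => ⟨1, one_mem _, h.as_in (h.Q_P hu)⟩) ⟨_, sk_A8, h.ac_k⟩ ⟨_, sw_A8, h.ac_w⟩ hl

theorem pq' (v : V) : (md X).p (toW (0, 0, v)) = X.q v := by simp only [md, toU_toW, h.pq]

theorem ker (e : (md X).As g 1) : g ∈ (md X).P ⊔ X.O := by
  obtain ⟨u, hu, l, hl, o, ho, rfl, e1⟩ := h.key2 e (act_one _)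
  refine mul_mem (mem_sup_left (mul_mem hu (h.Q_P (h.fr.CQ hl fun v => ?_)))) (mem_sup_right ho)
  obtain ⟨c, e2⟩ := e1.1 (toW (0, 0, v))
  rw [act_one, h.pq'] at e2
  rw [e2, show (md X).z c = X.z c from rfl, ← h.fr.zq, mul_inv_cancel_right]
  exact Dat.z_Z c

theorem mem_X (hg : g ∈ (md X).X) (c : F4) : g * X.z c * g⁻¹ = X.z c :=
  conj_eq_of_mem_C hg (H24.Sz.z_Zs c)

theorem stab (hg : g ∈ (md X).X) (e : g * (md X).v * g⁻¹ = (md X).v) :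
    ∃ σ ∈ A8, (md X).As g σ := by
  rw [h.v_eq] at e
  obtain ⟨u, hu, l, hl, o, ho, rfl⟩ := h.key (c := 0) (h.mem_X hg) (by rw [e, h.fr.z0, mul_one])
  obtain ⟨σ, h1, h2⟩ := h.as_P hl
  exact ⟨σ, h1, by simpa using h.as_mul (h.as_mul (h.as_in hu) h2) (h.as_O ho)⟩

theorem out (hg : g ∈ N[(md X).P]) (e : g * (md X).v * g⁻¹ = (md X).v)
    (e' : ∀ c, g * X.z c * g⁻¹ = X.z (c * c)) : ∃ σ ∈ A8, (md X).Af g σ := by
  rw [h.v_eq] at e
  obtain ⟨l, hl, e1⟩ := h.fr.autF (h.C_r1 e) e'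
  obtain ⟨τ, h1, h2⟩ := h.as_P hl
  obtain ⟨f, φ, e2⟩ := h.ex.ac_of (mul_mem hg h2.norm)
  have e3 : Ac (md X).p (md X).z (g * l) f fun c => c * c :=
    ⟨e2.1, fun c => show g * l * X.z c * (g * l)⁻¹ = X.z (c * c) by rw [cc, h.fr.P_z hl, e']⟩
  have eb : ∀ x y, bf (f x) (f y) = bf x y * bf x y := fun x y => by
    have := h.ex.ac_cm e3 x y
    simpa only [md, β0_cm] using this
  have fq : ∀ v, f (toW (0, 0, v)) = toW (0, 0, Fb v) := fun v => by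
    obtain ⟨c, e4⟩ := e1 v
    exact h.ex.ac_eq e3 (c := 0) (c' := c) (by rw [h.ex.z0, mul_one, h.pq', h.pq', e4]; rfl)
  have f1 : f v0 = v0 := h.ex.ac_eq e3 (c := 0) (c' := 0) (by
    rw [h.ex.z0, mul_one, show (md X).p v0 = X.r 1 from h.v_eq, cc, h.rL (h.fr.P_L hl),
      mul_inv_cancel_right, e])
  have f2 : f w0 = w0 := by
    have := fq (0, 0, 0, 1)
    rwa [show toW (0, 0, 0, 0, 0, 1) = w0 by decide, show toW (0, 0, Fb (0, 0, 0, 1)) = w0 by decide]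
      at this
  have f3 : f v1 = v1 := by
    have := fq (0, 0, 1, 0)
    rwa [show toW (0, 0, 0, 0, 1, 0) = v1 by decide, show toW (0, 0, Fb (0, 0, 1, 0)) = v1 by decide]
      at this
  have f4 : f u1 = u1 := by
    have := fq (0, 1, 0, 0)
    rwa [show toW (0, 0, 0, 1, 0, 0) = u1 by decide, show toW (0, 0, Fb (0, 1, 0, 0)) = u1 by decide]
      at this
  have f5 : f b0 = b0 := by
    have := fq (1, 0, 0, 0)
    rwa [show toW (0, 0, 1, 0, 0, 0) = b0 by decide, show toW (0, 0, Fb (1, 0, 0, 0)) = b0 by decide]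
      at this
  have f6 : f u0 = u0 := by
    refine eq_u0 ?_ ?_ ?_ ?_ ?_ ?_
    · have := h.ex.ac_sqf e3 u0
      simp only [md, β0_sq] at this
      rw [this]; decide
    · rw [← f1, eb]; decide
    · rw [← f2, eb]; decide
    · rw [← f3, eb]; decide
    · rw [← f4, eb]; decide
    · rw [← f5, eb]; decide
  have e4 : (md X).Af (g * l) s0 := e3.congr (fun x => toU_inj (by
    rw [toU_fr, ← eb, ← eb, ← eb, ← eb, ← eb, ← eb, f1, f2, f3, f4, f5, f6]; rfl)) fun _ => rfl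
  refine ⟨s0 * τ⁻¹, mul_mem s0_A8 (inv_mem h1), ?_⟩
  have := h.ex.ac_mul e4 (h.as_inv h2)
  rw [mul_inv_cancel_right] at this
  exact this.congr (fun x => by rw [act_mul]) fun _ => rfl

theorem mu : ∃ t ∈ C[X.O], (∀ c, t * X.z c * t⁻¹ = X.z c) ∧
    ∀ c, t * (md X).a c * t⁻¹ = (md X).a c * X.z (c * c) := by
  obtain ⟨m, h1, h2⟩ := h.lift s1_A8
  have az := h.fr.a_z 1
  refine ⟨m * X.xa 1 * m⁻¹, mul_mem (mul_mem h1 (h.O_L (h.aL 1))) (inv_mem h1), fun c => ?_,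
    fun c => ?_⟩
  · rw [cc, cc, show m⁻¹ * X.z c * m⁻¹⁻¹ = X.z c from (h.as_inv h2).2 c, az]; exact h2.2 c
  · obtain ⟨d, e⟩ := h2.1 (c • w1)
    rw [act_smul, s1_w] at e
    have e1 : X.xa 1 * (md X).p (c • w1) * (X.xa 1)⁻¹ = (md X).p (c • w1) * X.z (c * c) := by
      simp only [md, toU_w1, pp]
      rw [← cj_mul', ← cj_mul', h.fr.a_q, h.rL (h.aL 1), h.dPl (Dat.S_P (Dat.a_S 1)),
        mul_inv_cancel_right, mul_inv_cancel_right, ← mul_assoc,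
        (by decide : ∀ c : F4, Aa 1 (0, c, c, 0) = (0, c, c, 0)),
        (by decide : ∀ c : F4, H24.G4.al 1 (0, c, c, 0) = c * c)]
    have e2 : (md X).a c = m * ((md X).p (c • w1) * X.z d) * m⁻¹ := by
      rw [← cj_mul', e, show m * X.z d * m⁻¹ = X.z d from h2.2 d, mul_assoc]
      exact (mul_one _).symm.trans (congrArg _ (h.fr.zz d).symm)
    rw [e2, cj_mul', cj_inv', cj_mul', ← cj_mul' (X.xa 1), e1, az]
    conv_rhs => rw [← show m * X.z (c * c) * m⁻¹ = X.z (c * c) from h2.2 _, cj_mul']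
    rw [mul_assoc (Md.p _ _), mul_assoc (Md.p _ _), ← h.fr.z_add, ← h.fr.z_add, add_comm]

theorem MD : (md X).MD where
  ex := h.ex
  sq := β0_sq
  cm := β0_cm
  odd := Dx.O_odd
  DP := h.O_P
  lift _ := h.lift
  scal := by
    obtain ⟨m, h1, h2⟩ := h.lift s3_A8
    exact ⟨X.h * m, mul_mem (h.O_L h.hL) h1, (h.ex.ac_mul h.ac_h h2).congr tr_h fun _ => rfl⟩
  ker _ := h.ker
  stab _ := h.stab
  out _ := h.out
  pv c c' := by rw [h.pv, h.pv, h.pv, h.radd]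
  pa c c' := by rw [h.a_eq, h.a_eq, h.a_eq, h.fr.c_add]
  nb := ⟨X.wb, h.O_L h.wbL, fun c => by rw [h.a_eq]; exact h.wb_c c,
    fun c => by rw [h.a_eq]; exact h.fr.wb_z c⟩
  mu := h.mu

end S4

end H27.G4.C
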