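import Mathlib
import Cfsg.Agent.H29.GF1

/-! Finite facts on `A₈` acting on `W`: `2`-subgroups. -/

set_option autoImplicit false
set_option maxRecDepth 100000
set_option linter.unusedVariables false

namespace H27.G4

open H24 H26 H26.Gold Subgroup Equiv
open H9 (F4)
open GF

variable {x u : W} {c : F4} {σ τ : Perm (Fin 8)} {J : AddSubgroup W} {E : Subgroup (Perm (Fin 8))}

theorem GF.fix_conj {g σ : Perm (Fin 8)} {x : W} :
    act (g * σ * g⁻¹) (act g x) = act g x ↔ act σ x = x := by rw [act_conj, act_eq_iff]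

theorem card_F1 (hσ : σ ∈ A8) (h1 : σ ≠ 1) (h2 : σ * σ = 1) : Nat.card (F1 σ) = 256 :=
  wl (P := fun σ => Nat.card {x // act σ x = x} = 256)
    (fun g σ h => (card_act g fun _ => fix_conj.symm).symm.trans h)
    ((card_sub _).trans (by decide +kernel)) ((card_sub _).trans (by decide +kernel)) hσ h1 h2
theorem GF.add_eq {x y : W} : x + y = 0 ↔ y = x :=
  ⟨fun h => add_left_cancel (h.trans (W.aa x).symm), fun h => h ▸ W.aa y⟩
theorem card_Rg (hσ : σ ∈ A8) (h1 : σ ≠ 1) (h2 : σ * σ = 1) : Nat.card (Rg σ) = 16 := by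
  let φ : W →+ W := AddMonoidHom.mk' (fun y => y + act σ y) fun a b => by rw [act_add]; abel
  have h3 := φ.ker.card_eq_card_quotient_mul_card_addSubgroup
  rw [Nat.card_congr (QuotientAddGroup.quotientKerEquivRange φ).toEquiv,
    show φ.ker = F1 σ from AddSubgroup.ext fun _ => add_eq, card_F1 hσ h1 h2,
    show φ.range = Rg σ from AddSubgroup.ext fun _ => exists_congr fun _ => eq_comm,
    Nat.card_eq_fintype_card, W.card] at h3
  omega
theorem Rg_le (h2 : σ * σ = 1) : Rg σ ≤ F1 σ := by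
  rintro _ ⟨y, rfl⟩
  rw [mem_F1, act_add, ← act_mul, h2, act_one, add_comm]
theorem GF.bf_swap (h2 : σ * σ = 1) (x y : W) : bf x (act σ y) = bf (act σ x) y := by
  rw [← bf_act σ x, ← act_mul, h2, act_one]
theorem F1_eq (h2 : σ * σ = 1) : F1 σ = Pp (Rg σ) := by
  ext x
  refine ⟨fun h => ?_, fun h => add_eq.1 (bf_nd fun y => ?_)⟩
  · rintro _ ⟨y, rfl⟩
    rw [bf_add, bf_swap h2, mem_F1.1 h, f4_aa]
  · rw [add_bf, ← bf_swap h2, ← bf_add]; exact h _ ⟨y, rfl⟩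
theorem Rg_eq (h2 : σ * σ = 1) : Rg σ = Pp (F1 σ) := by
  let S : Submodule F4 W :=
    { Rg σ with
      smul_mem' := by rintro c _ ⟨y, rfl⟩; exact ⟨c • y, by rw [act_smul, smul_add]⟩ }
  ext x
  rw [F1_eq h2]
  refine ⟨fun h y hy => (bf_comm _ _).trans (hy x h), fun h => ?_⟩
  have : x ∈ BF.orthogonal (BF.orthogonal S) := mem_orth.2 fun y hy =>
    (bf_comm _ _).trans (h y fun z hz => (bf_comm _ _).trans (mem_orth.1 hy z hz))
  rwa [LinearMap.BilinForm.orthogonal_orthogonal BF_nd BF_refl] at this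
theorem f_type (hσ : σ ∈ A8) (h2 : σ * σ = 1) : FPF σ ∨ ∃ x, VT x ∧ act σ x = x := by
  by_cases h1 : σ = 1
  · exact Or.inr ⟨v0, vt_v0, by rw [h1, act_one]⟩
  refine wl (P := fun σ => FPF σ ∨ ∃ x, VT x ∧ act σ x = x) (fun g σ h => h.imp (fun h i e => ?_)
    fun ⟨x, a, b⟩ => ⟨_, a.act g, fix_conj.2 b⟩)
    (Or.inr ⟨vec 4 5 6, ⟨4, 5, 6, by decide, by decide, by decide, rfl⟩, by decide +kernel⟩)
    (Or.inl (by unfold FPF; decide)) hσ h1 h2
  exact h (g⁻¹ i) (g.injective (by simpa using e))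
theorem fpf_b (h2 : σ * σ = 1) (h : FPF σ) (y : W) : bf y (act σ y) = 0 := by
  obtain ⟨g, rfl⟩ := fpf_conj h2 h
  obtain ⟨y, rfl⟩ := act_surj g y
  rw [act_conj, bf_act]
  revert y; decide +kernel

def GF.B4 : List W := [ee 0 1, ee 2 3, ee 4 5, ⟨0, 1, 0, 1, 0, 1⟩]
def GF.Cn (p : Fin 8 → Fin 8) : Prop :=
  sg p = 1 → (B4.all fun a => B4.all fun b => decide (bf (actf p a + a) b = 0)) = true
instance (p : Fin 8 → Fin 8) : Decidable (Cn p) := by unfold Cn; infer_instance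
theorem GF.cn_ok : ∀ a, ∀ b ∉ [a, s4 a], ∀ c ∉ [a, s4 a, b, s4 b], ∀ d ∉ [a, s4 a, b, s4 b, c, s4 c],
    Cn (pf (pc a (s4 a) b (s4 b) c (s4 c) d (s4 d))) := by decide +kernel
theorem GF.f1_s4 : ∀ x : W, act s4 x = x → x = x.a • ee 0 1 + x.c • ee 2 3 + x.e • ee 4 5 +
    (x.a + x.b) • ⟨0, 1, 0, 1, 0, 1⟩ := by decide +kernel

theorem GF.cen_s4 (hτ : τ ∈ A8) (hc : τ * s4 = s4 * τ) (hx : x ∈ F1 s4) : act τ x + x ∈ Rg s4 := by
  have a : ∀ i, τ.symm (s4 i) = s4 (τ.symm i) := fun i =>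
    DFunLike.congr_fun (show Commute τ s4 from hc).inv_left.eq i
  have e := pf_pc τ.symm
  have n2 : τ.symm 2 ∉ [τ.symm 0, τ.symm 1] := by simp
  have n4 : τ.symm 4 ∉ [τ.symm 0, τ.symm 1, τ.symm 2, τ.symm 3] := by simp
  have n6 : τ.symm 6 ∉ [τ.symm 0, τ.symm 1, τ.symm 2, τ.symm 3, τ.symm 4, τ.symm 5] := by simp
  rw [show τ.symm 1 = _ from a 0] at e n2 n4 n6
  rw [show τ.symm 3 = _ from a 2] at e n4 n6
  rw [show τ.symm 5 = _ from a 4] at e n6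
  rw [show τ.symm 7 = _ from a 6] at e
  have k := cn_ok _ _ n2 _ n4 _ n6
  rw [← e] at k
  have k := k (mem_A8.1 hτ)
  simp only [B4, List.all_cons, List.all_nil, Bool.and_true, Bool.and_eq_true,
    decide_eq_true_eq] at k
  simp only [← act_eq] at k
  have l : ∀ b ∈ B4, act τ b + b ∈ Pp (F1 s4) := fun b hb y hy => by
    rw [f1_s4 y hy]
    simp only [B4, List.mem_cons, List.not_mem_nil, or_false] at hb
    rcases hb with rfl | rfl | rfl | rfl <;> simp only [bf_add, bf_smul, k, mul_zero, add_zero]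
  have m : ∀ (c : F4), ∀ b ∈ B4, act τ (c • b) + c • b ∈ Pp (F1 s4) := fun c b hb y hy => by
    rw [act_smul, ← smul_add, smul_bf, l b hb y hy, mul_zero]
  have n : ∀ a b : W, act τ a + a ∈ Pp (F1 s4) → act τ b + b ∈ Pp (F1 s4) →
      act τ (a + b) + (a + b) ∈ Pp (F1 s4) := fun a b ha hb => by
    rw [act_add, add_add_add_comm]; exact add_mem ha hb
  rw [Rg_eq (by decide), f1_s4 x hx]
  exact n _ _ (n _ _ (n _ _ (m _ _ (by simp [B4])) (m _ _ (by simp [B4]))) (m _ _ (by simp [B4])))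
    (m _ _ (by simp [B4]))

/-- the centraliser in `A₈` acts trivially on `C_W(σ) / [W, σ]`. -/
theorem f_cen (h2 : σ * σ = 1) (h : FPF σ) (hτ : τ ∈ A8) (hc : τ * σ = σ * τ) (hx : x ∈ F1 σ) :
    act τ x + x ∈ Rg σ := by
  obtain ⟨g, rfl⟩ := fpf_conj h2 h
  obtain ⟨x, rfl⟩ := act_surj g x
  obtain ⟨ρ, rfl⟩ : ∃ ρ, τ = g * ρ * g⁻¹ := ⟨g⁻¹ * τ * g, by group⟩
  rw [conj_mul, conj_mul, mul_left_inj, mul_right_inj] at hc
  obtain ⟨y, hy⟩ := cen_s4 (by simpa [mul_assoc] using conj_A8 g⁻¹ hτ) hc (fix_conj.1 hx)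
  exact ⟨act g y, by rw [act_conj, act_conj, ← act_add, ← act_add, hy]⟩
theorem f_cen64 (h2 : σ * σ = 1) (h : FPF σ) : ∃ S ≤ A8, ♯S = 64 ∧ S ≤ C{σ} := by
  obtain ⟨g, rfl⟩ := fpf_conj h2 h
  refine ⟨S0.map (MulAut.conj g).toMonoidHom, ?_, (card_map_of_injective (MulAut.conj g).injective).trans
    card_S0, ?_⟩
  · rintro _ ⟨a, ha, rfl⟩
    exact conj_A8 g (S0_le ha)
  · rintro _ ⟨_, ⟨a, rfl⟩, rfl⟩
    have k : ∀ a, el a * s4 = s4 * el a := by decide +kernel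
    rw [mem_centralizer_singleton_iff]
    change g * el a * g⁻¹ * _ = _ * (g * el a * g⁻¹)
    rw [conj_mul, conj_mul, k]
theorem GF.dvd64 (hE : E ≤ A8) (h : IsPGroup 2 E) : ∃ k ≤ 6, ♯E = 2 ^ k := by
  obtain ⟨k, hk⟩ := h.exists_card_eq
  obtain ⟨g, A, h1, -⟩ := into hE h
  have : A.card ≤ 64 := (Finset.card_le_univ _).trans (by simp)
  exact ⟨k, (Nat.pow_le_pow_iff_right one_lt_two).1 (by omega), hk⟩
theorem f_two (hE : E ≤ A8) (h : TwoG E) : ♯E ∣ 64 := by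
  obtain ⟨k, h1, h2⟩ := dvd64 hE (h.isPGroup Nat.prime_two)
  exact h2 ▸ pow_dvd_pow 2 h1
theorem f_ea (hE : E ≤ A8) (h : EA E) : ♯E ∣ 16 := by
  obtain ⟨k, -, h2⟩ := dvd64 hE (ea_p h)
  obtain ⟨g, A, h3, h4, -⟩ := into hE (ea_p h)
  have a := Finset.card_le_card (show A ⊆ Finset.univ.filter fun a => mu a a = 0 from
    fun a ha => Finset.mem_filter.2 ⟨Finset.mem_univ _, cj_sq (ea_sq h ((h4 a).1 ha))⟩)
  have b : (Finset.univ.filter fun a => mu a a = 0).card < 2 ^ 5 := by decide +kernel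
  have : k < 5 := (Nat.pow_lt_pow_iff_right one_lt_two).1 (by omega)
  exact h2 ▸ pow_dvd_pow 2 (show k ≤ 4 by omega)
theorem f_ea2 (hE : E ≤ A8) (h : EA E) (h0 : E ≠ ⊥) : Nat.card (Fx E) ≤ 256 := by
  obtain ⟨⟨σ, hσ⟩, h1⟩ := ne_bot_iff_exists_ne_one.1 h0
  rw [← card_F1 (hE hσ) (fun e => h1 (Subtype.ext e)) (ea_sq h hσ)]
  exact AddSubgroup.card_le_of_le fun x hx => hx σ hσ
theorem GF.sep : ∀ a b : Fin 64, a ≠ 0 → b ≠ 0 → a ≠ b → mu a a = 0 → mu b b = 0 →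
    ∃ n, act (el a) (rv n) = rv n ∧ act (el b) (rv n) ≠ rv n := by decide +kernel
theorem f_ea4 (hE : E ≤ A8) (h : EA E) (h4 : 4 ≤ ♯E) : Nat.card (Fx E) ≤ 64 := by
  obtain ⟨g, A, h1, h2, -⟩ := into hE (ea_p h)
  obtain ⟨a, ha, b, hb, e⟩ := Finset.one_lt_card.1 (show 1 < (A.erase 0).card by
    have := Finset.pred_card_le_card_erase (s := A) (a := 0); omega)
  rw [Finset.mem_erase, h2] at ha hb
  obtain ⟨n, n1, n2⟩ := sep a b ha.1 hb.1 e (cj_sq (ea_sq h ha.2)) (cj_sq (ea_sq h hb.2))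
  let S : Submodule F4 W :=
    { Fx E with smul_mem' := fun c y hy σ hσ => by rw [act_smul, hy σ hσ] }
  let T : Submodule F4 W :=
    { F1 (g * el a * g⁻¹) with smul_mem' := fun c y hy => (act_smul _ _ _).trans (congrArg _ hy) }
  have lt : S < T := lt_of_le_of_ne (fun y hy => hy _ ha.2) fun e' =>
    n2 (fix_conj.1 ((e'.ge (show act g (rv n) ∈ T from fix_conj.2 n1)) _ hb.2))
  have c1 : Nat.card T = 4 ^ 4 := card_F1 (hE ha.2) (fun e => ha.1 (el_inj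
    ((conj_eq_one_iff.1 e).trans el_zero.symm))) (ea_sq h ha.2)
  rw [card_sm] at c1
  have c2 := Submodule.finrank_lt_finrank_of_lt lt
  rw [Nat.pow_right_injective (by norm_num : 2 ≤ 4) c1] at c2
  change Nat.card S ≤ 4 ^ 3
  rw [card_sm]
  exact Nat.pow_le_pow_right (by norm_num) (by omega)
theorem GF.w_ok (g : Perm (Fin 8)) : Rat (act g w0) ∧ act g w0 ≠ 0 ∧ qf (act g w0) = 0 :=
  ⟨rat_w0.act g, mt act_eq_zero.1 w0_ne, (qf_act _ _).trans qf_w0⟩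
theorem f_ea16 (hE : E ≤ A8) (h : EA E) (h4 : ♯E = 16) :
    ∃ w, Rat w ∧ w ≠ 0 ∧ qf w = 0 ∧ ∀ x, x ∈ Fx E ↔ ∃ c : F4, x = c • w := by
  obtain ⟨g, h1, h2⟩ := into16 hE h h4
  exact ⟨_, (w_ok g).1, (w_ok g).2.1, (w_ok g).2.2,
    fx_of h1 fun σ hσ => (h2 σ hσ).imp fun _ => And.right⟩
theorem f_ea16' (hE : E ≤ A8) (h : EA E) (h4 : ♯E = 16) : Nat.card (Fx E) = 4 := by
  obtain ⟨w, -, h0, -, h1⟩ := f_ea16 hE h h4
  rw [← Nat.card_congr (Equiv.ofBijective (fun c : F4 => (⟨c • w, (h1 _).2 ⟨c, rfl⟩⟩ : Fx E))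
    ⟨fun a b e => smul_left_injective F4 h0 (Subtype.mk.inj e),
      fun y => ((h1 y).1 y.2).imp fun _ e => Subtype.ext e.symm⟩), Nat.card_eq_fintype_card, F4.card]
theorem f_syl (hE : E ≤ A8) (h4 : ♯E = 64) :
    ∃ w, Rat w ∧ w ≠ 0 ∧ qf w = 0 ∧ ∀ x, x ∈ Fx E ↔ ∃ c : F4, x = c • w := by
  obtain ⟨g, A, h1, h2, h3⟩ := into hE (IsPGroup.of_card (n := 6) h4)
  have : A = Finset.univ := Finset.eq_univ_of_card A (by rw [h1, h4]; rfl)
  exact ⟨_, (w_ok g).1, (w_ok g).2.1, (w_ok g).2.2,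
    fx_of (fun a _ => (h2 a).1 (this ▸ Finset.mem_univ a)) h3⟩
theorem f_pfix (h : TwoG E) (hJ : ∀ σ ∈ E, ∀ y ∈ J, act σ y ∈ J) (h0 : J ≠ ⊥) :
    ∃ x ∈ J, x ≠ 0 ∧ x ∈ Fx E := by
  let _ : MulAction E J :=
    { smul := fun σ y => ⟨act σ y, hJ σ σ.2 y y.2⟩
      one_smul := fun y => Subtype.ext (act_one _)
      mul_smul := fun a b y => Subtype.ext (act_mul _ _ _) }
  obtain ⟨k, -, hk⟩ := card_two J
  have : 2 ∣ Nat.card J := hk ▸ dvd_pow_self 2 (by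
    rintro rfl; exact h0 (AddSubgroup.card_eq_one.1 hk))
  obtain ⟨b, h1, h2⟩ := (h.isPGroup Nat.prime_two).exists_fixed_point_of_prime_dvd_card_of_fixed_point
    J this (a := 0) fun σ => Subtype.ext (act_zero _)
  exact ⟨b, b.2, fun e => h2 (Subtype.ext e.symm), fun σ hσ => congrArg Subtype.val (h1 ⟨σ, hσ⟩)⟩

def GF.Mv (a : Fin 64) (x y : W) : Prop := act (el a) y + y = 0 ∨ act (el a) y + y = x
instance (a : Fin 64) (x y : W) : Decidable (Mv a x y) := by unfold Mv; infer_instance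
def GF.YL (c : F4) : List ℕ := if c = om then [0, 85, 170, 255, 522, 546, 552, 607, 631, 637, 642, 648, 672, 727, 733, 757, 2058, 2082, 2088, 2143, 2167, 2173, 2178, 2184, 2208, 2263, 2269, 2293, 2570, 2594, 2600, 2655, 2679, 2685, 2690, 2696, 2720, 2775, 2781, 2805] else [0, 85, 170, 255, 783, 819, 828, 858, 870, 873, 918, 921, 933, 963, 972, 1008, 3087, 3123, 3132, 3162, 3174, 3177, 3222, 3225, 3237, 3267, 3276, 3312, 3855, 3891, 3900, 3930, 3942, 3945, 3990, 3993, 4005, 4035, 4044, 4080]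
theorem GF.y_mem : ∀ c : F4, ¬ F2 c → ∀ y : W, bf (c • w0) y = 0 → F2 (qf y) → Mv 1 (c • w0) y →
    Mv 2 (c • w0) y → Mv 3 (c • w0) y → Mv 4 (c • w0) y → cd y ∈ YL c := by decide +kernel
theorem GF.wc_cd : ∀ y : W, wc (cd y) = y := by decide +kernel
theorem GF.y_cnt : ∀ c : F4, ((YL c).all fun n => decide (n ∈ [0, 85, 170, 255]) ||
    decide (((YL c).filter fun m => decide (cd (wc m + wc n) ∈ YL c)).length < 32)) = true := by
  decide +kernel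

theorem GF.card_list {J : AddSubgroup W} {L : List ℕ} (h : ∀ y ∈ J, cd y ∈ L) :
    Nat.card J ≤ L.length := by
  refine le_trans (Nat.card_le_card_of_injective (β := L.toFinset)
    (fun y => ⟨cd y.1, List.mem_toFinset.2 (h _ y.2)⟩) fun a b e => Subtype.ext ?_) ?_
  · rw [← wc_cd a.1, Subtype.mk.inj e, wc_cd]
  · rw [Nat.card_eq_fintype_card, Fintype.card_coe]; exact L.toFinset_card_le

theorem f_5a (hE : E ≤ A8) (h : EA E) (h4 : ♯E = 16) (h0 : x ≠ 0) (h1 : ¬ Rat x) (h2 : x ∈ Fx E)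
    (h3 : ∀ y ∈ J, F2 (qf y)) (h5 : ∀ y ∈ J, bf x y = 0)
    (h6 : ∀ σ ∈ E, ∀ y ∈ J, act σ y + y = 0 ∨ act σ y + y = x) : Nat.card J ≤ 16 := by
  obtain ⟨g, a, b⟩ := into16 hE h h4
  obtain ⟨c, rfl⟩ := (fx_of a (fun σ hσ => (b σ hσ).imp fun _ => And.right) x).1 h2
  have hc : ¬ F2 c := by
    rintro (rfl | rfl)
    · exact h0 (zero_smul _ _)
    · exact h1 (by rw [one_smul]; exact (w_ok g).1)
  rw [← act_smul] at h5 h6
  let K : AddSubgroup W := J.comap (AddMonoidHom.mk' (act g) (act_add g))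
  have e : Nat.card K = Nat.card J := card_act g fun _ => Iff.rfl
  have m : ∀ y ∈ K, ∀ i : Fin 64, i < 16 → Mv i (c • w0) y := fun y hy i hi => by
    have := h6 _ (a i hi) (act g y) hy
    rwa [act_conj, ← act_add, act_eq_zero, act_eq_iff] at this
  have k : ∀ y ∈ K, cd y ∈ YL c := fun y hy => y_mem c hc y ((bf_act g _ _).symm.trans (h5 _ hy))
    (qf_act g y ▸ h3 _ hy) (m y hy 1 (by decide)) (m y hy 2 (by decide)) (m y hy 3 (by decide))
    (m y hy 4 (by decide))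
  rw [← e]
  by_cases n : ∀ y ∈ K, cd y ∈ [0, 85, 170, 255]
  · exact (card_list n).trans (by decide)
  push Not at n
  obtain ⟨y, hy, n⟩ := n
  have l := List.all_eq_true.1 (y_cnt c) _ (k y hy)
  rw [Bool.or_eq_true, decide_eq_true_eq, decide_eq_true_eq, wc_cd] at l
  have l := (card_list fun v hv => List.mem_filter.2 ⟨k v hv, by
    rw [decide_eq_true_eq, wc_cd]; exact k _ (K.add_mem hv hy)⟩).trans_lt (l.resolve_left n)
  obtain ⟨j, -, hj⟩ := card_two K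
  rw [hj] at l ⊢
  exact Nat.pow_le_pow_right (by norm_num) (show j ≤ 4 by
    have := (Nat.pow_lt_pow_iff_right one_lt_two).1 (show 2 ^ j < 2 ^ 5 from l); omega)

def GF.Di (σ : Perm (Fin 8)) (u : W) : Prop :=
  (∃ y, Rat y ∧ u = y + act σ y) ∨
    ((∃ y, Rat y ∧ act σ y = y ∧ bf u y = 1) ∧ (∀ y, Rat y → u ≠ y + act σ y) ∧
      (∀ x, Rat x → act σ x = x → bf u x = 0 →
        ∃ y, Rat y ∧ (x = y + act σ y ∨ x = y + act σ y + u)) ∧
      Nat.card {x : W // Rat x ∧ act σ x = x ∧ bf u x = 0} = 8)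

theorem GF.card_rv (p : W → Prop) [DecidablePred p] :
    Nat.card {x : W // Rat x ∧ p x} = (Finset.univ.filter fun n => p (rv n)).card := by
  have k : Function.Injective rv := by decide +kernel
  rw [← Fintype.card_subtype, ← Nat.card_eq_fintype_card]
  exact (Nat.card_congr (Equiv.ofBijective (β := {x : W // Rat x ∧ p x})
    (fun n : {n // p (rv n)} => ⟨rv n.1, rat_rv _, n.2⟩)
    ⟨fun a b e => Subtype.ext (k (Subtype.mk.inj e)), fun x => (ex_rv x x.2.1).elim fun n e =>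
      ⟨⟨n, e ▸ x.2.2⟩, Subtype.ext e.symm⟩⟩)).symm

theorem GF.di_conj (g σ : Perm (Fin 8)) (u : W) (h : Di σ u) : Di (g * σ * g⁻¹) (act g u) := by
  refine h.imp (fun ⟨y, a, b⟩ => ⟨_, a.act g, by rw [act_conj, ← act_add, b]⟩)
    fun ⟨⟨y, a, b, c⟩, d, e, f⟩ => ⟨⟨_, a.act g, fix_conj.2 b, (bf_act _ _ _).trans c⟩,
      fun y hy => ?_, fun x hx h1 h2 => ?_, ?_⟩
  · obtain ⟨y, rfl⟩ := act_surj g y
    rw [act_conj, ← act_add, Ne, act_eq_iff]
    exact d y (rat_act.1 hy)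
  · obtain ⟨x, rfl⟩ := act_surj g x
    obtain ⟨y, a, b⟩ := e x (rat_act.1 hx) (fix_conj.1 h1) ((bf_act _ _ _).symm.trans h2)
    exact ⟨_, a.act g, by rwa [act_conj, ← act_add, ← act_add, act_eq_iff, act_eq_iff]⟩
  · exact (card_act g fun x => by rw [rat_act, fix_conj, bf_act]).symm.trans f

/-- involutions on the `8`-dimensional space `F₂ ⊕ W₀ ⊕ F₂`: either `u ∈ [W₀, σ]`, or fixed
vectors orthogonal to `u` lie in `[W₀, σ] + ⟨u⟩`, and there are `8` of them. -/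
theorem f_dich (hσ : σ ∈ A8) (h1 : σ ≠ 1) (h2 : σ * σ = 1) (hu : Rat u) (h3 : act σ u = u) :
    (∃ y, Rat y ∧ u = y + act σ y) ∨
      ((∃ y, Rat y ∧ act σ y = y ∧ bf u y = 1) ∧ (∀ y, Rat y → u ≠ y + act σ y) ∧
        (∀ x, Rat x → act σ x = x → bf u x = 0 →
          ∃ y, Rat y ∧ (x = y + act σ y ∨ x = y + act σ y + u)) ∧
        Nat.card {x : W // Rat x ∧ act σ x = x ∧ bf u x = 0} = 8) := by
  refine wl (P := fun σ => ∀ u, Rat u → act σ u = u → Di σ u) (fun g σ h u a b => ?_) ?_ ?_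
    hσ h1 h2 u hu h3
  · obtain ⟨u, rfl⟩ := act_surj g u
    exact di_conj g σ u (h u (rat_act.1 a) (fix_conj.1 b))
  all_goals
    simp only [Di, card_rv, all_rat, ex_rat]
    decide +kernel
/-- a singular vector `s` of `[W₀, σ]` with `[s^⊥, σ] ≤ ⟨s⟩`. -/
theorem f_root (hσ : σ ∈ A8) (h1 : σ ≠ 1) (h2 : σ * σ = 1) :
    ∃ s, Rat s ∧ s ≠ 0 ∧ qf s = 0 ∧ (∃ y, Rat y ∧ s = y + act σ y) ∧
      ∀ y, Rat y → bf s y = 0 → act σ y = y ∨ act σ y = y + s := by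
  refine wl (P := fun σ => ∃ s, Rat s ∧ s ≠ 0 ∧ qf s = 0 ∧ (∃ y, Rat y ∧ s = y + act σ y) ∧
      ∀ y, Rat y → bf s y = 0 → act σ y = y ∨ act σ y = y + s)
    (fun g σ ⟨s, a, b, c, ⟨y, d, e⟩, f⟩ => ⟨act g s, a.act g, mt act_eq_zero.1 b,
      (qf_act _ _).trans c, ⟨_, d.act g, by rw [act_conj, ← act_add, e]⟩, fun y hy h => ?_⟩) ?_ ?_
    hσ h1 h2
  · obtain ⟨y, rfl⟩ := act_surj g y
    rw [act_conj, ← act_add, act_eq_iff, act_eq_iff]
    exact f y (rat_act.1 hy) ((bf_act _ _ _).symm.trans h)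
  all_goals
    simp only [all_rat, ex_rat]
    decide +kernel

end H27.G4
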