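import Mathlib
import Cfsg.Agent.H27.GW2

/-! Finite facts on `A₈` acting on `W`: involutions. -/

set_option autoImplicit false
set_option maxRecDepth 100000
set_option synthInstance.maxSize 100000
set_option synthInstance.maxHeartbeats 400000

namespace H27.G4.Fd

open H24 H26 H26.Gold Subgroup Equiv
open H9 (F4)
open H7.SJ (p2)

variable {x u : W} {c : F4} {σ τ π : Perm (Fin 8)} {J : AddSubgroup W} {E : Subgroup (Perm (Fin 8))}

def t1 : Perm (Fin 8) := swap 0 1 * swap 2 3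
def t2 : Perm (Fin 8) := swap 0 1 * swap 2 3 * swap 4 5 * swap 6 7

theorem aa (h2 : σ * σ = 1) (x : W) : act σ (act σ x) = x := by rw [← act_mul, h2, act_one]
theorem eq0 {x y : W} : x + y = 0 ↔ x = y :=
  ⟨fun e => by rw [← add_zero x, ← W.aa y, ← add_assoc, e, zero_add], fun e => e ▸ W.aa x⟩

theorem Rg_le (h2 : σ * σ = 1) : Rg σ ≤ F1 σ := by
  rintro _ ⟨y, rfl⟩
  rw [mem_F1, act_add, aa h2, add_comm]

theorem F1_eq (h2 : σ * σ = 1) : F1 σ = Pp (Rg σ) := by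
  have k : ∀ x y, bf x (y + act σ y) = bf (act σ x + x) y := fun x y => by
    rw [bf_add, add_bf, ← bf_act σ x (act σ y), aa h2, add_comm]
  ext x
  rw [mem_F1, mem_Pp, ← eq0]
  exact ⟨fun e _ ⟨y, e'⟩ => by rw [e', k, e, zero_bf], fun e => bf_nd fun y => k x y ▸ e _ ⟨y, rfl⟩⟩

/-- the bilinear form. -/
def BB : LinearMap.BilinForm F4 W := LinearMap.mk₂ F4 bf add_bf smul_bf bf_add fun c x y => bf_smul c x y

theorem Rg_eq (h2 : σ * σ = 1) : Rg σ = Pp (F1 σ) := by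
  let S : Submodule F4 W :=
    { Rg σ with smul_mem' := fun c _ ⟨y, e⟩ => ⟨c • y, by rw [e, smul_add, act_smul]⟩ }
  have r : BB.IsRefl := fun x y (e : bf x y = 0) => show bf y x = 0 by rwa [bf_comm]
  have := LinearMap.BilinForm.orthogonal_orthogonal (B := BB)
    (r.nondegenerate_iff_separatingLeft.2 fun x e => bf_nd e) r S
  ext x
  rw [show x ∈ Rg σ ↔ x ∈ S from Iff.rfl, ← this, F1_eq h2]
  exact ⟨fun e y hy => (bf_comm _ _).trans (e y fun n hn => (bf_comm _ _).trans (hy n hn)),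
    fun e y hy => (bf_comm _ _).trans (e y fun n hn => (bf_comm _ _).trans (hy n hn))⟩

theorem ct (h2 : σ * σ = 1) : ∃ k, σ.cycleType = Multiset.replicate k 2 ∧ σ.support.card = k * 2 := by
  have : Fact (Nat.Prime 2) := ⟨p2⟩
  have e := Multiset.eq_replicate_card.2 (Perm.pow_prime_eq_one_iff.1 ((pow_two σ).trans h2))
  exact ⟨_, e, by rw [← Perm.sum_cycleType, e]; simp⟩

theorem conj_of (h1 : σ * σ = 1) (h2 : τ * τ = 1) (h : τ.support.card = σ.support.card) :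
    ∃ π, σ = π * τ * π⁻¹ := by
  obtain ⟨k, a, b⟩ := ct h1
  obtain ⟨l, c, d⟩ := ct h2
  obtain rfl : k = l := by omega
  obtain ⟨π, e⟩ := isConj_iff.1 (Perm.isConj_iff_cycleType_eq.2 (c.trans a.symm))
  exact ⟨π, e.symm⟩

theorem fpf_card (h : FPF σ) : σ.support.card = 8 := by
  rw [show σ.support = Finset.univ from Finset.eq_univ_of_forall fun i => Perm.mem_support.2 (h i)]
  rfl

theorem rep2 (h2 : σ * σ = 1) (h : FPF σ) : ∃ π, σ = π * t2 * π⁻¹ :=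
  conj_of h2 (by decide) (by rw [fpf_card h]; decide)

theorem rep (hσ : σ ∈ A8) (h1 : σ ≠ 1) (h2 : σ * σ = 1) :
    ∃ π, σ = π * t1 * π⁻¹ ∨ σ = π * t2 * π⁻¹ := by
  obtain ⟨k, a, b⟩ := ct h2
  have s := Perm.mem_alternatingGroup.1 hσ
  rw [Perm.sign_of_cycleType, Perm.sum_cycleType, b, a, Multiset.card_replicate] at s
  have l : k * 2 ≤ 8 := b ▸ Finset.card_le_univ σ.support
  have n : k ≠ 0 := fun e => h1 (Perm.card_support_eq_zero.1 (by rw [b, e]))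
  obtain rfl | rfl : k = 2 ∨ k = 4 := by
    have : k ≤ 4 := by omega
    interval_cases k <;> simp_all <;> exact absurd s (by decide)
  · exact (conj_of h2 (τ := t1) (by decide) (by rw [b]; decide)).imp fun _ => Or.inl
  · exact (conj_of h2 (τ := t2) (by decide) (by rw [b]; decide)).imp fun _ => Or.inr

theorem act_cj (x : W) : act (π * τ * π⁻¹) (act π x) = act π (act τ x) := by
  rw [act_mul, act_mul, act_inv_act]

theorem card_cj : Nat.card (F1 (π * τ * π⁻¹)) = Nat.card (F1 τ) :=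
  (Nat.card_congr (Equiv.ofBijective (fun x : F1 τ => (⟨act π x, (act_cj _).trans
    (congrArg _ x.2)⟩ : F1 (π * τ * π⁻¹))) ⟨fun _ _ e => Subtype.ext (act_inj π (congrArg Subtype.val e)),
      fun y => ⟨⟨act π⁻¹ y, act_inj π (by rw [← act_cj, act_act_inv]; exact y.2)⟩,
        Subtype.ext (act_act_inv _ _)⟩⟩)).symm

theorem card4 {s : W → Prop} (f : F4 × F4 × F4 × F4 → W) (g : W → F4 × F4 × F4 × F4)
    (h1 : ∀ a b c d, s (f (a, b, c, d)) ∧ g (f (a, b, c, d)) = (a, b, c, d))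
    (h2 : ∀ x, s x → f (g x) = x) : Nat.card {x // s x} = 256 := by
  rw [Nat.card_congr (⟨fun x => g x, fun a => ⟨f a, (h1 _ _ _ _).1⟩, fun x => Subtype.ext (h2 _ x.2),
    fun a => (h1 _ _ _ _).2⟩ : {x // s x} ≃ F4 × F4 × F4 × F4)]
  simp [F4.card]

theorem fix1 : ∀ x, act t1 x = x → x = ⟨x.a, x.a, x.c, x.c, x.e, x.f⟩ := by decide +kernel
theorem fix2 : ∀ x, act t2 x = x →
    x = ⟨x.a, x.b, x.a + x.b + x.d, x.d, x.a + x.b + x.f, x.f⟩ := by decide +kernel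

theorem card_F1 (hσ : σ ∈ A8) (h1 : σ ≠ 1) (h2 : σ * σ = 1) : Nat.card (F1 σ) = 256 := by
  obtain ⟨π, rfl | rfl⟩ := rep hσ h1 h2 <;> rw [card_cj]
  · exact card4 (s := fun x => act t1 x = x) (fun a => ⟨a.1, a.1, a.2.1, a.2.1, a.2.2.1, a.2.2.2⟩)
      (fun x => (x.a, x.c, x.e, x.f)) (by decide +kernel) fun x e => (fix1 x e).symm
  · exact card4 (s := fun x => act t2 x = x)
      (fun a => ⟨a.1, a.2.1, a.1 + a.2.1 + a.2.2.1, a.2.2.1, a.1 + a.2.1 + a.2.2.2, a.2.2.2⟩)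
      (fun x => (x.a, x.b, x.d, x.f)) (by decide +kernel) fun x e => (fix2 x e).symm

theorem card_Rg (hσ : σ ∈ A8) (h1 : σ ≠ 1) (h2 : σ * σ = 1) : Nat.card (Rg σ) = 16 := by
  let f : W →+ W := AddMonoidHom.mk' (fun y => y + act σ y) fun a b => by rw [act_add]; abel
  have e1 : f.ker = F1 σ := AddSubgroup.ext fun x => eq0.trans eq_comm
  have e2 : f.range = Rg σ := AddSubgroup.ext fun x => exists_congr fun _ => eq_comm
  have := f.ker.card_mul_index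
  rw [AddSubgroup.index_ker, e1, e2, card_F1 hσ h1 h2, Nat.card_eq_fintype_card (α := W), W.card] at this
  omega

theorem f_type (hσ : σ ∈ A8) (h2 : σ * σ = 1) : FPF σ ∨ ∃ x, VT x ∧ act σ x = x := by
  by_cases h1 : σ = 1
  · exact Or.inr ⟨v0, vt_v0, h1 ▸ act_one _⟩
  obtain ⟨π, rfl | rfl⟩ := rep hσ h1 h2
  · exact Or.inr ⟨act π (vec 4 5 6), VT.act ⟨4, 5, 6, by decide, by decide, by decide, rfl⟩ π, by
      rw [act_cj]; exact congrArg _ (by decide)⟩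
  · refine Or.inl fun i e => (by decide : ∀ i, t2 i ≠ i) (π⁻¹ i) (π.injective ?_)
    simpa using e

theorem fpf_b (h2 : σ * σ = 1) (h : FPF σ) (y : W) : bf y (act σ y) = 0 := by
  obtain ⟨π, rfl⟩ := rep2 h2 h
  rw [← act_act_inv π y, act_cj, bf_act]
  generalize act π⁻¹ y = x
  revert x; decide +kernel

/-- a basis of the fixed space. -/
def fb : Fin 4 → W := ![⟨1, 0, 1, 0, 1, 0⟩, ⟨1, 1, 0, 0, 0, 0⟩, ⟨0, 0, 1, 1, 0, 0⟩, ⟨0, 0, 0, 0, 1, 1⟩]

theorem fix3 (h : act t2 x = x) :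
    x = (x.a + x.b) • fb 0 + x.b • fb 1 + x.d • fb 2 + x.f • fb 3 := by
  revert x; decide +kernel

theorem cen_aux : ∀ a b c d : Fin 8, let f : Fin 8 → Fin 8 := ![a, t2 a, b, t2 b, c, t2 c, d, t2 d]
    b ≠ a → b ≠ t2 a → c ≠ a → c ≠ t2 a → c ≠ b → c ≠ t2 b → d ≠ a → d ≠ t2 a → d ≠ b → d ≠ t2 b →
      d ≠ c → d ≠ t2 c →
      (∏ j, ∏ i ∈ Finset.Iio j, (if f i < f j then (1 : ℤˣ) else -1)) = 1 →
      ∀ i j, bf (prj fun n => emb (fb i) (f n)) (fb j) = bf (fb i) (fb j) := by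
  intro a b c d; dsimp only; revert a b c d; decide +kernel

theorem cen2 (hτ : τ ∈ A8) (hc : τ * t2 = t2 * τ) (i j : Fin 4) :
    bf (act τ⁻¹ (fb i)) (fb j) = bf (fb i) (fb j) := by
  have k : ∀ i, τ (t2 i) = t2 (τ i) := fun i => congrArg (fun s : Perm (Fin 8) => s i) hc
  have e : (τ : Fin 8 → Fin 8) =
      ![τ 0, t2 (τ 0), τ 2, t2 (τ 2), τ 4, t2 (τ 4), τ 6, t2 (τ 6)] := by
    simp only [← k]
    funext n; fin_cases n <;> rfl
  have n : ∀ {a b : Fin 8}, a ≠ b → τ a ≠ τ b := fun h => τ.injective.ne h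
  have n' : ∀ {a b : Fin 8}, a ≠ t2 b → τ a ≠ t2 (τ b) := fun h => k _ ▸ n h
  have := cen_aux (τ 0) (τ 2) (τ 4) (τ 6) (n (by decide)) (n' (by decide)) (n (by decide))
    (n' (by decide)) (n (by decide)) (n' (by decide)) (n (by decide)) (n' (by decide)) (n (by decide))
    (n' (by decide)) (n (by decide)) (n' (by decide))
  simp only [← e] at this
  exact this (τ.sign_eq_prod_prod_Iio.symm.trans (Perm.mem_alternatingGroup.1 hτ)) i j

theorem f_cen (h2 : σ * σ = 1) (h : FPF σ) (hτ : τ ∈ A8) (hc : τ * σ = σ * τ) (hx : x ∈ F1 σ) :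
    act τ x + x ∈ Rg σ := by
  rw [Rg_eq h2]
  obtain ⟨π, rfl⟩ := rep2 h2 h
  intro y hy
  have k : ∀ {x}, x ∈ F1 (π * t2 * π⁻¹) → act t2 (act π⁻¹ x) = act π⁻¹ x := fun {x} e =>
    act_inj π (by rw [← act_cj, act_act_inv]; exact e)
  have c := cen2 (τ := π⁻¹ * τ⁻¹ * π)
    ((alternatingGroup.normal (α := Fin 8)).conj_mem' _ (inv_mem hτ) π) (by
      have : τ⁻¹ * (π * t2 * π⁻¹) = π * t2 * π⁻¹ * τ⁻¹ := (Commute.inv_left hc).eq
      calc _ = π⁻¹ * (τ⁻¹ * (π * t2 * π⁻¹)) * π := by group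
        _ = _ := by rw [this]; group)
  have e : act π⁻¹ (act τ x) = act (π⁻¹ * τ⁻¹ * π)⁻¹ (act π⁻¹ x) := by
    rw [← act_mul, ← act_mul]; congr 1; group
  rw [← bf_act π⁻¹, act_add, e, add_bf, fix3 (k hx), fix3 (k hy)]
  simp only [act_add, act_smul, add_bf, bf_add, smul_bf, bf_smul, c, f4_aa]

theorem card_A8 : ♯A8 = 20160 := by rw [nat_card_alternatingGroup]; simp [Nat.factorial]

theorem f_cen64 (h2 : σ * σ = 1) (h : FPF σ) : ∃ S ≤ A8, ♯S = 64 ∧ S ≤ C{σ} := by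
  have : Fact (Nat.Prime 2) := ⟨p2⟩
  obtain ⟨k, a, b⟩ := ct h2
  obtain rfl : k = 4 := by have := fpf_card h; omega
  have c1 : ♯C{σ} = 384 := by rw [Perm.nat_card_centralizer, a]; decide
  have c2 := card_inf_mul_relIndex A8 C{σ}
  have c3 : A8.relIndex C{σ} ∣ 2 := alternatingGroup.index_eq_two (α := Fin 8) ▸
    relIndex_dvd_index_of_normal A8 C{σ}
  have c4 : 2 ^ 6 ∣ ♯(A8 ⊓ C{σ}) := by
    rcases (Nat.dvd_prime p2).1 c3 with e | e <;> rw [e, c1] at c2 <;> omega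
  obtain ⟨K, hK⟩ := Sylow.exists_subgroup_card_pow_prime 2 c4
  exact ⟨K.map (Subgroup.subtype _), (map_subtype_le K).trans inf_le_left,
    (card_map_of_injective (subtype_injective _)).trans hK, (map_subtype_le K).trans inf_le_right⟩

theorem f_two (hE : E ≤ A8) (h : TwoG E) : ♯E ∣ 64 := by
  obtain ⟨k, e⟩ := h.card_eq_pow p2
  have := card_dvd_of_le hE
  rw [card_A8, e, show 20160 = 64 * 315 by rfl] at this
  exact e ▸ (Nat.Coprime.pow_left k (by decide)).dvd_of_dvd_mul_right this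

end H27.G4.Fd
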