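import Mathlib
import Cfsg.Agent.H27.GFd

/-! Finite facts on `A₈` acting on `W`: vectors. -/

set_option autoImplicit false
set_option maxRecDepth 100000
set_option synthInstance.maxSize 100000
set_option synthInstance.maxHeartbeats 400000

namespace H27.G4.Fe

open H24 H26 H26.Gold Subgroup Equiv
open H9 (F4)
open H7.SJ (p2)
open Fd (eq0 BB)

variable {x u : W} {c : F4} {σ τ π : Perm (Fin 8)} {J : AddSubgroup W}

theorem ev {a b d e : Fin 8} (h1 : a ≠ b) (h2 : d ≠ e) : swap a b * swap d e ∈ A8 := by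
  simp [Perm.mem_alternatingGroup, h1, h2]

theorem par (π : Perm (Fin 8)) {a b : Fin 8} (h : a ≠ b) : π ∈ A8 ∨ π * swap a b ∈ A8 := by
  simp only [Perm.mem_alternatingGroup, map_mul, Perm.sign_swap h]
  rcases Int.units_eq_one_or (Perm.sign π) with e | e <;> simp [e]

theorem tr_A8 {w : W} {a b : Fin 8} (h : a ≠ b) (e : act (swap a b) w = w) (π : Perm (Fin 8)) :
    ∃ σ ∈ A8, act σ w = act π w := by
  rcases par π h with k | k
  exacts [⟨π, k, rfl⟩, ⟨_, k, by rw [act_mul, e]⟩]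

theorem vt_trans (h : VT x) : ∃ σ ∈ A8, act σ v0 = x := by
  obtain ⟨i, j, k, h1, h2, h3, rfl⟩ := h
  obtain ⟨π, e⟩ := Perm.exists_extending_pair (f := ![0, 1, 2]) (g := ![i, j, k]) (by decide) (by
    intro a b; fin_cases a <;> fin_cases b <;> simp [h1, h2, h3, h1.symm, h2.symm, h3.symm])
  have : act π v0 = vec i j k := by
    rw [v0_eq, act_vec π (by decide) (by decide) (by decide)]
    exact congr(vec $(e 0) $(e 1) $(e 2))
  exact this ▸ tr_A8 (a := 3) (b := 4) (by decide) (by decide) π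

theorem vt_smul (h : VT x) (hc : c ≠ 0) : VT (c • x) := by
  have k : ∀ {x}, VT x → VT (om • x) := fun ⟨i, j, k, h1, h2, h3, e⟩ =>
    ⟨k, i, j, h2.symm, h3.symm, h1, e ▸ (by decide +kernel : ∀ i j k : Fin 8, i ≠ j → i ≠ k → j ≠ k →
      om • vec i j k = vec k i j) i j k h1 h2 h3⟩
  rcases f4_cases c with rfl | rfl | rfl | rfl
  exacts [absurd rfl hc, by rwa [one_smul], k h, by rw [mul_smul]; exact k (k h)]

theorem vt_q (h : VT x) : qf x = 0 ∧ x ≠ 0 ∧ ¬ Rat x := by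
  obtain ⟨σ, -, rfl⟩ := vt_trans h
  exact ⟨by rw [qf_act, qf_v0], mt act_eq_zero.1 v0_ne, fun e =>
    absurd (act_inv_act σ v0 ▸ e.act σ⁻¹) (by decide)⟩

/-- the underlying order. -/
def le4 (a b : F4) : Prop := @LE.le (Fin 4) _ a b
instance decLe4 (a b : F4) : Decidable (le4 a b) := inferInstanceAs (Decidable (@LE.le (Fin 4) _ a b))

/-- sorted vectors. -/
theorem sorted {p : W → Prop} (h : ∀ a b : F4, le4 a b → ∀ c, le4 b c → ∀ d, le4 c d → ∀ e, le4 d e →
    ∀ f, le4 e f → ∀ g, le4 f g → ∀ k, le4 g k → a + b + c + d + e + f + g + k = 0 →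
      p ⟨a + k, b + k, c + k, d + k, e + k, f + k⟩) (x : W) : ∃ π, p (act π x) := by
  let y : Fin 8 → Fin 4 := emb x
  have m := Tuple.monotone_sort y
  have s := (Equiv.sum_comp (Tuple.sort y) (emb x)).trans (sum_emb x)
  rw [Fin.sum_univ_eight] at s
  exact ⟨(Tuple.sort y)⁻¹, h _ _ (m (by decide : (0 : Fin 8) ≤ 1)) _ (m (by decide : (1 : Fin 8) ≤ 2))
    _ (m (by decide : (2 : Fin 8) ≤ 3)) _ (m (by decide : (3 : Fin 8) ≤ 4))
    _ (m (by decide : (4 : Fin 8) ≤ 5)) _ (m (by decide : (5 : Fin 8) ≤ 6))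
    _ (m (by decide : (6 : Fin 8) ≤ 7)) s⟩

def c1 : Perm (Fin 8) := swap 0 3 * swap 0 2 * swap 0 1 * (swap 4 7 * swap 4 6 * swap 4 5)
def c2 : Perm (Fin 8) := swap 0 3 * swap 0 1 * swap 0 2 * (swap 4 7 * swap 4 5 * swap 4 6)

theorem f_ord4 (h0 : x ≠ 0) (h1 : qf x = 0) (h2 : ¬ VT x) :
    ∃ σ ∈ A8, act σ x = x ∧ σ ^ 4 = 1 ∧ σ ^ 2 ≠ 1 := by
  obtain ⟨π, k⟩ := sorted (p := fun x => x ≠ 0 → qf x = 0 → act c1 x = x ∨ act c2 x = x ∨ VT x)
    (by decide +kernel) x
  have m : ∀ σ ∈ A8, act σ (act π x) = act π x → σ ^ 4 = 1 → σ ^ 2 ≠ 1 →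
      ∃ σ ∈ A8, act σ x = x ∧ σ ^ 4 = 1 ∧ σ ^ 2 ≠ 1 := fun σ a b c d =>
    ⟨π⁻¹ * σ * π⁻¹⁻¹, (alternatingGroup.normal (α := Fin 8)).conj_mem _ a _,
      by rw [inv_inv, act_mul, act_mul, b, act_inv_act], by rw [conj_pow, c]; simp,
      by rw [conj_pow]; exact mt conj_eq_one_iff'.1 d⟩
  rcases k (mt act_eq_zero.1 h0) (by rwa [qf_act]) with k | k | k
  · exact m c1 (by rw [Perm.mem_alternatingGroup]; decide +kernel) k (by decide) (by decide)
  · exact m c2 (by rw [Perm.mem_alternatingGroup]; decide +kernel) k (by decide) (by decide)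
  · exact absurd (act_inv_act π x ▸ k.act π⁻¹) h2

theorem f_stab (hσ : σ ∈ A8) (h : act σ v0 = v0) (h4 : σ ^ 4 = 1) : σ ^ 2 = 1 := by
  have : Fact (Nat.Prime 2) := ⟨p2⟩
  rw [v0_eq, act_vec σ (by decide) (by decide) (by decide)] at h
  obtain ⟨a, b, c⟩ := vec_inj _ _ _ (σ.injective.ne (by decide)) (σ.injective.ne (by decide))
    (σ.injective.ne (by decide)) h
  have l : σ.support.card ≤ 5 := (Finset.card_le_card (t := {3, 4, 5, 6, 7}) fun i hi => by
    have := Perm.mem_support.1 hi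
    fin_cases i <;> simp_all).trans (by decide)
  refine Perm.pow_prime_eq_one_iff.2 fun n hn => ?_
  have d : n ∣ 2 ^ 2 := (Perm.dvd_of_mem_cycleType hn).trans (orderOf_dvd_of_pow_eq_one h4)
  have t := Perm.two_le_of_mem_cycleType hn
  obtain ⟨i, hi, rfl⟩ := (Nat.dvd_prime_pow p2).1 d
  interval_cases i
  · omega
  · rfl
  obtain ⟨r, e⟩ := Multiset.exists_cons_of_mem hn
  have s := Perm.mem_alternatingGroup.1 hσ
  rw [← Perm.sum_cycleType, e, Multiset.sum_cons] at l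
  obtain rfl : r = 0 := Multiset.eq_zero_of_forall_notMem fun m hm => by
    have := Perm.two_le_of_mem_cycleType (e ▸ Multiset.mem_cons_of_mem hm)
    have := Multiset.single_le_sum (fun _ _ => Nat.zero_le _) m hm
    omega
  rw [Perm.sign_of_cycleType, e] at s
  exact absurd s (by decide)

theorem f_sing (h : Rat x) (h0 : x ≠ 0) (h1 : qf x = 0) : ∃ σ ∈ A8, act σ w0 = x := by
  obtain ⟨π, k⟩ := sorted (p := fun x => Rat x → x ≠ 0 → qf x = 0 → x = w0) (by decide +kernel) x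
  have := k (h.act π) (mt act_eq_zero.1 h0) (by rwa [qf_act])
  rw [← act_inv_act π x, this]
  exact tr_A8 (a := 0) (b := 1) (by decide) (by decide) _

theorem f2_of : ∀ c : F4, c = c * c → F2 c := by decide
theorem rat_q (h : Rat x) : F2 (qf x) := f2_of _ (by rw [← qf_fr, h])
theorem rat_b (h : Rat x) (h' : Rat u) : F2 (bf x u) := f2_of _ (by rw [← bf_fr, h, h'])

theorem card_hom {A : Type} [AddCommGroup A] (f : W →+ A) :
    Nat.card f.ker * Nat.card f.range = 4096 := by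
  rw [← AddSubgroup.index_ker, f.ker.card_mul_index, Nat.card_eq_fintype_card, W.card]

theorem card_rat : Nat.card {x : W // Rat x} = 64 := by
  let f : W →+ W := AddMonoidHom.mk' (fun y => y + fr y) fun a b => by rw [fr_add]; abel
  have e1 : Nat.card f.ker = Nat.card {x : W // Rat x} :=
    Nat.card_congr (Equiv.subtypeEquivRight fun x => eq0.trans eq_comm)
  have e2 : Nat.card f.range = Nat.card {x : W // Rat x} :=
    Nat.card_congr (Equiv.subtypeEquivRight fun x => ⟨fun ⟨y, e⟩ => e ▸ rat_tr y, fun e =>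
      ⟨om • x, show om • x + fr (om • x) = x by
        rw [fr_smul, e, ← add_smul, show om + om * om = 1 by decide, one_smul]⟩⟩)
  have := card_hom f
  rw [e1, e2] at this
  exact Nat.mul_self_inj.1 this

theorem rat_nd (_ : Rat x) (h' : ∀ y, Rat y → bf x y = 0) : x = 0 := bf_nd fun y => by
  obtain ⟨a, b, h1, h2, rfl⟩ := exists_rat y
  rw [bf_add, bf_smul, h' a h1, h' b h2, mul_zero, add_zero]

theorem rat_sum (h : Rat x) : ∃ a b, Rat a ∧ Rat b ∧ qf a = 0 ∧ qf b = 0 ∧ x = a + b := by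
  have k : ∀ x, Rat x → ∃ a ∈ ([0, ⟨1, 1, 1, 1, 0, 0⟩, ⟨1, 1, 1, 0, 1, 0⟩, ⟨1, 1, 1, 0, 0, 1⟩,
      ⟨1, 1, 1, 0, 0, 0⟩, ⟨1, 1, 0, 1, 1, 0⟩, ⟨1, 0, 1, 1, 1, 0⟩] : List W),
      Rat a ∧ qf a = 0 ∧ qf (a + x) = 0 := by decide +kernel
  obtain ⟨a, -, h1, h2, h3⟩ := k x h
  exact ⟨a, a + x, h1, h1.add h, h2, h3, by rw [← add_assoc, W.aa, zero_add]⟩

theorem BBr : BB.IsRefl := fun x y (e : bf x y = 0) => show bf y x = 0 by rwa [bf_comm]
theorem BBn : BB.Nondegenerate := BBr.nondegenerate_iff_separatingLeft.2 fun _ e => bf_nd e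

theorem f_pp (_ : x ≠ 0) (h : ∀ y, bf x y = 0 → bf u y = 0) : ∃ c : F4, u = c • x := by
  have := LinearMap.BilinForm.orthogonal_orthogonal BBn BBr (Submodule.span F4 {x})
  obtain ⟨c, e⟩ := Submodule.mem_span_singleton.1 (this.le (x := u) fun y hy =>
    (bf_comm _ _).trans (h y (hy x (Submodule.mem_span_singleton_self x))))
  exact ⟨c, e.symm⟩

theorem card_perp (h0 : x ≠ 0) : Nat.card {y : W // bf x y = 0} = 1024 := by
  let f : W →+ F4 := AddMonoidHom.mk' (bf x) (bf_add x)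
  have := card_hom f
  rw [(AddMonoidHom.range_eq_top (f := f)).2 (bf_surj h0), AddSubgroup.card_top,
    Nat.card_eq_fintype_card (α := F4), F4.card] at this
  exact (by omega : Nat.card f.ker = 1024)

theorem card_orth (S : Submodule F4 W) : Nat.card S * Nat.card (BB.orthogonal S) = 4096 := by
  have e := LinearMap.BilinForm.finrank_add_finrank_orthogonal BBr S
  rw [LinearMap.BilinForm.orthogonal_top_eq_bot BBn, inf_bot_eq, finrank_bot, add_zero] at e
  rw [Module.natCard_eq_pow_finrank (K := F4), Module.natCard_eq_pow_finrank (K := F4) (V := BB.orthogonal S),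
    ← pow_add, e, ← Module.natCard_eq_pow_finrank, Nat.card_eq_fintype_card, W.card]

theorem f_perp (h : 16 ≤ Nat.card J) : Nat.card (Pp J) ≤ 256 := by
  have e := card_orth (Submodule.span F4 (J : Set W))
  have a : Nat.card J ≤ Nat.card (Submodule.span F4 (J : Set W)) :=
    Nat.card_le_card_of_injective (fun x => ⟨x, Submodule.subset_span x.2⟩) fun _ _ e =>
      Subtype.ext (Subtype.mk.inj e)
  have b : Nat.card (Pp J) ≤ Nat.card (BB.orthogonal (Submodule.span F4 (J : Set W))) :=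
    Nat.card_le_card_of_injective (fun x => ⟨x, fun y hy => by
      induction hy using Submodule.span_induction with
      | mem y hy => exact (bf_comm _ _).trans (x.2 y hy)
      | zero => simp
      | add a b _ _ h1 h2 => rw [map_add, LinearMap.add_apply, h1, h2, add_zero]
      | smul c a _ h1 => rw [map_smul, LinearMap.smul_apply, h1, smul_zero]⟩) fun _ _ e =>
      Subtype.ext (Subtype.mk.inj e)
  nlinarith

theorem f_ti (h : ∀ a ∈ J, ∀ b ∈ J, F2 (bf a b)) : Nat.card J ≤ 64 := by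
  let S : Submodule F4 W :=
    { carrier := {x | x ∈ J ∧ om • x ∈ J}
      add_mem' := fun a b => ⟨add_mem a.1 b.1, by rw [smul_add]; exact add_mem a.2 b.2⟩
      zero_mem' := ⟨zero_mem _, by rw [smul_zero]; exact zero_mem _⟩
      smul_mem' := fun c x a => by
        have a3 : (om * om) • x ∈ J := by
          rw [show om * om = 1 + om by decide, add_smul, one_smul]; exact add_mem a.1 a.2
        have k : ∀ c : F4, c • x ∈ J := fun c => by
          rcases f4_cases c with rfl | rfl | rfl | rfl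
          exacts [by rw [zero_smul]; exact zero_mem _, by rw [one_smul]; exact a.1, a.2, a3]
        exact ⟨k c, by rw [smul_smul]; exact k _⟩ }
  have o : ∀ y ∈ J, y ∈ BB.orthogonal S := fun y hy x hx => by
    have a := h x hx.1 y hy
    have b := h _ hx.2 y hy
    rw [smul_bf] at b
    exact (by decide : ∀ c : F4, F2 c → F2 (om * c) → c = 0) _ a b
  let f : J × J →+ W := AddMonoidHom.mk' (fun a => a.1 + om • (a.2 : W)) fun a b => by
    simp only [Prod.fst_add, Prod.snd_add, AddSubgroup.coe_add, smul_add]; abel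
  have e := f.ker.card_mul_index
  rw [AddSubgroup.index_ker, Nat.card_prod] at e
  have a : Nat.card f.ker ≤ Nat.card S := Nat.card_le_card_of_injective
    (fun x => ⟨x.1.2, x.1.2.2, (eq0.1 x.2) ▸ x.1.1.2⟩) fun x y e => by
      have e1 : (x.1.2 : W) = y.1.2 := Subtype.mk.inj e
      exact Subtype.ext (Prod.ext (Subtype.ext ((eq0.1 x.2).trans (e1 ▸ (eq0.1 y.2).symm)))
        (Subtype.ext e1))
  have b : Nat.card f.range ≤ Nat.card (BB.orthogonal S) := Nat.card_le_card_of_injective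
    (fun x => ⟨x, by
      obtain ⟨y, e⟩ := x.2
      exact e ▸ add_mem (o _ y.1.2) (Submodule.smul_mem _ _ (o _ y.2.2))⟩) fun _ _ e =>
      Subtype.ext (Subtype.mk.inj e)
  have c := card_orth S
  have : Nat.card J * Nat.card J ≤ 64 * 64 := e ▸ (Nat.mul_le_mul a b).trans c.le
  exact Nat.mul_self_le_mul_self_iff.1 this

/-- a three-cycle that sends `0` to `i`. -/
def pr (i : Fin 8) : Perm (Fin 8) :=
  if i = 0 then 1 else if i = 1 then swap 0 2 * swap 0 1 else swap 0 1 * swap 0 i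

theorem pr_A8 : ∀ i, pr i ∈ A8 := by simp only [Perm.mem_alternatingGroup]; decide +kernel

theorem key (h : ∀ σ ∈ A8, ∀ y ∈ J, act σ y ∈ J) (hx : x ∈ J) (i j : Fin 8) (hi : i < 6) (hj : j < 6) :
    emb x i • ee j 6 ∈ J := by
  have k : ∀ y : W, (y + act (swap 0 7 * swap 0 1) y) + act (swap 0 2 * swap 0 6)
      (y + act (swap 0 7 * swap 0 1) y) = y.a • ee 0 6 := by decide +kernel
  have a := h _ (inv_mem (pr_A8 i)) x hx
  have b := add_mem a (h _ (ev (by decide) (by decide)) _ a : act (swap 0 7 * swap 0 1) _ ∈ J)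
  have c := h _ (pr_A8 j) _
    (k _ ▸ add_mem b (h _ (ev (by decide) (by decide)) _ b : act (swap 0 2 * swap 0 6) _ ∈ J))
  have e : (act (pr i)⁻¹ x).a = emb x i := by
    have : ∀ i : Fin 8, i < 6 → pr i 0 = i ∧ pr i 7 = 7 := by decide
    show emb x (pr i 0) + emb x (pr i 7) = _
    rw [(this i hi).1, (this i hi).2]; exact add_zero _
  rwa [act_smul, e, (by decide +kernel : ∀ j : Fin 8, j < 6 → act (pr j) (ee 0 6) = ee j 6) j hj] at c

theorem all_mem {p : F4 → Prop} (h : ∀ c, p c → ∀ j : Fin 8, j < 6 → c • ee j 6 ∈ J)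
    (e : ∀ i : Fin 8, i < 6 → p (emb x i)) : x ∈ J := by
  rw [basis x]
  exact add_mem (add_mem (add_mem (add_mem (add_mem (h _ (e 0 (by decide)) 0 (by decide))
    (h _ (e 1 (by decide)) 1 (by decide))) (h _ (e 2 (by decide)) 2 (by decide)))
    (h _ (e 3 (by decide)) 3 (by decide))) (h _ (e 4 (by decide)) 4 (by decide)))
    (h _ (e 5 (by decide)) 5 (by decide))

theorem f_sub (h : ∀ σ ∈ A8, ∀ y ∈ J, act σ y ∈ J) (h0 : J ≠ ⊥) :
    J = ⊤ ∨ ∃ c : F4, c ≠ 0 ∧ ∀ y, y ∈ J ↔ Rat (c • y) := by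
  obtain ⟨⟨x, hx⟩, n⟩ := AddSubgroup.ne_bot_iff_exists_ne_zero.1 h0
  obtain ⟨i, hi, n⟩ := (by decide +kernel : ∀ x : W, x ≠ 0 → ∃ i : Fin 8, i < 6 ∧ emb x i ≠ 0) x
    fun e => n (Subtype.ext e)
  have m : ∀ c : F4, c • ee 0 6 ∈ J → ∀ j : Fin 8, j < 6 → c • ee j 6 ∈ J := fun c e j hj => by
    simpa [emb, ee, prj] using key h e 0 j (by decide) hj
  have ha := key h hx i 0 hi (by decide)
  generalize emb x i = a at *
  by_cases t : ∀ c : F4, c • ee 0 6 ∈ J → c = 0 ∨ c = a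
  · have r : ∀ a : F4, a ≠ 0 → ∀ y : W, Rat (a⁻¹ • y) ↔
        ∀ i : Fin 8, i < 6 → emb y i = 0 ∨ emb y i = a := by decide +kernel
    refine Or.inr ⟨a⁻¹, inv_ne_zero n, fun y => Iff.trans
      ⟨fun e i hi => t _ (key h e i 0 hi (by decide)), all_mem (p := fun c => c = 0 ∨ c = a) ?_⟩
      (r a n y).symm⟩
    rintro c (rfl | rfl) j hj
    exacts [by rw [zero_smul]; exact zero_mem _, m _ ha j hj]
  · push Not at t
    obtain ⟨b, h1, h2, h3⟩ := t
    refine Or.inl (eq_top_iff.2 fun y _ => all_mem (p := fun _ => True) (fun c _ => m c ?_)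
      fun _ _ => trivial)
    rcases (by decide : ∀ a b c : F4, a ≠ 0 → b ≠ 0 → b ≠ a → c = 0 ∨ c = a ∨ c = b ∨ c = a + b)
      a b c n h2 h3 with rfl | rfl | rfl | rfl
    exacts [by rw [zero_smul]; exact zero_mem _, ha, h1, by rw [add_smul]; exact add_mem ha h1]

theorem f_nofix (h : ∀ σ ∈ A8, act σ x = x) : x = 0 :=
  (by decide +kernel : ∀ x, act (swap 0 1 * swap 0 2) x = x → act (swap 3 4 * swap 3 5) x = x →
    act (swap 0 6 * swap 0 7) x = x → act (swap 0 3 * swap 0 1) x = x → x = 0) x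
    (h _ (ev (by decide) (by decide))) (h _ (ev (by decide) (by decide)))
    (h _ (ev (by decide) (by decide))) (h _ (ev (by decide) (by decide)))

theorem f_9 (h : ∀ σ ∈ A8, act σ w0 = w0 → ∀ y ∈ J, act σ y ∈ J) (_ : ∀ y ∈ J, F2 (qf y))
    (h2 : ∀ y ∈ J, bf w0 y = 0) (h3 : ∀ c : F4, c • w0 ∈ J → F2 c) : ∀ y ∈ J, Rat y := fun y hy => by
  have m : ∀ {a b d e : Fin 8}, a ≠ b → d ≠ e → act (swap a b * swap d e) w0 = w0 → ∀ y ∈ J,
      act (swap a b * swap d e) y ∈ J := fun k1 k2 k3 => h _ (ev k1 k2) k3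
  have k : ∀ y : W, bf w0 y = 0 → y + act (swap 0 1 * swap 2 3) y = (y.a + y.b) • w0 ∧
      y + act (swap 0 2 * swap 1 3) y = (y.a + y.c) • w0 ∧
      y + act (swap 0 3 * swap 1 2) y = (y.a + y.d) • w0 ∧
      y + act (swap 4 7 * swap 5 6) y = y.e • w0 ∧ y + act (swap 5 7 * swap 4 6) y = y.f • w0 ∧
      (fun u => u + act (swap 4 5 * swap 4 6) u + act (swap 4 6 * swap 4 5) u)
        (y + act (swap 0 1 * swap 0 2) y + act (swap 0 2 * swap 0 1) y) = y.d • w0 := by
    decide +kernel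
  obtain ⟨k1, k2, k3, k4, k5, k6⟩ := k y (h2 y hy)
  have a := add_mem (add_mem hy (m (a := 0) (b := 1) (d := 0) (e := 2) (by decide) (by decide)
    (by decide) y hy)) (m (a := 0) (b := 2) (d := 0) (e := 1) (by decide) (by decide) (by decide) y hy)
  exact (by decide +kernel : ∀ y : W, F2 (y.a + y.b) → F2 (y.a + y.c) → F2 (y.a + y.d) → F2 y.e →
      F2 y.f → F2 y.d → Rat y) y
    (h3 _ (k1 ▸ add_mem hy (m (by decide) (by decide) (by decide) y hy)))
    (h3 _ (k2 ▸ add_mem hy (m (by decide) (by decide) (by decide) y hy)))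
    (h3 _ (k3 ▸ add_mem hy (m (by decide) (by decide) (by decide) y hy)))
    (h3 _ (k4 ▸ add_mem hy (m (by decide) (by decide) (by decide) y hy)))
    (h3 _ (k5 ▸ add_mem hy (m (by decide) (by decide) (by decide) y hy)))
    (h3 _ (k6 ▸ add_mem (add_mem a (m (by decide) (by decide) (by decide) _ a))
      (m (by decide) (by decide) (by decide) _ a)))

theorem f_10 (h : ∀ y, Rat y → bf w0 y = 0 → act σ y = y) : σ = 1 := by
  ext i
  obtain ⟨j, k, h1, h2, h3, h4, h5⟩ : ∃ j k : Fin 8, i ≠ j ∧ i ≠ k ∧ j ≠ k ∧ bf w0 (ee i j) = 0 ∧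
      bf w0 (ee i k) = 0 := by revert i; decide +kernel
  have a := ee_inj _ _ _ _ (σ.injective.ne h1) h1 ((act_ee σ h1).symm.trans (h _ (rat_ee _ _) h4))
  have b := ee_inj _ _ _ _ (σ.injective.ne h2) h2 ((act_ee σ h2).symm.trans (h _ (rat_ee _ _) h5))
  rcases a with a | a
  · simp [a.1]
  rcases b with b | b
  · simp [b.1]
  · exact absurd (a.1.symm.trans b.1) h3

theorem f_11 (h : Rat x) (h' : ∀ y, Rat y → bf w0 y = 0 → bf x y = 0) : x = 0 ∨ x = w0 :=
  (by decide +kernel : ∀ x, Rat x → bf x (ee 0 1) = 0 → bf x (ee 0 2) = 0 → bf x (ee 0 3) = 0 →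
    bf x (ee 4 5) = 0 → bf x (ee 4 6) = 0 → x = 0 ∨ x = w0) x h (h' _ (rat_ee _ _) (by decide))
    (h' _ (rat_ee _ _) (by decide)) (h' _ (rat_ee _ _) (by decide)) (h' _ (rat_ee _ _) (by decide))
    (h' _ (rat_ee _ _) (by decide))

theorem f_simple {N : Subgroup (Perm (Fin 8))} (h : N ≤ A8) (h' : A8 ≤ N[N]) : N = ⊥ ∨ N = A8 := by
  have := alternatingGroup.isSimpleGroup (α := Fin 8) (by simp)
  rcases IsSimpleGroup.eq_bot_or_eq_top_of_normal _ (Nml.normal ⟨h, h'⟩) with e | e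
  · exact Or.inl (by rw [← map_subgroupOf' h, e, Subgroup.map_bot])
  · exact Or.inr (h.antisymm (subgroupOf_eq_top.1 e))

end H27.G4.Fe
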