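import Mathlib
import Cfsg.Agent.H27.GFe

/-! Finite facts on `A₈` acting on `W`: vectors. -/

set_option autoImplicit false

namespace H27.G4

open H24 H26 H26.Gold Subgroup Equiv
open H9 (F4)

variable {x u : W} {c : F4} {σ τ : Perm (Fin 8)} {J : AddSubgroup W}

theorem vt_trans (h : VT x) : ∃ σ ∈ A8, act σ v0 = x := Fe.vt_trans h
theorem vt_smul (h : VT x) (hc : c ≠ 0) : VT (c • x) := Fe.vt_smul h hc
theorem vt_q (h : VT x) : qf x = 0 ∧ x ≠ 0 ∧ ¬ Rat x := Fe.vt_q h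
/-- the other singular vectors are fixed by an element of order `4`. -/
theorem f_ord4 (h0 : x ≠ 0) (h1 : qf x = 0) (h2 : ¬ VT x) :
    ∃ σ ∈ A8, act σ x = x ∧ σ ^ 4 = 1 ∧ σ ^ 2 ≠ 1 := Fe.f_ord4 h0 h1 h2
theorem f_stab (hσ : σ ∈ A8) (h : act σ v0 = v0) (h4 : σ ^ 4 = 1) : σ ^ 2 = 1 := Fe.f_stab hσ h h4
theorem f_sing (h : Rat x) (h0 : x ≠ 0) (h1 : qf x = 0) : ∃ σ ∈ A8, act σ w0 = x := Fe.f_sing h h0 h1
theorem rat_q (h : Rat x) : F2 (qf x) := Fe.rat_q h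
theorem rat_b (h : Rat x) (h' : Rat u) : F2 (bf x u) := Fe.rat_b h h'
theorem card_rat : Nat.card {x : W // Rat x} = 64 := Fe.card_rat
theorem rat_nd (h : Rat x) (h' : ∀ y, Rat y → bf x y = 0) : x = 0 := Fe.rat_nd h h'
/-- every rational vector is a sum of two singular rational vectors. -/
theorem rat_sum (h : Rat x) : ∃ a b, Rat a ∧ Rat b ∧ qf a = 0 ∧ qf b = 0 ∧ x = a + b := Fe.rat_sum h
theorem f_pp (h0 : x ≠ 0) (h : ∀ y, bf x y = 0 → bf u y = 0) : ∃ c : F4, u = c • x := Fe.f_pp h0 h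
theorem card_perp (h0 : x ≠ 0) : Nat.card {y : W // bf x y = 0} = 1024 := Fe.card_perp h0
theorem f_perp (h : 16 ≤ Nat.card J) : Nat.card (Pp J) ≤ 256 := Fe.f_perp h
theorem f_ti (h : ∀ a ∈ J, ∀ b ∈ J, F2 (bf a b)) : Nat.card J ≤ 64 := Fe.f_ti h
/-- the invariant additive subgroups. -/
theorem f_sub (h : ∀ σ ∈ A8, ∀ y ∈ J, act σ y ∈ J) (h0 : J ≠ ⊥) :
    J = ⊤ ∨ ∃ c : F4, c ≠ 0 ∧ ∀ y, y ∈ J ↔ Rat (c • y) := Fe.f_sub h h0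
theorem f_nofix (h : ∀ σ ∈ A8, act σ x = x) : x = 0 := Fe.f_nofix h
theorem f_9 (h : ∀ σ ∈ A8, act σ w0 = w0 → ∀ y ∈ J, act σ y ∈ J) (h1 : ∀ y ∈ J, F2 (qf y))
    (h2 : ∀ y ∈ J, bf w0 y = 0) (h3 : ∀ c : F4, c • w0 ∈ J → F2 c) : ∀ y ∈ J, Rat y := Fe.f_9 h h1 h2 h3
theorem f_10 (h : ∀ y, Rat y → bf w0 y = 0 → act σ y = y) : σ = 1 := Fe.f_10 h
theorem f_11 (h : Rat x) (h' : ∀ y, Rat y → bf w0 y = 0 → bf x y = 0) : x = 0 ∨ x = w0 := Fe.f_11 h h'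
theorem card_A8 : ♯A8 = 20160 := Fd.card_A8
theorem f_simple {N : Subgroup (Perm (Fin 8))} (h : N ≤ A8) (h' : A8 ≤ N[N]) : N = ⊥ ∨ N = A8 :=
  Fe.f_simple h h'

end H27.G4
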