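import Mathlib
import Cfsg.Agent.H27.GFa

/-! The group `M = P : A₈`. -/

set_option autoImplicit false
set_option linter.unusedSectionVars false

namespace H27.G4

open H24 H26 H26.Gold Subgroup Equiv
open H9 (F4)
open H24.Sz (Ex Ac Hs Zs)
open H7.SJ (p2)

variable {G : Type*} [Group G] [Finite G] {Y : Md G} {g u e y m s t k : G} {T N B : Subgroup G}
  {x : W} {c : F4} {σ τ : Perm (Fin 8)}

/-- the image in `P / Z` of a subgroup containing `Z`. -/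
def Md.bar (Y : Md G) (h : Y.MD) (B : Subgroup G) (hB : Y.Z ≤ B) : AddSubgroup W where
  carrier := {x | Y.p x ∈ B}
  add_mem' {a b} (ha : Y.p a ∈ B) (hb : Y.p b ∈ B) := show Y.p (a + b) ∈ B by
    have := mul_mem ha hb
    rw [h.ex.mul] at this
    exact (mul_mem_cancel_right (hB (H24.Sz.z_Zs _))).1 this
  zero_mem' := show Y.p 0 ∈ B by rw [h.ex.p0]; exact one_mem B
  neg_mem' ha := ha

namespace Md.MD

variable (h : Y.MD)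
include h

theorem mem_bar (hB : Y.Z ≤ B) : x ∈ Y.bar h B hB ↔ Y.p x ∈ B := Iff.rfl
theorem card_bar (hB : Y.Z ≤ B) : ♯(B ⊓ Y.P) = 4 * Nat.card (Y.bar h B hB) := by
  have e : Nat.card (F4 × Y.bar h B hB) = ♯(B ⊓ Y.P) := by
    refine Nat.card_congr (Equiv.ofBijective (fun a => ⟨Y.p a.2 * Y.z a.1,
      mul_mem a.2.2 (hB (H24.Sz.z_Zs _)), H24.Sz.pz_Hs _ _⟩) ⟨fun a b e => ?_, fun u => ?_⟩)
    · have := h.ex.eq (congrArg Subtype.val e)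
      exact Prod.ext this.2 (Subtype.ext this.1)
    · obtain ⟨x, c, e⟩ := h.ex.mem.1 u.2.2
      exact ⟨(c, ⟨x, (mul_mem_cancel_right (hB (H24.Sz.z_Zs c))).1 (e ▸ u.2.1)⟩),
        Subtype.ext e.symm⟩
  rw [← e, Nat.card_prod, Nat.card_eq_fintype_card (α := F4), F4.card]
theorem mem_P : u ∈ Y.P ↔ ∃ x c, u = Y.p x * Y.z c := h.ex.mem
theorem mem_Z : u ∈ Y.Z ↔ ∃ c, u = Y.z c := h.ex.memZ
theorem mem_X : u ∈ Y.X ↔ ∀ c, u * Y.z c * u⁻¹ = Y.z c :=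
  ⟨fun e c => conj_eq_of_mem_C e (H24.Sz.z_Zs c), fun e => mem_C_iff_le_C1.2
    (H24.Sz.Zs_le fun c => mem_C1_comm.1 (mem_C1_iff_conj.2 (e c)))⟩
theorem pz_P (x : W) (c : F4) : Y.p x * Y.z c ∈ Y.P := H24.Sz.pz_Hs x c
theorem p_P (x : W) : Y.p x ∈ Y.P := H24.Sz.p_Hs x
theorem z_Z (c : F4) : Y.z c ∈ Y.Z := H24.Sz.z_Zs c
theorem z1 : Y.z 1 ≠ 1 := fun e => one_ne_zero (h.ex.z_inj (e.trans h.ex.z0.symm))
theorem mem_zp : u ∈ zpowers (Y.z 1) ↔ ∃ c, F2 c ∧ u = Y.z c := by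
  constructor
  · intro e
    rcases H7.SJ.mem_zp (h.ex.zz 1) e with rfl | rfl
    exacts [⟨0, Or.inl rfl, h.ex.z0.symm⟩, ⟨1, Or.inr rfl, rfl⟩]
  · rintro ⟨c, rfl | rfl, rfl⟩
    exacts [h.ex.z0 ▸ one_mem _, mem_zpowers _]
theorem Z_P : Y.Z ≤ Y.P := H24.Sz.Zs_le H24.Sz.z_Hs
theorem P_X : Y.P ≤ Y.X := fun _ hu => h.mem_X.2 (h.ex.ac_in hu).2
theorem P_M : Y.P ≤ Y.M := le_inf h.P_X le_normalizer
theorem D_M : Y.D ≤ Y.M :=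
  le_inf (fun _ hu => h.mem_X.2 (h.ex.ac_cent (h.DP hu)).2) (norm_of_cent h.DP)
theorem X_NZ : Y.X ≤ N[Y.Z] := norm_of_cent le_rfl
theorem card_P : ♯Y.P = 16384 := h.ex.card.trans (by rw [W.card, F4.card])
theorem card_Z : ♯Y.Z = 4 := by
  have e : Nat.card F4 = ♯Y.Z :=
    Nat.card_congr (Equiv.ofBijective (fun a => ⟨Y.z a, h.z_Z a⟩)
      ⟨fun a b e => h.ex.z_inj (congrArg Subtype.val e), fun u => by
        obtain ⟨c, e⟩ := h.mem_Z.1 u.2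
        exact ⟨c, Subtype.ext e.symm⟩⟩)
  rw [← e, Nat.card_eq_fintype_card, F4.card]
theorem twoP : TwoG Y.P := h.ex.two
theorem eaZ : EA Y.Z := ea_of_sq fun u hu => by
  obtain ⟨c, rfl⟩ := h.mem_Z.1 hu
  exact h.ex.zz c
theorem pz_sq (x : W) (c : F4) : Y.p x * Y.z c * (Y.p x * Y.z c) = Y.z (qf x) := by
  rw [h.ex.sq, h.sq]
theorem pz_conj (x y : W) (c d : F4) :
    Y.p x * Y.z c * (Y.p y * Y.z d) * (Y.p x * Y.z c)⁻¹ = Y.p y * Y.z (bf x y + d) := by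
  rw [h.ex.conj, h.cm]
theorem pz_cm (x y : W) (c d : F4) : Y.p x * Y.z c * (Y.p y * Y.z d) * (Y.p x * Y.z c)⁻¹ *
    (Y.p y * Y.z d)⁻¹ = Y.z (bf x y) := by rw [h.ex.cm, h.cm]
theorem sq_Z (hu : u ∈ Y.P) : u * u ∈ Y.Z := by
  obtain ⟨x, c, rfl⟩ := h.mem_P.1 hu
  rw [h.pz_sq]; exact h.z_Z _
theorem cm_Z (hu : u ∈ Y.P) (hy : y ∈ Y.P) : u * y * u⁻¹ * y⁻¹ ∈ Y.Z := by
  obtain ⟨x, c, rfl⟩ := h.mem_P.1 hu
  obtain ⟨x', c', rfl⟩ := h.mem_P.1 hy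
  rw [h.pz_cm]; exact h.z_Z _
theorem as_M (e : Y.As g σ) : g ∈ Y.M := ⟨h.mem_X.2 e.2, e.norm⟩
theorem as_mul (e : Y.As g σ) (e' : Y.As u τ) : Y.As (g * u) (σ * τ) :=
  (h.ex.ac_mul e e').congr (fun x => (act_mul σ τ x).symm) fun _ => rfl
theorem as_inv (e : Y.As g σ) : Y.As g⁻¹ σ⁻¹ := h.ex.ac_inv e (act_inv_act σ) fun _ => rfl
theorem as_uniq (e : Y.As g σ) (e' : Y.As g τ) : σ = τ := act_ext (h.ex.ac_uniq e e').1
theorem as_pz (e : Y.As g σ) (x : W) (c : F4) :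
    ∃ d, g * (Y.p x * Y.z c) * g⁻¹ = Y.p (act σ x) * Y.z d := h.ex.ac_pz e x c
theorem as_P (hu : u ∈ Y.P ⊔ Y.D) : Y.As u 1 := by
  obtain ⟨a, ha, b, hb, rfl⟩ := (isProd_sup (norm_of_cent h.DP)).mul u hu
  exact (h.ex.ac_mul (h.ex.ac_in ha) (h.ex.ac_cent (h.DP hb))).congr (fun x => (act_one x).symm)
    fun _ => rfl
theorem p_CD (hu : u ∈ Y.P) : u ∈ C[Y.D] := cents_symm h.DP hu
theorem as_p (hu : u ∈ Y.P) : Y.As u 1 := h.as_P (mem_sup_left hu)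
/-- conjugation by `P` moves the central coordinate. -/
theorem p_move (hx : x ≠ 0) (c d : F4) :
    ∃ u ∈ Y.P, u * (Y.p x * Y.z c) * u⁻¹ = Y.p x * Y.z d := by
  obtain ⟨y, hy⟩ := bf_surj hx (c + d)
  refine ⟨_, h.pz_P y 0, ?_⟩
  rw [h.pz_conj, bf_comm, hy, add_comm c d, add_assoc, f4_aa, add_zero]
theorem v_eq : Y.v = Y.p v0 * Y.z 0 := by rw [h.ex.z0, mul_one]; rfl
/-- `C_{X / Z}(v) ≤ M`. -/
theorem cz_v (hg : g ∈ Y.X) (e : g * Y.v * g⁻¹ * Y.v⁻¹ ∈ Y.Z) : ∃ σ ∈ A8, Y.As g σ := by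
  obtain ⟨c, e⟩ := h.mem_Z.1 e
  obtain ⟨u, hu, e'⟩ := h.p_move v0_ne c 0
  rw [mul_inv_eq_iff_eq_mul, v, h.ex.cen] at e
  obtain ⟨σ, h1, h2⟩ := h.stab (u * g) (mul_mem (h.P_X hu) hg) (by
    rw [show u * g * Y.v * (u * g)⁻¹ = u * (g * Y.p v0 * g⁻¹) * u⁻¹ by rw [v]; group, e, e', ← h.v_eq])
  exact ⟨σ, h1, by simpa using h.as_mul (h.as_inv (h.as_p hu)) h2⟩
theorem vt_as (hx : VT x) (c : F4) :
    ∃ m ∈ C[Y.D], ∃ σ ∈ A8, Y.As m σ ∧ m * Y.v * m⁻¹ = Y.p x * Y.z c := by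
  obtain ⟨σ, h1, rfl⟩ := vt_trans hx
  obtain ⟨m, h2, h3⟩ := h.lift σ h1
  obtain ⟨d, e⟩ := h3.1 v0
  obtain ⟨u, hu, e'⟩ := h.p_move (vt_q hx).2.1 d c
  refine ⟨u * m, mul_mem (h.p_CD hu) h2, σ, h1, by simpa using h.as_mul (h.as_p hu) h3, ?_⟩
  rw [← e', ← e, v]; group
/-- `M` is transitive on the elements of type `V`. -/
theorem vt_conj (hx : VT x) (c : F4) : ∃ m ∈ Y.M ⊓ C[Y.D], m * Y.v * m⁻¹ = Y.p x * Y.z c := by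
  obtain ⟨m, h1, σ, -, h2, h3⟩ := h.vt_as hx c
  exact ⟨m, ⟨h.as_M h2, h1⟩, h3⟩
/-- `M` acts as `A₈`. -/
theorem full (hg : g ∈ Y.M) : ∃ σ ∈ A8, Y.As g σ := by
  obtain ⟨f, φ, e0⟩ := h.ex.ac_of hg.2
  have e : Ac Y.p Y.z g f fun c => c := ⟨e0.1, h.mem_X.1 hg.1⟩
  obtain ⟨d, e1⟩ := e.1 v0
  by_cases hv : VT (f v0)
  · obtain ⟨m, -, σ, h1, h2, h3⟩ := h.vt_as hv d
    obtain ⟨τ, h4, h5⟩ := h.stab (m⁻¹ * g) (mul_mem (inv_mem (h.as_M h2).1) hg.1) (by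
      rw [show m⁻¹ * g * Y.v * (m⁻¹ * g)⁻¹ = m⁻¹ * (g * Y.p v0 * g⁻¹) * m by rw [v]; group, e1,
        ← h3]; group)
    exact ⟨σ * τ, mul_mem h1 h4, by simpa using h.as_mul h2 h5⟩
  exfalso
  have fi : Function.Injective f := fun a b e' => by
    have := h.ex.ac_inj e (v := a + b) (by rw [h.ex.ac_add e, e', W.aa])
    rw [← add_zero a, ← W.aa b, ← add_assoc, this, zero_add]
  have fs := Finite.surjective_of_injective fi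
  obtain ⟨σ, h1, h2, h3, h4⟩ := f_ord4 (x := f v0) (fun e' => v0_ne (h.ex.ac_inj e e'))
    (by have := h.ex.ac_sqf e v0; rwa [h.sq, h.sq, qf_v0] at this) hv
  obtain ⟨m, -, h5⟩ := h.lift σ h1
  obtain ⟨d', e2⟩ := h.as_pz h5 (f v0) d
  rw [h2] at e2
  have hX : g⁻¹ * m * g ∈ Y.X := mul_mem (mul_mem (inv_mem hg.1) (h.as_M h5).1) hg.1
  obtain ⟨τ, h6, h7⟩ := h.cz_v hX (by
    rw [show g⁻¹ * m * g * Y.v * (g⁻¹ * m * g)⁻¹ * Y.v⁻¹ =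
      g⁻¹ * (m * (g * Y.p v0 * g⁻¹) * m⁻¹ * (g * Y.p v0 * g⁻¹)⁻¹) * g by rw [v]; group, e1, e2]
    refine conj_mem' (h.X_NZ hg.1) ?_
    rw [← h.ex.cen, ← h.ex.cen, mul_inv_rev, mul_assoc, mul_inv_cancel_left]
    exact mul_mem (h.z_Z _) (inv_mem (h.z_Z _)))
  have k : ∀ y, f (act τ y) = act σ (f y) := by
    have a := h.ex.ac_mul e h7
    rw [show g * (g⁻¹ * m * g) = m * g by group] at a
    exact (h.ex.ac_uniq a (h.ex.ac_mul h5 e)).1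
  have k2 : ∀ (n : ℕ) y, f (act (τ ^ n) y) = act (σ ^ n) (f y) := fun n => by
    induction n with
    | zero => simp
    | succ n ih => intro y; rw [pow_succ, pow_succ, act_mul, act_mul, ih, k]
  have t4 : τ ^ 4 = 1 := act_ext fun y => fi (by rw [k2, h3, act_one, act_one])
  have t2 := f_stab h6 (fi ((k v0).trans h2)) t4
  refine h4 (act_ext fun y => ?_)
  obtain ⟨y, rfl⟩ := fs y
  rw [← k2, t2, act_one, act_one]
/-- the action of `M` on `P / Z`. -/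
noncomputable def ρ : Y.M →* Perm (Fin 8) :=
  MonoidHom.mk' (fun g => (h.full g.2).choose) fun a b => h.as_uniq (h.full (a * b).2).choose_spec.2
    (h.as_mul (h.full a.2).choose_spec.2 (h.full b.2).choose_spec.2)
theorem as_ρ (hg : g ∈ Y.M) : Y.As g (ap h.ρ g) := by
  rw [ap_of_mem _ hg]; exact (h.full hg).choose_spec.2
theorem ρ_A8 (g : G) : ap h.ρ g ∈ A8 := by
  by_cases hg : g ∈ Y.M
  · rw [ap_of_mem _ hg]; exact (h.full hg).choose_spec.1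
  · rw [ap, dif_neg hg]; exact one_mem _
theorem ρ_eq (e : Y.As g σ) : ap h.ρ g = σ := h.as_uniq (h.as_ρ (h.as_M e)) e
theorem img_A8 (B : Subgroup G) : img h.ρ B ≤ A8 := fun σ hσ => by
  obtain ⟨g, -, -, rfl⟩ := mem_img.1 hσ
  exact h.ρ_A8 g
theorem img_M : img h.ρ Y.M = A8 := (h.img_A8 _).antisymm fun σ hσ => by
  obtain ⟨m, -, e⟩ := h.lift σ hσ
  exact h.ρ_eq e ▸ ap_mem_img _ (h.as_M e) (h.as_M e)
theorem ρ_one (hg : g ∈ Y.M) : ap h.ρ g = 1 ↔ g ∈ Y.P ⊔ Y.D :=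
  ⟨fun e => h.ker g (e ▸ h.as_ρ hg), fun e => h.ρ_eq (h.as_P e)⟩
theorem PD_M : Y.P ⊔ Y.D ≤ Y.M := sup_le h.P_M h.D_M
theorem pre_bot : pre h.ρ ⊥ = Y.P ⊔ Y.D := Subgroup.ext fun _ => mem_pre_bot.trans
  ⟨fun e => (h.ρ_one e.1).1 e.2, fun e => ⟨h.PD_M e, (h.ρ_one (h.PD_M e)).2 e⟩⟩
theorem two_P (hg : g ∈ Y.P ⊔ Y.D) (h2 : TwoE g) : g ∈ Y.P :=
  H24.Sz.two_mem h.twoP h.odd h.DP hg h2
theorem odd_D (hg : g ∈ Y.P ⊔ Y.D) (h2 : Odd (orderOf g)) : g ∈ Y.D :=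
  ((isProd_sup (norm_of_cent h.DP)).hall_right (π := {2}ᶜ) (by rw [compl_compl]; exact h.twoP)
    h.odd).mem_of_nml (nml_sup_right (norm_of_cent (cents_symm h.DP))).norm (oddE_iff.2 h2) hg
theorem card_img (hB : B ≤ Y.M) : ♯B = ♯(img h.ρ B) * ♯(B ⊓ (Y.P ⊔ Y.D)) := by
  rw [← card_img_mul h.ρ hB, h.pre_bot, inf_comm, mul_comm]
theorem card_img2 (hB : B ≤ Y.M) (h2 : TwoG B) : ♯B = ♯(img h.ρ B) * ♯(B ⊓ Y.P) := by
  rw [h.card_img hB, show B ⊓ (Y.P ⊔ Y.D) = B ⊓ Y.P from le_antisymm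
    (fun u hu => ⟨hu.1, h.two_P hu.2 (h2.piElt hu.1)⟩) (inf_le_inf_left _ le_sup_left)]
theorem card_PD : ♯(Y.P ⊔ Y.D) = 16384 * ♯Y.D := by
  have := (isProd_sup (norm_of_cent h.DP)).card
  rwa [h.twoP.inf_eq_bot h.odd, card_bot, mul_one, h.card_P] at this
theorem card_M : ♯Y.M = 16384 * 20160 * ♯Y.D := by
  rw [h.card_img le_rfl, h.img_M, card_A8, inf_eq_right.2 h.PD_M, h.card_PD]; ring
theorem M_dec (hg : g ∈ Y.M) : ∃ m ∈ Y.M ⊓ C[Y.D], ∃ d ∈ Y.D, g = m * d := by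
  obtain ⟨σ, h1, h2⟩ := h.full hg
  obtain ⟨m, h3, h4⟩ := h.lift σ h1
  obtain ⟨a, ha, b, hb, e⟩ := (isProd_sup (norm_of_cent h.DP)).mul _
    (h.ker _ (by simpa using h.as_mul (h.as_inv h4) h2))
  exact ⟨m * a, ⟨mul_mem (h.as_M h4) (h.P_M ha), mul_mem h3 (h.p_CD ha)⟩, b, hb, by
    rw [mul_assoc, ← e, mul_inv_cancel_left]⟩
theorem M_ND : Y.M ≤ N[Y.D] := fun g hg => by
  obtain ⟨m, h1, d, h2, rfl⟩ := h.M_dec hg
  exact mul_mem (norm_of_cent le_rfl h1.2) (le_normalizer h2)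
theorem P_syl (hT : Syl 2 Y.M T) : Y.P ≤ T := by
  obtain ⟨g, h1, h2⟩ := Sylow_Jsub p2 hT h.twoP h.P_M
  rwa [mem_N_iff_cj.1 h1.2] at h2
theorem card_syl (hT : Syl 2 Y.M T) : ♯T = 2 ^ 20 ∧ ♯(img h.ρ T) = 64 := by
  have e : ♯T = 2 ^ 20 := by
    obtain ⟨n, hn⟩ := hT.pi.card_eq_pow p2
    have h1 : 2 ^ 20 ∣ ♯T := hT.dvd_card (((piNat_prime p2).2 (Set.mem_singleton 2)).pow 20)
      ⟨315 * ♯Y.D, by rw [h.card_M]; ring⟩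
    have h2 : ♯T ∣ 2 ^ 20 := by
      have : ♯T ∣ 2 ^ 20 * (315 * ♯Y.D) := ⟨_, by rw [hT.card, h.card_M]; ring⟩
      refine Nat.Coprime.dvd_of_dvd_mul_right ?_ this
      rw [hn]
      exact Nat.Coprime.pow_left n ((Nat.coprime_two_left).2 (Odd.mul (by decide) (oddG_iff.1 h.odd)))
    exact Nat.dvd_antisymm h2 h1
  have := h.card_img2 hT.le hT.pi
  rw [inf_eq_right.2 (h.P_syl hT), h.card_P, e] at this
  exact ⟨e, by omega⟩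
/-- conjugation by an element of `X` does not change `z`, `Z`, `X`. -/
theorem cjX_z (hg : g ∈ Y.X) : (Y.cj g).z = Y.z := funext (h.mem_X.1 hg)
theorem cjX_Z (hg : g ∈ Y.X) : (Y.cj g).Z = Y.Z := by rw [Z, h.cjX_z hg, Z]
theorem cjX_X (hg : g ∈ Y.X) : (Y.cj g).X = Y.X := by rw [X, h.cjX_Z hg, X]

end Md.MD

end H27.G4
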