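import Mathlib
import Cfsg.Agent.H27.GM1
import Cfsg.Agent.H27.GFb

/-! `M` controls the fusion of `v` in `C(Z)`. -/

set_option autoImplicit false
set_option linter.unusedSectionVars false

namespace H27.G4

open H24 H26 H26.Gold Subgroup Equiv
open H9 (F4)
open H24.Sz (Ex Ac Hs Zs)
open H7.SJ (p2)

variable {G : Type*} [Group G] [Finite G] {Y : Md G} {g u e y m s t k : G} {T N B : Subgroup G}
  {x : W} {c : F4} {σ τ : Perm (Fin 8)}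

namespace Da

variable {Y' : Md G} {x' : W} {J : AddSubgroup W} {E : Subgroup (Perm (Fin 8))}

/-- `u` lies over `x`. -/
def Ov (Y : Md G) (u : G) (x : W) : Prop := ∃ c, u = Y.p x * Y.z c

theorem add_eq0 (e : x + x' = 0) : x = x' := by rw [← add_zero x, ← W.aa x', ← add_assoc, e, zero_add]

theorem ea_bound (hE : E ≤ A8) (h : EA E) (h0 : E ≠ ⊥) : ♯E * Nat.card (Fx E) ≤ 512 := by
  have h1 := f_ea hE h
  have h2 := f_ea2 hE h h0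
  have h3 := f_ea4 hE h
  have h4 := f_ea16' hE h
  have h5 := Nat.le_of_dvd (by norm_num) h1
  generalize ♯E = a at *
  interval_cases a <;> omega

theorem card_AS (J : AddSubgroup W) : Nat.card J ≤ 4096 := by
  rw [← W.card, ← Nat.card_eq_fintype_card]
  exact Nat.card_le_card_of_injective _ Subtype.val_injective

theorem acard_le {J J' : AddSubgroup W} (h : J ≤ J') : Nat.card J ≤ Nat.card J' :=
  AddSubgroup.card_le_of_le h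

theorem Z_eq (hz : Y'.z = Y.z) : Y'.Z = Y.Z := by rw [Md.Z, Md.Z, hz]
theorem X_eq (hz : Y'.z = Y.z) : Y'.X = Y.X := by rw [Md.X, Md.X, Z_eq hz]

section

variable (h : Y.MD)
include h

theorem ov_p (x : W) : Ov Y (Y.p x) x := ⟨0, by rw [h.ex.z0, mul_one]⟩
theorem ov_P (hu : u ∈ Y.P) : ∃ x, Ov Y u x := h.mem_P.1 hu
theorem Ov.P (a : Ov Y u x) : u ∈ Y.P := h.mem_P.2 ⟨x, a⟩
theorem Ov.mul (a : Ov Y u x) (b : Ov Y y x') : Ov Y (u * y) (x + x') := by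
  obtain ⟨c, rfl⟩ := a; obtain ⟨d, rfl⟩ := b; exact ⟨_, h.ex.mulz _ _ _ _⟩
theorem Ov.inv (a : Ov Y u x) : Ov Y u⁻¹ x := by obtain ⟨c, rfl⟩ := a; exact ⟨_, h.ex.inv _ _⟩
theorem Ov.cj (a : Ov Y u x) (b : Y.As g σ) : Ov Y (g * u * g⁻¹) (act σ x) := by
  obtain ⟨c, rfl⟩ := a; exact h.as_pz b x c
theorem Ov.uniq (a : Ov Y u x) (b : Ov Y u x') : x = x' := by
  obtain ⟨c, rfl⟩ := a; obtain ⟨d, e⟩ := b; exact (h.ex.eq e).1
theorem ov_Z : Ov Y u 0 ↔ u ∈ Y.Z := by simp only [Ov, h.ex.p0, one_mul, h.mem_Z]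
theorem Ov.conj (a : Ov Y u x) (b : Ov Y y x') : u * y * u⁻¹ = y * Y.z (bf x x') := by
  obtain ⟨c, rfl⟩ := a; obtain ⟨d, rfl⟩ := b
  rw [h.pz_conj, add_comm, h.ex.z_add, mul_assoc]
theorem Ov.comm (a : Ov Y u x) (b : Ov Y y x') : u * y = y * u ↔ bf x x' = 0 := by
  rw [← mul_inv_eq_iff_eq_mul, a.conj h b, mul_eq_left, ← h.ex.z0]
  exact ⟨h.ex.z_inj, fun e => by rw [e]⟩
theorem Ov.mem (a : Ov Y u x) (hB : Y.Z ≤ B) : u ∈ B ↔ Y.p x ∈ B := by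
  obtain ⟨c, rfl⟩ := a; exact mul_mem_cancel_right (hB (h.z_Z c))
theorem Ov.fix (a : Ov Y u x) (b : Y.As g σ) : g * u * g⁻¹ * u⁻¹ ∈ Y.Z ↔ act σ x = x := by
  have := (a.cj h b).mul h (a.inv h)
  exact ⟨fun e => add_eq0 (this.uniq h ((ov_Z h).2 e)), fun e => (ov_Z h).1 (by rwa [e, W.aa] at this)⟩

theorem ZX (hu : u ∈ Y.Z) (hg : g ∈ Y.X) : g * u * g⁻¹ = u := by
  obtain ⟨c, rfl⟩ := h.mem_Z.1 hu; exact h.mem_X.1 hg c

theorem M_X : Y.M ≤ Y.X := inf_le_left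
theorem M_N : Y.M ≤ N[Y.P] := inf_le_right

theorem as_sq (a : Y.As g σ) (e : g * g ∈ Y.Z) : σ * σ = 1 :=
  h.as_uniq (h.as_mul a a) (h.as_P (mem_sup_left (h.Z_P e)))

theorem as_A8 (a : Y.As g σ) : σ ∈ A8 := h.ρ_eq a ▸ h.ρ_A8 g

theorem as_one (a : Y.As g 1) (h2 : TwoE g) : g ∈ Y.P := h.two_P (h.ker g a) h2

theorem vv : Y.v * Y.v = 1 := by
  have := h.pz_sq v0 0
  rwa [h.ex.z0, mul_one, qf_v0, h.ex.z0] at this

/-- the subgroup of `P` over `J`. -/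
def pre (J : AddSubgroup W) : Subgroup G := h.ex.sub (· ∈ J) J.zero_mem fun _ _ => J.add_mem

theorem mem_pre : u ∈ pre h J ↔ ∃ x ∈ J, Ov Y u x :=
  ⟨fun ⟨x, c, a, b⟩ => ⟨x, a, c, b⟩, fun ⟨x, a, c, b⟩ => ⟨x, c, a, b⟩⟩
theorem Ov.pre (a : Ov Y u x) : u ∈ pre h J ↔ x ∈ J :=
  ⟨fun b => by obtain ⟨_, b, c⟩ := (mem_pre h).1 b; rwa [a.uniq h c], fun b => (mem_pre h).2 ⟨x, b, a⟩⟩
theorem pre_P : pre h J ≤ Y.P := fun _ a => by obtain ⟨_, -, b⟩ := (mem_pre h).1 a; exact b.P h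
theorem Z_pre : Y.Z ≤ pre h J := fun _ a => ((ov_Z h).2 a).pre h |>.2 J.zero_mem
theorem card_pre : ♯(pre h J) = 4 * Nat.card J := by
  have := h.card_bar (Z_pre h (J := J))
  rwa [inf_eq_left.2 (pre_P h), show Y.bar h _ (Z_pre h) = J from
    AddSubgroup.ext fun x => (h.mem_bar _).trans ((ov_p h x).pre h)] at this

theorem mem_img_as (hB : B ≤ Y.M) (a : σ ∈ img h.ρ B) : ∃ b ∈ B, Y.As b σ := by
  obtain ⟨b, hb, rfl⟩ := (mem_img_of_le hB).1 a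
  exact ⟨b, hb, h.as_ρ (hB hb)⟩

theorem le_P_of_img (hB : B ≤ Y.M) (h2 : TwoG B) (e : img h.ρ B = ⊥) : B ≤ Y.P := fun _ hb =>
  h.two_P ((h.ρ_one (hB hb)).1 (mem_bot.1 (e ▸ ap_mem_img _ hb (hB hb)))) (h2.piElt hb)

variable (h' : Y'.MD) (hz : Y'.z = Y.z)
include h' hz

/-- a subgroup of `P` that acts on `P'`. -/
theorem EI (hP : B ≤ Y.P) (hM : B ≤ Y'.M) (hZ : Y'.Z ≤ B) : EA (img h'.ρ B) ∧
    ♯B = ♯(img h'.ρ B) * (4 * Nat.card (Y'.bar h' B hZ)) ∧ Y'.bar h' B hZ ≤ Fx (img h'.ρ B) := by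
  refine ⟨ea_of_sq fun σ a => ?_, by rw [h'.card_img2 hM (h.twoP.of_le hP), h'.card_bar hZ],
    fun x a σ b => ?_⟩
  · obtain ⟨b, hb, e⟩ := mem_img_as h' hM a
    exact as_sq h' e (Z_eq hz ▸ h.sq_Z (hP hb))
  · obtain ⟨b, hb, e⟩ := mem_img_as h' hM b
    exact ((ov_p h' x).fix h' e).1 (Z_eq hz ▸ h.cm_Z (hP hb) (hP a))

theorem mem_M' (hg : g ∈ Y.X) (e : g * Y'.v * g⁻¹ * Y'.v⁻¹ ∈ Y.Z) : g ∈ Y'.M := by
  obtain ⟨_, -, a⟩ := h'.cz_v (X_eq hz ▸ hg) (Z_eq hz ▸ e)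
  exact h'.as_M a

theorem L1a (e : Y'.v ∈ Y.P) : Y.P = Y'.P := by
  have hM : Y.P ≤ Y'.M := fun b hb => mem_M' h h' hz (h.P_X hb) (h.cm_Z hb e)
  obtain ⟨h1, h2, h3⟩ := EI h h' hz le_rfl hM (Z_eq hz ▸ h.Z_P)
  refine eq_of_le_of_card_ge (le_P_of_img h' hM h.twoP (by_contra fun n => ?_)) (by rw [h.card_P, h'.card_P])
  have := ea_bound (h'.img_A8 _) h1 n
  have := Nat.mul_le_mul_left ♯(img h'.ρ Y.P) (acard_le h3)
  rw [h.card_P, mul_left_comm] at h2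
  omega

theorem L1b (hx : VT x) (a : Ov Y' u x) (e : u ∈ Y.P) : Y.P = Y'.P := by
  obtain ⟨c, rfl⟩ := a
  obtain ⟨m, hm, f⟩ := h'.vt_conj hx c
  rw [L1a h (h'.cj m) ((h'.cjX_z (M_X h' hm.1)).trans hz) (by rw [Md.cj_v, f]; exact e), Md.cj_P, cj_of_mem_N (M_N h' hm.1)]

omit h' hz in
theorem cent_Rg (e1 : Y.As e σ) (e2 : e * e ∈ Y.Z) (hσ : FPF σ) : pre h (Rg σ) ≤ C{e} := fun u hu => by
  obtain ⟨_, ⟨y, rfl⟩, a⟩ := (mem_pre h).1 hu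
  have b := ov_p h y
  have b' := b.cj h e1
  have f : e * (e * Y.p y * e⁻¹) * e⁻¹ = Y.p y := by
    have := ZX h e2 (h.P_X (inv_mem (h.p_P y)))
    calc _ = Y.p y * ((Y.p y)⁻¹ * (e * e) * (Y.p y)⁻¹⁻¹) * (e * e)⁻¹ := by group
      _ = _ := by rw [this]; group
  have k : e * (Y.p y * (e * Y.p y * e⁻¹)) * e⁻¹ = Y.p y * (e * Y.p y * e⁻¹) := by
    rw [(b.comm h b').2 (fpf_b (as_sq h e1 e2) hσ y)]
    calc _ = e * (e * Y.p y * e⁻¹) * e⁻¹ * (e * Y.p y * e⁻¹) := by group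
      _ = _ := by rw [f, (b.comm h b').2 (fpf_b (as_sq h e1 e2) hσ y)]
  have z0 := ((b.mul h b').inv h).mul h a
  rw [W.aa, ov_Z h] at z0
  have := ZX h z0 (M_X h (h.as_M e1))
  rw [mem_C1_comm, mem_C1_iff_conj, ← mul_inv_cancel_left (Y.p y * (e * Y.p y * e⁻¹)) u]
  generalize Y.p y * (e * Y.p y * e⁻¹) = r at *
  calc _ = e * r * e⁻¹ * (e * (r⁻¹ * u) * e⁻¹) := by group
    _ = _ := by rw [k, this]

omit h' hz in
theorem not_P (e1 : Y.As e σ) (hσ : FPF σ) : e ∉ Y.P := fun a =>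
  hσ 0 (by rw [h.as_uniq e1 (h.as_P (mem_sup_left a))]; rfl)

omit h' hz in
theorem card_B (e1 : Y.As e σ) (h1 : σ ≠ 1) (h2 : σ * σ = 1) : ♯(pre h (F1 σ)) = 1024 := by
  rw [card_pre, card_F1 (as_A8 h e1) h1 h2]

theorem R4a (he : e ∈ Y'.P) (e1 : Y.As e σ) (hσ : FPF σ) (hB : pre h (F1 σ) ≤ Y'.P) : False := by
  have e2 : e * e ∈ Y.Z := Z_eq hz ▸ h'.sq_Z he
  have h2 := as_sq h e1 e2
  have h1 : σ ≠ 1 := fun a => hσ 0 (by rw [a]; rfl)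
  have RF : pre h (Rg σ) ≤ pre h (F1 σ) := fun u hu => by
    obtain ⟨x, a, b⟩ := (mem_pre h).1 hu
    exact (b.pre h).2 (Rg_le h2 a)
  have zR : Y'.Z ≤ pre h (Rg σ) := Z_eq hz ▸ Z_pre h
  have c1 := h'.card_bar zR
  rw [inf_eq_left.2 (RF.trans hB), card_pre, card_Rg (as_A8 h e1) h1 h2] at c1
  have zB : Y'.Z ≤ Y'.P ⊓ C[pre h (Rg σ)] := le_inf h'.Z_P
    (centsC.1 ((RF.trans hB).trans h'.P_X))
  have c2 := h'.card_bar zB
  rw [inf_eq_left.2 inf_le_left] at c2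
  have c3 := (acard_le (J := Y'.bar h' _ zB) (J' := Pp (Y'.bar h' _ zR)) fun x a y b =>
    ((ov_p h' x).comm h' (ov_p h' y)).1 (mem_C'.1 a.2 _ b)).trans (f_perp (by omega))
  have c4 := card_lt (A := pre h (F1 σ)) (B := Y'.P ⊓ C[pre h (Rg σ)]) (lt_of_le_of_ne
    (le_inf hB (le_C_iff.2 fun u hu w hw => by
      obtain ⟨x, a, b⟩ := (mem_pre h).1 hu
      obtain ⟨y, a', b'⟩ := (mem_pre h).1 hw
      exact (b.comm h b').2 ((F1_eq h2).le a y a')))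
    fun f => not_P h e1 hσ (pre_P h (f.ge ⟨he, mem_C_iff_le_C1.2 (cent_Rg h e1 e2 hσ)⟩)))
  rw [card_B h e1 h1 h2] at c4
  omega

theorem fixa (e : Y'.v ∈ Y.M) : Y.P = Y'.P := by
  have e1 := h.as_ρ e
  generalize ap h.ρ Y'.v = τ at e1
  have h2 := as_sq h e1 (by rw [vv h']; exact one_mem _)
  by_cases h1 : τ = 1
  · exact L1a h h' hz (as_one h (h1 ▸ e1) (twoE_of_sq (vv h')))
  have cz : ∀ b ∈ pre h (F1 τ), b * Y'.v * b⁻¹ * Y'.v⁻¹ ∈ Y.Z := fun b hb => by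
    obtain ⟨x, a, f⟩ := (mem_pre h).1 hb
    simpa [mul_assoc] using inv_mem ((f.fix h e1).2 a)
  have hM : pre h (F1 τ) ≤ Y'.M := fun b hb => mem_M' h h' hz (h.P_X (pre_P h hb)) (cz b hb)
  have hZ : Y'.Z ≤ pre h (F1 τ) := Z_eq hz ▸ Z_pre h
  obtain ⟨k1, k2, k3⟩ := EI h h' hz (pre_P h) hM hZ
  by_cases n : img h'.ρ (pre h (F1 τ)) = ⊥
  · have := le_P_of_img h' hM (h.twoP.of_le (pre_P h)) n
    rcases f_type (as_A8 h e1) h2 with f | ⟨x, f, f'⟩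
    · exact (R4a h h' hz (h'.p_P _) e1 f this).elim
    · exact (L1b h' h hz.symm f (ov_p h x) (this (((ov_p h x).pre h).2 f'))).symm
  by_contra n2
  have k4 : ∀ c : F4, c • v0 ∈ Y'.bar h' _ hZ → c = 0 := fun c a => by_contra fun c0 =>
    n2 (L1b h h' hz (vt_smul vt_v0 c0) (ov_p h' _) (pre_P h a))
  have k5 : ∀ c : F4, c • v0 ∈ Fx (img h'.ρ (pre h (F1 τ))) := fun c σ a => by
    obtain ⟨b, hb, f⟩ := mem_img_as h' hM a
    rw [act_smul, ((ov_p h' v0).fix h' f).1 (Z_eq hz ▸ cz b hb)]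
  have k6 := Nat.card_le_card_of_injective (fun p : F4 × Y'.bar h' _ hZ =>
    (⟨p.1 • v0 + p.2, add_mem (k5 _) (k3 p.2.2)⟩ : Fx (img h'.ρ (pre h (F1 τ))))) (by
      rintro ⟨c, x, a⟩ ⟨d, y, b⟩ f
      have f : c • v0 + x = d • v0 + y := congrArg Subtype.val f
      have : c + d = 0 := k4 _ (by
        rw [add_smul, show c • v0 + d • v0 = x + y from add_eq0 (by
          rw [add_add_add_comm, f, W.aa])]
        exact add_mem a b)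
      obtain rfl : c = d := by rw [← add_zero c, ← f4_aa d, ← add_assoc, this, zero_add]
      obtain rfl := add_left_cancel f
      rfl)
  rw [Nat.card_prod, Nat.card_eq_fintype_card, F4.card] at k6
  rw [card_B h e1 h1 h2] at k2
  have := ea_bound (h'.img_A8 _) k1 n
  have := Nat.mul_le_mul_left ♯(img h'.ρ (pre h (F1 τ))) k6
  omega

end

end Da

open Da

namespace Md.MD

variable (h : Y.MD)
include h

theorem L1 (hg : g ∈ Y.X) (e : g * Y.v * g⁻¹ ∈ Y.P) : g ∈ Y.M :=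
  ⟨hg, mem_N_iff_cj.2 (L1a h (h.cj g) (h.cjX_z hg) e |>.trans cj_P).symm⟩
/-- the radical argument. -/
theorem R4 (hg : g ∈ Y.X) (he : e ∈ H24.cj g Y.P) (e1 : Y.As e σ) (h2 : σ * σ = 1) (hσ : FPF σ)
    (hB : ∀ x, act σ x = x → Y.p x ∈ H24.cj g Y.P) : False :=
  R4a h (h.cj g) (h.cjX_z hg) (by rwa [cj_P]) e1 hσ fun u hu => by
    obtain ⟨x, a, b⟩ := (mem_pre h).1 hu
    exact (b.mem h (h.cjX_Z hg ▸ (h.cj g).Z_P)).2 (by rw [cj_P]; exact hB x a)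
theorem fixM (hg : g ∈ Y.X) (e : g * Y.v * g⁻¹ ∈ Y.M) : g ∈ Y.M :=
  ⟨hg, mem_N_iff_cj.2 (fixa h (h.cj g) (h.cjX_z hg) e |>.trans cj_P).symm⟩
theorem sylX (hT : Syl 2 Y.M T) : Syl 2 Y.X T :=
  Sylow_subnorm p2 (hT.le.trans (M_X h)) (hT.of_le (le_inf (hT.le.trans (M_X h)) (norm_self T))
    fun _ a => h.fixM a.1 (hT.le (conj_mem a.2 (h.P_syl hT (h.p_P _)))))
/-- a `2`-subgroup of `X` containing a conjugate of `v`. -/
theorem two_le (hg : g ∈ Y.X) (hB : B ≤ Y.X) (h2 : TwoG B) (e : g * Y.v * g⁻¹ ∈ B) :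
    B ≤ H24.cj g Y.M := by
  obtain ⟨T, hT⟩ := Sylow_exists p2 Y.M
  obtain ⟨k, hk, a⟩ := Sylow_Jsub p2 (h.sylX hT) h2 hB
  have := h.fixM (mul_mem hk hg) (hT.le (a (by
    rw [show k * g * Y.v * (k * g)⁻¹ = k * (g * Y.v * g⁻¹) * k⁻¹ by group]; exact conj_mem_cj k e)))
  intro b hb
  rw [mem_cj, show g⁻¹ * b * g = (k * g)⁻¹ * (k * b * k⁻¹) * (k * g) by group]
  exact mul_mem (mul_mem (inv_mem this) (hT.le (a (conj_mem_cj k hb)))) this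

end Md.MD

end H27.G4
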