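import Mathlib
import Cfsg.Agent.H27.GDa

/-! `P / Z` is strongly closed. -/

set_option autoImplicit false
set_option linter.unusedSectionVars false

namespace H27.G4

open H24 H26 H26.Gold Subgroup Equiv
open H9 (F4)
open H24.Sz (Ex Ac Hs Zs)
open H7.SJ (p2)

variable {G : Type*} [Group G] [Finite G] {Y : Md G} {g u e y m s t k : G} {T N B : Subgroup G}
  {x : W} {c : F4} {σ τ : Perm (Fin 8)}

namespace Db

open Da H7.SJ

variable {Y' : Md G} {F : Subgroup G}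

theorem two_sq (J K : AddSubgroup W) (hK : ∀ x ∈ K, om • x ∈ K) (hJ : J ≤ K)
    (h : ∀ x ∈ J, om • x ∈ J → x = 0) : Nat.card J * Nat.card J ≤ Nat.card K := by
  rw [← Nat.card_prod]
  refine Nat.card_le_card_of_injective (fun p : J × J =>
    (⟨p.1 + om • p.2, add_mem (hJ p.1.2) (hK _ (hJ p.2.2))⟩ : K)) ?_
  rintro ⟨⟨a, ha⟩, b, hb⟩ ⟨⟨a', ha'⟩, b', hb'⟩ f
  have f : a + om • b = a' + om • b' := congrArg Subtype.val f
  obtain rfl : b = b' := add_eq0 (h _ (add_mem hb hb') (by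
    rw [smul_add, ← add_eq0 (x := a + a') (x' := om • b + om • b') (by rw [add_add_add_comm, f, W.aa])]
    exact add_mem ha ha'))
  obtain rfl := add_right_cancel f
  rfl

theorem smul_all {J : AddSubgroup W} (h1 : x ∈ J) (h2 : om • x ∈ J) (c : F4) : c • x ∈ J := by
  rcases f4_cases c with rfl | rfl | rfl | rfl
  · rw [zero_smul]; exact zero_mem _
  · rwa [one_smul]
  · exact h2
  · rw [show om * om = 1 + om by decide, add_smul, one_smul]; exact add_mem h1 h2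

/-- the centraliser of `e` modulo `Z`. -/
def Ce (Y : Md G) (e : G) : Subgroup G := Y.X ⊓ cz e Y.Z

variable (h : Y.MD)
include h

theorem mem_Ce (he : e ∈ Y.X) : g ∈ Ce Y e ↔ g ∈ Y.X ∧ e⁻¹ * (g * e * g⁻¹) ∈ Y.Z :=
  and_congr_right fun hg => (mem_cz (h.X_NZ he)).trans (and_iff_right (h.X_NZ hg))

theorem cv (he : e ∈ Y.X) : e⁻¹ * (g * e * g⁻¹) ∈ Y.Z ↔ g * e * g⁻¹ * e⁻¹ ∈ Y.Z := by
  rw [← conj_mem_iff (h.X_NZ he), show e * (e⁻¹ * (g * e * g⁻¹)) * e⁻¹ = g * e * g⁻¹ * e⁻¹ by group]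

theorem ov_Ce (e1 : Y.As e τ) (a : Ov Y u x) : u ∈ Ce Y e ↔ act τ x = x := by
  have he := M_X h (h.as_M e1)
  rw [mem_Ce h he, and_iff_right (h.P_X (a.P h)), cv h he, ← a.fix h e1, ← inv_mem_iff]
  simp [mul_assoc]

theorem two_CD (hm : e ∈ Y.M) (h2 : TwoE e) : e ∈ C[Y.D] := by
  obtain ⟨m, a, d, b, rfl⟩ := h.M_dec hm
  have c : Commute m d := mem_C'.1 a.2 d b
  have := (mem_zpowers_pow_iff (g := m * d) (k := orderOf d)).2 (h2.coprime (h.odd.piElt b)).symm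
  rw [c.mul_pow, pow_orderOf_eq_one, mul_one] at this
  exact zpowers_le.2 (pow_mem a.2 _) this

/-- the centraliser of `e` modulo `Z` covers the centraliser of `τ`. -/
theorem cover (e1 : Y.As e τ) (e2 : e * e ∈ Y.Z) (hτ : FPF τ) (hσ : σ ∈ A8) (hc : σ * τ = τ * σ) :
    ∃ m ∈ Ce Y e, Y.As m σ := by
  have h2 := as_sq h e1 e2
  have eM := h.as_M e1
  have e4 : TwoE e := piElt_of_pow_eq_one (n := 4) (by
    rw [show 4 = 2 ^ 2 from rfl]; exact (piNat_self p2).pow 2) (by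
    rw [show e ^ 4 = e * e * (e * e) by simp [pow_succ, mul_assoc]]; exact h.eaZ.sq e2)
  obtain ⟨m, m1, m2⟩ := h.lift σ hσ
  have mX := M_X h (h.as_M m2)
  have a0 : Y.As (e⁻¹ * (m * e * m⁻¹)) 1 := by
    have := h.as_mul (h.as_inv e1) (h.as_mul (h.as_mul m2 e1) (h.as_inv m2))
    rwa [hc, mul_inv_cancel_right, inv_mul_cancel] at this
  have tA : TwoG (Y.P ⊔ zpowers e) := h.twoP.sup e4.isPi (zpowers_le.2 (M_N h eM))
  have eA : e ∈ Y.P ⊔ zpowers e := mem_sup_right (mem_zpowers e)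
  have a1 := H24.Sz.two_mem tA h.odd (by
      rw [C_sup, C_zpowers]; exact le_inf h.DP (mem_C_iff_le_C1.1 (two_CD h eM e4)))
    (g := m * e * m⁻¹) (by
      rw [← mul_inv_cancel_left e (m * e * m⁻¹)]
      exact mul_mem (mem_sup_left eA) ((sup_le_sup_right le_sup_left Y.D :) (h.ker _ a0))) (e4.conj m)
  obtain ⟨b, hb⟩ := ov_P h (as_one h a0 (tA.piElt (mul_mem (inv_mem eA) a1)))
  obtain ⟨c, hc'⟩ : ∃ c, m * e * m⁻¹ = e * c := ⟨_, (mul_inv_cancel_left _ _).symm⟩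
  rw [hc', inv_mul_cancel_left] at hb
  have ti : τ⁻¹ = τ := inv_eq_of_mul_eq_one_right h2
  have ei := ti ▸ h.as_inv e1
  have b1 : b ∈ F1 τ := by
    have : e⁻¹ * c * e⁻¹⁻¹ * c ∈ Y.Z := by
      have := mul_mem (inv_mem e2) (conj_mem (h.X_NZ mX) e2)
      rwa [show m * (e * e) * m⁻¹ = m * e * m⁻¹ * (m * e * m⁻¹) by group, hc',
        show (e * e)⁻¹ * (e * c * (e * c)) = e⁻¹ * c * e⁻¹⁻¹ * c by group] at this
    exact add_eq0 (((hb.cj h ei).mul h hb).uniq h ((ov_Z h).2 this))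
  obtain ⟨y, rfl⟩ : b ∈ Rg τ := (Rg_eq h2).ge fun x hx => by
    have d := ov_p h x
    have d1 := d.cj h m2
    have r := (d.inv h).mul h d1
    have r1 : x + act σ x ∈ Rg τ := add_comm x _ ▸ f_cen h2 hτ hσ hc hx
    have r2 := mem_C1_iff_conj.1 (mem_C1_comm.1 (cent_Rg h e1 e2 hτ ((r.pre h).2 r1)))
    have z1 := ZX h ((d.fix h e1).2 hx) mX
    have z2 := hb.conj h d1
    have z3 := h.mem_X.1 (M_X h eM) (bf b (act σ x))
    have z4 := ZX h ((d.fix h e1).2 hx) (h.P_X (inv_mem (d.P h)))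
    have z5 := ZX h ((d.fix h e1).2 hx) (h.P_X (inv_mem (d1.P h)))
    have : bf b (act σ x) = 0 := h.ex.z_inj (by
      rw [h.ex.z0, ← z3]
      generalize Y.z (bf b (act σ x)) = w at *
      clear r d1 d
      generalize Y.p x = d at *
      have k1 : m * (e * d * e⁻¹ * d⁻¹) * m⁻¹ =
          e * (c * (m * d * m⁻¹) * c⁻¹) * e⁻¹ * (m * d * m⁻¹)⁻¹ := by
        calc _ = m * e * m⁻¹ * (m * d * m⁻¹) * (m * e * m⁻¹)⁻¹ * (m * d * m⁻¹)⁻¹ := by group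
          _ = _ := by rw [hc']; group
      rw [z1, z2] at k1
      generalize m * d * m⁻¹ = d1 at *
      have k2 : e * d1 * e⁻¹ = d1 * (e * d * e⁻¹ * d⁻¹) := by
        calc _ = e * d * e⁻¹ * (e * (d⁻¹ * d1) * e⁻¹) := by group
          _ = d1 * (d1⁻¹ * (e * d * e⁻¹ * d⁻¹) * d1⁻¹⁻¹) := by rw [r2]; group
          _ = _ := by rw [z5]
      calc _ = (e * d1 * e⁻¹)⁻¹ * (e * (d1 * w) * e⁻¹ * d1⁻¹) * d1 := by group
        _ = (e * d * e⁻¹ * d⁻¹)⁻¹ * (d1⁻¹ * (e * d * e⁻¹ * d⁻¹) * d1⁻¹⁻¹) := by rw [← k1, k2]; group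
        _ = 1 := by rw [z5, inv_mul_cancel])
    have b2 := (F1_eq h2).le b1 _ r1
    rwa [bf_add, this, add_zero] at b2
  have d := (ov_p h y).inv h
  refine ⟨(Y.p y)⁻¹ * m, (mem_Ce h (M_X h eM)).2 ⟨mul_mem (h.P_X (d.P h)) mX, ?_⟩,
    one_mul σ ▸ h.as_mul (h.as_P (mem_sup_left (d.P h))) m2⟩
  have := ((d.cj h ei).mul h hb).mul h (ov_p h y)
  rw [add_comm y, ← add_assoc, W.aa, zero_add, W.aa, ov_Z h] at this
  rwa [show e⁻¹ * ((Y.p y)⁻¹ * m * e * ((Y.p y)⁻¹ * m)⁻¹) = e⁻¹ * ((Y.p y)⁻¹ * (m * e * m⁻¹) * Y.p y) by group,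
    hc', show e⁻¹ * ((Y.p y)⁻¹ * (e * c) * Y.p y) = e⁻¹ * (Y.p y)⁻¹ * e⁻¹⁻¹ * c * Y.p y by group]

variable (h' : Y'.MD) (hz : Y'.z = Y.z)
include h' hz

theorem endA (he : e ∈ Y'.P) (e1 : Y.As e τ) (hτ : FPF τ) (f2 : TwoG F) (fM : F ≤ Y.M)
    (fM' : F ≤ Y'.M) (fC : F ≤ Ce Y e) (fB : pre h (F1 τ) ≤ F) (fe : e ∈ F) (fc : 2 ^ 16 ∣ ♯F) :
    False := by
  have e2 : e * e ∈ Y.Z := Z_eq hz ▸ h'.sq_Z he
  have h2 := as_sq h e1 e2
  have h1 : τ ≠ 1 := fun a => hτ 0 (by rw [a]; rfl)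
  have eX := M_X h (h.as_M e1)
  have FP : F ⊓ Y.P = pre h (F1 τ) := le_antisymm (fun u hu => by
    obtain ⟨x, a⟩ := ov_P h hu.2
    exact (a.pre h).2 ((ov_Ce h e1 a).1 (fC hu.1))) (le_inf fB (pre_P h))
  have hZ : Y'.Z ≤ pre h (F1 τ) := Z_eq hz ▸ Z_pre h
  have hZ' : Y.Z ≤ F ⊓ Y'.P := le_inf ((Z_pre h).trans fB) (Z_eq hz ▸ h'.Z_P)
  obtain ⟨k1, k2, k3⟩ := EI h h' hz (pre_P h) (fB.trans fM') hZ
  obtain ⟨l1, l2, l3⟩ := EI h' h hz.symm inf_le_right (inf_le_left.trans fM) hZ'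
  have n : img h'.ρ (pre h (F1 τ)) ≠ ⊥ := fun n => R4a h h' hz he e1 hτ
    (le_P_of_img h' (fB.trans fM') (h.twoP.of_le (pre_P h)) n)
  have n1 : img h.ρ (F ⊓ Y'.P) ≠ ⊥ := fun n => not_P h e1 hτ
    (le_P_of_img h (inf_le_left.trans fM) (f2.inf_left _) n ⟨fe, he⟩)
  have c1 := h'.card_bar hZ
  have c2 := h.card_bar hZ'
  rw [inf_right_comm, FP, c1] at c2
  have c3 := h'.card_img2 fM' f2
  rw [card_B h e1 h1 h2] at k2
  obtain ⟨x, hx⟩ := ov_P h' he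
  have x1 : x ∈ Fx (img h'.ρ F) := fun σ a => by
    obtain ⟨b, hb, f⟩ := mem_img_as h' fM' a
    exact (hx.fix h' f).1 (Z_eq hz ▸ (cv h eX).1 ((mem_Ce h eX).1 (fC hb)).2)
  have x2 : x ∉ Y'.bar h' _ hZ := fun a => not_P h e1 hτ (pre_P h ((hx.mem h' hZ).2 a))
  have x3 : x ∈ Fx (img h'.ρ (pre h (F1 τ))) := fun σ a => x1 σ (img_mono _ fB a)
  have b1 := ea_bound (h'.img_A8 _) k1 n
  have b2 := Nat.le_of_dvd (by norm_num) (f_ea (h'.img_A8 _) k1)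
  have b3 := f_two (h'.img_A8 F) (f2.img _)
  by_cases c64 : ♯(img h'.ρ F) = 64
  · obtain ⟨w, -, -, -, hw⟩ := f_syl (h'.img_A8 F) c64
    have inv : ∀ σ ∈ img h'.ρ F, ∀ y ∈ Y'.bar h' _ hZ, act σ y ∈ Y'.bar h' _ hZ := fun σ a y b => by
      obtain ⟨f, hf, a⟩ := mem_img_as h' fM' a
      refine (((ov_p h' y).cj h' a).mem h' hZ).1 (FP.le ⟨?_, conj_mem (M_N h (fM hf)) (pre_P h b)⟩)
      exact F.mul_mem (F.mul_mem hf (fB b)) (F.inv_mem hf)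
    have := two_sq _ (Fx (img h'.ρ (pre h (F1 τ)))) (fun y a σ b => by rw [act_smul, a σ b]) k3
      fun y y1 y2 => by_contra fun y0 => by
        let J : AddSubgroup W := Y'.bar h' _ hZ ⊓ (Y'.bar h' _ hZ).comap (DistribSMul.toAddMonoidHom W om)
        obtain ⟨u, u1, u0, u2⟩ := f_pfix (J := J) (f2.img h'.ρ) (fun σ a y b => ⟨inv σ a y b.1, by
          show om • act σ y ∈ Y'.bar h' _ hZ
          rw [← act_smul]; exact inv σ a _ b.2⟩) fun a => y0 (a.le (show y ∈ J from ⟨y1, y2⟩))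
        obtain ⟨c, rfl⟩ := (hw u).1 u2
        obtain ⟨d, rfl⟩ := (hw x).1 x1
        have c0 : c ≠ 0 := by rintro rfl; exact u0 (zero_smul _ _)
        have := smul_all u1.1 u1.2 (d * c⁻¹)
        rw [smul_smul, inv_mul_cancel_right₀ c0] at this
        exact x2 this
    have := Nat.mul_le_mul_left ♯(img h'.ρ (pre h (F1 τ))) this
    generalize ♯(img h'.ρ (pre h (F1 τ))) = a at *
    generalize Nat.card (Y'.bar h' _ hZ) = n at *
    have : a * n = 256 := by linarith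
    have : 256 * n ≤ 512 := by nlinarith
    nlinarith
  · have b4 : ♯(img h'.ρ F) ≤ 32 := by
      obtain ⟨i, hi, a⟩ := (Nat.dvd_prime_pow p2 (m := 6)).1 b3
      rw [a] at c64 ⊢
      interval_cases i <;> omega
    have b5 := Nat.le_of_dvd (card_pos _) fc
    have b6 := acard_le l3
    have b7 := f_ea4 (h.img_A8 _) l1
    have b8 := f_ea16' (h.img_A8 _) l1
    have b9 := f_ea (h.img_A8 _) l1
    have b10 := f_ea4 (h'.img_A8 _) k1
    have b11 : Nat.card (Y'.bar h' _ hZ) < Nat.card (Fx (img h'.ρ (pre h (F1 τ)))) :=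
      Set.ncard_lt_ncard (s := (Y'.bar h' _ hZ : Set W)) (t := Fx (img h'.ρ (pre h (F1 τ))))
        ⟨k3, fun a => x2 (a x3)⟩
    have b12 := one_lt_card n
    have b13 := Nat.mul_le_mul_right ♯(F ⊓ Y'.P) b4
    have b14 := Nat.le_of_dvd (by norm_num) b9
    generalize ♯(img h'.ρ (pre h (F1 τ))) = a at *
    generalize ♯(img h.ρ (F ⊓ Y'.P)) = a' at *
    interval_cases a <;> interval_cases a' <;> omega

theorem sc' (he : e ∈ Y'.P) (eM : e ∈ Y.M) : e ∈ Y.P := by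
  by_contra n
  have e1 := h.as_ρ eM
  generalize ap h.ρ e = τ at e1
  have e2 : e * e ∈ Y.Z := Z_eq hz ▸ h'.sq_Z he
  have h2 := as_sq h e1 e2
  have e4 := h'.twoP.piElt he
  have h1 : τ ≠ 1 := fun a => n (as_one h (a ▸ e1) e4)
  have eX := M_X h eM
  have P' : Y'.P ≤ Ce Y e := fun u hu => (mem_Ce h eX).2
    ⟨X_eq hz ▸ h'.P_X hu, (cv h eX).2 (Z_eq hz ▸ h'.cm_Z hu he)⟩
  have back : ∀ {c : G} {P : Subgroup G}, c ∈ Ce Y e → Y.Z ≤ P → (c * e * c⁻¹ ∈ P ↔ e ∈ P) :=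
    fun {c P} a b => by
      rw [← mul_inv_cancel_left e (c * e * c⁻¹)]; exact mul_mem_cancel_right (b ((mem_Ce h eX).1 a).2)
  have two : ∀ {Y1 : Md G} {S : Subgroup G}, Y1.MD → Y1.z = Y.z → Syl 2 (Ce Y e) S → Y1.P ≤ S →
      S ≤ Y1.M := fun h1 a b c => by
    simpa using h1.two_le (one_mem _) (X_eq a ▸ b.le.trans inf_le_left) b.pi
      (by simpa [Md.v] using c (h1.p_P _))
  rcases f_type (as_A8 h e1) h2 with f | ⟨x, f, f'⟩
  · obtain ⟨S, s1, s2, s3⟩ := f_cen64 h2 f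
    have k1 : pre h (F1 τ) ≤ Ce Y e ⊓ Y.M := fun u hu => by
      obtain ⟨x, a, b⟩ := (mem_pre h).1 hu
      exact ⟨(ov_Ce h e1 b).2 a, h.P_M (b.P h)⟩
    have k2 : 2 ^ 16 ∣ ♯(Ce Y e ⊓ Y.M) := by
      rw [h.card_img inf_le_right, show 2 ^ 16 = 64 * 1024 by norm_num, ← s2, ← card_B h e1 h1 h2]
      refine mul_dvd_mul (card_dvd fun σ a => ?_) (card_dvd (le_inf k1 ((pre_P h).trans le_sup_left)))
      obtain ⟨m, m1, m2⟩ := cover h e1 e2 f (s1 a) (mem_C1.1 (s3 a))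
      exact h.ρ_eq m2 ▸ ap_mem_img _ ⟨m1, h.as_M m2⟩ (h.as_M m2)
    obtain ⟨F, f1, f2⟩ := Sylow_superset p2 (((h.twoP.of_le (pre_P h)).sup e4.isPi (zpowers_le.2
      (mem_N_of_finite fun u hu => by
        obtain ⟨x, a, b⟩ := (mem_pre h).1 hu
        exact ((b.cj h e1).pre h).2 (by rw [a]; exact a)))))
      (sup_le k1 (zpowers_le.2 ⟨P' he, eM⟩))
    obtain ⟨S, g1, g2⟩ := Sylow_superset p2 f1.pi (f1.le.trans inf_le_left)
    obtain ⟨c, g3, g4⟩ := Sylow_Jsub p2 g1 h'.twoP P'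
    have z1 := (h'.cjX_z (X_eq hz ▸ g3.1)).trans hz
    exact endA h (h'.cj c) z1 (by
        rw [Md.cj_P, mem_cj]
        simpa using (back (inv_mem g3) (Z_eq hz ▸ h'.Z_P)).2 he) e1 f f1.pi (f1.le.trans inf_le_right)
      (g2.trans (two (h'.cj c) z1 g1 (by rwa [Md.cj_P]))) (f1.le.trans inf_le_left) (le_sup_left.trans f2)
      (f2 (mem_sup_right (mem_zpowers e))) (f1.dvd_card ((piNat_self p2).pow 16) k2)
  · obtain ⟨S, g1, g2⟩ := Sylow_superset p2 h'.twoP P'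
    have d := ov_p h x
    obtain ⟨c, g3, g4⟩ := Sylow_Jsub p2 g1 (h.twoP.piElt (d.P h)).isPi (zpowers_le.2 ((ov_Ce h e1 d).2 f'))
    obtain ⟨m, m1, m2⟩ := h.vt_conj f 0
    rw [h.ex.z0, mul_one] at m2
    have := fixa h' (h.cj (c * m)) ((h.cjX_z (mul_mem g3.1 (M_X h m1.1))).trans hz.symm)
      (two h' hz g1 g2 (g4 (by
        rw [Md.cj_v, show c * m * Y.v * (c * m)⁻¹ = c * (m * Y.v * m⁻¹) * c⁻¹ by group, m2]
        exact conj_mem_cj c (mem_zpowers _))))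
    rw [this, Md.cj_P, cj_mul, cj_of_mem_N (M_N h m1.1), mem_cj] at he
    exact n ((back (inv_mem g3) h.Z_P).1 (by simpa using he))

end Db

theorem Md.MD.sc (h : Y.MD) (hy : y ∈ Y.P) (hg : g ∈ Y.X) (e : g * y * g⁻¹ ∈ Y.M) :
    g * y * g⁻¹ ∈ Y.P :=
  Db.sc' h (h.cj g) (h.cjX_z hg) (by rw [Md.cj_P]; exact conj_mem_cj g hy) e

end H27.G4
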