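import Mathlib
import Cfsg.Agent.H27.GDb

/-! `C(Z) = M`. -/

set_option autoImplicit false
set_option linter.unusedSectionVars false

namespace H27.G4

open H24 H26 H26.Gold Subgroup Equiv
open H9 (F4)
open H24.Sz (Ex Ac Hs Zs)
open H7.SJ (p2)

variable {G : Type*} [Group G] [Finite G] {Y : Md G} {g u e y m s t k : G} {T N B : Subgroup G}
  {x : W} {c : F4} {σ τ : Perm (Fin 8)}

namespace Ge

open Da

theorem rat_om (h1 : Rat x) (h2 : Rat (om • x)) : x = 0 := by revert x; decide +kernel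

theorem vt_w (h : VT x) : ¬ Rat (x + om • w0) := by
  obtain ⟨i, j, k, h1, h2, h3, rfl⟩ := h
  revert i j k; decide +kernel

theorem triv (hc : c ≠ 0) (h : ∀ y, Rat (c • (y + act σ y))) : σ = 1 :=
  act_ext fun y => by
    have := rat_om (h y) (by rw [smul_comm, smul_add om, ← act_smul]; exact h _)
    rw [act_one, ← add_eq0 ((smul_eq_zero.1 this).resolve_left hc)]

theorem A8_even : 2 ∣ ♯A8 := by rw [card_A8]; decide

variable (h : Y.MD)
include h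

theorem OX : Od[Y.X] ≤ C[Y.P] := by
  have hV : ∀ u ∈ closure (Set.range fun c : F4 => Y.p (c • v0)), ∃ c : F4, u = Y.p (c • v0) :=
    fun u hu => by
      induction hu using closure_induction with
      | mem x hx => obtain ⟨c, rfl⟩ := hx; exact ⟨c, rfl⟩
      | one => exact ⟨0, by rw [zero_smul, h.ex.p0]⟩
      | mul x y _ _ h1 h2 =>
        obtain ⟨c, rfl⟩ := h1; obtain ⟨e, rfl⟩ := h2
        exact ⟨_, (h.pv c e).symm⟩
      | inv x _ h1 =>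
        obtain ⟨c, rfl⟩ := h1
        exact ⟨c, inv_eq_of_mul_eq_one_right (by rw [← h.pv, f4_aa, zero_smul, h.ex.p0])⟩
  have c4 : Nat.card F4 ≤ ♯(closure (Set.range fun c : F4 => Y.p (c • v0))) :=
    Nat.card_le_card_of_injective (fun c => ⟨Y.p (c • v0), subset_closure ⟨c, rfl⟩⟩) fun a b e =>
      smul_left_injective F4 v0_ne (Ov.uniq h (ov_p h (a • v0))
        ((show Y.p (a • v0) = Y.p (b • v0) from congrArg Subtype.val e) ▸ ov_p h (b • v0)))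
  have OM : Od[Y.X] ≤ Y.M := H7.SJ.gen1 (A := closure (Set.range fun c : F4 => Y.p (c • v0)))
    (ea_of_sq fun u hu => by
      obtain ⟨c, rfl⟩ := hV u hu
      rw [← h.pv, f4_aa, zero_smul, h.ex.p0])
    (by rwa [Nat.card_eq_fintype_card, F4.card] at c4) (Od_odd _)
    (fun u hu => by
      obtain ⟨c, rfl⟩ := hV u hu
      exact (pcore_nml _ _).norm (h.P_X (h.p_P _)))
    fun u hu u1 o ho => by
      obtain ⟨c, rfl⟩ := hV u hu
      obtain ⟨m, hm, e⟩ := h.vt_conj (vt_smul vt_v0 (c := c) fun e => u1 (by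
        rw [e, zero_smul, h.ex.p0])) 0
      rw [h.ex.z0, mul_one] at e
      have := h.fixM (g := o * m) (mul_mem (pcore_le _ _ ho.1) hm.1.1) (by
        rw [show o * m * Y.v * (o * m)⁻¹ = o * (m * Y.v * m⁻¹) * o⁻¹ by group, e,
          mem_C1_iff_conj.1 ho.2]
        exact h.P_M (h.p_P _))
      exact (mul_mem_cancel_right (mem_inf.1 hm).1).1 this
  rcases f_simple (h.img_A8 Od[Y.X]) (h.img_M ▸ img_norm h.ρ ((M_X h).trans (pcore_nml _ _).norm))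
    with e | e
  · exact fun o ho => h.DP (h.odd_D (h.pre_bot ▸ (img_eq_bot OM).1 e ho)
      (oddE_iff.1 ((Od_odd _).piElt ho)))
  · exact absurd (e ▸ A8_even) (((Od_odd Y.X).img h.ρ).not_dvd' p2 rfl)

theorem as_of (e : σ ∈ img h.ρ N) : ∃ b ∈ N, Y.As b σ := by
  obtain ⟨b, h1, h2, rfl⟩ := mem_img.1 e
  exact ⟨b, h1, h.as_ρ h2⟩

theorem sub (hB : B ⊴ N) (hZ : Y.Z ≤ B) (hN : img h.ρ N = A8) :
    Y.P ≤ B ∨ ∃ c : F4, c ≠ 0 ∧ ∀ u x, Ov Y u x → u ∈ B → Rat (c • x) := by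
  by_cases h0 : Y.bar h B hZ = ⊥
  · refine Or.inr ⟨1, one_ne_zero, fun u x a b => ?_⟩
    have : x ∈ Y.bar h B hZ := (Ov.mem h a hZ).1 b
    rw [h0, AddSubgroup.mem_bot] at this
    rw [this, smul_zero]; exact rat_zero
  rcases f_sub (J := Y.bar h B hZ) (fun σ hσ y hy => by
    obtain ⟨b, h1, h2⟩ := as_of h (hN.ge hσ)
    exact (Ov.mem h (Ov.cj h (ov_p h y) h2) hZ).1 (hB.conj_mem h1 hy)) h0 with e | ⟨c, h1, h2⟩
  · refine Or.inl fun u hu => ?_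
    obtain ⟨x, a⟩ := ov_P h hu
    exact (Ov.mem h a hZ).2 (e.ge (AddSubgroup.mem_top x))
  · exact Or.inr ⟨c, h1, fun u x a b => (h2 x).1 ((Ov.mem h a hZ).1 b)⟩

theorem cm_ov (e : Y.As g σ) (y : W) : Ov Y (g * Y.p y * g⁻¹ * (Y.p y)⁻¹) (y + act σ y) :=
  add_comm (act σ y) y ▸ Ov.mul h (Ov.cj h (ov_p h y) e) (Ov.inv h (ov_p h y))

theorem case1 (hT : Syl 2 Y.M T) (hB : Sbn B Y.X) (hP : Y.P ≤ B) (e : img h.ρ B = ⊥) :
    Y.X ≤ N[Y.P] := by
  have k : ∀ g ∈ B, g ∈ Y.M → g ∈ Y.P ⊔ Y.D := fun g h1 h2 =>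
    (h.ρ_one h2).1 (mem_bot.1 (e ▸ ap_mem_img h.ρ h1 h2))
  have hS : Syl 2 B Y.P := by
    have := hB.hall_inf (h.sylX hT)
    rwa [show T ⊓ B = Y.P from le_antisymm (fun u hu => h.two_P (k u hu.2 (hT.le hu.1))
      (hT.pi.piElt hu.1)) (le_inf (h.P_syl hT) hP)] at this
  have n : B ≤ N[Y.P] := (H7.SJ.burn_mod (hB.le.trans h.X_NZ) hB.le hS h.Z_P fun g hg a ha => by
    obtain ⟨x, b⟩ := ov_P h ha
    exact (ov_Z h).1 (by
      simpa using Ov.mul h (Ov.inv h b) (Ov.cj h b (h.as_P (k g hg.1 ⟨hB.le hg.1, hg.2⟩))))).trans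
    (sup_le ((hB.pcore_le _).trans (norm_of_cent (OX h))) le_normalizer)
  have l := (Sbn.step ⟨hP, n⟩ hB).le_pcore h.twoP
  exact fun g hg => mem_N_of_finite fun u hu => h.sc hu hg
    (hT.le (pcore_le_Hall (h.sylX hT) ((pcore_nml _ _).conj_mem hg (l hu))))

theorem case2 (hT : Syl 2 Y.M T) (hs : Sbn N Y.X) (hP : Y.P ≤ N) (hN : img h.ρ N = A8)
    (hB : Chief N B N) (hZ : Y.Z ≤ B) (hc : c ≠ 0) (e : ∀ u x, Ov Y u x → u ∈ B → Rat (c • x)) :
    False := by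
  have hS : Syl 2 N (T ⊓ N) := hs.hall_inf (h.sylX hT)
  have PS : Y.P ≤ T ⊓ N := le_inf (h.P_syl hT) hP
  have SM : T ⊓ N ≤ Y.M := inf_le_left.trans hT.le
  have := hB.nml.normal
  let π := QuotientGroup.mk' (B.subgroupOf N)
  have hπ : pre π ⊥ = B := by
    rw [H24.pre, MonoidHom.comap_bot, QuotientGroup.ker_mk', map_subgroupOf' hB.le]
  have top : img π N = ⊤ := by
    rw [img_dom, MonoidHom.range_eq_top]; exact QuotientGroup.mk'_surjective _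
  have one : ∀ {x}, x ∈ N → ap π x = 1 → x ∈ B := fun hx e => hπ.le (mem_pre_bot.2 ⟨hx, e⟩)
  have one' : ∀ {x}, x ∈ B → ap π x = 1 := fun hx => (mem_pre_bot.1 (hπ.ge hx)).2
  have vN : Y.v ∈ N := hP (h.p_P _)
  have d1 : ap π Y.v ≠ 1 := fun k => (vt_q (vt_smul vt_v0 hc)).2.2 (e _ _ (ov_p h _) (one vN k))
  have : Nontrivial (N ⧸ B.subgroupOf N) := ⟨_, _, d1⟩
  have : IsSimpleGroup (N ⧸ B.subgroupOf N) := ⟨fun E hE => by
    have k1 : pre π E ⊴ N := by simpa [pre_top] using (nml_top E).pre π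
    have k2 := img_pre_of_le (f := π) (X := E) (by rw [← img_dom, top]; exact le_top)
    rcases hB.max _ (hπ.ge.trans (ker_le_pre π E)) k1.le k1.norm with k | k
    · exact Or.inl (by rw [← k2, img_eq_bot k1.le, hπ, k])
    · exact Or.inr (by rw [← k2, k, top])⟩
  -- conjugates of elements of `P`
  have cv : ∀ a ∈ Y.P, ∀ g ∈ N, ap π (g * a * g⁻¹) ∈ img π (T ⊓ N) →
      ∃ b ∈ B, b * g * a * (b * g)⁻¹ ∈ Y.M := fun a ha g hg k => by
    have k1 : g * a * g⁻¹ ∈ pre π (img π (T ⊓ N)) :=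
      mem_pre.2 ⟨mul_mem (mul_mem hg (hP ha)) (inv_mem hg), k⟩
    rw [pre_img π inf_le_right, hπ] at k1
    obtain ⟨m, hm, k2⟩ := Sylow_Jsub p2 (hS.of_le le_sup_left (sup_le inf_le_right hB.le))
      ((h.twoP.piElt ha).conj g).isPi (zpowers_le.2 k1)
    obtain ⟨s, h1, b, h2, rfl⟩ := (isProd_sup' (inf_le_right.trans hB.nml.norm)).mul m hm
    refine ⟨b, h2, ?_⟩
    have := conj_mem' (le_normalizer (SM h1)) (SM (k2 (conj_mem_cj _ (mem_zpowers _))))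
    rwa [show s⁻¹ * (s * b * (g * a * g⁻¹) * (s * b)⁻¹) * s = b * g * a * (b * g)⁻¹ by group] at this
  have cv2 : ∀ a ∈ N, ∀ g ∈ N, ∀ b ∈ B, ap π (b * g * a * (b * g)⁻¹) = ap π (g * a * g⁻¹) :=
    fun a ha g hg b hb => by
      rw [ap_conj π (mul_mem (hB.le hb) hg) ha, ap_conj π hg ha, ap_mul π (hB.le hb) hg, one' hb,
        one_mul]
  rcases goldschmidt (top ▸ hS.img π le_rfl) (ne_bot_of_mem (ap_mem_img π (h.p_P v0) vN) d1)
    ((abl_img_iff hP).2 (commutator_le.2 fun a ha b hb => hπ.ge (hZ (h.cm_Z ha hb))))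
    ⟨img_mono π PS, fun a' ha' g' k => by
      obtain ⟨a, ha, -, rfl⟩ := mem_img.1 ha'
      obtain ⟨g, hg, -, rfl⟩ := mem_img.1 (top ▸ mem_top g' : g' ∈ img π N)
      rw [← ap_conj π hg (hP ha)] at k ⊢
      obtain ⟨b, h1, h2⟩ := cv a ha g hg k
      have h3 := h.sc ha (hs.le (mul_mem (hB.le h1) hg)) h2
      exact cv2 a (hP ha) g hg b h1 ▸ ap_mem_img π h3 (hP h3)⟩ with k | ⟨H, hH⟩
  · rw [abl_img_iff inf_le_right, hπ] at k
    have k1 := (hS.of_le (le_inf inf_le_right SM) inf_le_left).img h.ρ inf_le_right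
    rw [img_inf_dom, hN] at k1
    obtain ⟨σ, h1, h2⟩ := exists_ne_one (k1.ne_bot p2 rfl A8_even)
    obtain ⟨b, h3, h4⟩ := as_of h h1
    exact h2 (triv hc fun y => e _ _ (cm_ov h h4 y)
      (k (commutator_mem_commutator h3 (PS (h.p_P y)))))
  have aN : Y.a (c⁻¹ * om) ∈ N := hP (h.p_P _)
  have cw : c • (c⁻¹ * om) • w0 = om • w0 := by rw [smul_smul, mul_inv_cancel_left₀ hc]
  obtain ⟨g', k⟩ := isConj_iff.1 (H6.isConj_of_isStronglyEmbedded hH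
    (H6.orderOf_eq_two_of (by rw [← ap_mul π vN vN, vv h, ap_one]) d1)
    (H6.orderOf_eq_two_of (x := ap π (Y.a (c⁻¹ * om)))
      (by rw [← ap_mul π aN aN]; exact one' (hZ (h.sq_Z (h.p_P _))))
      fun k => by
        have := e _ _ (ov_p h _) (one aN k)
        rw [cw] at this
        exact absurd this (by decide)))
  obtain ⟨g, hg, -, rfl⟩ := mem_img.1 (top ▸ mem_top g' : g' ∈ img π N)
  rw [← ap_conj π hg vN] at k
  obtain ⟨b, h1, h2⟩ := cv _ (h.p_P v0) g hg (k ▸ ap_mem_img π (PS (h.p_P _)) aN)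
  obtain ⟨σ, -, h3⟩ := h.full (h.fixM (hs.le (mul_mem (hB.le h1) hg)) h2)
  have h4 : Ov Y (b * g * Y.v * (b * g)⁻¹) (act σ v0) := Ov.cj h (ov_p h v0) h3
  have h5 := hP (Ov.P h h4)
  have h6 : ap π (b * g * Y.v * (b * g)⁻¹ * (Y.a (c⁻¹ * om))⁻¹) = 1 := by
    rw [ap_mul π h5 (inv_mem aN), ap_inv π aN, cv2 _ vN g hg b h1, ← k]
    exact mul_inv_cancel _
  have := e _ _ (Ov.mul h h4 (Ov.inv h (ov_p h ((c⁻¹ * om) • w0)))) (one (mul_mem h5 (inv_mem aN)) h6)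
  rw [smul_add, cw] at this
  exact vt_w (vt_smul (vt_v0.act σ) hc) this

end Ge

open Ge in
theorem Md.MD.CZ (h : Y.MD) : Y.X ≤ N[Y.P] := by
  obtain ⟨T, hT⟩ := Sylow_exists p2 Y.M
  obtain ⟨N, -, ⟨hs, hP, hN⟩, hm⟩ := exists_min
    (P := fun N => Sbn N Y.X ∧ Y.P ≤ N ∧ img h.ρ N = A8)
    ⟨Sbn.refl _, h.P_X, (h.img_A8 _).antisymm (h.img_M.ge.trans (img_mono _ (Da.M_X h)))⟩
  obtain ⟨B, hB, hZ⟩ := exists_chief_below (H := N) ⟨h.Z_P.trans hP, hs.le.trans h.X_NZ⟩ (Nml.refl N)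
    (lt_of_le_of_ne (h.Z_P.trans hP) fun e => v0_ne
      (Da.Ov.uniq h (Da.ov_p h v0) ((Da.ov_Z h).2 (e.ge (hP (h.p_P v0))))))
  rcases sub h hB.nml hZ hN with k | ⟨c, hc, k⟩
  · rcases f_simple (h.img_A8 B) (hN ▸ img_norm h.ρ hB.nml.norm) with e | e
    · exact case1 h hT (Sbn.step hB.nml hs) k e
    · exact absurd (hm B ⟨Sbn.step hB.nml hs, k, e⟩ hB.le) hB.lt.ne
  · exact (case2 h hT hs hP hN hB hZ hc k).elim

end H27.G4
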