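import Mathlib
import Cfsg.Agent.H27.GM1
import Cfsg.Agent.H3.Extraspecial
import Cfsg.Agent.H6.XSDual

/-! The extraspecial group: what follows from `t` alone. -/

set_option autoImplicit false
set_option linter.unusedSectionVars false
set_option linter.unusedVariables false

namespace H27.G4

open H24 H26 H26.Gold Subgroup Equiv
open H9 (F4)
open H24.Sz (Ex Ac Hs Zs)
open H7.SJ (p2)

variable {G : Type*} [Group G] [Finite G] {Y : Md G} {g u e y m s t k : G} {T N B : Subgroup G}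
  {x : W} {c : F4} {σ τ : Perm (Fin 8)}

/-- elements centralising `z`, and `y` modulo `z`. -/
def cmz (z y : G) : Subgroup G where
  carrier := {g | g ∈ C{z} ∧ g * y * g⁻¹ * y⁻¹ ∈ zpowers z}
  one_mem' := ⟨one_mem _, by simp⟩
  mul_mem' {a b} ha hb := ⟨mul_mem ha.1 hb.1, by
    have := mul_mem (conj_mem (norm_of_cent (C_zpowers z).ge ha.1) hb.2) ha.2
    convert this using 1; group⟩
  inv_mem' {a} ha := ⟨inv_mem ha.1, by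
    have := conj_mem' (norm_of_cent (C_zpowers z).ge ha.1) (inv_mem ha.2)
    convert this using 1; group⟩

theorem cmz_symm {z : G} (hu : u ∈ C{z}) (h : y ∈ cmz z u) : u ∈ cmz z y :=
  ⟨hu, by have := inv_mem h.2; convert this using 1; group⟩

theorem cmz_of {z : G} (hu : u ∈ C{z}) (h : u ∈ C{y}) : u ∈ cmz z y :=
  ⟨hu, by rw [mem_C1_iff_conj.1 h, mul_inv_cancel]; exact one_mem _⟩

theorem cmz_cj {z : G} (hm : m ∈ C{z}) (h : u ∈ cmz z (m⁻¹ * y * m)) : m * u * m⁻¹ ∈ cmz z y :=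
  ⟨mul_mem (mul_mem hm h.1) (inv_mem hm), by
    have := conj_mem (norm_of_cent (C_zpowers z).ge hm) h.2
    convert this using 1; group⟩

theorem mem_sup_t (hn : t ∈ N[B]) (h2 : t * t ∈ B) : u ∈ B ⊔ zpowers t ↔ u ∈ B ∨ t * u ∈ B := by
  refine ⟨fun hu => ?_, fun hu => hu.elim (mem_sup_left ·) fun e =>
    (mul_mem_cancel_left (mem_sup_right (mem_zpowers t))).1 (mem_sup_left e)⟩
  let S : Subgroup G := ⟨⟨⟨{u | u ∈ B ∨ t * u ∈ B}, by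
    rintro a b (ha | ha) (hb | hb)
    · exact Or.inl (mul_mem ha hb)
    · exact Or.inr (by have := mul_mem (conj_mem hn ha) hb; convert this using 1; group)
    · exact Or.inr (by simpa only [mul_assoc] using mul_mem ha hb)
    · exact Or.inl (by have := mul_mem (mul_mem (conj_mem' hn ha) (inv_mem h2)) hb; convert this using 1; group)⟩,
    Or.inl (one_mem _)⟩, by
    rintro a (ha | ha)
    · exact Or.inl (inv_mem ha)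
    · exact Or.inr (by have := mul_mem (conj_mem hn (inv_mem ha)) h2; convert this using 1; group)⟩
  exact (sup_le (fun _ => Or.inl) (zpowers_le.2 (Or.inr h2)) : _ ≤ S) hu

theorem card_two (h : B ≤ N) (ht : t ∈ N) (h1 : t ∉ B) (h2 : ∀ g ∈ N, g ∈ B ∨ t * g ∈ B) : ♯N = 2 * ♯B := by
  rw [← card_mul_relIndex h, mul_comm, relIndex_eq_two_iff_exists_notMem_and'.2
    ⟨t, ht, h1, fun b hb => (h2 b hb).symm⟩]

theorem rat_of (h : ∀ y, Rat y → F2 (bf x y)) : Rat x := by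
  have : x + fr x = 0 := rat_nd (rat_tr x) fun y hy => by
    have := bf_fr x y
    rw [hy] at this
    rw [add_bf, this]
    rcases h y hy with e | e <;> rw [e] <;> decide
  rw [Rat, ← add_zero (fr x), ← this, add_comm x, ← add_assoc, W.aa, zero_add]

theorem F2.add {a b : F4} (ha : F2 a) (hb : F2 b) : F2 (a + b) := by revert a b; decide
theorem f2_tr : ∀ c : F4, F2 (c * c + c) := by decide

namespace Md.MD

variable (h : Y.MD)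
include h

theorem z_zp : Y.z c ∈ zpowers (Y.z 1) ↔ F2 c :=
  h.mem_zp.trans ⟨fun ⟨_, e, e'⟩ => h.ex.z_inj e' ▸ e, fun e => ⟨c, e, rfl⟩⟩
theorem zp_Z : zpowers (Y.z 1) ≤ Y.Z := zpowers_le.2 (h.z_Z 1)
theorem X_C : Y.X ≤ C{Y.z 1} := fun _ e => mem_C1_iff_conj.2 (h.mem_X.1 e 1)
theorem mem_X' (h1 : g ∈ C{Y.z 1}) (h2 : g * Y.z om * g⁻¹ = Y.z om) : g ∈ Y.X := h.mem_X.2 fun c => by
  rcases f4_cases c with rfl | rfl | rfl | rfl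
  · rw [h.ex.z0, mul_one, mul_inv_cancel]
  · exact mem_C1_iff_conj.1 h1
  · exact h2
  · rw [show om * om = 1 + om by decide, h.ex.z_add, ← conj_mul, mem_C1_iff_conj.1 h1, h2]
theorem mem_Q0' : u ∈ Y.Q0 ↔ ∃ x c, Rat x ∧ u = Y.p x * Y.z c := by
  refine ⟨fun hu => (sup_le ((closure_le _).2 ?_) fun u hu => ?_ :
    _ ≤ h.ex.sub Rat rat_zero fun _ _ => Rat.add) hu, ?_⟩
  · rintro _ ⟨x, hx, rfl⟩
    exact ⟨x, 0, hx, by rw [h.ex.z0, mul_one]⟩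
  · obtain ⟨c, rfl⟩ := h.mem_Z.1 hu
    exact ⟨0, c, rat_zero, by rw [h.ex.p0, one_mul]⟩
  · rintro ⟨x, c, hx, rfl⟩
    exact mul_mem (mem_sup_left (subset_closure ⟨x, hx, rfl⟩)) (mem_sup_right (h.z_Z c))
theorem pz_Q0 : Y.p x * Y.z c ∈ Y.Q0 ↔ Rat x :=
  h.mem_Q0'.trans ⟨fun ⟨_, _, e, e'⟩ => (h.ex.eq e').1 ▸ e, fun e => ⟨x, c, e, rfl⟩⟩
theorem p_Q0 (hx : Rat x) : Y.p x ∈ Y.Q0 := mem_sup_left (subset_closure ⟨x, hx, rfl⟩)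
theorem Q0_P : Y.Q0 ≤ Y.P := fun _ hu => by
  obtain ⟨x, c, -, rfl⟩ := h.mem_Q0'.1 hu
  exact h.pz_P x c
theorem M_NQ0 : Y.M ≤ N[Y.Q0] := le_N_iff.2 fun g hg u hu => by
  obtain ⟨x, c, hx, rfl⟩ := h.mem_Q0'.1 hu
  obtain ⟨d, e⟩ := h.as_pz (h.as_ρ hg) x c
  rw [e]
  exact h.pz_Q0.2 (hx.act _)
theorem pz_cmz {x' : W} : Y.p x * Y.z c ∈ cmz (Y.z 1) (Y.p x') ↔ F2 (bf x x') := by
  have := h.pz_cm x x' c 0
  rw [h.ex.z0, mul_one] at this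
  exact ⟨fun e => h.z_zp.1 (this ▸ e.2), fun e => ⟨h.X_C (h.P_X (h.pz_P x c)), this ▸ h.z_zp.2 e⟩⟩
theorem conj_of_cmz (e : g ∈ cmz (Y.z 1) (Y.p x)) : ∃ l, F2 l ∧ g * Y.p x * g⁻¹ = Y.p x * Y.z l := by
  obtain ⟨l, h1, h2⟩ := h.mem_zp.1 e.2
  exact ⟨l, h1, by rw [← h.ex.cen, ← h2, inv_mul_cancel_right]⟩
theorem as_fix (e : Y.As g σ) (e' : g ∈ cmz (Y.z 1) (Y.p x)) : act σ x = x := by
  obtain ⟨l, -, h2⟩ := h.conj_of_cmz e'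
  exact h.ex.ac_eq e (c := 0) (c' := l) (by rw [h.ex.z0, mul_one, h2])
theorem P_Q0 (hg : g ∈ Y.P) (e : ∀ x, Rat x → g ∈ cmz (Y.z 1) (Y.p x)) : g ∈ Y.Q0 := by
  obtain ⟨x, c, rfl⟩ := h.mem_P.1 hg
  exact h.pz_Q0.2 (rat_of fun y hy => h.pz_cmz.1 (e y hy))
theorem CQb0 (hg : g ∈ Y.M) (e : ∀ x, Rat x → g ∈ cmz (Y.z 1) (Y.p x)) : g ∈ Y.Q0 ⊔ Y.D := by
  obtain ⟨a, ha, d, hd, rfl⟩ := (isProd_sup (norm_of_cent h.DP)).mul _ ((h.ρ_one hg).1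
    (act_faith fun x hx => h.as_fix (h.as_ρ hg) (e x hx)))
  refine mul_mem (mem_sup_left (h.P_Q0 ha fun x hx => (mul_mem_cancel_right ?_).1 (e x hx))) (mem_sup_right hd)
  exact cmz_of (C_le_C1 (h.Z_P (h.z_Z 1)) (h.DP hd)) (C_le_C1 (h.p_P x) (h.DP hd))

end Md.MD

/-- the part of `HD` that concerns `t`. -/
structure Md.TD (Y : Md G) (t : G) : Prop extends Y.MD where
  cz : Y.X ≤ N[Y.P]
  tA : Y.Af t 1
  tD : t ∈ C[Y.D]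
  t2 : t * t ∈ zpowers (Y.z 1)
  tc : ∀ x, Rat x → t * Y.p x * t⁻¹ * (Y.p x)⁻¹ ∈ zpowers (Y.z 1)

theorem Md.HD.td (h : Y.HD t k) : Y.TD t := ⟨h.toMD, h.cz, h.tA, h.tD, h.t2, h.tc⟩

/-- the stabiliser of `Z` in `C(z)`. -/
def Md.N1 (Y : Md G) : Subgroup G := C{Y.z 1} ⊓ N[Y.Z]

theorem Md.cj_N1 : (Y.cj g).N1 = H24.cj g Y.N1 := by
  rw [N1, N1, cj_inf, cj_N, cj_C1, cj_Z]; rfl

namespace Md.TD

variable (h : Y.TD t)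
include h

theorem XM : Y.X = Y.M := (inf_eq_left.2 h.cz).symm
theorem tC : t ∈ C{Y.z 1} := mem_C1_iff_conj.2 ((h.tA.2 1).trans (congrArg _ (mul_one _)))
theorem tX : t ∉ Y.X := fun e => absurd (h.ex.z_inj ((h.tA.2 om).symm.trans (h.mem_X.1 e om))) (by decide)
theorem tt : t * t ∈ Y.Z := h.zp_Z h.t2
theorem t_cmz (hu : u ∈ Y.Q0) : t ∈ cmz (Y.z 1) u := by
  obtain ⟨x, c, hx, rfl⟩ := h.mem_Q0'.1 hu
  refine cmz_symm h.tC (mul_mem (cmz_symm (h.X_C (h.P_X (h.p_P x))) ⟨h.tC, h.tc x hx⟩)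
    (cmz_symm (h.X_C (h.P_X (h.Z_P (h.z_Z c)))) ⟨h.tC, ?_⟩))
  rw [h.tA.2, h.ex.zi, ← h.ex.z_add, h.z_zp]
  exact f2_tr c
theorem t_NQ0 : t ∈ N[Y.Q0] := mem_N_of_finite fun u hu =>
  (mul_mem_cancel_right (inv_mem hu)).1 (mem_sup_right (h.zp_Z (h.t_cmz hu).2))
theorem mem_Q' : u ∈ Y.Q t ↔ u ∈ Y.Q0 ∨ t * u ∈ Y.Q0 := mem_sup_t h.t_NQ0 (mem_sup_right h.tt)
theorem mem_Pt : u ∈ Y.P ⊔ zpowers t ↔ u ∈ Y.P ∨ t * u ∈ Y.P := mem_sup_t h.tA.norm (h.Z_P h.tt)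
theorem twoE : TwoE t := by
  obtain ⟨c, e⟩ := h.mem_Z.1 h.tt
  exact piElt_of_pow_eq_one (((piNat_prime p2).2 (Set.mem_singleton 2)).pow 2)
    (by rw [pow_two, pow_mul, pow_two t, e, pow_two, h.ex.zz])
theorem mem_Q0 : u ∈ Y.Q0 ↔ ∃ x c, Rat x ∧ u = Y.p x * Y.z c := h.mem_Q0'
theorem mem_Q : u ∈ Y.Q t ↔ ∃ x c, Rat x ∧ (u = Y.p x * Y.z c ∨ u = t * (Y.p x * Y.z c)) := by
  constructor
  · intro hu
    rcases h.mem_Q'.1 hu with e | e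
    · obtain ⟨x, c, hx, e⟩ := h.mem_Q0.1 e
      exact ⟨x, c, hx, Or.inl e⟩
    · obtain ⟨x, c, hx, e⟩ := h.mem_Q0.1 (mul_mem (inv_mem (mem_sup_right h.tt)) e)
      exact ⟨x, c, hx, Or.inr (by rw [← e]; group)⟩
  · rintro ⟨x, c, hx, rfl | rfl⟩
    · exact mem_sup_left (h.pz_Q0.2 hx)
    · exact mul_mem (mem_sup_right (mem_zpowers t)) (mem_sup_left (h.pz_Q0.2 hx))
theorem Q0_of (hu : u ∈ Y.Q t) (hX : u ∈ Y.X) : u ∈ Y.Q0 := (h.mem_Q'.1 hu).resolve_right fun e =>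
  h.tX ((mul_mem_cancel_right hX).1 (h.P_X (h.Q0_P e)))
theorem pz_Q : Y.p x * Y.z c ∈ Y.Q t ↔ Rat x :=
  ⟨fun e => h.pz_Q0.1 (h.Q0_of e (h.P_X (h.pz_P x c))), fun e => mem_sup_left (h.pz_Q0.2 e)⟩
theorem Q_inf_P : Y.Q t ⊓ Y.P = Y.Q0 :=
  le_antisymm (fun _ e => h.Q0_of e.1 (h.P_X e.2)) (le_inf le_sup_left h.Q0_P)
theorem Q_inf_X : Y.Q t ⊓ Y.X = Y.Q0 :=
  le_antisymm (fun _ e => h.Q0_of e.1 e.2) (le_inf le_sup_left (h.Q0_P.trans h.P_X))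
theorem Z_Q : Y.Z ≤ Y.Q t := le_sup_right.trans le_sup_left
theorem t_Q : t ∈ Y.Q t := mem_sup_right (mem_zpowers t)
theorem tz (c : F4) : t * Y.z c * t⁻¹ = Y.z (c * c) := h.tA.2 c
theorem card_Q0 : ♯Y.Q0 = 2 ^ 8 := by
  have := h.card_bar (B := Y.Q0) le_sup_right
  rw [inf_eq_left.2 h.Q0_P] at this
  exact this.trans (congrArg (4 * ·) ((Nat.card_congr (Equiv.subtypeEquivRight (q := Rat) fun x =>
    ⟨fun e => h.pz_Q0.1 (mul_mem (h.mem_bar _ |>.1 e) (mem_sup_right (h.z_Z 0))), h.p_Q0⟩)).trans card_rat))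
theorem card_Q : ♯(Y.Q t) = 2 ^ 9 := by
  rw [card_two (N := Y.Q t) le_sup_left h.t_Q (fun e => h.tX (h.P_X (h.Q0_P e))) fun _ => h.mem_Q'.1, h.card_Q0]; rfl
theorem twoQ : TwoG (Y.Q t) := (h.twoP.of_le h.Q0_P).sup h.twoE.isPi (zpowers_le.2 h.t_NQ0)
theorem Q_C : Y.Q t ≤ C{Y.z 1} := sup_le (h.Q0_P.trans (h.P_X.trans h.X_C)) (zpowers_le.2 h.tC)
theorem Q_cmz (hy : y ∈ Y.Q t) : Y.Q t ≤ cmz (Y.z 1) y := fun u hu => by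
  refine cmz_symm (h.Q_C hu) ((sup_le (fun y hy => cmz_symm (h.Q_C (mem_sup_left hy)) ((sup_le (fun u hu => ?_)
    (zpowers_le.2 (h.t_cmz hy)) : Y.Q t ≤ _) hu)) (zpowers_le.2 (cmz_symm h.tC ((sup_le
      (fun u hu => cmz_symm (h.Q_C (mem_sup_left hu)) (h.t_cmz hu))
      (zpowers_le.2 (cmz_of h.tC (self_mem_C1 t))) : Y.Q t ≤ _) hu))) : Y.Q t ≤ _) hy)
  refine ⟨h.Q_C (mem_sup_left hu), ?_⟩
  obtain ⟨x, c, hx, rfl⟩ := h.mem_Q0.1 hu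
  obtain ⟨x', c', hx', rfl⟩ := h.mem_Q0.1 hy
  rw [h.pz_cm, h.z_zp]
  exact rat_b hx hx'
theorem Q_cen (hu : u ∈ Y.Q t) (e : u ∈ C[Y.Q t]) : u ∈ zpowers (Y.z 1) := by
  obtain ⟨x, c, hx, rfl⟩ := h.mem_Q0.1 (h.Q0_of hu (cents_of_le le_rfl h.Z_Q e))
  obtain rfl := rat_nd hx fun y hy => h.ex.z_inj (by
    rw [← h.pz_cm x y c 0, conj_eq_of_mem_C e (h.pz_Q.2 hy), mul_inv_cancel, h.ex.z0])
  have := mem_C.1 e t h.t_Q
  rw [h.ex.p0, one_mul] at this ⊢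
  rw [← mul_inv_eq_iff_eq_mul, h.tz] at this
  rw [h.z_zp]
  exact (by decide : ∀ c : F4, c * c = c → F2 c) c (h.ex.z_inj this)
theorem xs : H3.XS 2 (Y.z 1) (Y.Q t) := by
  refine ⟨orderOf_eq_prime (by rw [pow_two, h.ex.zz]) h.z1, h.Z_Q (h.z_Z 1), fun u hu => (mem_C1.1 (h.Q_C hu)).symm,
    fun u hu y hy => (h.Q_cmz hy hu).2, fun u hu => ?_, fun u hu e => h.Q_cen hu (mem_C'.2 e)⟩
  have k : ∀ x c, Rat x → Y.p x * Y.z c * (Y.p x * Y.z c) ∈ zpowers (Y.z 1) := fun x c hx => by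
    rw [h.pz_sq, h.z_zp]; exact rat_q hx
  rw [pow_two]
  obtain ⟨x, c, hx, rfl | rfl⟩ := h.mem_Q.1 hu
  · exact k x c hx
  · have := mul_mem (mul_mem (h.t_cmz ((h.pz_Q0 (c := c)).2 hx)).2 (conj_mem (norm_of_cent (C_zpowers _).ge
      (h.Q_C ((h.pz_Q (c := c)).2 hx))) h.t2)) (k x c hx)
    convert this using 1; group
theorem Q_D : Y.D ≤ C[Y.Q t] := cents_symm (sup_le (h.Q0_P.trans (cents_symm h.DP)) (zpowers_le.2 h.tD))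
theorem t_N1 : t ∈ Y.N1 := ⟨h.tC, h.tA.normZ⟩
theorem M_N1' : Y.M ≤ Y.N1 := fun _ e => ⟨h.X_C e.1, h.X_NZ e.1⟩
theorem of_om (h1 : g ∈ C{Y.z 1}) (h2 : g * Y.z om * g⁻¹ = Y.z om ∨ g * Y.z om * g⁻¹ = Y.z (om * om)) :
    g ∈ Y.M ∨ t * g ∈ Y.M := h.XM ▸ h2.imp (h.mem_X' h1) fun e => h.mem_X' (mul_mem h.tC h1) (by
  rw [show t * g * Y.z om * (t * g)⁻¹ = t * (g * Y.z om * g⁻¹) * t⁻¹ by group, e, h.tz, f4_four])
theorem N1_om (hg : g ∈ Y.N1) : g * Y.z om * g⁻¹ = Y.z om ∨ g * Y.z om * g⁻¹ = Y.z (om * om) := by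
  obtain ⟨c, e⟩ := h.mem_Z.1 (conj_mem hg.2 (h.z_Z om))
  rcases f4_cases c with rfl | rfl | rfl | rfl
  · rw [h.ex.z0, conj_eq_one_iff', ← h.ex.z0] at e
    exact absurd (h.ex.z_inj e) (by decide)
  · rw [← mem_C1_iff_conj.1 hg.1, mul_left_inj, mul_right_inj] at e
    exact absurd (h.ex.z_inj e) (by decide)
  exacts [Or.inl e, Or.inr e]
theorem mem_N1 : g ∈ Y.N1 ↔ g ∈ Y.M ∨ t * g ∈ Y.M :=
  ⟨fun e => h.of_om e.1 (h.N1_om e), fun e => e.elim (h.M_N1' ·) fun e =>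
    (mul_mem_cancel_left h.t_N1).1 (h.M_N1' e)⟩
theorem mem_N1' : g ∈ Y.N1 ↔
    g ∈ C{Y.z 1} ∧ g * Y.z om * g⁻¹ * (Y.z om)⁻¹ ∈ zpowers (Y.z 1) := by
  refine ⟨fun e => ⟨e.1, ?_⟩, fun e => h.mem_N1.2 (h.of_om e.1 ?_)⟩
  · rcases h.N1_om e with k | k <;> rw [k, h.ex.zi, ← h.ex.z_add, h.z_zp] <;> decide
  · obtain ⟨c, h1, h2⟩ := h.mem_zp.1 e.2
    rw [mul_inv_eq_iff_eq_mul.1 h2, ← h.ex.z_add]
    rcases h1 with rfl | rfl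
    · exact Or.inl (congrArg _ (zero_add _))
    · exact Or.inr (congrArg _ (by decide))
theorem M_N1 : Y.M ≤ Y.N1 := h.M_N1'
theorem N1_le (h1 : Y.M ≤ N) (h2 : t ∈ N) : Y.N1 ≤ N := fun _ e =>
  (h.mem_N1.1 e).elim (h1 ·) fun e => (mul_mem_cancel_left h2).1 (h1 e)
theorem Q_N1 : Y.Q t ≤ Y.N1 := sup_le (h.Q0_P.trans (h.P_M.trans h.M_N1)) (zpowers_le.2 h.t_N1)
theorem N1_NP : Y.N1 ≤ N[Y.P] := h.N1_le inf_le_right h.tA.norm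
theorem twoPt : TwoG (Y.P ⊔ zpowers t) := h.twoP.sup h.twoE.isPi (zpowers_le.2 h.tA.norm)
theorem cm_P (hm : m ∈ Y.M) (hD : m ∈ C[Y.D]) : m * t * m⁻¹ * t⁻¹ ∈ Y.P := by
  have a := h.as_ρ hm
  have k : m * t * m⁻¹ * t⁻¹ ∈ Y.P ⊔ Y.D := h.ker _ ((h.ex.ac_mul (h.ex.ac_mul (h.ex.ac_mul a h.tA) (h.as_inv a))
    (h.ex.ac_inv h.tA (f' := fr) (φ' := fun c => c * c) (fun x => by rw [act_one, fr_fr]) f4_four)).congr
      (fun x => by rw [act_one, act_one, act_fr, act_act_inv, fr_fr]) f4_four)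
  have := H24.Sz.two_mem h.twoPt h.odd (cents_symm (sup_le (cents_symm h.DP) (zpowers_le.2 h.tD)))
    ((mul_mem_cancel_right (inv_mem (mem_sup_left (mem_sup_right (mem_zpowers t))))).1
      ((sup_le_sup_right le_sup_left _ : _ ≤ Y.P ⊔ zpowers t ⊔ Y.D) k)) (h.twoE.conj m)
  exact (h.mem_Pt.1 (mul_mem this (inv_mem (mem_sup_right (mem_zpowers t))))).resolve_right fun e =>
    h.tX ((mul_mem_cancel_right (show _ ∈ Y.X from (h.PD_M k).1)).1 (h.P_X e))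
theorem cm_Q0 (hm : m ∈ Y.M) (hD : m ∈ C[Y.D]) : m * t * m⁻¹ * t⁻¹ ∈ Y.Q0 :=
  h.P_Q0 (h.cm_P hm hD) fun x hx => mul_mem (cmz_cj (h.X_C hm.1) (h.t_cmz (conj_mem' (h.M_NQ0 hm) (h.p_Q0 hx))))
    (inv_mem (h.t_cmz (h.p_Q0 hx)))
theorem N1_H : Y.N1 ≤ Y.H t := le_inf inf_le_left (h.N1_le (fun g hg => by
  obtain ⟨m, hm, d, hd, rfl⟩ := h.M_dec hg
  refine mul_mem (mem_N_of_cj_le ?_) (norm_of_cent h.Q_D hd)
  rw [Md.Q, cj_sup, cj_zpowers, cj_of_mem_N (h.M_NQ0 hm.1)]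
  exact sup_le le_sup_left (zpowers_le.2 ((mul_mem_cancel_right (inv_mem h.t_Q)).1
    (mem_sup_left (h.cm_Q0 hm.1 hm.2))))) (le_normalizer h.t_Q))
theorem N1_ND : Y.N1 ≤ N[Y.D] := h.N1_le h.M_ND (C_le_N _ h.tD)
theorem card_N1 : ♯Y.N1 = 2 * (16384 * 20160 * ♯Y.D) := by
  rw [card_two h.M_N1 h.t_N1 (fun e => h.tX e.1) fun _ => h.mem_N1.1, h.card_M]
/-- the kernel of the action on `Q / ⟨z⟩`. -/
theorem CQb (hg : g ∈ C{Y.z 1}) (e : ∀ y ∈ Y.Q t, g * y * g⁻¹ * y⁻¹ ∈ zpowers (Y.z 1)) :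
    g ∈ Y.Q t ⊔ Y.D := by
  have k : ∀ x, Rat x → g ∈ cmz (Y.z 1) (Y.p x) := fun x hx => ⟨hg, e _ (mem_sup_left (h.p_Q0 hx))⟩
  have le : Y.Q0 ⊔ Y.D ≤ Y.Q t ⊔ Y.D := sup_le_sup_right le_sup_left _
  rcases h.mem_N1.1 (h.mem_N1'.2 ⟨hg, e _ (h.Z_Q (h.z_Z om))⟩) with a | a
  · exact le (h.CQb0 a k)
  · exact (mul_mem_cancel_left (mem_sup_left h.t_Q)).1 (le (h.CQb0 a fun x hx => mul_mem (h.t_cmz (h.p_Q0 hx)) (k x hx)))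
theorem CQ : C[Y.Q t] ≤ zpowers (Y.z 1) ⊔ Y.D := fun g hg => by
  obtain ⟨a, ha, d, hd, rfl⟩ := (isProd_sup (norm_of_cent h.Q_D)).mul _ (h.CQb (C_le_C1 (h.Z_Q (h.z_Z 1)) hg)
    fun y hy => by rw [conj_eq_of_mem_C hg hy, mul_inv_cancel]; exact one_mem _)
  exact mul_mem (mem_sup_left (h.Q_cen ha ((mul_mem_cancel_right (h.Q_D hd)).1 hg))) (mem_sup_right hd)
theorem two_Q (hg : g ∈ Y.Q t ⊔ Y.D) (h2 : TwoE g) : g ∈ Y.Q t :=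
  H24.Sz.two_mem h.twoQ h.odd h.Q_D hg h2
/-- the centre of `P / ⟨z⟩`. -/
theorem cP (hg : g ∈ Y.N1) (h2 : TwoE g) (e : ∀ y ∈ Y.P, g * y * g⁻¹ * y⁻¹ ∈ zpowers (Y.z 1)) :
    g ∈ Y.Z := by
  have k : ∀ x, g ∈ cmz (Y.z 1) (Y.p x) := fun x => ⟨hg.1, e _ (h.p_P x)⟩
  rcases h.mem_N1.1 hg with a | a
  · obtain ⟨x, c, rfl⟩ := h.mem_P.1 (h.two_P ((h.ρ_one a).1
      (act_faith fun x _ => h.as_fix (h.as_ρ a) (k x))) h2)
    by_cases x0 : x = 0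
    · rw [x0, h.ex.p0, one_mul]; exact h.z_Z c
    obtain ⟨y, hy⟩ := bf_surj x0 om
    exact absurd (hy ▸ h.pz_cmz.1 (k y)) (by decide)
  · have b : ∀ x, act (ap h.toMD.ρ (t * g)) x = fr x := fun x => by
      obtain ⟨l, -, h3⟩ := h.conj_of_cmz (k x)
      obtain ⟨d, h4⟩ := h.ex.ac_pz h.tA x l
      rw [act_one, ← h3] at h4
      exact h.ex.ac_eq (h.as_ρ a) (c := 0) (c' := d) (by rw [h.ex.z0, mul_one, ← h4]; group)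
    have := b v0
    rw [act_faith fun x hx => (b x).trans hx, act_one] at this
    exact absurd this (by decide)
/-- centralisers in `Q`. -/
theorem card_C (hB : B ≤ Y.Q t) (hz : Y.z 1 ∈ B) : ♯(Y.Q t ⊓ C[B]) * ♯B = 2 ^ 10 := by
  rw [mul_comm, H6.xs_card_mul h.xs hB hz, h.card_Q]; rfl

end Md.TD

end H27.G4
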