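import Mathlib
import Cfsg.Agent.H27.GM1
import Cfsg.Agent.H27.GQ0

/-! The extraspecial group. -/

set_option autoImplicit false
set_option linter.unusedSectionVars false
set_option linter.unusedVariables false

namespace H27.G4

open H24 H26 H26.Gold Subgroup Equiv
open H9 (F4)
open H24.Sz (Ex Ac Hs Zs)
open H7.SJ (p2)

variable {G : Type*} [Group G] [Finite G] {Y : Md G} {g u e y m s t k : G} {T N B : Subgroup G}
  {x : W} {c : F4} {σ τ : Perm (Fin 8)}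

namespace Q1

/-- `g` fixes the `a c` and shears the `z c`. -/
structure Gz (Y : Md G) (g : G) : Prop where
  D : g ∈ C[Y.D]
  a : ∀ c, g * Y.a c * g⁻¹ = Y.a c
  z : ∀ c, g * Y.z c * g⁻¹ = Y.a (c * c + c) * Y.z c

def u0 : W := ⟨1, 0, 0, 0, 0, 0⟩

variable (h : Y.MD)
include h

theorem a0 : Y.a 0 = 1 := by rw [Md.a, zero_smul, h.ex.p0]
theorem aa (c : F4) : Y.a c * Y.a c = 1 := by rw [← h.pa, f4_aa, a0 h]
theorem za (c d : F4) : Y.z c * Y.a d = Y.a d * Y.z c := h.ex.cen _ _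
theorem ua (c : F4) : Y.p u0 * Y.a c * (Y.p u0)⁻¹ = Y.a c * Y.z c := by
  have := h.pz_conj u0 (c • w0) 0 0
  rwa [h.ex.z0, mul_one, mul_one, add_zero, bf_smul, show bf u0 w0 = 1 by decide, mul_one] at this
theorem uz (c : F4) : Y.p u0 * Y.z c * (Y.p u0)⁻¹ = Y.z c := h.mem_X.1 (h.P_X (h.p_P _)) c

theorem exists_gz : ∃ g, Gz Y g := by
  obtain ⟨n, n0, n1, n2⟩ := h.nb
  obtain ⟨t, t0, t1, t2⟩ := h.mu
  refine ⟨n * (t * Y.p u0) * n⁻¹, mul_mem (mul_mem n0 (mul_mem t0 (h.p_CD (h.p_P _)))) (inv_mem n0),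
    fun c => ?_, fun c => ?_⟩
  · calc _ = n * (t * (Y.p u0 * Y.z c * (Y.p u0)⁻¹) * t⁻¹) * n⁻¹ := by rw [← n2]; group
      _ = _ := by rw [uz h, t1, n2]
  · calc _ = n * (t * (Y.p u0 * Y.a c * (Y.p u0)⁻¹) * t⁻¹) * n⁻¹ := by rw [← n1]; group
      _ = _ := by
        rw [ua h, ← conj_mul (b := t), t1, t2, mul_assoc (Y.a c), ← h.ex.z_add, ← conj_mul, n1, n2, za h]

theorem Gz.C (hg : Gz Y g) : g ∈ C{Y.z 1} :=
  mem_C1_iff_conj.2 (by rw [hg.z, mul_one, f4_aa, a0 h, one_mul])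

theorem Gz.fr (hg : Gz Y g) (c : F4) :
    g * Y.p u0 * g * (Y.p u0)⁻¹ * Y.z c * (g * Y.p u0 * g * (Y.p u0)⁻¹)⁻¹ = Y.z (c * c) := by
  calc _ = g * (Y.p u0 * (g * ((Y.p u0)⁻¹ * (Y.p u0 * Y.z c * (Y.p u0)⁻¹) * Y.p u0) * g⁻¹) * (Y.p u0)⁻¹) * g⁻¹ := by
        rw [uz h]; group
    _ = g * (Y.p u0 * (g * Y.z c * g⁻¹) * (Y.p u0)⁻¹) * g⁻¹ := by group
    _ = _ := by
      rw [hg.z, ← conj_mul (b := Y.p u0), ua h, uz h, mul_assoc (Y.a _), ← h.ex.z_add, ← conj_mul, hg.a, hg.z, ← mul_assoc,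
        add_assoc, f4_aa, add_zero, f4_four, add_comm c, aa h, one_mul]

theorem normP (hX : Y.X ≤ N[Y.P]) (hs : s ∈ N[Y.Z]) : s ∈ N[Y.P] := by
  have XM : Y.X = Y.M := (inf_eq_left.2 hX).symm
  have e : cj s Y.X = Y.X := cj_of_mem_N (N_le_NC _ hs)
  have le : cj s Y.P ≤ Y.M := XM ▸ e ▸ cj_mono s h.P_X
  have n : Y.M ≤ N[cj s Y.P] := by rw [← XM, ← e, ← cj_N]; exact cj_mono s hX
  refine mem_N_of_cj_le fun u hu => h.two_P ?_ ((h.twoP.cj s).piElt hu)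
  rcases f_simple (h.img_A8 _) (h.img_M ▸ img_norm h.ρ n) with k | k
  · exact h.pre_bot ▸ (img_eq_bot le).1 k hu
  · obtain ⟨j, hj⟩ := ((h.twoP.cj s).img h.ρ).card_eq_pow p2
    rw [k, card_A8] at hj
    exact absurd ((Nat.prime_dvd_prime_iff_eq Nat.prime_three p2).1
      (Nat.prime_three.dvd_of_dvd_pow (n := j) (hj ▸ by decide))) (by decide)

theorem vt_of {f : W → W} {φ : F4 → F4} (e : Ac Y.p Y.z g f φ) : VT (f v0) := by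
  by_contra hv
  obtain ⟨d, e1⟩ := e.1 v0
  have fi : Function.Injective f := fun a b e' => by
    have := h.ex.ac_inj e (v := a + b) (by rw [h.ex.ac_add e, e', W.aa])
    rw [← add_zero a, ← W.aa b, ← add_assoc, this, zero_add]
  have fs := Finite.surjective_of_injective fi
  obtain ⟨σ, h1, h2, h3, h4⟩ := f_ord4 (x := f v0) (fun e' => v0_ne (h.ex.ac_inj e e'))
    (by
      have := h.ex.ac_sqf e v0
      rw [h.sq, h.sq, qf_v0] at this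
      exact this.trans (h.ex.z_inj (by rw [← e.2, h.ex.z0, mul_one, mul_inv_cancel]))) hv
  obtain ⟨m, -, h5⟩ := h.lift σ h1
  obtain ⟨d', e2⟩ := h.as_pz h5 (f v0) d
  rw [h2] at e2
  have hX : g⁻¹ * m * g ∈ Y.X := conj_mem' (N_le_NC _ e.normZ) (h.as_M h5).1
  obtain ⟨τ, h6, h7⟩ := h.cz_v hX (by
    rw [show g⁻¹ * m * g * Y.v * (g⁻¹ * m * g)⁻¹ * Y.v⁻¹ =
      g⁻¹ * (m * (g * Y.p v0 * g⁻¹) * m⁻¹ * (g * Y.p v0 * g⁻¹)⁻¹) * g by rw [Md.v]; group, e1, e2]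
    refine conj_mem' e.normZ ?_
    rw [← h.ex.cen, ← h.ex.cen, mul_inv_rev, mul_assoc, mul_inv_cancel_left]
    exact mul_mem (h.z_Z _) (inv_mem (h.z_Z _)))
  have k : ∀ y, f (act τ y) = act σ (f y) := by
    have a := h.ex.ac_mul e h7
    rw [show g * (g⁻¹ * m * g) = m * g by group] at a
    exact (h.ex.ac_uniq a (h.ex.ac_mul h5 e)).1
  have k2 : ∀ (n : ℕ) y, f (act (τ ^ n) y) = act (σ ^ n) (f y) := fun n => by
    induction n with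
    | zero => simp
    | succ n ih => intro y; rw [pow_succ, pow_succ, act_mul, act_mul, ih, k]
  have t4 : τ ^ 4 = 1 := act_ext fun y => fi (by rw [k2, h3, act_one, act_one])
  have t2 := f_stab h6 (fi ((k v0).trans h2)) t4
  refine h4 (act_ext fun y => ?_)
  obtain ⟨y, rfl⟩ := fs y
  rw [← k2, t2, act_one, act_one]

theorem exists_af (hX : Y.X ≤ N[Y.P]) (hD : s ∈ C[Y.D]) (hs : ∀ c, s * Y.z c * s⁻¹ = Y.z (c * c)) :
    ∃ t ∈ C[Y.D], Y.Af t 1 ∧ t * t ∈ Y.P := by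
  have nP := normP h hX (s := s) (mem_N_of_finite fun u hu => by
    obtain ⟨c, rfl⟩ := h.mem_Z.1 hu
    rw [hs]; exact h.z_Z _)
  obtain ⟨f, φ, e⟩ := h.ex.ac_of nP
  obtain ⟨d, e1⟩ := e.1 v0
  obtain ⟨m, m0, σ, -, m1, m2⟩ := h.vt_as (vt_of h e) d
  obtain ⟨τ, h1, h2⟩ := h.out (m⁻¹ * s) (mul_mem (inv_mem m1.norm) nP) (by
    rw [show m⁻¹ * s * Y.v * (m⁻¹ * s)⁻¹ = m⁻¹ * (s * Y.p v0 * s⁻¹) * m by rw [Md.v]; group, e1, ← m2]; group)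
    fun c => by rw [← (h.as_inv m1).2 (c * c), ← hs]; group
  obtain ⟨n, n0, n1⟩ := h.lift τ h1
  have A : Y.Af (m⁻¹ * s * n⁻¹) 1 :=
    (h.ex.ac_mul h2 (h.as_inv n1)).congr (fun x => by rw [act_act_inv, act_one]) fun _ => rfl
  have tD : m⁻¹ * s * n⁻¹ ∈ C[Y.D] := mul_mem (mul_mem (inv_mem m0) hD) (inv_mem n0)
  generalize m⁻¹ * s * n⁻¹ = t at A tD
  have k : t * t ∈ Y.P ⊔ Y.D :=
    h.ker _ ((h.ex.ac_mul A A).congr (fun x => by simp only [act_one, fr_fr]) f4_four)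
  obtain ⟨j, hj⟩ := oddG_iff.1 h.odd
  refine ⟨t ^ ♯Y.D, pow_mem tD _, ?_, ?_⟩
  · rw [hj, pow_succ, pow_mul, pow_two]
    exact (h.ex.ac_mul (h.as_P (pow_mem k j)) A).congr (fun x => act_one _) fun _ => rfl
  · obtain ⟨a, ha, d, hd, k⟩ := (isProd_sup (norm_of_cent h.DP)).mul _ k
    rw [← (Commute.refl t).mul_pow, k, (show Commute a d from mem_C.1 (h.DP hd) a ha).mul_pow,
      orderOf_dvd_iff_pow_eq_one.1 (orderOf_dvd_card' hd), mul_one]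
    exact pow_mem ha _

omit h in
theorem dual : ∀ a b c d e f : F4, ∃ w, (F2 (bf w ⟨1, 0, 0, 0, 0, 0⟩ + a) ∧ F2 (bf w ⟨0, 1, 0, 0, 0, 0⟩ + b) ∧
    F2 (bf w ⟨0, 0, 1, 0, 0, 0⟩ + c)) ∧ F2 (bf w ⟨0, 0, 0, 1, 0, 0⟩ + d) ∧ F2 (bf w ⟨0, 0, 0, 0, 1, 0⟩ + e) ∧
    F2 (bf w ⟨0, 0, 0, 0, 0, 1⟩ + f) := fun a b c d e f =>
  ⟨⟨a + (a + b + c + d + e + f), b + (a + b + c + d + e + f), c + (a + b + c + d + e + f),
    d + (a + b + c + d + e + f), e + (a + b + c + d + e + f), f + (a + b + c + d + e + f)⟩, by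
    revert a b c d e f; decide +kernel⟩

omit h in
theorem rat_le {J : AddSubgroup W} (h1 : ⟨1, 0, 0, 0, 0, 0⟩ ∈ J) (h2 : ⟨0, 1, 0, 0, 0, 0⟩ ∈ J)
    (h3 : ⟨0, 0, 1, 0, 0, 0⟩ ∈ J) (h4 : ⟨0, 0, 0, 1, 0, 0⟩ ∈ J) (h5 : ⟨0, 0, 0, 0, 1, 0⟩ ∈ J)
    (h6 : ⟨0, 0, 0, 0, 0, 1⟩ ∈ J) (hx : Rat x) : x ∈ J := by
  have k : ∀ c : F4, ∀ y ∈ J, c * c = c → c • y ∈ J := fun c y hy e => by
    rcases (by decide : ∀ c : F4, c * c = c → F2 c) c e with rfl | rfl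
    · rw [zero_smul]; exact zero_mem _
    · rwa [one_smul]
  have := add_mem (add_mem (add_mem (add_mem (add_mem (k _ _ h1 (congrArg W.a hx)) (k _ _ h2 (congrArg W.b hx)))
    (k _ _ h3 (congrArg W.c hx))) (k _ _ h4 (congrArg W.d hx))) (k _ _ h5 (congrArg W.e hx)))
    (k _ _ h6 (congrArg W.f hx))
  convert this using 1
  ext <;> simp

theorem exists_td (hX : Y.X ≤ N[Y.P]) (hD : s ∈ C[Y.D]) (A : Y.Af s 1) (h2 : s * s ∈ Y.P) : ∃ t, Y.TD t := by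
  choose l hl using A.1
  simp only [act_one] at hl
  obtain ⟨w, ⟨w1, w2, w3⟩, w4, w5, w6⟩ := dual (l ⟨1, 0, 0, 0, 0, 0⟩) (l ⟨0, 1, 0, 0, 0, 0⟩) (l ⟨0, 0, 1, 0, 0, 0⟩)
    (l ⟨0, 0, 0, 1, 0, 0⟩) (l ⟨0, 0, 0, 0, 1, 0⟩) (l ⟨0, 0, 0, 0, 0, 1⟩)
  have B : Y.Af (Y.p w * s) 1 := h.ex.ac_mul (h.ex.ac_in (h.p_P w)) A
  have tC : Y.p w * s ∈ C{Y.z 1} := mem_C1_iff_conj.2 ((B.2 1).trans (congrArg _ (mul_one _)))
  have k : ∀ x, Rat x → F2 (bf w x + l x) → Y.p x ∈ cmz (Y.z 1) (Y.p w * s) := fun x hx e =>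
    cmz_symm (h.X_C (h.P_X (h.p_P x))) ⟨tC, by
      have := h.pz_conj w x 0 (l x)
      rw [h.ex.z0, mul_one] at this
      rw [show Y.p w * s * Y.p x * (Y.p w * s)⁻¹ = Y.p w * (s * Y.p x * s⁻¹) * (Y.p w)⁻¹ by group, hl, hx,
        this, ← h.ex.cen, mul_inv_cancel_right, h.z_zp]
      exact e⟩
  have tD := mul_mem (h.p_CD (h.p_P w)) hD
  have t2 : Y.p w * s * (Y.p w * s) ∈ Y.P := by
    have := mul_mem (mul_mem (h.p_P w) (conj_mem A.norm (h.p_P w))) h2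
    convert this using 1; group
  generalize Y.p w * s = t at B tC k tD t2
  have hZ : Y.Z ≤ cmz (Y.z 1) t := fun u hu => by
    obtain ⟨c, rfl⟩ := h.mem_Z.1 hu
    refine cmz_symm (h.X_C (h.P_X (h.Z_P hu))) ⟨tC, ?_⟩
    rw [B.2, h.ex.zi, ← h.ex.z_add, h.z_zp]
    exact f2_tr c
  have tc : ∀ x, Rat x → t ∈ cmz (Y.z 1) (Y.p x) := fun x hx => cmz_symm tC (rat_le (J := Y.bar h _ hZ)
    (k _ (by decide) w1) (k _ (by decide) w2) (k _ (by decide) w3) (k _ (by decide) w4) (k _ (by decide) w5)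
    (k _ (by decide) w6) hx)
  refine ⟨t, h, hX, B, tD, ?_, fun x hx => (tc x hx).2⟩
  obtain ⟨x, c, hx, e⟩ := h.mem_Q0'.1 (h.P_Q0 t2 fun x hx => mul_mem (tc x hx) (tc x hx))
  obtain rfl := rat_nd hx fun y hy => by
    obtain ⟨d, d1, d2⟩ := h.conj_of_cmz (tc y hy)
    have := h.pz_conj x y c 0
    rw [← e, h.ex.z0, mul_one, show t * t * Y.p y * (t * t)⁻¹ = t * (t * Y.p y * t⁻¹) * t⁻¹ by group, d2,
      ← conj_mul, d2, B.2, mul_assoc, ← h.ex.z_add, add_zero] at this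
    rw [← h.ex.z_inj (mul_left_cancel this)]
    rcases d1 with rfl | rfl <;> decide
  rw [h.ex.p0, one_mul] at e
  have := B.2 c
  rw [← e, ← mul_assoc, mul_inv_cancel_right, e] at this
  rw [e, h.z_zp]
  exact (by decide : ∀ c : F4, c = c * c → F2 c) c (h.ex.z_inj this)

omit h in
theorem rat_om (h1 : Rat x) (h2 : Rat (om • x)) : x = 0 := by revert x; decide +kernel

omit h in
theorem normQ (h : Y.TD t) (hg : Gz Y g) : g ∈ N[Y.Q t] := by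
  have h' := h.toMD
  have gC := hg.C h'
  have a1 : Y.a 1 = Y.p w0 := by rw [Md.a, one_smul]
  obtain ⟨F, hF⟩ : ∃ F, F = Y.X ⊓ C{Y.p w0} := ⟨_, rfl⟩
  have FM : F ≤ Y.M := hF ▸ h.XM ▸ inf_le_left
  have pF : ∀ y, Y.p y ∈ F ↔ bf w0 y = 0 := fun y => by
    have := h.ex.comm_iff (v := y) (c := 0) (v' := w0) (c' := 0)
    rw [h.ex.z0, mul_one, mul_one, h.cm, bf_comm] at this
    exact hF ▸ ⟨fun e => this.1 (mem_C1.1 e.2), fun e => ⟨h.P_X (h.p_P y), mem_C1.2 (this.2 e)⟩⟩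
  have ZF : Y.Z ≤ F := hF ▸ le_inf (h.Z_P.trans h.P_X) fun u hu => by
    obtain ⟨c, rfl⟩ := h.mem_Z.1 hu
    exact mem_C1.2 (h.ex.cen _ _)
  have aF : ∀ c, F2 c → Y.a c ∈ Y.Q t ⊓ F ∧ F ≤ C{Y.a c} := by
    rintro c (rfl | rfl)
    · rw [a0 h']; exact ⟨one_mem _, fun u _ => mem_C1.2 (by simp)⟩
    · exact a1 ▸ ⟨⟨mem_sup_left (h.p_Q0 rat_w0), (pF _).2 (bf_self _)⟩, hF ▸ inf_le_right⟩
  have gF : g ∈ N[F] := inv_mem_iff.1 (mem_N_of_finite fun u hu => by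
    have k : ∀ {y}, u ∈ C{g * y * g⁻¹} → g⁻¹ * u * g⁻¹⁻¹ ∈ C{y} := fun e => by
      rwa [← cj_C1, mem_cj, ← inv_inv g, inv_inv g⁻¹] at e
    refine hF ▸ ⟨h.mem_X.2 fun c => mem_C1_iff_conj.1 (k ?_), k ?_⟩
    · rw [hg.z, mem_C1_comm]
      exact mul_mem (mem_C1_comm.1 ((aF _ (f2_tr c)).2 hu)) (mem_C1_comm.1 (C_le_C1 (h.z_Z c) (FM hu).1))
    · rw [← a1, hg.a]; exact (aF 1 (Or.inr rfl)).2 hu)
  have eF := cj_of_mem_N gF
  obtain ⟨R, hR⟩ : ∃ R, R = cj g (Y.Q t ⊓ F) := ⟨_, rfl⟩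
  have RF : R ≤ F := hR ▸ eF ▸ cj_mono g (eF.symm ▸ inf_le_right)
  have FR : F ≤ N[R] := by
    rw [hR, ← cj_N]
    exact eF.ge.trans (cj_mono g (norm_inf (FM.trans (h.M_N1.trans (h.N1_H.trans inf_le_right))) le_normalizer))
  have ZR : Y.Z ≤ R := fun u hu => by
    obtain ⟨c, rfl⟩ := h.mem_Z.1 hu
    have := conj_mem_cj g (mul_mem (aF _ (f2_tr c)).1 (⟨h.Z_Q hu, ZF hu⟩ : _ ∈ Y.Q t ⊓ F))
    rwa [← conj_mul, hg.a, hg.z, ← mul_assoc, aa h', one_mul, ← hR] at this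
  have rat : ∀ y, Y.p y ∈ R → Rat y := f_9 (J := Y.bar h' R ZR) (fun σ hσ e y hy => by
      obtain ⟨m, -, m1⟩ := h.lift σ hσ
      obtain ⟨d, m2⟩ := m1.1 w0
      obtain ⟨u, hu, m3⟩ := h.p_move w0_ne d 0
      rw [e] at m2
      obtain ⟨d', m4⟩ := (h.as_mul (h.as_p hu) m1).1 y
      have := conj_mem (FR (show u * m ∈ F from hF ▸ ⟨(h.as_M (h.as_mul (h.as_p hu) m1)).1, mem_C1_iff_conj.2 (by
        rw [← m2, h.ex.z0, mul_one] at m3; exact Eq.trans (by group) m3)⟩)) ((h'.mem_bar ZR).1 hy)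
      rw [m4, one_mul] at this
      exact (mul_mem_cancel_right (ZR (h.z_Z d'))).1 this)
    (fun y hy => by
      obtain ⟨q, hq, e⟩ := mem_cj'.1 (hR ▸ (h'.mem_bar ZR).1 hy)
      have := conj_mem (norm_of_cent (C_zpowers _).ge gC) (h.xs.pow q hq.1)
      rw [pow_two, ← conj_mul, ← e, h.ex.mul, W.aa, h.ex.p0, one_mul, h.sq] at this
      exact h.z_zp.1 this)
    (fun y hy => (pF y).1 (RF hy)) fun c hc => by
      have : g * Y.a c * g⁻¹ ∈ cj g (Y.Q t ⊓ F) := by rw [hg.a, ← hR]; exact hc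
      have := h.pz_Q.1 (mul_mem (conj_mem_cj_iff.1 this).1 (h.Z_Q (h.z_Z 0)))
      exact (by decide : ∀ c : F4, Rat (c • w0) → F2 c) c this
  have RQ : R ≤ Y.Q t ⊓ F := fun r hr => by
    have rM := FM (RF hr)
    have k : ∀ y, bf w0 y = 0 → Rat (act (ap h'.ρ r) y + y) := fun y hy => by
      obtain ⟨d, e⟩ := (h.as_ρ rM).1 y
      have := mul_mem hr (conj_mem (FR ((pF y).2 hy)) (inv_mem hr))
      rw [show r * (Y.p y * r⁻¹ * (Y.p y)⁻¹) = r * Y.p y * r⁻¹ * (Y.p y * Y.z 0)⁻¹ by rw [h.ex.z0]; group, e,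
        h.ex.inv, h.ex.mulz] at this
      exact rat _ ((mul_mem_cancel_right (ZR (h.z_Z _))).1 this)
    obtain ⟨x, c, rfl⟩ := h.mem_P.1 (h.two_P ((h.ρ_one rM).1 (f_10 fun y hy e => by
      have := rat_om (k y e) (by rw [smul_add, ← act_smul]; exact k _ (by rw [bf_smul, e, mul_zero]))
      rw [← add_zero (act _ y), ← W.aa y, ← add_assoc, this, zero_add]))
      (((h.twoQ.of_le inf_le_left).cj g).piElt (hR ▸ hr)))
    exact ⟨h.pz_Q.2 (rat x ((mul_mem_cancel_right (ZR (h.z_Z c))).1 hr)), RF hr⟩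
  have gR : g ∈ N[Y.Q t ⊓ F] := mem_N_of_cj_le (hR ▸ RQ)
  have cm : ∀ u ∈ cj g (Y.Q t), ∀ y ∈ cj g (Y.Q t), u ∈ cmz (Y.z 1) y := fun u hu y hy => by
    obtain ⟨q, hq, rfl⟩ := mem_cj'.1 hu
    exact cmz_cj gC (h.Q_cmz (mem_cj.1 hy) hq)
  have cm' : ∀ u ∈ cj g (Y.Q t), ∀ y ∈ Y.Q t ⊓ F, u ∈ cmz (Y.z 1) y := fun u hu y hy =>
    cm u hu y (mem_cj.2 (conj_mem' gR hy).1)
  have pQ : ∀ y, Rat y → bf w0 y = 0 → Y.p y ∈ Y.Q t ⊓ F := fun y hy e => ⟨mem_sup_left (h.p_Q0 hy), (pF y).2 e⟩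
  have key : ∀ u ∈ cj g (Y.Q t), u ∈ Y.Q t ∨ u * Y.a om ∈ Y.Q t := fun u hu => by
    have k1 : ∀ m ∈ Y.M, (∀ y ∈ Y.Q t ⊓ F, m ∈ cmz (Y.z 1) y) → m ∈ Y.P ⊔ zpowers t ⊔ Y.D := fun m hm e =>
      (sup_le_sup_right le_sup_left _ : _ ≤ Y.P ⊔ zpowers t ⊔ Y.D) ((h.ρ_one hm).1
        (f_10 fun y hy e' => h.as_fix (h.as_ρ hm) (e _ (pQ y hy e'))))
    have tu : ∀ y ∈ Y.Q t ⊓ F, t * u ∈ cmz (Y.z 1) y := fun y hy => mul_mem (h.Q_cmz hy.1 h.t_Q) (cm' u hu y hy)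
    have k2 : ∀ m ∈ Y.P, (∀ y ∈ Y.Q t ⊓ F, m ∈ cmz (Y.z 1) y) → m ∈ Y.Q t ∨ m * Y.a om ∈ Y.Q t := fun m hm e => by
      obtain ⟨x, c, rfl⟩ := h.mem_P.1 hm
      refine (f_11 (rat_tr x) fun y hy e' => ?_).imp (fun e => h.pz_Q.2 ?_) fun e => ?_
      · have := bf_fr x y
        rw [hy] at this
        rw [add_bf, this]
        rcases h.pz_cmz.1 (e _ (pQ y hy e')) with e | e <;> rw [e] <;> decide
      · rw [Rat, ← add_zero (fr x), ← e, add_comm x, ← add_assoc, W.aa, zero_add]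
      · rw [Md.a, ← mul_one (Y.p (om • w0)), ← h.ex.z0, h.ex.mulz, h.pz_Q, Rat, fr_add,
          show fr (om • w0) = w0 + om • w0 by decide, ← add_assoc]
        congr 1
        rw [← e, add_comm x, ← add_assoc, W.aa, zero_add]
    have k3 := H24.Sz.two_mem (g := u) h.twoPt h.odd (cents_symm (sup_le (cents_symm h.DP) (zpowers_le.2 h.tD)))
      ((h.mem_N1.1 (h.mem_N1'.2 (cm' u hu _ ⟨h.Z_Q (h.z_Z om), ZF (h.z_Z om)⟩))).elim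
        (fun e => k1 u e (cm' u hu)) fun e => (mul_mem_cancel_left (mem_sup_left (mem_sup_right
          (mem_zpowers t)))).1 (k1 _ e tu)) ((h.twoQ.cj g).piElt hu)
    rcases h.mem_Pt.1 k3 with e | e
    · exact k2 u e (cm' u hu)
    · exact (k2 _ e tu).imp (mul_mem_cancel_left h.t_Q).1 fun e =>
        (mul_mem_cancel_left h.t_Q).1 (mul_assoc t u _ ▸ e)
  refine mem_N_of_cj_le fun b hb => by_contra fun nb => ?_
  have qb := (key b hb).resolve_left nb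
  have ca : ∀ y ∈ Y.Q t ⊓ cj g (Y.Q t), y ∈ cmz (Y.z 1) (Y.p (om • w0)) := fun y hy =>
    cmz_symm (h.Q_C hy.1) ((mul_mem_cancel_left (cm b hb y hy.2)).1 (h.Q_cmz hy.1 qb))
  have c2 := card_two (B := Y.Q t ⊓ cj g (Y.Q t)) inf_le_right hb (fun e => nb e.1) fun u hu =>
    (key _ (inv_mem hu)).imp (fun e => mem_inf.2 ⟨inv_mem_iff.1 e, hu⟩) fun e => mem_inf.2 ⟨by
      have := mul_mem qb (inv_mem e); convert this using 1; group, mul_mem hb hu⟩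
  have e0 : Y.Q t ⊓ cj g (Y.Q t) = Y.Q0 := eq_of_card_eq (fun y hy => by
    refine (h.mem_Q'.1 hy.1).resolve_right fun e => ?_
    obtain ⟨l, -, e1⟩ := h.conj_of_cmz (ca y hy)
    obtain ⟨d, e2⟩ := h.ex.ac_pz h.tA (om • w0) l
    rw [← e1, act_one] at e2
    exact absurd (h.ex.ac_eq (h.ex.ac_in (h.Q0_P e)) (v := om • w0) (c := 0) (c' := d)
      (by rw [h.ex.z0, mul_one, ← e2]; group)) (by decide)) (by
    rw [card_cj, h.card_Q] at c2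
    rw [h.card_Q0]; omega)
  have := ca _ (e0 ▸ (h.pz_Q0 (x := u0) (c := 0)).2 (by decide))
  exact absurd (h.pz_cmz.1 this) (by decide)

end Q1

open Q1 in
theorem Md.MD.exists_HD (h : Y.MD) (hX : Y.X ≤ N[Y.P]) : ∃ t g, Y.HD t g := by
  obtain ⟨g, hg⟩ := exists_gz h
  obtain ⟨s, s1, s2, s3⟩ := exists_af h hX (mul_mem (mul_mem (mul_mem hg.D (h.p_CD (h.p_P u0))) hg.D)
    (inv_mem (h.p_CD (h.p_P u0)))) (hg.fr h)
  obtain ⟨t, ht⟩ := exists_td h hX s1 s2 s3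
  exact ⟨t, g, h, hX, ht.tA, ht.tD, ht.t2, ht.tc, hg.D, ⟨hg.C h, normQ ht hg⟩, by
    rw [hg.z, show om * om + om = 1 by decide]⟩

end H27.G4
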