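import Mathlib
import Cfsg.Agent.H27.GQ0
import Cfsg.Agent.H27.GFb
import Cfsg.Agent.H27.GQ1
import Cfsg.Agent.H3.B71B

/-! The group `H = 2^(1+8) . Ω₈⁺(2)`. -/

set_option autoImplicit false
set_option linter.unusedSectionVars false
set_option linter.unusedVariables false

namespace H27.G4

open H24 H26 H26.Gold Subgroup Equiv
open H9 (F4)
open H24.Sz (Ex Ac Hs Zs)
open H7.SJ (p2)

variable {G : Type*} [Group G] [Finite G] {Y : Md G} {g u e y m s t k : G} {T N B : Subgroup G}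
  {x : W} {c : F4} {σ τ : Perm (Fin 8)}

namespace Q2

open Q1 (u0)

/-- elements normalising `A` and centralising `y` modulo `A`. -/
def cmA (A : Subgroup G) (y : G) : Subgroup G where
  carrier := {g | g ∈ N[A] ∧ g * y * g⁻¹ * y⁻¹ ∈ A}
  one_mem' := ⟨one_mem _, by simp⟩
  mul_mem' {a b} ha hb := ⟨mul_mem ha.1 hb.1, by
    have := mul_mem (conj_mem ha.1 hb.2) ha.2
    convert this using 1; group⟩
  inv_mem' {a} ha := ⟨inv_mem ha.1, by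
    have := conj_mem' ha.1 (inv_mem ha.2)
    convert this using 1; group⟩

theorem zN {z : G} (h : g ∈ C{z}) : g ∈ N[zpowers z] := norm_of_cent (C_zpowers z).ge h

/-- the second alternative. -/
def A2 (Y : Md G) (t e : G) : Prop := ♯(Y.Q t ⊓ cmz (Y.z 1) e) = 32 ∧ ∀ y ∈ Y.Q t, y ∈ cmz (Y.z 1) e →
  ∃ u ∈ Y.Q t, y * (u * e * u⁻¹ * e⁻¹)⁻¹ ∈ zpowers (Y.z 1)

theorem A2.of_cj (hm : m ∈ Y.H t) (h : A2 Y t (m * e * m⁻¹)) : A2 Y t e := by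
  have k : ∀ y, m * y * m⁻¹ ∈ cmz (Y.z 1) (m * e * m⁻¹) ↔ y ∈ cmz (Y.z 1) e := fun y =>
    ⟨fun a => by
      have := cmz_cj (inv_mem hm.1) (y := e) (u := m * y * m⁻¹) (by rwa [inv_inv])
      convert this using 1; group,
      fun a => cmz_cj hm.1 (by simpa [mul_assoc] using a)⟩
  refine ⟨?_, fun y hy a => ?_⟩
  · rw [← h.1, ← card_cj m]
    congr 2
    ext y
    rw [mem_cj, mem_inf, mem_inf, conj_mem_iff' hm.2, ← k]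
    simp [mul_assoc]
  · obtain ⟨u, hu, b⟩ := h.2 _ (conj_mem hm.2 hy) ((k y).2 a)
    exact ⟨_, conj_mem' hm.2 hu, by have := conj_mem' (zN hm.1) b; convert this using 1; group⟩

section
variable (h : Y.TD t)
include h

theorem zt (c : F4) : Y.z c * t = t * Y.z (c * c) := by rw [← f4_four c, ← h.tz, f4_four]; group

theorem tsq (hu : u ∈ Y.P) (c : F4) :
    t * (u * Y.z c) * (t * (u * Y.z c)) = t * u * (t * u) * Y.z (c * c + c) := by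
  calc _ = t * u * (Y.z c * t) * u * Y.z c := by group
    _ = t * u * t * (Y.z (c * c) * u) * Y.z c := by rw [zt h]; group
    _ = _ := by rw [h.ex.cenH hu, h.ex.z_add]; group

theorem inv_c (hx : Rat x) :
    ∃ d, ∀ c, t * (Y.p x * Y.z c) * (t * (Y.p x * Y.z c)) = 1 ↔ F2 (c + d) := by
  obtain ⟨e, e1, e2⟩ := h.mem_zp.1 (h.xs.pow _ (mul_mem h.t_Q (mem_sup_left (h.p_Q0 hx))))
  refine ⟨e * om, fun c => ?_⟩
  rw [tsq h (h.p_P x), ← pow_two, e2, ← h.ex.z_add, ← h.ex.z0]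
  exact ⟨fun k => (by decide : ∀ e c : F4, F2 e → e + (c * c + c) = 0 → F2 (c + e * om)) e c e1 (h.ex.z_inj k),
    fun k => congrArg _ ((by decide : ∀ e c : F4, F2 e → F2 (c + e * om) → e + (c * c + c) = 0) e c e1 k)⟩

theorem tconj (y x : W) (c : F4) : ∃ d, Y.p y * (t * (Y.p x * Y.z c)) * (Y.p y)⁻¹ =
    t * (Y.p (fr y + x + y) * Y.z d) := by
  obtain ⟨d, e⟩ := (h.ex.ac_inv h.tA (f' := fr) (φ' := fun c => c * c) (fun x => by rw [act_one, fr_fr]) f4_four).1 y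
  exact ⟨_, by
    rw [show Y.p y * (t * (Y.p x * Y.z c)) * (Y.p y)⁻¹ =
      t * (t⁻¹ * Y.p y * t⁻¹⁻¹ * (Y.p x * Y.z c) * (Y.p y * Y.z 0)⁻¹) by rw [h.ex.z0]; group, e, h.ex.inv,
      h.ex.mulz, h.ex.mulz]⟩

theorem P_H : Y.P ≤ Y.H t ⊓ C[Y.D] := fun _ e => ⟨h.N1_H (h.M_N1 (h.P_M e)), h.p_CD e⟩

theorem tz_nzp (c : F4) : t * (Y.p x * Y.z c) ∉ Y.X := fun e =>
  h.tX ((mul_mem_cancel_right (h.P_X (h.pz_P x c))).1 e)

/-- the involutions of `Q` outside `Q₀` are conjugate under `P`. -/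
theorem conj_out (hx : Rat x) (s2 : t * (Y.p x * Y.z c) * (t * (Y.p x * Y.z c)) = 1) {d : F4}
    (hd : ∀ c, t * (Y.p 0 * Y.z c) * (t * (Y.p 0 * Y.z c)) = 1 ↔ F2 (c + d)) :
    ∃ m ∈ Y.P, m * (t * (Y.p x * Y.z c)) * m⁻¹ = t * (Y.p 0 * Y.z d) := by
  obtain ⟨c', e⟩ := tconj h (om • x) x c
  rw [show fr (om • x) + x + om • x = 0 from
    (by decide +kernel : ∀ x, Rat x → fr (om • x) + x + om • x = 0) x hx] at e
  rcases (hd c').1 (e ▸ H7.SJ.conj_sq s2 _) with k | k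
  · exact ⟨_, h.p_P _, by rw [e, ← add_zero c', ← f4_aa d, ← add_assoc, k, zero_add]⟩
  · refine ⟨Y.z om * Y.p (om • x), mul_mem (h.Z_P (h.z_Z om)) (h.p_P _), ?_⟩
    rw [show Y.z om * Y.p (om • x) * (t * (Y.p x * Y.z c)) * (Y.z om * Y.p (om • x))⁻¹ =
      Y.z om * (Y.p (om • x) * (t * (Y.p x * Y.z c)) * (Y.p (om • x))⁻¹) * (Y.z om)⁻¹ by group, e, h.ex.p0,
      one_mul, one_mul, ← mul_assoc, zt h, h.ex.zi, mul_assoc, mul_assoc, ← h.ex.z_add, ← h.ex.z_add]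
    congr 2
    exact (by decide : ∀ c d : F4, c + d = 1 → om * om + (c + om) = d) _ _ k

theorem N1_of (hm : m ∈ C{Y.z 1}) (hc : ¬ F2 c) (e : m * Y.z c * m⁻¹ ∈ Y.Z) : m ∈ Y.N1 :=
  ⟨hm, mem_N_of_finite fun u hu => by
    obtain ⟨d, rfl⟩ := h.mem_Z.1 hu
    have k : ∀ d, F2 d → m * Y.z d * m⁻¹ ∈ Y.Z := fun d hd => h.zp_Z (conj_mem (zN hm) (h.z_zp.2 hd))
    rcases (by decide : ∀ c d : F4, ¬ F2 c → F2 d ∨ F2 (d + c)) c d hc with a | a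
    · exact k d a
    · have := mul_mem (k _ a) e
      rwa [conj_mul, ← h.ex.z_add, add_assoc, f4_aa, add_zero] at this⟩

theorem ex_q (he : e ∈ Y.N1) : ∃ q ∈ Y.Q t, q * e ∈ Y.M :=
  (h.mem_N1.1 he).elim (fun a => ⟨1, one_mem _, by rwa [one_mul]⟩) fun a => ⟨t, h.t_Q, a⟩

theorem mem_Pt (h2 : TwoE e) {q : G} (hq : q ∈ Y.Q t) (hm : q * e ∈ Y.M) (h1 : ap h.toMD.ρ (q * e) = 1) :
    e ∈ Y.P ∨ t * e ∈ Y.P :=
  h.mem_Pt.1 (H24.Sz.two_mem h.twoPt h.odd (cents_symm (sup_le (cents_symm h.DP) (zpowers_le.2 h.tD)))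
    ((mul_mem_cancel_left (mem_sup_left ((sup_le_sup_right h.Q0_P _ : Y.Q t ≤ _) hq))).1
      ((sup_le_sup_right le_sup_left _ : _ ≤ Y.P ⊔ zpowers t ⊔ Y.D) ((h.ρ_one hm).1 h1))) h2)

theorem twoE (e2 : e * e ∈ zpowers (Y.z 1)) : TwoE e := by
  obtain ⟨c, -, k⟩ := h.mem_zp.1 e2
  exact piElt_of_pow_eq_one (((piNat_prime p2).2 (Set.mem_singleton 2)).pow 2)
    (by rw [pow_two, pow_mul, pow_two e, k, pow_two, h.ex.zz])

theorem case1 (e2 : e * e ∈ zpowers (Y.z 1)) (e1 : e ∉ Y.Q t) {q : G} (hq : q ∈ Y.Q t) (hm : q * e ∈ Y.M)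
    (h1 : ap h.toMD.ρ (q * e) = 1) : e ∈ Y.P := (mem_Pt h (twoE h e2) hq hm h1).resolve_right fun a => by
  obtain ⟨x, c, k⟩ := h.mem_P.1 a
  obtain ⟨d, k'⟩ := h.ex.ac_pz h.tA x c
  have := mul_mem (mul_mem h.tt (h.zp_Z e2)) (inv_mem (conj_mem' (h.X_NZ (h.P_X a)) h.tt))
  rw [show t * t * (e * e) * ((t * e)⁻¹ * (t * t) * (t * e))⁻¹ =
    t * t * (e * e) * (t * e)⁻¹ * (t * t)⁻¹ * (t * e) by group] at this
  have k2 : t * (t * e) * t⁻¹ * (t * e) ∈ Y.Z := by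
    have := mul_mem h.tt (h.zp_Z e2)
    convert this using 1; group
  rw [k, k', h.ex.mulz, act_one] at k2
  refine e1 ((mul_mem_cancel_left h.t_Q).1 (k ▸ h.pz_Q.2 ?_))
  rw [Rat, ← add_zero (fr x), ← h.ex.eq_zero k2, ← add_assoc, W.aa, zero_add]

theorem A2.of_mul (he : e ∈ Y.H t) {q : G} (hq : q ∈ Y.Q t) (a : A2 Y t (q * e)) : A2 Y t e := by
  have k : ∀ y ∈ Y.Q t, y ∈ cmz (Y.z 1) (q * e) ↔ y ∈ cmz (Y.z 1) e := fun y hy =>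
    ⟨fun b => cmz_symm b.1 ((mul_mem_cancel_left (h.Q_cmz hy hq)).1 (cmz_symm (mul_mem (h.Q_C hq) he.1) b)),
      fun b => cmz_symm b.1 (mul_mem (h.Q_cmz hy hq) (cmz_symm he.1 b))⟩
  refine ⟨?_, fun y hy b => ?_⟩
  · rw [← a.1]
    congr 2
    ext y
    exact and_congr_right fun hy => (k y hy).symm
  · obtain ⟨u, hu, b⟩ := a.2 y hy ((k y hy).2 b)
    have w : u * e * u⁻¹ * e⁻¹ ∈ Y.Q t := by
      have := mul_mem hu (conj_mem he.2 (inv_mem hu))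
      convert this using 1; group
    exact ⟨u, hu, by
      have := mul_mem (mul_mem b (h.Q_cmz hq hu).2) (h.Q_cmz w hq).2
      convert this using 1; group⟩

theorem cm0 (e : Y.As m σ) (x : W) (c : F4) :
    ∃ d, m * (Y.p x * Y.z c) * m⁻¹ * (Y.p x * Y.z c)⁻¹ = Y.p (x + act σ x) * Y.z d := by
  obtain ⟨d, k⟩ := h.as_pz e x c
  exact ⟨_, by rw [k, h.ex.inv, h.ex.mulz, add_comm x]⟩

theorem cm1 (e : Y.As m σ) {w : W} {c0 : F4} (hw : m * t * m⁻¹ * t⁻¹ = Y.p w * Y.z c0) (hx : Rat x) (c : F4) :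
    ∃ d, m * (t * (Y.p x * Y.z c)) * m⁻¹ * (t * (Y.p x * Y.z c))⁻¹ = Y.p (w + (x + act σ x)) * Y.z d := by
  obtain ⟨d, k⟩ := cm0 h e x c
  obtain ⟨d', k'⟩ := h.ex.ac_pz h.tA (x + act σ x) d
  rw [act_one, hx.add (hx.act σ), ← k] at k'
  exact ⟨_, by rw [← h.ex.mulz, ← k', ← hw]; group⟩

theorem fixl (e : Y.As m σ) {w : W} {c0 : F4} (hw : m * t * m⁻¹ * t⁻¹ = Y.p w * Y.z c0) (hx : Rat x)
    (hf : act σ x = x) : ∃ l, m * Y.p x * m⁻¹ = Y.p x * Y.z l ∧ l * l + l = bf w x := by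
  obtain ⟨l, k⟩ := e.1 x
  rw [hf] at k
  obtain ⟨n, -, k'⟩ := h.conj_of_cmz (h.t_cmz (h.p_Q0 hx))
  refine ⟨l, k, ?_⟩
  have a : m * (t * Y.p x * t⁻¹) * m⁻¹ = m * t * m⁻¹ * t⁻¹ * (t * (m * Y.p x * m⁻¹) * t⁻¹) *
    (m * t * m⁻¹ * t⁻¹)⁻¹ := by group
  rw [hw, k, k', ← conj_mul, k, e.2, ← conj_mul (b := t), k', h.tz, mul_assoc (Y.p x), mul_assoc (Y.p x),
    ← h.ex.z_add, ← h.ex.z_add, h.pz_conj] at a
  exact (by decide : ∀ l n b : F4, l + n = b + (n + l * l) → l * l + l = b) _ _ _ (h.ex.eq a).2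

theorem core2 (e : Y.As m σ) {w : W} {c0 : F4} (hw : m * t * m⁻¹ * t⁻¹ = Y.p w * Y.z c0)
    (h1 : ∃ y, Rat y ∧ act σ y = y ∧ bf w y = 1) (h2 : ∀ y, Rat y → w ≠ y + act σ y)
    (h3 : ∀ x, Rat x → act σ x = x → bf w x = 0 → ∃ y, Rat y ∧ (x = y + act σ y ∨ x = y + act σ y + w))
    (h4 : Nat.card {x : W // Rat x ∧ act σ x = x ∧ bf w x = 0} = 8) : A2 Y t m := by
  have mX := (h.as_M e).1
  have mC := h.X_C mX
  have le : Y.Q t ⊓ cmz (Y.z 1) m ≤ Y.Q0 := fun y hy => by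
    obtain ⟨x, c, hx, rfl | rfl⟩ := h.mem_Q.1 hy.1
    · exact h.pz_Q0.2 hx
    obtain ⟨d, k⟩ := cm1 h e hw hx c
    have := h.ex.eq_zero (k ▸ h.zp_Z (cmz_symm mC hy.2).2)
    exact absurd (by rw [← add_zero w, ← this, ← add_assoc, W.aa, zero_add]) (h2 x hx)
  have hZ : Y.Z ≤ Y.Q t ⊓ cmz (Y.z 1) m := fun u hu =>
    ⟨h.Z_Q hu, cmz_of (h.Q_C (h.Z_Q hu)) (mem_C1_comm.1 (C_le_C1 hu mX))⟩
  have k : ∀ x, Y.p x ∈ Y.Q t ⊓ cmz (Y.z 1) m ↔ Rat x ∧ act σ x = x ∧ bf w x = 0 := fun x => by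
    constructor
    · intro a
      have hx := h.pz_Q.1 (mul_mem a.1 (h.Z_Q (h.z_Z 0)))
      have b := cmz_symm mC a.2
      obtain ⟨l, l1, l2⟩ := fixl h e hw hx (h.as_fix e b)
      obtain ⟨l', l3, l4⟩ := h.conj_of_cmz b
      rw [(h.ex.eq (l1.symm.trans l4)).2] at l2
      exact ⟨hx, h.as_fix e b, by rcases l3 with rfl | rfl <;> exact l2.symm.trans (by decide)⟩
    · rintro ⟨hx, b, c⟩
      obtain ⟨l, l1, l2⟩ := fixl h e hw hx b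
      refine ⟨mem_sup_left (h.p_Q0 hx), cmz_symm (h.X_C (h.P_X (h.p_P x))) ⟨mC, ?_⟩⟩
      rw [l1, ← h.ex.cen, mul_inv_cancel_right, h.z_zp]
      exact (by decide : ∀ l : F4, l * l + l = 0 → F2 l) l (l2.trans c)
  refine ⟨?_, fun y hy a => ?_⟩
  · have := h.card_bar hZ
    rw [inf_eq_left.2 (le.trans h.Q0_P)] at this
    exact this.trans (congrArg (4 * ·) ((Nat.card_congr (Equiv.subtypeEquivRight k)).trans h4))
  obtain ⟨x, c, hx, rfl⟩ := h.mem_Q0.1 (le ⟨hy, a⟩)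
  obtain ⟨-, x1, x2⟩ := (k x).1 ((mul_mem_cancel_right (hZ (h.z_Z c))).1 ⟨hy, a⟩)
  obtain ⟨u, hu, d, b⟩ : ∃ u ∈ Y.Q t, ∃ d, m * u * m⁻¹ * u⁻¹ = Y.p x * Y.z d := by
    obtain ⟨y', hy', f | f⟩ := h3 x hx x1 x2
    · exact ⟨_, h.pz_Q.2 hy', by rw [f]; exact cm0 h e y' 0⟩
    · exact ⟨_, mul_mem h.t_Q (h.pz_Q.2 hy'), by rw [f, add_comm _ w]; exact cm1 h e hw hy' 0⟩
  obtain ⟨y, y1, y2, y3⟩ := h1
  obtain ⟨l, l1, l2⟩ := fixl h e hw y1 y2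
  have k2 : ∀ u ∈ Y.Q t, ∀ d, m * u * m⁻¹ * u⁻¹ = Y.p x * Y.z d → F2 (Y.β x x + c + d) →
      ∃ u ∈ Y.Q t, Y.p x * Y.z c * (u * m * u⁻¹ * m⁻¹)⁻¹ ∈ zpowers (Y.z 1) := fun u hu d b f => ⟨u, hu, by
    rw [show (u * m * u⁻¹ * m⁻¹)⁻¹ = m * u * m⁻¹ * u⁻¹ by group, b, h.ex.mulz, W.aa, h.ex.p0, one_mul, h.z_zp]
    exact f⟩
  by_cases f : F2 (Y.β x x + c + d)
  · exact k2 u hu d b f
  refine k2 (Y.p y * u) (mul_mem (mem_sup_left (h.p_Q0 y1)) hu) (l + (bf y x + d)) ?_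
    ((by decide : ∀ a l b d : F4, ¬ F2 (a + d) → l * l + l = 1 → F2 b → F2 (a + (l + (b + d)))) _ _ _ _ f
      (l2.trans y3) (rat_b y1 hx))
  have := h.pz_conj y x 0 d
  rw [h.ex.z0, mul_one] at this
  rw [show m * (Y.p y * u) * m⁻¹ * (Y.p y * u)⁻¹ = m * Y.p y * m⁻¹ * (Y.p y)⁻¹ *
    (Y.p y * (m * u * m⁻¹ * u⁻¹) * (Y.p y)⁻¹) by group, b, this, l1, ← h.ex.cen y, mul_inv_cancel_right,
    ← mul_assoc, h.ex.cen, mul_assoc, ← h.ex.z_add]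

theorem core1 (e : Y.As m σ) (hσ : σ ∈ A8) (h1 : σ ≠ 1) (h2 : σ * σ = 1) {w : W} {c0 : F4}
    (hw : m * t * m⁻¹ * t⁻¹ = Y.p w * Y.z c0) {y0 : W} (hy : Rat y0) (e0 : w = y0 + act σ y0) :
    ∃ s ∈ Y.Q t, s * s = 1 ∧ s ∉ zpowers (Y.z 1) ∧ m ∈ cmz (Y.z 1) s ∧ ∀ A, Y.Q t ≤ N[A] →
      zpowers (Y.z 1) ≤ A → s ∈ A → Y.Q t ⊓ C{s} ≤ cmA A m := by
  have mM := h.as_M e
  have mC := h.X_C mM.1
  obtain ⟨d, k⟩ := cm1 h e hw hy 0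
  rw [← e0, W.aa, h.ex.p0, one_mul] at k
  have tQ : t * (Y.p y0 * Y.z 0) ∈ Y.Q t := mul_mem h.t_Q (h.pz_Q.2 hy)
  have tQ' : ∀ y ∈ Y.Q t, y ∈ Y.Q0 ∨ t * (Y.p y0 * Y.z 0) * y ∈ Y.Q0 := fun y hy' =>
    (h.mem_Q'.1 hy').imp id fun a => by
      have := mul_mem (conj_mem h.t_NQ0 ((h.pz_Q0 (c := 0)).2 hy)) a
      convert this using 1; group
  have tz : ∀ c, t * (Y.p y0 * Y.z 0) * Y.z c * (t * (Y.p y0 * Y.z 0))⁻¹ = Y.z (c * c) := fun c => by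
    rw [← h.tz]; conv_rhs => rw [← h.mem_X.1 (h.P_X (h.pz_P y0 0)) c]
    group
  generalize t * (Y.p y0 * Y.z 0) = r at k tQ tQ' tz
  have zC : ∀ c, Y.z c ∈ C{r} → F2 c := fun c a => (by decide : ∀ c : F4, c * c = c → F2 c) c
    (h.ex.z_inj ((tz c).symm.trans (mem_C1_iff_conj.1 (mem_C1_comm.1 a))))
  have mr : m ∈ cmz (Y.z 1) r := ⟨mC, by
    have a := mem_C1_iff_conj.1 (C_le_C1 (h.xs.pow r tQ) ((C_zpowers _).ge mC))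
    rw [pow_two, ← conj_mul, mul_inv_eq_iff_eq_mul.1 k, show Y.z d * r * (Y.z d * r) =
      Y.z d * (r * Y.z d * r⁻¹) * (r * r) by group, tz, mul_eq_right, ← h.ex.z_add, ← h.ex.z0] at a
    rw [k, h.z_zp]
    exact (by decide : ∀ c : F4, c + c * c = 0 → F2 c) d (h.ex.z_inj a)⟩
  have lift : ∀ x, Rat x → ∃ c, Y.p x * Y.z c ∈ C{r} := fun x hx => by
    obtain ⟨l, l1, l2⟩ := h.conj_of_cmz (h.Q_cmz (mem_sup_left (h.p_Q0 hx)) tQ)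
    refine ⟨l * om, mem_C1_comm.1 (mem_C1_iff_conj.2 ?_)⟩
    rw [← conj_mul, l2, tz, mul_assoc, ← h.ex.z_add]
    congr 2
    exact (by decide : ∀ l : F4, F2 l → l + l * om * (l * om) = l * om) l l1
  have cmK : ∀ x c, Rat x → Y.p x * Y.z c ∈ C{r} →
      m * (Y.p x * Y.z c) * m⁻¹ * (Y.p x * Y.z c)⁻¹ ∈ C{r} := fun x c hx a => by
    refine mul_mem (mem_C1_comm.1 ((mul_mem_cancel_left (x := m * r * m⁻¹ * r⁻¹) ?_).1 ?_)) (inv_mem a)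
    · exact mem_C1_comm.1 (C_le_C1 mr.2 ((C_zpowers _).ge (h.Q_C (mem_sup_left
        (conj_mem (h.M_NQ0 mM) (h.pz_Q0.2 hx))))))
    · rw [inv_mul_cancel_right, ← cj_C1]; exact conj_mem_cj m (mem_C1_comm.1 a)
  obtain ⟨s, s1, s2, s3, ⟨y1, -, s4⟩, s5⟩ := f_root hσ h1 h2
  obtain ⟨c, sc⟩ := lift s s1
  have ov : ∀ d, Y.p 0 * Y.z d ∈ C{r} → Y.p 0 * Y.z d ∈ zpowers (Y.z 1) := fun d a => by
    rw [h.ex.p0, one_mul] at a ⊢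
    exact h.z_zp.2 (zC d a)
  refine ⟨_, (h.pz_Q (c := c)).2 s1, by rw [h.pz_sq, s3, h.ex.z0], fun a => s2 (h.ex.eq_zero (h.zp_Z a)),
    ⟨mC, ?_⟩, fun A A1 A2 A3 => ?_⟩
  · obtain ⟨d, k⟩ := cm0 h e s c
    have := cmK s c s1 sc
    rw [k, show act σ s = s by rw [s4, act_add, ← act_mul, h2, act_one, add_comm], W.aa] at this ⊢
    exact ov d this
  have sy : ∀ y ∈ Y.Q t, m * y * m⁻¹ * y⁻¹ ∈ A → y ∈ cmA A m := fun y hy a =>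
    ⟨A1 hy, by have := inv_mem a; convert this using 1; group⟩
  have k0 : ∀ y ∈ Y.Q0, y ∈ C{Y.p s * Y.z c} → y ∈ cmA A m := fun y hy a => by
    obtain ⟨x, c', hx, rfl⟩ := h.mem_Q0.1 hy
    obtain ⟨c1, xc⟩ := lift x hx
    have b := h.ex.comm_iff.1 (mem_C1.1 a)
    rw [h.cm, bf_comm] at b
    rw [show Y.p x * Y.z c' = Y.p x * Y.z c1 * Y.z (c1 + c') by
      rw [mul_assoc, ← h.ex.z_add, ← add_assoc, f4_aa, zero_add]]
    refine mul_mem (sy _ (h.pz_Q.2 hx) ?_) (sy _ (h.Z_Q (h.z_Z _)) (by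
      rw [h.mem_X.1 mM.1, mul_inv_cancel]; exact one_mem _))
    obtain ⟨d, k⟩ := cm0 h e x c1
    have := cmK x c1 hx xc
    rw [k] at this ⊢
    rcases s5 x hx b with f | f <;> rw [f] at this ⊢
    · rw [W.aa] at this ⊢
      exact A2 (ov d this)
    · rw [← add_assoc, W.aa, zero_add] at this ⊢
      have f' := mul_mem this sc
      rw [h.ex.mulz, W.aa] at f'
      have := A2 (ov _ f')
      rw [← W.aa s, ← h.ex.mulz] at this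
      exact (mul_mem_cancel_right A3).1 this
  intro y hy'
  exact (tQ' y hy'.1).elim (k0 y · hy'.2) fun a => (mul_mem_cancel_left (sy r tQ (A2 mr.2))).1
    (k0 _ a (mul_mem (mem_C1_comm.1 sc) hy'.2))

end

/-- rational vectors times scalars. -/
def RL : List (W × F4) := [0, 1].flatMap fun a => [0, 1].flatMap fun b => [0, 1].flatMap fun c =>
  [0, 1].flatMap fun d => [0, 1].flatMap fun e => [0, 1].flatMap fun f =>
  [0, 1, om, om * om].map fun g => (⟨a, b, c, d, e, f⟩, g)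

theorem cardR (p : W × F4 → Prop) [DecidablePred p] :
    {a | Rat a.1 ∧ p a}.ncard = (RL.filter fun a => p a).length := by
  have : {a | Rat a.1 ∧ p a} = ↑((RL.filter fun a => p a).toFinset) := by
    ext ⟨x, c⟩
    simp only [Set.mem_ofPred_eq, List.coe_toFinset, List.mem_filter, decide_eq_true_eq]
    exact and_congr_left' ⟨fun hx => (by decide +kernel : ∀ x, Rat x → ∀ c, (x, c) ∈ RL) x hx c,
      fun a => of_decide_eq_true (List.all_eq_true.1 (by decide +kernel : (RL.all fun a => Rat a.1) = true) _ a)⟩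
  rw [this, Set.ncard_coe_finset, List.toFinset_card_of_nodup ((by decide +kernel : RL.Nodup).filter _)]

theorem card0 : {a : W × F4 | Rat a.1 ∧ qf a.1 = 0 ∧ ¬ (a.1 = 0 ∧ F2 a.2)}.ncard = 142 :=
  (cardR _).trans (by decide +kernel)

theorem card1 : {a : W × F4 | Rat a.1 ∧ F2 a.2}.ncard = 128 := (cardR _).trans (by decide +kernel)

theorem card_S (h : Y.TD t) : {s | s ∈ Y.Q t ∧ s * s = 1 ∧ s ∉ zpowers (Y.z 1)}.ncard = 270 := by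
  choose! d hd using fun x (hx : Rat x) => inv_c h hx
  have e : {s | s ∈ Y.Q t ∧ s * s = 1 ∧ s ∉ zpowers (Y.z 1)} =
      (fun a : W × F4 => Y.p a.1 * Y.z a.2) '' {a | Rat a.1 ∧ qf a.1 = 0 ∧ ¬ (a.1 = 0 ∧ F2 a.2)} ∪
      (fun a : W × F4 => t * (Y.p a.1 * Y.z (a.2 + d a.1))) '' {a | Rat a.1 ∧ F2 a.2} := by
    ext s
    constructor
    · rintro ⟨s0, s1, s2⟩
      obtain ⟨x, c, hx, rfl | rfl⟩ := h.mem_Q.1 s0
      · refine Or.inl ⟨(x, c), ⟨hx, h.ex.z_inj (by rw [← h.pz_sq x c, s1, h.ex.z0]), ?_⟩, rfl⟩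
        rintro ⟨rfl, a⟩
        exact s2 (by rw [h.ex.p0, one_mul]; exact h.z_zp.2 a)
      · exact Or.inr ⟨(x, c + d x), ⟨hx, (hd x hx c).1 s1⟩, by simp only [add_assoc, f4_aa, add_zero]⟩
    · rintro (⟨a, ⟨a1, a2, a3⟩, rfl⟩ | ⟨a, ⟨a1, a2⟩, rfl⟩)
      · refine ⟨h.pz_Q.2 a1, by rw [h.pz_sq, a2, h.ex.z0], fun b => ?_⟩
        obtain ⟨c, c1, c2⟩ := h.mem_zp.1 b
        exact a3 ⟨(h.ex.eqz c2).1, (h.ex.eqz c2).2 ▸ c1⟩
      · exact ⟨mul_mem h.t_Q (h.pz_Q.2 a1), (hd _ a1 _).2 (by rwa [add_assoc, f4_aa, add_zero]),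
          fun b => tz_nzp h _ (h.P_X (h.Z_P (h.zp_Z b)))⟩
  rw [e, Set.ncard_union_eq, Set.ncard_image_of_injective, Set.ncard_image_of_injective, card0, card1]
  · intro a b k
    obtain ⟨k1, k2⟩ := h.ex.eq (mul_left_cancel k)
    exact Prod.ext k1 (add_right_cancel (k2.trans (by rw [k1])))
  · exact fun a b k => Prod.ext (h.ex.eq k).1 (h.ex.eq k).2
  · rw [Set.disjoint_left]
    rintro _ ⟨a, -, rfl⟩ ⟨b, -, k⟩
    have k' : t * (Y.p b.1 * Y.z (b.2 + d b.1)) = Y.p a.1 * Y.z a.2 := k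
    exact tz_nzp h _ (by rw [k']; exact h.P_X (h.pz_P _ _))

end Q2

open Q2

namespace Md.HD

variable (h : Y.HD t k)
include h

/-- `H` is transitive on the non-central involutions of `Q`. -/
theorem trans (hs : s ∈ Y.Q t) (s2 : s * s = 1) (s1 : s ∉ zpowers (Y.z 1)) :
    ∃ m ∈ Y.H t ⊓ C[Y.D], m * Y.z om * m⁻¹ = s := by
  have h' := h.td
  have cj : ∀ {s m}, m ∈ Y.H t ⊓ C[Y.D] → (∃ m ∈ Y.H t ⊓ C[Y.D], m * Y.z om * m⁻¹ = s) →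
      ∃ n ∈ Y.H t ⊓ C[Y.D], n * Y.z om * n⁻¹ = m * s * m⁻¹ := by
    rintro _ m hm ⟨n, hn, rfl⟩
    exact ⟨m * n, mul_mem hm hn, by group⟩
  have kH : k ∈ Y.H t ⊓ C[Y.D] := ⟨h.gH, h.gD⟩
  have gz : k * Y.z om * k⁻¹ = Y.p w0 * Y.z om := by rw [h.gz, Md.a, one_smul]
  have k0 : ∀ s ∈ Y.Q0, s * s = 1 → s ∉ zpowers (Y.z 1) → ∃ m ∈ Y.H t ⊓ C[Y.D], m * Y.z om * m⁻¹ = s :=
    fun s hs s2 s1 => by
    obtain ⟨x, c, hx, rfl⟩ := h'.mem_Q0.1 hs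
    by_cases x0 : x = 0
    · rw [x0, h.ex.p0, one_mul] at s1 ⊢
      rcases (by decide : ∀ c : F4, ¬ F2 c → c = om ∨ c = om * om) c (mt h.z_zp.2 s1) with rfl | rfl
      exacts [⟨1, one_mem _, by simp⟩, ⟨t, ⟨h'.N1_H h'.t_N1, h.tD⟩, h'.tz om⟩]
    obtain ⟨σ, hσ, rfl⟩ := f_sing hx x0 (h.ex.z_inj (by rw [← h.pz_sq x c, s2, h.ex.z0]))
    obtain ⟨m, m0, m1⟩ := h.lift σ hσ
    obtain ⟨d, e⟩ := h.as_pz m1 w0 om
    obtain ⟨u, hu, e'⟩ := h.p_move x0 d c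
    exact e' ▸ cj (P_H h' hu) (e ▸ cj ⟨h'.N1_H (h'.M_N1 (h.as_M m1)), m0⟩ ⟨k, kH, gz⟩)
  obtain ⟨x, c, hx, rfl | rfl⟩ := h'.mem_Q.1 hs
  · exact k0 _ (h.pz_Q0.2 hx) s2 s1
  obtain ⟨d, hd⟩ := inv_c h' rat_zero
  have k1 : ∀ x c, Rat x → t * (Y.p x * Y.z c) * (t * (Y.p x * Y.z c)) = 1 →
      t * (Y.p x * Y.z c) ∈ C{Y.p w0 * Y.z om} →
      ∃ m ∈ Y.H t ⊓ C[Y.D], m * Y.z om * m⁻¹ = t * (Y.p 0 * Y.z d) := fun x c hx a b => by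
    obtain ⟨m, hm, e⟩ := conj_out h' hx a hd
    have sQ := mul_mem h'.t_Q ((h'.pz_Q (c := c)).2 hx)
    have nX := tz_nzp h' (x := x) c
    generalize t * (Y.p x * Y.z c) = s at a b e sQ nX
    have q := conj_mem' h.gH.2 sQ
    rw [← gz, ← cj_C1, mem_cj] at b
    have := cj kH (k0 _ (h'.Q0_of q (h.mem_X' (h'.Q_C q) (mem_C1_iff_conj.1 b)))
      (by simpa using H7.SJ.conj_sq a k⁻¹) fun c => nX (h.P_X (h.Z_P (h.zp_Z
        ((conj_mem_iff' (zN h.gH.1)).1 c)))))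
    rw [show k * (k⁻¹ * s * k) * k⁻¹ = s by group] at this
    exact e ▸ cj (P_H h' hm) this
  have k2 : ∃ m ∈ Y.H t ⊓ C[Y.D], m * Y.z om * m⁻¹ = t * (Y.p 0 * Y.z d) := by
    have a := (hd d).2 (Or.inl (f4_aa d))
    have bQ := (h'.pz_Q (c := om)).2 rat_w0
    rcases H7.SJ.mem_zp (h.ex.zz 1) (h'.Q_cmz bQ (mul_mem h'.t_Q ((h'.pz_Q (c := d)).2 rat_zero))).2 with b | b
    · exact k1 0 d rat_zero a (mem_C1_iff_conj.2 (mul_inv_eq_one.1 b))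
    obtain ⟨c', e⟩ := tconj h' (om • Q1.u0) 0 d
    rw [show fr (om • Q1.u0) + 0 + om • Q1.u0 = Q1.u0 by decide] at e
    refine k1 _ c' (by decide) (e ▸ H7.SJ.conj_sq a _) (mem_C1_iff_conj.2 ?_)
    have e1 : t * (Y.p Q1.u0 * Y.z c') = t * (Y.p 0 * Y.z d) * (Y.p Q1.u0 * Y.z (d + c')) := by
      rw [h.ex.p0, one_mul, h.ex.z_add, mul_assoc t, ← mul_assoc (Y.z d), h.ex.cen, mul_assoc (Y.p _),
        ← mul_assoc (Y.z d), h.ex.zz, one_mul]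
    have f := h.pz_conj Q1.u0 w0 (d + c') om
    rw [show bf Q1.u0 w0 = 1 by decide, h.ex.z_add 1, ← mul_assoc (Y.p w0), ← h.ex.cen w0 1, mul_assoc (Y.z 1)] at f
    have tC := mem_C1_iff_conj.1 (h'.Q_C (mul_mem h'.t_Q ((h'.pz_Q (c := d)).2 rat_zero)))
    rw [mul_inv_eq_iff_eq_mul] at b
    rw [e1, show ∀ a b c : G, a * b * c * (a * b)⁻¹ = a * (b * c * b⁻¹) * a⁻¹ from fun a b c => by group, f,
      ← conj_mul, tC, b, ← mul_assoc, h.ex.zz, one_mul]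
  obtain ⟨m, hm, e⟩ := conj_out h' hx s2 hd
  have := cj (inv_mem (P_H h' hm)) k2
  rwa [← e, show ∀ s, m⁻¹ * (m * s * m⁻¹) * m⁻¹⁻¹ = s from fun s => by group] at this
theorem Q_le (hN : ∀ s ∈ Y.Q t, s * s = 1 → s ∈ N) : Y.Q t ≤ N := by
  have h' := h.td
  have hZ : ∀ c, Y.z c ∈ N := fun c => hN _ (h'.Z_Q (h.z_Z c)) (h.ex.zz c)
  obtain ⟨d, hd⟩ := inv_c h' rat_zero
  refine sup_le (fun u hu => ?_) (zpowers_le.2 ?_)
  · obtain ⟨x, c, hx, rfl⟩ := h'.mem_Q0.1 hu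
    obtain ⟨a, b, ha, hb, qa, qb, rfl⟩ := rat_sum hx
    have := mul_mem (hN _ ((h'.pz_Q (c := 0)).2 ha) (by rw [h.pz_sq, qa, h.ex.z0]))
      (hN _ ((h'.pz_Q (c := 0)).2 hb) (by rw [h.pz_sq, qb, h.ex.z0]))
    rw [h.ex.mulz] at this
    exact mul_mem ((mul_mem_cancel_right (hZ _)).1 this) (hZ c)
  · have := hN _ (mul_mem h'.t_Q (h'.pz_Q.2 rat_zero)) ((hd d).2 (Or.inl (f4_aa d)))
    rw [h.ex.p0, one_mul] at this
    exact (mul_mem_cancel_right (hZ d)).1 this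
theorem card_H : ♯(Y.H t) = 89181388800 * ♯Y.D := by
  have h' := h.td
  have e : {x | ∃ y ∈ Y.H t, y * Y.z om * y⁻¹ = x} = {s | s ∈ Y.Q t ∧ s * s = 1 ∧ s ∉ zpowers (Y.z 1)} := by
    ext s
    constructor
    · rintro ⟨m, hm, rfl⟩
      exact ⟨conj_mem hm.2 (h'.Z_Q (h.z_Z om)), H7.SJ.conj_sq (h.ex.zz om) m,
        fun a => absurd (h.z_zp.1 ((H24.conj_mem_iff (zN hm.1)).1 a)) (by decide)⟩
    · rintro ⟨s0, s1, s2⟩
      obtain ⟨m, hm, e⟩ := h.trans s0 s1 s2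
      exact ⟨m, hm.1, e⟩
  rw [← card_inf_mul_relIndex C{Y.z om}, H3.B71.relIndex_C1, e, card_S h',
    show C{Y.z om} ⊓ Y.H t = Y.M from le_antisymm (fun u hu => h'.XM ▸ h.mem_X' hu.2.1 (mem_C1_iff_conj.1 hu.1))
      fun u hu => ⟨C_le_C1 (h.z_Z om) hu.1, h'.N1_H (h'.M_N1 hu)⟩, h.card_M]
  ring
theorem H_ND : Y.H t ≤ N[Y.D] := le_N_iff.2 fun g hg d hd =>
  h.odd_D ((sup_le_sup_right (h.zp_Z.trans h.Z_P) _ : _ ≤ Y.P ⊔ Y.D)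
    (h.td.CQ (conj_mem (N_le_NC _ hg.2) (h.td.Q_D hd)))) (oddE_iff.1 ((h.odd.piElt hd).conj g))
theorem sylH (hT : Syl 2 Y.N1 T) : Syl 2 (Y.H t) T := by
  refine hT.of_idx h.td.N1_H ?_
  have := card_mul_relIndex h.td.N1_H
  rw [h.td.card_N1, h.card_H, show 89181388800 * ♯Y.D = 2 * (16384 * 20160 * ♯Y.D) * 135 by ring] at this
  rw [Nat.eq_of_mul_eq_mul_left (by have := card_pos Y.D; positivity) this, piNat_compl_singleton p2]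
  decide
theorem dich0 (he : e ∈ Y.N1) (e2 : e * e ∈ zpowers (Y.z 1)) (e1 : e ∉ Y.Q t) :
    (∃ m ∈ Y.H t, m * e * m⁻¹ ∈ Y.P) ∨ A2 Y t e := by
  have h' := h.td
  obtain ⟨q, hq, hm⟩ := ex_q h' he
  by_cases h1 : ap h.toMD.ρ (q * e) = 1
  · exact Or.inl ⟨1, one_mem _, by simpa using case1 h' e2 e1 hq hm h1⟩
  have eH := h'.N1_H he
  have a := h.as_ρ hm
  have m2 : q * e * (q * e) ∈ Y.Q t := by
    have := mul_mem (mul_mem hq (conj_mem eH.2 hq)) (h'.Z_Q (h.zp_Z e2))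
    convert this using 1; group
  have h2 := act_faith fun x hx => h.as_fix (h.as_mul a a) (h'.Q_cmz (mem_sup_left (h.p_Q0 hx)) m2)
  obtain ⟨w, c0, hw, e0⟩ := h'.mem_Q0.1 (h'.Q0_of (mul_mem (conj_mem (h'.N1_H (h'.M_N1 hm)).2 h'.t_Q)
    (inv_mem h'.t_Q)) (by
      have := mul_mem (show _ ∈ Y.X from hm.1) (conj_mem (N_le_NC _ h.tA.normZ) (inv_mem hm.1))
      convert this using 1; group))
  have fw : act (ap h.toMD.ρ (q * e)) w = w := by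
    obtain ⟨d, k⟩ := h.as_pz a w c0
    have := (h'.Q_cmz h'.t_Q m2).2
    rw [show q * e * (q * e) * t * (q * e * (q * e))⁻¹ * t⁻¹ = q * e * (q * e * t * (q * e)⁻¹ * t⁻¹) * (q * e)⁻¹ *
      (q * e * t * (q * e)⁻¹ * t⁻¹) by group, e0, k, h.ex.mulz] at this
    rw [← add_zero (act _ w), ← W.aa w, ← add_assoc, h.ex.eq_zero (h.zp_Z this), zero_add]
  rcases f_dich (h.ρ_A8 _) h1 h2 hw fw with ⟨y, hy, e3⟩ | ⟨b1, b2, b3, b4⟩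
  swap
  · exact Or.inr ((core2 h' a e0 b1 b2 b3 b4).of_mul h' eH hq)
  obtain ⟨s, s0, s1, s2, s3, s4⟩ := core1 h' a (h.ρ_A8 _) h1 h2 e0 hy e3
  obtain ⟨n, ⟨hn, -⟩, rfl⟩ := h.trans s0 s1 s2
  have s5 := s4 (H24.cj n Y.Z) (by
      rw [← cj_N, ← cj_of_mem_N hn.2]; exact cj_mono n (h'.Q_N1.trans inf_le_right))
    (zpowers_le.2 (mem_C1_iff_conj.1 hn.1 ▸ conj_mem_cj n (h.z_Z 1))) (conj_mem_cj n (h.z_Z om))
  have q1 := conj_mem' hn.2 hq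
  have n1 : n⁻¹ * (q * e) * n ∈ Y.N1 := h'.mem_N1'.2 (by
    have := cmz_cj (inv_mem hn.1) (y := Y.z om) (u := q * e) (by rwa [inv_inv])
    rwa [inv_inv] at this)
  have e4 : n⁻¹ * (q * e) * n = n⁻¹ * q * n * (n⁻¹ * e * n) := by group
  obtain ⟨r, hr, rM⟩ := ex_q h' ((mul_mem_cancel_left (h'.Q_N1 q1)).1 (e4 ▸ n1))
  refine Or.inl ⟨n⁻¹, inv_mem hn, ?_⟩
  rw [inv_inv]
  refine case1 h' ?_ (fun b => e1 ((conj_mem_iff' hn.2).1 b)) hr rM (act_faith fun x hx => ?_)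
  · have := conj_mem' (zN hn.1) e2
    convert this using 1; group
  have xQ : Y.p x ∈ Y.Q t := mem_sup_left (h.p_Q0 hx)
  have QA : ∀ u ∈ Y.Q t, u ∈ cmA Y.Z (Y.p x) := fun u hu => ⟨(h'.Q_N1 hu).2, h.zp_Z (h'.Q_cmz xQ hu).2⟩
  have b : n⁻¹ * (q * e) * n ∈ cmA Y.Z (Y.p x) := ⟨n1.2, by
    have := inv_mem (mem_cj.1 (s5 ⟨conj_mem hn.2 xQ, cj_C1 n _ ▸ conj_mem_cj n
      (C_le_C1 (h.z_Z om) (h.P_X (h.p_P x)))⟩).2)
    convert this using 1; group⟩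
  obtain ⟨l, hl⟩ := h.mem_Z.1 (mul_mem (QA r hr) ((mul_mem_cancel_left (QA _ q1)).1 (e4 ▸ b))).2
  exact h.ex.ac_eq (h.as_ρ rM) (c := 0) (c' := l) (by
    rw [h.ex.z0, mul_one, ← h.ex.cen, ← hl, inv_mul_cancel_right])
/-- involutions of `H / ⟨z⟩` outside `Q`. -/
theorem dich (he : e ∈ Y.H t) (e2 : e * e ∈ zpowers (Y.z 1)) (e1 : e ∉ Y.Q t) :
    (∃ m ∈ Y.H t, m * e * m⁻¹ ∈ Y.P) ∨
      (♯(Y.Q t ⊓ H7.SJ.cz e (zpowers (Y.z 1))) = 32 ∧ ∀ y ∈ Y.Q t,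
        e * y * e⁻¹ * y⁻¹ ∈ zpowers (Y.z 1) → ∃ u ∈ Y.Q t,
          y * (u * e * u⁻¹ * e⁻¹)⁻¹ ∈ zpowers (Y.z 1)) := by
  have h' := h.td
  obtain ⟨T, hT⟩ := Sylow_exists p2 Y.N1
  obtain ⟨g, hg, le⟩ := Sylow_Jsub p2 (h.sylH hT) (twoE h' e2).isPi (zpowers_le.2 he)
  rcases h.dich0 (hT.le (le (conj_mem_cj g (mem_zpowers e))))
    (by rw [conj_mul]; exact conj_mem (zN hg.1) e2) (fun a => e1 ((H24.conj_mem_iff hg.2).1 a)) with ⟨m, hm, a⟩ | a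
  · exact Or.inl ⟨m * g, mul_mem hm hg, by convert a using 1; group⟩
  obtain ⟨a1, a2⟩ := a.of_cj hg
  refine Or.inr ⟨a1 ▸ ?_, fun y hy b => a2 y hy (cmz_symm (h'.Q_C hy) ⟨he.1, b⟩)⟩
  congr 2
  ext y
  refine and_congr_right fun hy => (H7.SJ.mem_cz (zN he.1)).trans ⟨fun b => ⟨h'.Q_C hy, ?_⟩,
    fun b => ⟨zN b.1, ?_⟩⟩
  · have := conj_mem (zN he.1) b.2
    convert this using 1; group
  · have := conj_mem' (zN he.1) b.2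
    convert this using 1; group
/-- normal subgroups above `Q`. -/
theorem dich2 (hT : Syl 2 Y.N1 T) (hN : Y.N1 ≤ N[N]) (QN : Y.Q t ≤ N) :
    N ⊓ T ≤ Y.Q t ∨ Y.P ≤ N := by
  have h' := h.td
  have hZ := h'.Z_Q.trans QN
  rcases f_sub (J := Y.bar h.toMD N hZ) (fun σ hσ y hy => by
      obtain ⟨m, -, m1⟩ := h.lift σ hσ
      obtain ⟨d, e⟩ := m1.1 y
      exact (mul_mem_cancel_right (hZ (h.z_Z d))).1 (e ▸ conj_mem (hN (h'.M_N1 (h.as_M m1))) hy))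
    (fun e => w0_ne (AddSubgroup.mem_bot.1 (e ▸ QN (mem_sup_left (h.p_Q0 rat_w0))))) with e | ⟨c, c0, e⟩
  · refine Or.inr fun u hu => ?_
    obtain ⟨x, c, rfl⟩ := h.mem_P.1 hu
    exact mul_mem ((h.mem_bar hZ).1 (e ▸ AddSubgroup.mem_top x)) (hZ (h.z_Z c))
  obtain rfl := (by decide : ∀ c : F4, c ≠ 0 → Rat (c • w0) → c = 1) c c0
    ((e w0).1 (QN (mem_sup_left (h.p_Q0 rat_w0))))
  have k : ∀ x c, Y.p x * Y.z c ∈ N → Rat x := fun x c a =>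
    one_smul F4 x ▸ (e x).1 ((mul_mem_cancel_right (hZ (h.z_Z c))).1 a)
  have k' : ∀ u ∈ Y.P, u ∈ N → u ∈ Y.Q t := fun u hu a => by
    obtain ⟨x, c, rfl⟩ := h.mem_P.1 hu
    exact h'.pz_Q.2 (k x c a)
  refine Or.inl fun u hu => ?_
  obtain ⟨q, hq, hm⟩ := ex_q h' (hT.le hu.2)
  have k2 : ∀ y, Rat (y + act (ap h.toMD.ρ (q * u)) y) := fun y => by
    obtain ⟨d, a⟩ := cm0 h' (h.as_ρ hm) y 0
    have b := mul_mem (QN hq) hu.1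
    have := mul_mem b (conj_mem (hN (h'.M_N1 (h.P_M (h.pz_P y 0)))) (inv_mem b))
    exact k _ d (by rw [← a]; convert this using 1; group)
  rcases mem_Pt h' (hT.pi.piElt hu.2) hq hm (act_faith fun y _ => by
    have := Q1.rat_om (k2 y) (by rw [smul_add, ← act_smul]; exact k2 _)
    rw [← add_zero (act _ y), ← this, add_comm y, ← add_assoc, W.aa, zero_add]) with a | a
  · exact k' u a hu.1
  · exact (mul_mem_cancel_left h'.t_Q).1 (k' _ a (mul_mem (QN h'.t_Q) hu.1))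
theorem Rz (hc : c ≠ 0) (hm : m ∈ Y.H t) (e : m * Y.p (c • v0) * m⁻¹ * (Y.p (c • v0))⁻¹ ∈ Y.Q t) :
    m ∈ Y.N1 := by
  have h' := h.td
  obtain ⟨y, hy, b⟩ : ∃ y, Rat y ∧ ¬ F2 (bf y (c • v0)) := by
    by_contra a
    push Not at a
    exact (by decide : ∀ c : F4, c ≠ 0 → ¬ Rat (c • v0)) c hc (rat_of fun y hy => bf_comm y _ ▸ a y hy)
  have q1 : qf (fr (c • v0) + c • v0) = 1 := (by decide : ∀ c : F4, c ≠ 0 → qf (fr (c • v0) + c • v0) = 1) c hc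
  generalize c • v0 = x at e b q1
  refine N1_of h' hm.1 b ?_
  have e1 := h.pz_cm y x 0 0
  rw [h.ex.z0, mul_one, mul_one] at e1
  have uQ := conj_mem hm.2 (show _ ∈ Y.Q t from mem_sup_left (h.p_Q0 hy))
  have sq := H7.SJ.conj_sq (h.ex.zz (bf y x)) m
  have e2 : m * Y.z (bf y x) * m⁻¹ = m * Y.p y * m⁻¹ * (m * Y.p x * m⁻¹ * (Y.p x)⁻¹ * Y.p x) *
    (m * Y.p y * m⁻¹)⁻¹ * (m * Y.p x * m⁻¹ * (Y.p x)⁻¹ * Y.p x)⁻¹ := by rw [← e1]; group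
  generalize m * Y.z (bf y x) * m⁻¹ = s at sq e2
  generalize m * Y.p y * m⁻¹ = u at uQ e2
  generalize m * Y.p x * m⁻¹ * (Y.p x)⁻¹ = q at e e2
  have w : u * Y.p x * u⁻¹ * (Y.p x)⁻¹ ∈ Y.Q t := by
    have := mul_mem uQ (conj_mem (P_H h' (h.p_P x)).1.2 (inv_mem uQ))
    convert this using 1; group
  obtain ⟨d, hd⟩ := h.mem_Z.1 (h.zp_Z (mul_mem (h'.Q_cmz e uQ).2 (h'.Q_cmz w e).2))
  have e3 : s = Y.z d * (u * Y.p x * u⁻¹ * (Y.p x)⁻¹) := by rw [← hd, e2]; group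
  obtain ⟨y', c', -, rfl | rfl⟩ := h'.mem_Q.1 uQ
  · exact e3 ▸ mul_mem (h.z_Z d) (h.cm_Z (h.pz_P _ _) (h.p_P x))
  exfalso
  have a := h.pz_conj y' x c' 0
  obtain ⟨d', a'⟩ := h.ex.ac_pz h.tA x (bf y' x + 0)
  rw [h.ex.z0, mul_one] at a
  rw [act_one, ← a] at a'
  rw [show t * (Y.p y' * Y.z c') * Y.p x * (t * (Y.p y' * Y.z c'))⁻¹ * (Y.p x)⁻¹ =
    t * (Y.p y' * Y.z c' * Y.p x * (Y.p y' * Y.z c')⁻¹) * t⁻¹ * (Y.p x * Y.z 0)⁻¹ by rw [h.ex.z0]; group, a',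
    h.ex.inv, h.ex.mulz, ← mul_assoc, h.ex.cen, mul_assoc, ← h.ex.z_add] at e3
  rw [e3, h.pz_sq, q1] at sq
  exact h.z1 sq

end Md.HD

end H27.G4
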