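import Mathlib
import Cfsg.Agent.H27.GQ2
import Cfsg.Agent.H8.GI0

/-! `Q / ⟨z⟩` is strongly closed. -/

set_option autoImplicit false
set_option linter.unusedSectionVars false

namespace H27.G4

open H24 H26 H26.Gold Subgroup Equiv
open H9 (F4)
open H24.Sz (Ex Ac Hs Zs)
open H7.SJ (p2)

variable {G : Type*} [Group G] [Finite G] {Y : Md G} {g u e y m s t k : G} {T N B : Subgroup G}
  {x : W} {c : F4} {σ τ : Perm (Fin 8)}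

namespace GI

theorem cv1 (hp : u ∈ N[B]) : u⁻¹ * (e * u * e⁻¹) ∈ B ↔ e * u * e⁻¹ * u⁻¹ ∈ B := by
  rw [← conj_mem_iff hp, show u * (u⁻¹ * (e * u * e⁻¹)) * u⁻¹ = e * u * e⁻¹ * u⁻¹ by group]

theorem cv2 (hp : u ∈ N[B]) : u⁻¹ * (e * u * e⁻¹) ∈ B ↔ u * e * u⁻¹ * e⁻¹ ∈ B := by
  rw [cv1 hp, ← inv_mem_iff, show (e * u * e⁻¹ * u⁻¹)⁻¹ = u * e * u⁻¹ * e⁻¹ by group]

theorem XN : C{u} ≤ N[zpowers u] := norm_zpowers_of_cent le_rfl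

theorem csq (h : u * u = 1) (g : G) : g * u * g⁻¹ * (g * u * g⁻¹) = 1 := by
  rw [conj_mul, h, mul_one, mul_inv_cancel]

variable (h : Y.MD)
include h

theorem pz0 (x : W) : Y.p x = Y.p x * Y.z 0 := by rw [h.ex.z0, mul_one]

theorem f2_of (e : Y.z c ∈ zpowers (Y.z 1)) : F2 c := by
  obtain ⟨d, h1, h2⟩ := h.mem_zp.1 e
  rwa [h.ex.z_inj h2]

theorem zo : Y.z om ∉ zpowers (Y.z 1) := fun e => absurd (f2_of h e) (by decide)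

theorem zo' (hg : g ∈ C{Y.z 1}) : g * Y.z om * g⁻¹ ∉ zpowers (Y.z 1) :=
  mt (H24.conj_mem_iff (XN hg)).1 (zo h)

theorem NX : N[zpowers (Y.z 1)] ≤ C{Y.z 1} := fun _ hg => mem_C1_iff_conj.2
  ((H7.SJ.mem_zp (h.ex.zz 1) (conj_mem hg (mem_zpowers _))).resolve_left (mt conj_eq_one_iff'.1 h.z1))

theorem zcase (hu : u ∈ Y.Z) : u ∈ zpowers (Y.z 1) ∨ u * Y.z om ∈ zpowers (Y.z 1) := by
  obtain ⟨c, rfl⟩ := h.mem_Z.1 hu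
  exact ((by decide : ∀ c, F2 c ∨ F2 (c + om)) c).imp (fun k => h.mem_zp.2 ⟨c, k, rfl⟩)
    fun k => h.mem_zp.2 ⟨_, k, (h.ex.z_add _ _).symm⟩

theorem Z_le (h1 : Y.z 1 ∈ B) (h2 : Y.z om ∈ B) : Y.Z ≤ B := fun _ hu =>
  (zcase h hu).elim (fun k => zpowers_le.2 h1 k) fun k =>
    (mul_mem_cancel_right h2).1 (zpowers_le.2 h1 k)

theorem zin (h1 : Y.z 1 ∈ B) (h2 : Y.z om ∉ B) (hc : Y.z c ∈ B) : F2 c :=
  f2_of h ((zcase h (h.z_Z c)).resolve_right fun k =>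
    h2 ((mul_mem_cancel_left hc).1 (zpowers_le.2 h1 k)))

theorem toX (h1 : u ∈ C{Y.z 1}) (h2 : u ∈ C{Y.z om}) : u ∈ Y.X :=
  mem_C_iff_le_C1.2 (Z_le h (mem_C1_comm.1 h1) (mem_C1_comm.1 h2))

theorem Xz (c : F4) : Y.X ≤ C{Y.z c} := C_le_C1 (h.z_Z c)

theorem cen_iff {y : W} {d : F4} : Y.p y * Y.z d ∈ C{Y.p x * Y.z c} ↔ bf x y = 0 := by
  rw [mem_C1_comm, mem_C1_iff_conj, h.pz_conj]
  exact ⟨fun e => add_eq_right.1 (h.ex.eq e).2, fun e => by rw [e, zero_add]⟩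

theorem cardC (hx : x ≠ 0) : ♯(C{Y.p x * Y.z c} ⊓ Y.P) = 4096 := by
  rw [h.card_bar (mem_C_iff_le_C1.1 (h.P_X (h.pz_P x c))), show 4096 = 4 * 1024 from rfl,
    ← card_perp hx]
  exact congrArg _ (Nat.card_congr (subtypeEquivRight fun y => by rw [h.mem_bar, pz0 h y, cen_iff h]))

end GI

open GI H8.GI

namespace Md.HD

variable (h : Y.HD t k)
include h

theorem F0 (hg : g ∈ C{Y.z 1}) (hs : s ∈ Y.Q t) (hs' : s ∈ H24.cj g (Y.Q t)) (s2 : s * s = 1)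
    (s1 : s ∉ zpowers (Y.z 1)) : g ∈ Y.H t := by
  obtain ⟨s, hs'', rfl⟩ := mem_cj'.1 hs'
  obtain ⟨m, hm, e⟩ := h.trans hs s2 s1
  obtain ⟨n, hn, rfl⟩ := h.trans hs'' (conj_eq_one_iff'.1 (conj_mul.symm.trans s2))
    (mt (conj_mem (XN hg)) s1)
  have hm := (mem_inf.1 hm).1
  have hn := (mem_inf.1 hn).1
  have := h.td.N1_H (h.td.mem_N1'.2 ⟨mul_mem (mul_mem (inv_mem (mem_inf.1 hm).1) hg) (mem_inf.1 hn).1, by
    rw [show m⁻¹ * g * n * Y.z om * (m⁻¹ * g * n)⁻¹ = m⁻¹ * (g * (n * Y.z om * n⁻¹) * g⁻¹) * m by group,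
      ← e]
    simp [mul_assoc]⟩)
  exact (mul_mem_cancel_left (inv_mem hm)).1 ((mul_mem_cancel_right hn).1 this)

theorem L5 (hg : g ∈ C{Y.z 1}) (e : g * Y.z om * g⁻¹ ∈ Y.P) : g ∈ Y.H t := by
  have m := h.toMD
  have h' := h.cj g
  have m' := h'.toMD
  have z1 : (Y.cj g).z 1 = Y.z 1 := mem_C1_iff_conj.1 hg
  obtain ⟨x, c, ex⟩ := m.mem_P.1 e
  by_cases hr : Rat x
  · exact h.F0 hg (ex ▸ h.td.pz_Q.2 hr) (conj_mem_cj g (h.td.Z_Q (m.z_Z om))) (csq (m.ex.zz _) g)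
      (zo' m hg)
  exfalso
  have x0 : x ≠ 0 := fun k => hr (k ▸ rat_zero)
  have zZ : Y.z 1 ∈ (Y.cj g).Z := z1 ▸ m'.z_Z 1
  change (Y.cj g).z om ∈ _ at e
  change (Y.cj g).z om = _ at ex
  generalize Y.cj g = Y' at *
  by_cases zP : Y.z om ∈ Y'.P
  · obtain ⟨x', c', ex'⟩ := m'.mem_P.1 zP
    have zp : zpowers (Y'.z 1) ≤ Y.Z := zpowers_le.2 (z1 ▸ m.z_Z 1)
    have nZ : Y.z om ∉ Y'.Z := fun k => (zcase m' k).elim (z1 ▸ zo m) fun k =>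
      x0 (m.ex.eq_zero (ex ▸ (mul_mem_cancel_left (m.z_Z om)).1 (zp k)))
    have c1 := cardC m' (x := x') (c := c') fun k => nZ (by
      rw [ex', k, m'.ex.p0, one_mul]; exact m'.z_Z _)
    rw [← ex'] at c1
    have l1 : C{Y.z om} ⊓ Y'.P ≤ Y.M := fun y hy =>
      h.td.XM ▸ toX m (z1 ▸ Xz m' 1 (m'.P_X hy.2)) hy.1
    have c2 := m.card_img2 l1 (m'.twoP.of_le inf_le_right)
    have ea : EA (img m.ρ (C{Y.z om} ⊓ Y'.P)) := ea_of_sq fun σ hσ => by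
      obtain ⟨y, hy, rfl⟩ := (mem_img_of_le l1).1 hσ
      rw [← ap_mul _ (l1 hy) (l1 hy), m.ρ_one (mul_mem (l1 hy) (l1 hy))]
      exact mem_sup_left (Z_le m' (z1 ▸ m.Z_P (m.z_Z 1)) e (m'.sq_Z hy.2))
    have c3 := Nat.le_of_dvd (by decide) (f_ea (m.img_A8 _) ea)
    have ZJ : Y.Z ≤ C{Y.z om} ⊓ Y'.P :=
      le_inf (m.Z_P.trans (m.P_X.trans (Xz m om))) (Z_le m (m'.Z_P zZ) zP)
    have c4 := m.card_bar ZJ
    have bp : ∀ a ∈ Y.bar m _ ZJ, Y.p a * Y.z 0 ∈ Y'.P := fun a ha => pz0 m a ▸ (mem_inf.1 ha).2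
    have c5 := f_ti (J := Y.bar m _ ZJ) fun a ha b hb =>
      zin m zZ nZ (m.pz_cm a b 0 0 ▸ m'.cm_Z (bp a ha) (bp b hb))
    have c6 := f_5a (J := Y.bar m _ ZJ) (m.img_A8 _) ea (by rw [c4, c1] at c2; nlinarith) x0 hr
      (fun σ hσ => by
        obtain ⟨y, hy, rfl⟩ := (mem_img_of_le l1).1 hσ
        obtain ⟨d, e⟩ := m.as_pz (m.as_ρ (l1 hy)) x c
        rw [← ex, m'.mem_X.1 (m'.P_X hy.2), ex] at e
        exact (m.ex.eq e).1.symm)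
      (fun a ha => zin m zZ nZ (m.pz_sq a 0 ▸ m'.sq_Z (bp a ha)))
      (fun a ha => (cen_iff m).1 (ex ▸ Xz m' om (m'.P_X (bp a ha)))) fun σ hσ a ha => by
        obtain ⟨y, hy, rfl⟩ := (mem_img_of_le l1).1 hσ
        obtain ⟨d, e⟩ := m.as_pz (m.as_ρ (l1 hy)) a 0
        have := zcase m' (m'.cm_Z hy.2 (bp a ha))
        rw [e, m.ex.inv, m.ex.mulz, ex, m.ex.mulz] at this
        exact this.imp (fun k => m.ex.eq_zero (zp k)) fun k =>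
          add_eq_zero_iff_eq_neg.1 (m.ex.eq_zero (zp k))
    rw [c4, c1] at c2
    nlinarith
  have c1 := cardC m (c := c) x0
  have l1 : C{Y.p x * Y.z c} ⊓ Y.P ≤ Y'.M := fun y hy =>
    h'.td.XM ▸ toX m' (z1 ▸ Xz m 1 (m.P_X hy.2)) (ex ▸ hy.1)
  have t1 : TwoG (C{Y.p x * Y.z c} ⊓ Y.P) := m.twoP.of_le inf_le_right
  have c2 := m'.card_img2 l1 t1
  have c3 := Nat.le_of_dvd (by decide) (f_two (m'.img_A8 _) (t1.img m'.ρ))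
  have c4 : ♯(C{Y.p x * Y.z c} ⊓ Y.P ⊓ Y'.P) ≤ 16 := by
    refine (Set.ncard_le_ncard (t := (fun q : F4 × F4 => Y.p (q.1 • x) * Y.z q.2) '' Set.univ)
      fun j hj => ?_).trans ((Set.ncard_image_le).trans (by rw [Set.ncard_univ, Nat.card_eq_fintype_card]; decide))
    obtain ⟨u, d, rfl⟩ := m.mem_P.1 hj.1.2
    have k : ∀ y, bf x y = 0 → F2 (bf y u) := fun y hy => zin m (m'.Z_P zZ) zP (m.pz_cm y u 0 d ▸
      mul_mem (conj_mem (l1 ⟨(cen_iff m).2 hy, m.pz_P _ _⟩).2 hj.2) (inv_mem (mem_inf.1 hj).2))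
    obtain ⟨a, rfl⟩ := f_pp (u := u) x0 fun y hy => by
      have k1 := k y hy
      have k2 := k (om • y) (by rw [bf_smul, hy, mul_zero])
      rw [smul_bf] at k2
      rw [bf_comm]
      generalize bf y u = a at k1 k2
      revert a; decide
    exact ⟨(a, d), trivial, rfl⟩
  rw [c1] at c2
  nlinarith

theorem gi_xq : Xq (Y.z 1) (Y.Q t) := by
  have m := h.toMD
  refine ⟨m.ex.zz 1, m.z1, h.td.Z_Q (m.z_Z 1), h.td.Q_N1.trans inf_le_left,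
    fun y hy => pow_two y ▸ h.td.xs.pow y hy, h.td.card_Q, fun B h1 h2 => h.td.card_C h1 h2,
    fun s hs s2 s1 u hu => ?_⟩
  obtain ⟨n, hn, rfl⟩ := h.trans hs s2 s1
  have hn := (mem_inf.1 hn).1
  have n1 := (mem_inf.1 hn).1
  have := h.td.N1_H (h.td.mem_N1'.2 ⟨mul_mem (mul_mem (inv_mem n1) (mem_inf.1 hu).1) n1, by
    rw [show n⁻¹ * u * n * Y.z om * (n⁻¹ * u * n)⁻¹ = n⁻¹ * (u * (n * Y.z om * n⁻¹) * u⁻¹) * n by group,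
      mem_C1_iff_conj.1 hu.2]
    simp [mul_assoc]⟩)
  exact ((mul_mem_cancel_left (inv_mem hn)).1 ((mul_mem_cancel_right hn).1 this)).2

theorem gi_iv (hg : g ∈ C{Y.z 1}) (n : g ∉ Y.H t) (hs : s ∈ H24.cj g (Y.Q t)) (s2 : s * s = 1)
    (s1 : s ∉ zpowers (Y.z 1)) (hn : s ∈ N[Y.Q t]) : ∃ B, Iv (Y.z 1) (Y.Q t) s B := by
  have Qz := h.gi_xq.Qz
  have sz : s ∈ C{Y.z 1} := cj_le_of_mem Qz hg hs
  rcases h.dich (mem_inf.2 ⟨sz, hn⟩) (s2 ▸ one_mem _) fun k => n (h.F0 hg k hs s2 s1) with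
    ⟨m, hm, e⟩ | ⟨c, e⟩
  · obtain ⟨s, hs', rfl⟩ := mem_cj'.1 hs
    obtain ⟨r, hr, rfl⟩ := h.trans hs' (conj_eq_one_iff'.1 (conj_mul.symm.trans s2))
      (mt (conj_mem (XN hg)) s1)
    have hr := (mem_inf.1 hr).1
    exact absurd ((mul_mem_cancel_left hm).1 ((mul_mem_cancel_right hr).1
      (h.L5 (mul_mem (mul_mem (mem_inf.1 hm).1 hg) (mem_inf.1 hr).1) (by convert e using 1; group)))) n
  refine ⟨_, inf_le_left, c, fun y hy => ?_, fun y hy k =>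
    ⟨hy, (H7.SJ.mem_cz (XN sz)).2 ⟨XN (Qz hy), (cv2 (XN sz)).2 k⟩⟩⟩
  obtain ⟨u, hu, k⟩ := e y hy.1 ((cv2 (XN sz)).1 ((H7.SJ.mem_cz (XN sz)).1 hy.2).2)
  have k1 := mem_C1_iff_conj.1 (C1_le_C1_of_mem_zpowers k sz)
  have k2 := mem_C1_iff_conj.1 (C1_le_C1_of_mem_zpowers k (Qz hy.1))
  have k3 : (y * (u * s * u⁻¹ * s⁻¹)⁻¹)⁻¹ = y * (u * s * u⁻¹ * s⁻¹)⁻¹ := by
    rcases H7.SJ.mem_zp (h.ex.zz 1) k with a | a <;> rw [a]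
    exacts [inv_one, h.ex.zi 1]
  calc _ = s * (y * (u * s * u⁻¹ * s⁻¹)⁻¹) * s⁻¹ * (s * (s * u * s⁻¹ * u⁻¹) * s⁻¹)⁻¹ := by group
    _ = y⁻¹ * (y * (y * (u * s * u⁻¹ * s⁻¹)⁻¹) * y⁻¹) * (y * (u * s * u⁻¹ * s⁻¹)⁻¹) := by
      rw [k1, inv_cm s2]; group
    _ = _ := by rw [k2]; nth_rw 1 [← k3]; group

theorem fixH (hg : g ∈ C{Y.z 1}) (e : g * Y.z om * g⁻¹ ∈ Y.H t) : g ∈ Y.H t := by
  by_contra n
  have h' := h.cj g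
  have z1 : (Y.cj g).z 1 = Y.z 1 := mem_C1_iff_conj.1 hg
  refine In.no (Q := Y.Q t) (R := H24.cj g (Y.Q t)) ⟨⟨h.gi_xq, z1 ▸ cj_Q (Y := Y) t ▸ h'.gi_xq,
    fun s a b c => by_contra fun k => n (h.F0 hg a b c k), fun s a b c d => ?_,
    fun s => h.gi_iv hg n⟩, conj_mem_cj g (h.td.Z_Q (h.z_Z om)), csq (h.ex.zz _) g, zo' h.toMD hg, e.2⟩
  have := h'.gi_iv (g := g⁻¹) (s := s)
  rw [z1, cj_H, cj_Q, ← cj_mul, inv_mul_cancel, cj_one, mem_cj, inv_mul_cancel_right, inv_mem_iff] at this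
  exact this hg (mt inv_mem_iff.1 n) a b c d

theorem sylC (hT : Syl 2 Y.N1 T) : Syl 2 C{Y.z 1} T :=
  (h.sylH hT).of_norm_le p2 inf_le_left fun _ hg => h.fixH hg.1 ((h.sylH hT).le (conj_mem hg.2
    (hT.nml_le h.eaZ.two ⟨h.Z_P.trans (h.P_M.trans h.td.M_N1), inf_le_right⟩ (h.z_Z om))))

theorem scQ (hT : Syl 2 Y.N1 T) (hy : y ∈ Y.Q t) (hg : g ∈ C{Y.z 1}) (e : g * y * g⁻¹ ∈ T) :
    g * y * g⁻¹ ∈ Y.Q t := by
  have m := h.toMD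
  obtain ⟨a1, a2⟩ := h.td.mem_N1'.1 (hT.le e)
  have n := XN a1
  have z' := Xz m 1 (m.P_X (m.Z_P (m.z_Z om)))
  have m1 : Y.z om ∈ H7.SJ.cz (g * y * g⁻¹) (zpowers (Y.z 1)) :=
    (H7.SJ.mem_cz n).2 ⟨XN z', (cv2 n).2 a2⟩
  have m2 : g * Y.z om * g⁻¹ ∈ H7.SJ.cz (g * y * g⁻¹) (zpowers (Y.z 1)) :=
    (H7.SJ.mem_cz n).2 ⟨XN (mul_mem (mul_mem hg z') (inv_mem hg)), (cv2 n).2 (by
      rw [show g * y * g⁻¹ * (g * Y.z om * g⁻¹) * (g * y * g⁻¹)⁻¹ * (g * Y.z om * g⁻¹)⁻¹ =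
        g * (y * Y.z om * y⁻¹ * (Y.z om)⁻¹) * g⁻¹ by group]
      exact conj_mem (XN hg) (h.td.mem_N1'.1 (h.td.Q_N1 hy)).2)⟩
  have CX : H7.SJ.cz (g * y * g⁻¹) (zpowers (Y.z 1)) ≤ C{Y.z 1} := fun c hc =>
    NX m ((H7.SJ.mem_cz n).1 hc).1
  obtain ⟨S, hS, h2⟩ := Sylow_superset p2 (H7.SJ.twoG_zp (m.ex.zz om)) (zpowers_le.2 m1)
  obtain ⟨c, hc, h3⟩ := Sylow_Jsub p2 hS (H7.SJ.twoG_zp (csq (m.ex.zz om) g)) (zpowers_le.2 m2)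
  obtain ⟨r, hr, h4⟩ := Sylow_Jsub p2 (h.sylC hT) hS.pi (hS.le.trans CX)
  have TH := (h.sylH hT).le
  have k1 := h.fixH hr (TH (h4 (conj_mem_cj r (h2 (mem_zpowers _)))))
  have k2 := h.fixH (mul_mem (mul_mem hr (CX hc)) hg) (TH (h4 (by
    rw [show r * c * g * Y.z om * (r * c * g)⁻¹ = r * (c * (g * Y.z om * g⁻¹) * c⁻¹) * r⁻¹ by group]
    exact conj_mem_cj r (h3 (conj_mem_cj c (mem_zpowers _))))))
  have k3 := conj_mem (mem_inf.1 (mul_mem (inv_mem k1) k2)).2 hy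
  rw [show r⁻¹ * (r * c * g) * y * (r⁻¹ * (r * c * g))⁻¹ =
    g * y * g⁻¹ * ((g * y * g⁻¹)⁻¹ * (c * (g * y * g⁻¹) * c⁻¹)) by group] at k3
  exact (mul_mem_cancel_right (zpowers_le.2 h.gi_xq.zQ ((H7.SJ.mem_cz n).1 hc).2)).1 k3

end Md.HD

end H27.G4
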