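import Mathlib
import Cfsg.Agent.H27.GI
import Cfsg.Agent.H8.GX0

/-! `C(z) = H`. -/

set_option autoImplicit false
set_option linter.unusedSectionVars false

namespace H27.G4

open H24 H26 H26.Gold Subgroup Equiv
open H9 (F4)
open H24.Sz (Ex Ac Hs Zs)
open H7.SJ (p2)

variable {G : Type*} [Group G] [Finite G] {Y : Md G} {g u e y m s t k : G} {T N B : Subgroup G}
  {x : W} {c : F4} {σ τ : Perm (Fin 8)}

theorem Md.HD.gx_OX (h : Y.HD t k) : Od[C{Y.z 1}] ≤ C[Y.Q t] := by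
  have m := h.toMD
  have x := h.gi_xq
  have b1 : Y.p w0 * Y.z 0 ∉ Y.Z := fun e => w0_ne (m.ex.eq_zero e)
  have bQ : Y.p w0 * Y.z 0 ∈ Y.Q t := h.td.pz_Q.2 rat_w0
  have zQ := h.td.Z_Q (m.z_Z om)
  have zp := zpowers_le.2 (m.z_Z 1)
  obtain ⟨A, h1, h2, h3⟩ := H8.GX.four (m.ex.zz om) ((m.pz_sq w0 0).trans (qf_w0 ▸ m.ex.z0))
    (m.ex.cenH (m.pz_P _ _) om) (fun e => GI.zo m (e ▸ one_mem _)) (fun e => b1 (e ▸ one_mem _))
    fun e => b1 (e ▸ m.z_Z om)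
  have AQ : A ≤ Y.Q t := fun a ha => by
    rcases h3 a ha with rfl | rfl | rfl | rfl
    exacts [one_mem _, zQ, bQ, mul_mem zQ bQ]
  have n := x.Qz.trans (pcore_nml {2}ᶜ C{Y.z 1}).norm
  refine cents_of_inf_eq_bot (H7.SJ.gen1 h1 h2 (Od_odd _) (AQ.trans n) fun a ha a1 =>
    (inf_le_inf_right _ (pcore_nml _ _).le).trans (x.cen a (AQ ha) (h1.sq ha) fun e => ?_)) n
    ((Od_odd _).inf_eq_bot' h.td.twoQ)
  rcases h3 a ha with rfl | rfl | rfl | rfl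
  exacts [a1 rfl, GI.zo m e, b1 (zp e), b1 ((mul_mem_cancel_left (m.z_Z om)).1 (zp e))]

theorem Md.HD.XH (h : Y.HD t k) : C{Y.z 1} ≤ N[Y.Q t] := by
  have m := h.toMD
  have x := h.gi_xq
  obtain ⟨T, hT⟩ := Sylow_exists p2 Y.N1
  have YX : N[Y.Q t] ≤ C{Y.z 1} := fun g hg => mem_C1_iff_conj.2
    ((H7.SJ.mem_zp x.z2 (h.td.xs.center_le _ (conj_mem hg x.zQ) fun y hy => (mem_C.1
      (conj_mem (N_le_NC _ hg) (mem_C_iff_le_C1.2 x.Qz)) y hy).symm)).resolve_left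
      (mt conj_eq_one_iff'.1 x.z1))
  have PT : Y.P ≤ T := hT.nml_le m.twoP ⟨m.P_M.trans h.td.M_N1, h.td.N1_NP⟩
  let f : Multiplicative F4 →* G := MonoidHom.mk' (fun c => Y.p (c.toAdd • v0)) fun a b => m.pv _ _
  have fQ : ∀ c, f c ∈ Y.Q t → c = 1 := fun c e => by_contra fun k =>
    (vt_q (vt_smul vt_v0 k)).2.2 (h.td.pz_Q.1 (mul_mem e (h.td.Z_Q (m.z_Z 0))))
  refine H8.GX.En.XY (z' := Y.z om) (t := Y.v) (T := T) (P := Y.P) (R := f.range)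
    ⟨h.sylC hT, x.z1, x.z2, x.zQ, h.td.Z_Q (m.z_Z om),
    (h.sylH hT).nml_le h.td.twoQ ⟨h.td.Q_N1.trans h.td.N1_H, inf_le_right⟩,
    (h.sylH hT).le.trans inf_le_right, fun e => GI.zo m (e (h.td.Z_Q (m.z_Z om))), x.sq, YX,
    by rw [m.v_eq, m.pz_sq, qf_v0, m.ex.z0], m.p_P _,
    fun e => (vt_q vt_v0).2.2 (h.td.pz_Q.1 (m.v_eq ▸ e)), PT, h.gx_OX,
    fun e he k => GI.zcase m (h.td.cP (hT.le he) (hT.pi.piElt he) k),
    fun N hN z1 z2 => h.Q_le fun s hs s2 => ?_,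
    fun N hN QN => h.dich2 hT ((h.td.N1_H.trans inf_le_right).trans hN) QN, ea_of_sq ?_, ?_, ?_, ?_, ?_,
    fun a ha g hg e => h.scQ hT ha hg e⟩
  · by_cases s1 : s ∈ zpowers (Y.z 1)
    · exact zpowers_le.2 z1 s1
    obtain ⟨r, hr, rfl⟩ := h.trans hs s2 s1
    exact conj_mem (hN hr.1.2) z2
  · rintro _ ⟨c, rfl⟩
    rw [← map_mul, show c * c = 1 by revert c; decide, map_one]
  · rw [← Nat.card_congr (f.ofInjective ((injective_iff_map_eq_one f).2 fun c e =>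
      fQ c (e ▸ one_mem _))).toEquiv, Nat.card_eq_fintype_card]
    decide
  · rintro _ ⟨c, rfl⟩; exact PT (m.p_P _)
  · refine eq_bot_iff.2 ?_
    rintro _ ⟨⟨c, rfl⟩, e⟩
    rw [fQ c e, map_one]; exact one_mem _
  · rintro _ ⟨c, rfl⟩ c1 r hr e
    exact (h.td.mem_N1'.1 (h.Rz (c := c.toAdd) (fun k => c1 (by
      rw [show c = 1 from k, map_one])) ⟨YX hr, hr⟩ e)).2

end H27.G4
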