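import Mathlib
import Cfsg.Agent.H27.GC
import Cfsg.Agent.H27.GE
import Cfsg.Agent.H27.GQ1
import Cfsg.Agent.H27.GX
import Cfsg.Agent.H15.CoO
import Cfsg.Agent.H24.GwZ

/-! A standard subgroup of type `G₂(4)` leads to `Co₁`. -/

set_option autoImplicit false
set_option linter.unusedSectionVars false

namespace H27.G4

open H24 H26 H26.Gold Subgroup
open H9 (F4)

variable {G : Type*} [Group G] [Finite G]

theorem Md.MD.co1 {Y : Md G} (h : Y.MD) (hO : Cfsg.oddCore G = ⊥) : Cfsg.Spor.IsoCo1 G := by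
  obtain ⟨t, k, H⟩ := h.exists_HD h.CZ
  obtain ⟨s, h1, h2⟩ := h.scal
  have e : C{Y.z 1} = Y.H t := (inf_eq_left.2 H.XH).symm
  have e2 : s * Y.z 1 * s⁻¹ = Y.z om := (h2.2 1).trans (congrArg Y.z (mul_one om))
  exact H15.Co.recogO hO H.td.xs H.td.card_Q H.XH (oddG_iff.1 h.odd) (e.le.trans H.H_ND) H.td.Q_D
    H.td.CQ (e ▸ H.card_H) (norm_of_cent le_rfl h1) (e2 ▸ H.td.Z_Q (h.z_Z om))
    fun e3 => absurd (h.ex.z_inj (e2.symm.trans e3)) (by decide)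

theorem co1 {X : H24.G4.Dx G} {γ : F4} (h : X.S3 γ) (h1 : X.Λ = ⊤) (hO : Cfsg.oddCore G = ⊥) :
    Cfsg.Spor.IsoCo1 G :=
  (C.S4.MD ⟨h, fun x => h1 ▸ AddSubgroup.mem_top x⟩).co1 hO

end H27.G4
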