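import Mathlib
import Cfsg.Agent.H27.HX0

/-!
# Hexagon groups: relations, change of coordinates
-/

set_option autoImplicit false
set_option linter.unusedVariables false
set_option linter.unusedSectionVars false
set_option linter.unusedSimpArgs false

namespace H27.HX

open Cfsg H24 H26 H26.Gold H26.LM Subgroup
open scoped commutatorElement

universe u

/-- the untwisted case -/
def Tw.id (K : Type) [Field K] : Tw K := ⟨RingHom.id K, fun _ => rfl⟩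

/-- trace and norm as elements of the fixed field -/
def Tw.TF {K : Type} [Field K] (τ : Tw K) (x : K) : τ.F := ⟨τ.T x, τ.σ_T x⟩
def Tw.NF {K : Type} [Field K] (τ : Tw K) (x : K) : τ.F := ⟨τ.N x, τ.σ_N x⟩

variable {G : Type u} [Group G] {K : Type} [Field K] [CharP K 2] {τ : Tw K}

/-- the commutator relations -/
structure Rel (τ : Tw K) (y1 y3 y5 : K → G) (y2 y4 y6 : τ.F → G) : Prop where
  a1 : ∀ a b, y1 (a + b) = y1 a * y1 b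
  a2 : ∀ a b, y2 (a + b) = y2 a * y2 b
  a3 : ∀ a b, y3 (a + b) = y3 a * y3 b
  a4 : ∀ a b, y4 (a + b) = y4 a * y4 b
  a5 : ∀ a b, y5 (a + b) = y5 a * y5 b
  a6 : ∀ a b, y6 (a + b) = y6 a * y6 b
  c12 : ∀ a b, Commute (y1 a) (y2 b)
  c14 : ∀ a b, Commute (y1 a) (y4 b)
  c23 : ∀ a b, Commute (y2 a) (y3 b)
  c24 : ∀ a b, Commute (y2 a) (y4 b)
  c25 : ∀ a b, Commute (y2 a) (y5 b)
  c34 : ∀ a b, Commute (y3 a) (y4 b)
  c36 : ∀ a b, Commute (y3 a) (y6 b)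
  c45 : ∀ a b, Commute (y4 a) (y5 b)
  c46 : ∀ a b, Commute (y4 a) (y6 b)
  c56 : ∀ a b, Commute (y5 a) (y6 b)
  c13 : ∀ a c, ⁅y1 a, y3 c⁆ = y2 (τ.TF (a * c))
  c35 : ∀ c b, ⁅y3 c, y5 b⁆ = y4 (τ.TF (b * c))
  c26 : ∀ s t, ⁅y2 s, y6 t⁆ = y4 (s * t)
  c15 : ∀ a b, ⁅y1 a, y5 b⁆ =
    y2 (τ.TF (τ.sh a * b)) * y3 (τ.cr a b) * y4 (τ.TF (a * τ.sh b))
  c16 : ∀ a t, ⁅y1 a, y6 t⁆ =
    y2 (t * τ.NF a) * y3 (t * τ.sh a) * y4 (t ^ 2 * τ.NF a) * y5 (t * a)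

/-- `U₂ U₄ U₅` -/
def U.Ws (τ : Tw K) : Subgroup (U τ) where
  carrier := {x | x.a = 0 ∧ x.c = 0 ∧ x.t = 0}
  one_mem' := ⟨rfl, rfl, rfl⟩
  mul_mem' := fun {x y} hx hy => by
    obtain ⟨h1, h2, h3⟩ := hx; obtain ⟨k1, k2, k3⟩ := hy
    simp [U.mul_a, U.mul_c, U.mul_t, Tw.cr, *]
  inv_mem' := fun {x} hx => by
    obtain ⟨h1, h2, h3⟩ := hx
    simp [U.inv_a, U.inv_c, U.inv_t, Tw.cr, *]

namespace Md
variable (M : Md G τ)

def Ws : Subgroup G := (U.Ws τ).map M.ι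
theorem mem_Ws {g : G} : g ∈ M.Ws ↔ ∃ x : U τ, (x.a = 0 ∧ x.c = 0 ∧ x.t = 0) ∧ M.ι x = g := Iff.rfl
theorem ι_Ws {x : U τ} : M.ι x ∈ M.Ws ↔ x.a = 0 ∧ x.c = 0 ∧ x.t = 0 := mem_map_iff_mem M.inj

/-- change of coordinates by an automorphism of `U` -/
def aut (φ : U τ ≃* U τ) : Md G τ where
  ι := M.ι.comp φ.toMonoidHom
  inj := M.inj.comp φ.injective
  syl := by
    have e : (M.ι.comp φ.toMonoidHom).range = M.ι.range := by
      ext g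
      exact ⟨fun ⟨x, hx⟩ => ⟨φ x, hx⟩, fun ⟨x, hx⟩ => ⟨φ.symm x, by simpa using hx⟩⟩
    rw [e]; exact M.syl

theorem aut_ι (φ : U τ ≃* U τ) (x : U τ) : (M.aut φ).ι x = M.ι (φ x) := rfl

/-- change of coordinates by an inner automorphism -/
def conj (w : U τ) : Md G τ := M.aut (MulAut.conj w)

theorem conj_ι (w x : U τ) : (M.conj w).ι x = M.ι (w * x * w⁻¹) := rfl

end Md
end H27.HX
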