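import Mathlib
import Cfsg.Prelude.Def_LieTwisted
import Cfsg.Prelude.Def_CaseTheorems
import Cfsg.Agent.H27.HX1

set_option autoImplicit false
set_option linter.unusedVariables false
set_option linter.unusedSectionVars false
set_option linter.unusedSimpArgs false

namespace H27.HX

open Cfsg H24 H26 H26.Gold H26.LM Subgroup
open scoped commutatorElement

universe u v

variable {G : Type u} [Group G] [Finite G] {K : Type} [Field K] [Finite K] [CharP K 2] {τ : Tw K}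
  {M M' M'' : Md G τ} {A : Ap G} {H S E M0 R X X' Y L D N0 P J : Subgroup G} {𝒟 : Set G}
  {g h j k l n s t x y z : G} {a a' b c c0 e f : K} {u v w : U τ}

/-! ### HA -/

namespace HAx
theorem sh_one (τ : Tw K) (h : τ.sh a = 1) : a = 1 := by
  have h1 := congrArg τ.σ h
  have h2 := congrArg τ.σ h1
  simp only [Tw.sh, map_mul, map_one, τ.three] at h h1 h2
  have : (a + 1) ^ 2 = 0 := by grind
  have := pow_eq_zero_iff (two_ne_zero) |>.1 this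
  grind
theorem triv (τ : Tw K) (h : ∀ b, ∃ f, τ.σ f = f ∧ b = f * a) (x : K) : τ.σ x = x := by
  obtain ⟨f, hf, e⟩ := h 1
  obtain ⟨g, hg, e'⟩ := h x
  have h1 := congrArg τ.σ e
  rw [map_one, map_mul, hf] at h1
  have ha : τ.σ a = a := by grind
  rw [e', map_mul, hg, ha]
theorem cramer (τ : Tw K) (b1 b2 b3 y : K) : τ.T (τ.cr b1 b2 * b3) * y =
    τ.T (y * τ.cr b2 b3) * b1 + τ.T (y * τ.cr b3 b1) * b2 + τ.T (y * τ.cr b1 b2) * b3 := by
  simp only [Tw.T, Tw.cr, map_add, map_mul, τ.three]; grind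
theorem cramer2 (τ : Tw K) (b1 b2 b3 y : K) : τ.T (τ.cr b1 b2 * b3) * y =
    τ.T (b1 * y) * τ.cr b2 b3 + τ.T (b2 * y) * τ.cr b3 b1 + τ.T (b3 * y) * τ.cr b1 b2 := by
  simp only [Tw.T, Tw.cr, map_add, map_mul, τ.three]; grind
theorem disc (τ : Tw K) {x : K} (hx : τ.σ x ≠ x) : τ.T (τ.cr 1 x * (x * x)) ≠ 0 := by
  have e : τ.T (τ.cr 1 x * (x * x)) = τ.N (τ.σ x + x) := by
    simp only [Tw.T, Tw.N, Tw.cr, map_add, map_mul, map_one, τ.three]; grind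
  rw [e]
  have : τ.σ x + x ≠ 0 := by grind
  simp only [Tw.N]
  exact mul_ne_zero (mul_ne_zero this (by simpa only [ne_eq, map_eq_zero] using this))
    (by simpa only [ne_eq, map_eq_zero] using this)
theorem indep (τ : Tw K) {b1 b2 b3 f1 f2 f3 : K} (h : τ.T (τ.cr b1 b2 * b3) ≠ 0) (h1 : τ.σ f1 = f1)
    (h2 : τ.σ f2 = f2) (h3 : τ.σ f3 = f3) (e : f1 * b1 + f2 * b2 + f3 * b3 = 0) :
    f1 = 0 ∧ f2 = 0 ∧ f3 = 0 := by
  have e1 := congrArg τ.σ e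
  have e2 := congrArg τ.σ e1
  simp only [Tw.T, Tw.cr, map_add, map_mul, map_zero, τ.three, h1, h2, h3] at h e1 e2
  refine ⟨mul_left_cancel₀ h ?_, mul_left_cancel₀ h ?_, mul_left_cancel₀ h ?_⟩ <;> grind
end HAx

theorem Tw.T_add (τ : Tw K) (a b : K) : τ.T (a + b) = τ.T a + τ.T b := by
  simp only [Tw.T, Tw.N, Tw.sh, Tw.cr, map_add, map_mul, map_zero, map_one, τ.three]; ring
theorem Tw.T_zero (τ : Tw K) : τ.T 0 = 0 := by simp [Tw.T]
theorem Tw.T_smul (hf : τ.σ f = f) (a : K) : τ.T (f * a) = f * τ.T a := by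
  simp only [Tw.T, map_mul, hf]; ring
theorem Tw.T_fix (hf : τ.σ f = f) : τ.T f = f := by
  simp only [Tw.T, hf]; grind
theorem Tw.N_fix (hf : τ.σ f = f) : τ.N f = f ^ 3 := by
  simp only [Tw.N, hf]; ring
theorem Tw.sh_fix (hf : τ.σ f = f) : τ.sh f = f ^ 2 := by
  simp only [Tw.sh, hf]; ring
theorem Tw.N_mul (τ : Tw K) (a b : K) : τ.N (a * b) = τ.N a * τ.N b := by
  simp only [Tw.N, map_mul]; ring
theorem Tw.N_ne (τ : Tw K) (h : a ≠ 0) : τ.N a ≠ 0 := by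
  simp [Tw.N, h]
theorem Tw.sh_mul (τ : Tw K) (a b : K) : τ.sh (a * b) = τ.sh a * τ.sh b := by
  simp only [Tw.sh, map_mul]; ring
theorem Tw.sh_ne (τ : Tw K) (h : a ≠ 0) : τ.sh a ≠ 0 := by
  simp [Tw.sh, h]
theorem Tw.mul_sh (τ : Tw K) (a : K) : a * τ.sh a = τ.N a := by
  simp only [Tw.sh, Tw.N]; ring
theorem Tw.sh_surj (τ : Tw K) (c : K) : ∃ a, τ.sh a = c := by
  have inj : Function.Injective τ.sh := fun a b e => by
    by_cases hb : b = 0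
    · subst hb
      by_contra ha
      exact τ.sh_ne ha (by rw [e]; simp [Tw.sh])
    · have h1 : τ.sh (a * b⁻¹) = 1 := by
        rw [τ.sh_mul, e, ← τ.sh_mul, mul_inv_cancel₀ hb]; simp [Tw.sh]
      have := HAx.sh_one τ h1
      field_simp at this
      exact this
  exact Finite.surjective_of_injective inj c
theorem Tw.sh_eq_one (τ : Tw K) (h : τ.sh a = 1) : a = 1 := HAx.sh_one τ h
theorem Tw.σ_inv (hf : τ.σ f = f) : τ.σ f⁻¹ = f⁻¹ := by rw [map_inv₀, hf]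
theorem Tw.T_surj (τ : Tw K) (ha : a ≠ 0) (hf : τ.σ f = f) : ∃ c, τ.T (a * c) = f := by
  refine ⟨a⁻¹ * f, ?_⟩
  rw [← mul_assoc, mul_inv_cancel₀ ha, one_mul, Tw.T_fix hf]
theorem Tw.T_nd (τ : Tw K) (h : ∀ c, τ.T (a * c) = 0) : a = 0 := by
  by_contra ha
  obtain ⟨c, hc⟩ := τ.T_surj ha (map_one τ.σ)
  exact one_ne_zero (hc.symm.trans (h c))
theorem Tw.cr_self (τ : Tw K) (a : K) : τ.cr a a = 0 := by
  simp only [Tw.cr]; grind
theorem Tw.cr_comm (τ : Tw K) (a b : K) : τ.cr a b = τ.cr b a := by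
  simp only [Tw.cr]; ring
theorem Tw.cr_add (τ : Tw K) (a b c : K) : τ.cr a (b + c) = τ.cr a b + τ.cr a c := by
  simp only [Tw.cr, map_add]; ring
theorem Tw.cr_zero (τ : Tw K) (a : K) : τ.cr a 0 = 0 := by simp [Tw.cr]
theorem Tw.cr_smul (hf : τ.σ f = f) (a b : K) : τ.cr a (f * b) = f * τ.cr a b := by
  simp only [Tw.cr, map_mul, hf]; ring
theorem Tw.T_cr (τ : Tw K) (a b c : K) : τ.T (a * τ.cr b c) = τ.T (b * τ.cr c a) := by
  simp only [Tw.T, Tw.N, Tw.sh, Tw.cr, map_add, map_mul, map_zero, map_one, τ.three]; ring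
theorem Tw.T_cr_self (τ : Tw K) (a b : K) : τ.T (a * τ.cr a b) = 0 := by
  simp only [Tw.T, Tw.N, Tw.sh, Tw.cr, map_add, map_mul, map_zero, map_one, τ.three]; grind
theorem Tw.cr_cr (τ : Tw K) (a b c : K) :
    τ.cr (τ.cr a b) c = τ.T (a * c) * b + τ.T (b * c) * a := by
  simp only [Tw.T, Tw.N, Tw.sh, Tw.cr, map_add, map_mul, map_zero, map_one, τ.three]; grind
theorem Tw.cr_eq_zero (τ : Tw K) (ha : a ≠ 0) (h : τ.cr a b = 0) :
    ∃ f, τ.σ f = f ∧ b = f * a := by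
  refine ⟨b * a⁻¹, ?_, by field_simp⟩
  have h1 := congrArg τ.σ (congrArg τ.σ h)
  simp only [Tw.cr, map_add, map_mul, map_zero, τ.three] at h1
  have h2 : τ.σ a ≠ 0 := by simpa using ha
  rw [map_mul, map_inv₀]
  field_simp
  grind
/-- `(c^⊥)^⊥ = F c` -/
theorem Tw.perp_perp (τ : Tw K) (hc : c ≠ 0) (h : ∀ a, τ.T (a * c) = 0 → τ.T (a * b) = 0) :
    ∃ f, τ.σ f = f ∧ b = f * c := by
  refine τ.cr_eq_zero hc (τ.T_nd fun x => ?_)
  have h1 := h (τ.cr c x) (by rw [mul_comm, τ.T_cr_self])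
  rw [mul_comm, τ.T_cr, τ.cr_comm x b, τ.T_cr, τ.T_cr] at h1
  rw [mul_comm]; exact h1
theorem Tw.perp (τ : Tw K) (C : AddSubgroup K) (hC : ∀ f, τ.σ f = f → ∀ c ∈ C, f * c ∈ C)
    (h : C ≠ ⊤) : ∃ a, a ≠ 0 ∧ ∀ c ∈ C, τ.T (a * c) = 0 := by
  by_cases hσ : ∀ x, τ.σ x = x
  · refine ⟨1, one_ne_zero, fun c hc => ?_⟩
    by_cases e : c = 0
    · simp [e, Tw.T]
    · refine absurd (eq_top_iff.2 fun x _ => ?_) h
      have := hC (x * c⁻¹) (hσ _) c hc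
      rwa [inv_mul_cancel_right₀ e] at this
  by_contra hn
  push Not at hn
  obtain ⟨b1, h1, k1⟩ := hn 1 one_ne_zero
  have n1 : b1 ≠ 0 := fun e => k1 (by simp [e, Tw.T])
  obtain ⟨x, hx⟩ : ∃ x, τ.cr b1 x ≠ 0 := by
    by_contra e
    push Not at e
    exact hσ (HAx.triv τ fun b => τ.cr_eq_zero n1 (e b))
  obtain ⟨b2, h2, k2⟩ := hn _ hx
  have n2 : τ.cr b1 b2 ≠ 0 := fun e => by
    obtain ⟨f, hf, rfl⟩ := τ.cr_eq_zero n1 e
    exact k2 (by rw [mul_left_comm, Tw.T_smul hf, mul_comm _ b1, τ.T_cr_self, mul_zero])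
  obtain ⟨b3, h3, k3⟩ := hn _ n2
  refine h (eq_top_iff.2 fun y _ => ?_)
  have hd := Tw.σ_inv (τ.σ_T (τ.cr b1 b2 * b3))
  have e := HAx.cramer τ b1 b2 b3 y
  have e2 : y = ((τ.T (τ.cr b1 b2 * b3))⁻¹ * τ.T (y * τ.cr b2 b3)) * b1 +
      ((τ.T (τ.cr b1 b2 * b3))⁻¹ * τ.T (y * τ.cr b3 b1)) * b2 +
      ((τ.T (τ.cr b1 b2 * b3))⁻¹ * τ.T (y * τ.cr b1 b2)) * b3 := by
    field_simp
    linear_combination e
  rw [e2]
  exact add_mem (add_mem (hC _ (by rw [map_mul, hd, τ.σ_T]) _ h1)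
    (hC _ (by rw [map_mul, hd, τ.σ_T]) _ h2)) (hC _ (by rw [map_mul, hd, τ.σ_T]) _ h3)
/-- an `F`-linear map with `T(b ψ(b)) = 0` is a cross product -/
theorem Tw.skew (τ : Tw K) (ψ : K →+ K) (h1 : ∀ f, τ.σ f = f → ∀ b, ψ (f * b) = f * ψ b)
    (h2 : ∀ b, τ.T (b * ψ b) = 0) : ∃ e, ∀ b, ψ b = τ.cr e b := by
  by_cases hσ : ∀ x, τ.σ x = x
  · refine ⟨0, fun b => ?_⟩
    have e := h2 b
    rw [Tw.T_fix (hσ _)] at e
    rcases mul_eq_zero.1 e with e | e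
    · simp [e, Tw.cr]
    · simp [e, Tw.cr]
  push Not at hσ
  obtain ⟨x, hx⟩ := hσ
  have sy : ∀ a b, τ.T (a * ψ b) = τ.T (b * ψ a) := fun a b => by
    have := h2 (a + b)
    rw [map_add, add_mul, mul_add, mul_add, τ.T_add, τ.T_add, τ.T_add, h2, h2] at this
    grind
  have hδ := HAx.disc τ hx
  set δ := τ.T (τ.cr 1 x * (x * x)) with hδe
  have hd : τ.σ δ⁻¹ = δ⁻¹ := Tw.σ_inv (τ.σ_T _)
  set p := τ.T (x * x * ψ x)
  set q := τ.T (1 * ψ (x * x))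
  set r := τ.T (x * ψ 1)
  have hp : τ.σ p = p := τ.σ_T _
  have hq : τ.σ q = q := τ.σ_T _
  have hr : τ.σ r = r := τ.σ_T _
  have key : ∀ b ∈ ({1, x, x * x} : Set K), δ * ψ b = τ.cr (p * 1 + q * x + r * (x * x)) b := by
    intro b hb
    have e := HAx.cramer2 τ 1 x (x * x) (ψ b)
    rw [← hδe] at e
    rw [e]
    have a1 := h2 1; have a2 := h2 x; have a3 := h2 (x * x)
    have s1 := sy 1 x; have s2 := sy x (x * x); have s3 := sy 1 (x * x)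
    rcases hb with rfl | rfl | rfl
    · rw [a1, ← s3]
      simp only [Tw.cr, map_add, map_mul, map_one, hp, hq, hr]; grind
    · rw [a2, s1]
      simp only [Tw.cr, map_add, map_mul, map_one, hp, hq, hr]; grind
    · rw [a3, s2]
      simp only [Tw.cr, map_add, map_mul, map_one, hp, hq, hr]; grind
  refine ⟨δ⁻¹ * (p * 1 + q * x + r * (x * x)), fun y => ?_⟩
  have e := HAx.cramer τ 1 x (x * x) y
  rw [← hδe] at e
  have e3 : δ * ψ y = ψ (δ * y) := (h1 δ (τ.σ_T _) y).symm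
  rw [τ.cr_comm, Tw.cr_smul hd, τ.cr_comm]
  have e4 : δ * (δ * ψ y) = δ * τ.cr (p * 1 + q * x + r * (x * x)) y := by
    rw [e3, ← Tw.cr_smul (τ.σ_T _), e, map_add, map_add, h1 _ (τ.σ_T _), h1 _ (τ.σ_T _),
      h1 _ (τ.σ_T _), τ.cr_add, τ.cr_add, Tw.cr_smul (τ.σ_T _), Tw.cr_smul (τ.σ_T _),
      Tw.cr_smul (τ.σ_T _), ← key 1 (by simp), ← key x (by simp), ← key (x * x) (by simp)]
    ring
  have e5 := mul_left_cancel₀ hδ e4
  rw [← e5, inv_mul_cancel_left₀ hδ]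
theorem Tw.triv_of_line (τ : Tw K) (h : ∀ b, ∃ f, τ.σ f = f ∧ b = f * a) (x : K) : τ.σ x = x := HAx.triv τ h x
theorem Tw.triv_of_perp (τ : Tw K) (h : ∀ c, τ.T (a * c) = 0 → c = 0) (x : K) : τ.σ x = x := by
  have ha : a ≠ 0 := fun e => one_ne_zero (h 1 (by simp [e, Tw.T]))
  exact HAx.triv τ (fun b => τ.cr_eq_zero ha (h _ (τ.T_cr_self a b))) x
theorem exists_sqrt (a : K) : ∃ b, b ^ 2 = a := (frobeniusEquiv K 2).surjective a
theorem Tw.exists_sqrtF (hf : τ.σ f = f) : ∃ b, τ.σ b = b ∧ b ^ 2 = f := by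
  obtain ⟨b, rfl⟩ := exists_sqrt f
  refine ⟨b, ?_, rfl⟩
  rw [map_pow] at hf
  have : (τ.σ b + b) ^ 2 = 0 := by grind
  have := pow_eq_zero_iff (two_ne_zero) |>.1 this
  grind
theorem Tw.card_K (τ : Tw K) : ((∀ x, τ.σ x = x) ∧ Nat.card K = τ.q) ∨
    ((∃ x, τ.σ x ≠ x) ∧ Nat.card K = τ.q ^ 3) := by
  by_cases hσ : ∀ x, τ.σ x = x
  · exact .inl ⟨hσ, Nat.card_congr ⟨fun x => ⟨x, hσ x⟩, fun x => x.1, fun _ => rfl, fun _ => rfl⟩⟩
  push Not at hσ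
  refine .inr ⟨hσ, ?_⟩
  obtain ⟨x, hx⟩ := hσ
  have hδ := HAx.disc τ hx
  let φ : τ.F × τ.F × τ.F → K := fun p => p.1 * 1 + p.2.1 * x + p.2.2 * (x * x)
  have hb : Function.Bijective φ := by
    constructor
    · rintro ⟨a, b, c⟩ ⟨a', b', c'⟩ e
      have e0 : ((a : K) + a') * 1 + ((b : K) + b') * x + ((c : K) + c') * (x * x) = 0 := by
        simp only [φ] at e; grind
      obtain ⟨i1, i2, i3⟩ := HAx.indep τ hδ (a + a').2 (b + b').2 (c + c').2 e0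
      simp only [Subfield.coe_add] at i1 i2 i3
      ext <;> grind
    · intro y
      have hd := Tw.σ_inv (τ.σ_T (τ.cr 1 x * (x * x)))
      have e := HAx.cramer τ 1 x (x * x) y
      refine ⟨(⟨_ * τ.T (y * τ.cr x (x * x)), by rw [τ.mem_F, map_mul, hd, τ.σ_T]⟩,
        ⟨_ * τ.T (y * τ.cr (x * x) 1), by rw [τ.mem_F, map_mul, hd, τ.σ_T]⟩,
        ⟨_ * τ.T (y * τ.cr 1 x), by rw [τ.mem_F, map_mul, hd, τ.σ_T]⟩), ?_⟩
      simp only [φ]
      generalize τ.T (τ.cr 1 x * (x * x)) = δ at *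
      generalize τ.T (y * τ.cr x (x * x)) = d1 at *
      generalize τ.T (y * τ.cr (x * x) 1) = d2 at *
      generalize τ.T (y * τ.cr 1 x) = d3 at *
      field_simp
      linear_combination -e
  rw [← Nat.card_eq_of_bijective φ hb, Nat.card_prod, Nat.card_prod, Tw.q]; ring
theorem Tw.two_le_q (τ : Tw K) : 2 ≤ τ.q := Finite.one_lt_card
theorem Tw.bigF_iff (τ : Tw K) : τ.BigF ↔ τ.q ≠ 2 := by
  rw [Tw.q, Ne, Nat.card_eq_two_iff' (0 : τ.F)]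
  constructor
  · rintro ⟨ω, h1, h2, h3⟩ ⟨y, -, hy⟩
    have e1 := hy ⟨ω, h1⟩ (fun e => h2 (congrArg Subtype.val e))
    have e2 := hy 1 one_ne_zero
    exact h3 (congrArg Subtype.val (e1.trans e2.symm))
  · intro h
    by_contra hn
    refine h ⟨1, one_ne_zero, fun y hy => Subtype.ext ?_⟩
    by_contra e
    exact hn ⟨y, y.2, fun e' => hy (Subtype.ext e'), e⟩
theorem Tw.BigF.big (h : τ.BigF) : Big K := let ⟨ω, _, h1, h2⟩ := h; ⟨ω, h1, h2⟩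


end H27.HX
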