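import Mathlib
import Cfsg.Prelude.Def_LieTwisted
import Cfsg.Prelude.Def_CaseTheorems
import Cfsg.Agent.H27.HX1
import Cfsg.Agent.H27.HA

set_option autoImplicit false
set_option linter.unusedVariables false
set_option linter.unusedSectionVars false
set_option linter.unusedSimpArgs false

namespace H27.HX

open Cfsg H24 H26 H26.Gold H26.LM Subgroup
open scoped commutatorElement

universe u v

variable {G : Type u} [Group G] [Finite G] {K : Type} [Field K] [Finite K] [CharP K 2] {τ : Tw K}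
  {M M' M'' : Md G τ} {A : Ap G} {H S E M0 R X X' Y L D N0 P J : Subgroup G} {𝒟 : Set G}
  {g h j k l n s t x y z : G} {a a' b c c0 e f : K} {u v w : U τ}

/-! ### HB -/

namespace HBx
def co (τ : Tw K) : U τ ≃ τ.F × τ.F × τ.F × K × K × K :=
  ⟨fun x => (⟨x.s, x.hs⟩, ⟨x.r, x.hr⟩, ⟨x.t, x.ht⟩, x.a, x.c, x.b),
    fun p => ⟨p.2.2.2.1, p.1, p.2.2.2.2.1, p.2.1, p.2.2.2.2.2, p.2.2.1, p.1.2, p.2.1.2, p.2.2.1.2⟩,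
    fun _ => rfl, fun _ => rfl⟩
theorem norm_of (h : ∀ y ∈ X, ⁅x, y⁆ ∈ X) : x ∈ N[X] := by
  refine mem_N_iff_cj.2 (eq_of_card_eq ?_ (card_cj _ _))
  intro g hg
  obtain ⟨y, hy, rfl⟩ := mem_cj'.1 hg
  have := mul_mem (h y hy) hy
  simpa [commutatorElement_def] using this
theorem cm_sq (h : ∀ x ∈ X, x * x = 1) (hx : x ∈ X) (hy : y ∈ X) : x * y = y * x := by
  have i : ∀ z ∈ X, z⁻¹ = z := fun z hz => inv_eq_of_mul_eq_one_right (h z hz)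
  rw [← i _ (mul_mem hx hy), mul_inv_rev, i x hx, i y hy]
theorem ea (h : ∀ x ∈ X, x * x = 1) : EA X :=
  ⟨⟨⟨fun a b => Subtype.ext (cm_sq h a.2 b.2)⟩⟩, fun a ha => by rw [sq, h a ha]⟩
theorem ea_C (h : EA X) : X ≤ C[X] := fun x hx => mem_centralizer_iff.2 fun y hy =>
  cm_sq (fun z hz => by rw [← sq]; exact h.2 z hz) hy hx
end HBx

instance U.finite : Finite (U τ) := Finite.of_equiv _ (HBx.co τ).symm
theorem U.card (τ : Tw K) : Nat.card (U τ) = τ.q ^ 3 * Nat.card K ^ 3 := by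
  rw [Nat.card_congr (HBx.co τ)]; simp only [Nat.card_prod, Tw.q]; ring
theorem U.dec (u : U τ) : u = U.x2 ⟨u.s, u.hs⟩ * U.x3 τ u.c * U.x4 ⟨u.r, u.hr⟩ * U.x5 τ u.b *
    U.x6 ⟨u.t, u.ht⟩ * U.x1 τ u.a := by
  ext <;> simp only [commutatorElement_def, U.mul_a, U.mul_s, U.mul_c, U.mul_r, U.mul_b, U.mul_t, U.inv_a, U.inv_s,
      U.inv_c, U.inv_r, U.inv_b, U.inv_t, U.one_a, U.one_s, U.one_c, U.one_r, U.one_b, U.one_t, U.x1, U.x2, U.x3,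
      U.x4, U.x5, U.x6, Tw.T, Tw.N, Tw.sh, Tw.cr, Tw.TF, Tw.NF, map_add, map_mul, map_zero, τ.three,
      Subfield.coe_add, Subfield.coe_mul, SubmonoidClass.coe_pow] <;> grind
theorem U.rel (τ : Tw K) : Rel τ (U.x1 τ) (U.x3 τ) (U.x5 τ) U.x2 U.x4 U.x6 := by
  have hF : ∀ x : τ.F, τ.σ x = x := fun x => x.2
  refine ⟨?_, ?_, ?_, ?_, ?_, ?_, ?_, ?_, ?_, ?_, ?_, ?_, ?_, ?_, ?_, ?_, ?_, ?_, ?_, ?_, ?_⟩ <;>
    intro a b <;> (try rw [Commute, SemiconjBy]) <;> ext <;>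
    simp only [commutatorElement_def, U.mul_a, U.mul_s, U.mul_c, U.mul_r, U.mul_b, U.mul_t, U.inv_a, U.inv_s,
      U.inv_c, U.inv_r, U.inv_b, U.inv_t, U.one_a, U.one_s, U.one_c, U.one_r, U.one_b, U.one_t, U.x1, U.x2, U.x3,
      U.x4, U.x5, U.x6, Tw.T, Tw.N, Tw.sh, Tw.cr, Tw.TF, Tw.NF, map_add, map_mul, map_zero, τ.three,
      Subfield.coe_add, Subfield.coe_mul, SubmonoidClass.coe_pow, hF] <;> grind
theorem U.inv_iff (u : U τ) : u * u = 1 ↔ (u.a = 0 ∧ u.s * u.t + τ.T (u.b * u.c) = 0) ∨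
    (u.a ≠ 0 ∧ u.t = 0 ∧ τ.cr u.a u.b = 0 ∧ τ.T (u.a * u.c) + τ.T (τ.sh u.a * u.b) = 0) := by
  constructor
  · intro h
    have h1 := congrArg U.s h; have h2 := congrArg U.c h; have h3 := congrArg U.r h
    have h4 := congrArg U.b h
    simp only [U.mul_s, U.mul_c, U.mul_r, U.mul_b, U.one_s, U.one_c, U.one_r, U.one_b] at h1 h2 h3 h4
    by_cases ha : u.a = 0
    · refine .inl ⟨ha, ?_⟩
      simp only [ha, Tw.T, Tw.N, Tw.sh, Tw.cr, map_add, map_mul, map_zero] at h3 ⊢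
      grind
    · have ht : u.t = 0 := by grind
      refine .inr ⟨ha, ht, by grind, by grind⟩
  · rintro (⟨ha, h⟩ | ⟨ha, ht, h1, h2⟩)
    · ext <;> simp only [U.mul_a, U.mul_s, U.mul_c, U.mul_r, U.mul_b, U.mul_t, U.one_a, U.one_s, U.one_c,
        U.one_r, U.one_b, U.one_t, ha, Tw.T, Tw.N, Tw.sh, Tw.cr, map_add, map_mul, map_zero] at h ⊢ <;> grind
    · obtain ⟨f, hf, hb⟩ := τ.cr_eq_zero ha h1
      ext <;> simp only [U.mul_a, U.mul_s, U.mul_c, U.mul_r, U.mul_b, U.mul_t, U.one_a, U.one_s, U.one_c,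
        U.one_r, U.one_b, U.one_t, ht, hb, hf, Tw.T, Tw.N, Tw.sh, Tw.cr, map_add, map_mul, map_zero,
        τ.three] at h2 ⊢ <;> grind
theorem U.comm_iff (u v : U τ) : u * v = v * u ↔
    ⁅u, v⁆.s = 0 ∧ ⁅u, v⁆.c = 0 ∧ ⁅u, v⁆.r = 0 ∧ ⁅u, v⁆.b = 0 := by
  rw [← commutatorElement_eq_one_iff_mul_comm]
  exact ⟨fun h => by simp [h], fun ⟨h1, h2, h3, h4⟩ =>
    U.ext (U.comm_a u v) h1 h2 h3 h4 (U.comm_t u v)⟩
namespace HBx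
theorem cm (M : Md G τ) (h : M.ι u * M.ι v = M.ι v * M.ι u) :
    ⁅u, v⁆.s = 0 ∧ ⁅u, v⁆.c = 0 ∧ ⁅u, v⁆.r = 0 ∧ ⁅u, v⁆.b = 0 :=
  (U.comm_iff u v).1 (M.inj (by simpa using h))
theorem cm' (M : Md G τ) (h : ⁅u, v⁆.s = 0 ∧ ⁅u, v⁆.c = 0 ∧ ⁅u, v⁆.r = 0 ∧ ⁅u, v⁆.b = 0) :
    M.ι u * M.ι v = M.ι v * M.ι u := by
  rw [← map_mul, ← map_mul, (U.comm_iff u v).2 h]
theorem cSS (M : Md G τ) (hx : x ∈ M.S) (hy : y ∈ M.S) : ⁅x, y⁆ ∈ M.Y := by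
  obtain ⟨u, rfl⟩ := hx; obtain ⟨v, rfl⟩ := hy
  rw [← map_commutatorElement, Md.ι_Y]; exact ⟨U.comm_a _ _, U.comm_t _ _⟩
theorem cSW (M : Md G τ) (hx : x ∈ M.S) (hy : y ∈ M.W) : ⁅x, y⁆ ∈ M.V := by
  obtain ⟨u, rfl⟩ := hx; obtain ⟨v, ⟨h1, h2, h3⟩, rfl⟩ := M.mem_W.1 hy
  rw [← map_commutatorElement, Md.ι_V]
  simp [U.comm_a, U.comm_b, U.comm_c, U.comm_t, h1, h2, h3, Tw.cr, Tw.sh]
theorem cSV (M : Md G τ) (hx : x ∈ M.S) (hy : y ∈ M.V) : ⁅x, y⁆ ∈ M.Z := by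
  obtain ⟨u, rfl⟩ := hx; obtain ⟨v, ⟨h1, h2, h3, h4⟩, rfl⟩ := M.mem_V.1 hy
  rw [← map_commutatorElement, Md.ι_Z]
  simp [U.comm_a, U.comm_b, U.comm_c, U.comm_s, U.comm_t, h1, h2, h3, h4, Tw.cr, Tw.sh, Tw.T, Tw.N]
theorem ZS (M : Md G τ) : M.Z ≤ C[M.S] := by
  rintro _ ⟨v, ⟨h1, h2, h3, h4, h5⟩, rfl⟩
  refine mem_centralizer_iff.2 ?_
  rintro _ ⟨u, rfl⟩
  refine cm' M ?_
  simp [U.comm_s, U.comm_c, U.comm_rW u h1 h4 h5, U.comm_b, h1, h2, h3, h4, h5, Tw.T, Tw.N, Tw.sh, Tw.cr]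
theorem Z_of (M : Md G τ) (hx : x ∈ M.S) (h : ∀ y ∈ M.Q1, x * y = y * x) : x ∈ M.Z := by
  obtain ⟨u, rfl⟩ := hx
  have k6 := cm M (h _ (M.ι_Q1.2 rfl : M.ι (U.x6 1) ∈ M.Q1))
  have ha : u.a = 0 := by simpa [U.comm_b, U.x6] using k6.2.2.2
  have k := fun (v : U τ) (hv : v.a = 0) => (U.comm_r1 ha hv).symm.trans (cm M (h _ (M.ι_Q1.2 hv))).2.2.1
  refine M.ι_Z.2 ⟨ha, ?_, τ.T_nd fun b => ?_, τ.T_nd fun c => ?_, ?_⟩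
  · simpa [U.x6, τ.T_zero] using k (U.x6 1) rfl
  · simpa [U.x5, τ.T_zero, mul_comm] using k (U.x5 τ b) rfl
  · simpa [U.x3, τ.T_zero] using k (U.x3 τ c) rfl
  · simpa [U.x2, τ.T_zero] using k (U.x2 1) rfl
end HBx
namespace Md
theorem twoS (M : Md G τ) : TwoG M.S := M.syl.pi
theorem sylS (M : Md G τ) : Syl 2 ⊤ M.S := M.syl
theorem syl_of (M : Md G τ) (h : M.S ≤ H) : Syl 2 H M.S := M.syl.of_le h le_top
theorem Z_V (M : Md G τ) : M.Z ≤ M.V := map_mono fun x ⟨a, _, b, c, d⟩ => ⟨a, b, c, d⟩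
theorem V_W (M : Md G τ) : M.V ≤ M.W := map_mono fun x ⟨a, _, c, d⟩ => ⟨a, c, d⟩
theorem W_Y (M : Md G τ) : M.W ≤ M.Y := map_mono fun x ⟨a, _, d⟩ => ⟨a, d⟩
theorem Y_eq (M : Md G τ) : M.Y = M.Q1 ⊓ M.Q2 := map_inf _ _ _ M.inj
theorem Q1_S (M : Md G τ) : M.Q1 ≤ M.S := map_le_range _ _
theorem Q2_S (M : Md G τ) : M.Q2 ≤ M.S := map_le_range _ _
theorem Q1_lt (M : Md G τ) : M.Q1 < M.S := lt_of_le_of_ne M.Q1_S fun e =>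
  one_ne_zero (M.ι_Q1.1 (e ▸ M.ι_S (U.x1 τ 1)))
theorem Q2_lt (M : Md G τ) : M.Q2 < M.S := lt_of_le_of_ne M.Q2_S fun e =>
  one_ne_zero (M.ι_Q2.1 (e ▸ M.ι_S (U.x6 1)))
theorem sup_Q (M : Md G τ) : M.Q1 ⊔ M.Q2 = M.S := le_antisymm (sup_le M.Q1_S M.Q2_S) (by
  rintro _ ⟨u, rfl⟩
  have e : M.ι u = M.ι (u * (U.x1 τ u.a)⁻¹) * M.ι (U.x1 τ u.a) := by rw [← map_mul]; simp
  rw [e]
  exact mul_mem (mem_sup_left (M.ι_Q1.2 (by simp [U.mul_a, U.inv_a, U.x1, CharTwo.add_self_eq_zero])))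
    (mem_sup_right (M.ι_Q2.2 rfl)))
theorem Z_ne (M : Md G τ) : M.Z ≠ ⊥ := fun e => by
  have : M.ι (U.x4 1) ∈ M.Z := M.ι_Z.2 ⟨rfl, rfl, rfl, rfl, rfl⟩
  rw [e, mem_bot, ← map_one M.ι] at this
  exact one_ne_zero (congrArg U.r (M.inj this))
theorem eaW (M : Md G τ) : EA M.W := HBx.ea fun x ⟨u, ⟨h1, h2, h3⟩, e⟩ => by
  rw [← e, ← map_mul, (U.inv_iff u).2 (.inl ⟨h1, by simp [h2, h3, Tw.T]⟩), map_one]
theorem S_N (M : Md G τ) : M.S ≤ N[M.Z] ∧ M.S ≤ N[M.V] ∧ M.S ≤ N[M.W] ∧ M.S ≤ N[M.Y] ∧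
    M.S ≤ N[M.Q1] ∧ M.S ≤ N[M.Q2] := by
  have k : ∀ X : Subgroup G, (∀ x ∈ M.S, ∀ y ∈ X, ⁅x, y⁆ ∈ X) → M.S ≤ N[X] := fun X h x hx =>
    HBx.norm_of (h x hx)
  have YS : M.Y ≤ M.S := map_le_range _ _
  have Y1 : M.Y ≤ M.Q1 := M.Y_eq ▸ inf_le_left
  have Y2 : M.Y ≤ M.Q2 := M.Y_eq ▸ inf_le_right
  exact ⟨k _ fun x hx y hy => HBx.cSV M hx (M.Z_V hy), k _ fun x hx y hy => M.Z_V (HBx.cSV M hx hy),
    k _ fun x hx y hy => M.V_W (HBx.cSW M hx hy), k _ fun x hx y hy => HBx.cSS M hx (YS hy),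
    k _ fun x hx y hy => Y1 (HBx.cSS M hx (M.Q1_S hy)), k _ fun x hx y hy => Y2 (HBx.cSS M hx (M.Q2_S hy))⟩
theorem cSS (M : Md G τ) (hx : x ∈ M.S) (hy : y ∈ M.S) : ⁅x, y⁆ ∈ M.Y := by
  obtain ⟨u, rfl⟩ := hx; obtain ⟨v, rfl⟩ := hy
  rw [← map_commutatorElement, ι_Y]; exact ⟨U.comm_a _ _, U.comm_t _ _⟩
theorem cSY (M : Md G τ) (hx : x ∈ M.S) (hy : y ∈ M.Y) : ⁅x, y⁆ ∈ M.W := by
  obtain ⟨u, rfl⟩ := hx; obtain ⟨v, ⟨h1, h2⟩, rfl⟩ := M.mem_Y.1 hy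
  rw [← map_commutatorElement, ι_W]; simp [U.comm_a, U.comm_b, U.comm_t, h1, h2]
theorem cSW (M : Md G τ) (hx : x ∈ M.S) (hy : y ∈ M.W) : ⁅x, y⁆ ∈ M.V := by
  obtain ⟨u, rfl⟩ := hx; obtain ⟨v, ⟨h1, h2, h3⟩, rfl⟩ := M.mem_W.1 hy
  rw [← map_commutatorElement, ι_V]
  simp [U.comm_a, U.comm_b, U.comm_c, U.comm_t, h1, h2, h3, Tw.cr, Tw.sh]
theorem cSV (M : Md G τ) (hx : x ∈ M.S) (hy : y ∈ M.V) : ⁅x, y⁆ ∈ M.Z := by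
  obtain ⟨u, rfl⟩ := hx; obtain ⟨v, ⟨h1, h2, h3, h4⟩, rfl⟩ := M.mem_V.1 hy
  rw [← map_commutatorElement, ι_Z]
  simp [U.comm_a, U.comm_b, U.comm_c, U.comm_s, U.comm_t, h1, h2, h3, h4, Tw.cr, Tw.sh, Tw.T, Tw.N]
theorem c11 (M : Md G τ) (hx : x ∈ M.Q1) (hy : y ∈ M.Q1) : ⁅x, y⁆ ∈ M.Z := by
  obtain ⟨u, h1, rfl⟩ := M.mem_Q1.1 hx; obtain ⟨v, h2, rfl⟩ := M.mem_Q1.1 hy
  rw [← map_commutatorElement, ι_Z]
  simp [U.comm_a, U.comm_b, U.comm_c, U.comm_s, U.comm_t, h1, h2, Tw.cr, Tw.sh, Tw.T, Tw.N]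
theorem c22 (M : Md G τ) (hx : x ∈ M.Q2) (hy : y ∈ M.Q2) : ⁅x, y⁆ ∈ M.W := by
  obtain ⟨u, h1, rfl⟩ := M.mem_Q2.1 hx; obtain ⟨v, h2, rfl⟩ := M.mem_Q2.1 hy
  rw [← map_commutatorElement, ι_W]
  simp [U.comm_a, U.comm_b, U.comm_t, h1, h2]
theorem sqS (M : Md G τ) (hx : x ∈ M.S) : x * x ∈ M.Y := by
  obtain ⟨u, rfl⟩ := hx
  rw [← map_mul, ι_Y]; simp [U.mul_a, U.mul_t, CharTwo.add_self_eq_zero]
theorem sq1 (M : Md G τ) (hx : x ∈ M.Q1) : x * x ∈ M.Z := by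
  obtain ⟨u, h1, rfl⟩ := M.mem_Q1.1 hx
  rw [← map_mul, ι_Z]
  simp [U.mul_a, U.mul_t, U.mul_s, U.mul_c, U.mul_b, CharTwo.add_self_eq_zero, h1, Tw.cr, Tw.sh, Tw.T, Tw.N]
theorem sq2 (M : Md G τ) (hx : x ∈ M.Q2) : x * x ∈ M.W := by
  obtain ⟨u, h1, rfl⟩ := M.mem_Q2.1 hx
  rw [← map_mul, ι_W]
  simp [U.mul_a, U.mul_t, U.mul_b, CharTwo.add_self_eq_zero, h1]
theorem CS (M : Md G τ) : M.S ⊓ C[M.S] = M.Z := le_antisymm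
    (fun x hx => HBx.Z_of M hx.1 fun y hy => (mem_centralizer_iff.1 hx.2 y (M.Q1_S hy)).symm)
    (le_inf (map_le_range _ _) (HBx.ZS M))
theorem S_CZ (M : Md G τ) : M.S ≤ C[M.Z] := fun x hx => mem_centralizer_iff.2 fun z hz =>
  (mem_centralizer_iff.1 (HBx.ZS M hz) x hx).symm
theorem CV (M : Md G τ) : M.S ⊓ C[M.V] = M.Q2 := by
  refine le_antisymm ?_ (le_inf M.Q2_S ?_)
  · rintro _ ⟨⟨u, rfl⟩, h⟩
    have := HBx.cm M (mem_centralizer_iff.1 h _ (M.ι_V.2 ⟨rfl, rfl, rfl, rfl⟩ : M.ι (U.x2 1) ∈ M.V)).symm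
    have e := this.2.2.1
    rw [U.comm_rW u rfl rfl rfl] at e
    simpa [U.x2, Tw.T, M.ι_Q2] using e
  · rintro _ ⟨u, hu, rfl⟩
    refine mem_centralizer_iff.2 ?_
    rintro _ ⟨v, ⟨h1, h2, h3, h4⟩, rfl⟩
    have hu : u.t = 0 := hu
    refine (HBx.cm' M ?_).symm
    simp [U.comm_s, U.comm_c, U.comm_rW u h1 h3 h4, U.comm_b, h1, h2, h3, h4, hu, Tw.T, Tw.N, Tw.sh, Tw.cr]
theorem CW (M : Md G τ) : M.S ⊓ C[M.W] = M.W := by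
  refine le_antisymm ?_ (le_inf (map_le_range _ _) (HBx.ea_C M.eaW))
  rintro _ ⟨⟨u, rfl⟩, h⟩
  have k := fun c => HBx.cm M
    (mem_centralizer_iff.1 h _ (M.ι_W.2 ⟨rfl, rfl, rfl⟩ : M.ι (U.x3 τ c) ∈ M.W)).symm
  have ht : u.t = 0 := M.ι_Q2.1 (M.CV.le ⟨M.ι_S u, C_anti M.V_W h⟩)
  refine M.ι_W.2 ⟨τ.T_nd fun c => ?_, τ.T_nd fun c => ?_, ht⟩
  · simpa [U.comm_s, U.x3, τ.T_zero, Tw.N, Tw.sh] using (k c).1
  · have := (k c).2.2.1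
    rw [U.comm_rW u rfl rfl rfl] at this
    simpa [U.x3, ht] using this
theorem CY (M : Md G τ) : M.S ⊓ C[M.Y] = M.V := by
  refine le_antisymm ?_ (le_inf (map_le_range _ _) ?_)
  · rintro _ ⟨⟨u, rfl⟩, h⟩
    obtain ⟨h1, h2, h3⟩ := M.ι_W.1 (M.CW.le ⟨M.ι_S u, C_anti M.W_Y h⟩)
    refine M.ι_V.2 ⟨h1, τ.T_nd fun b => ?_, h2, h3⟩
    have := (HBx.cm M (mem_centralizer_iff.1 h _ (M.ι_Y.2 ⟨rfl, rfl⟩ : M.ι (U.x5 τ b) ∈ M.Y)).symm).2.2.1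
    rw [U.comm_r1 h1 rfl] at this
    simpa [U.x5, h2, h3, τ.T_zero, mul_comm] using this
  · exact cents_symm (le_trans (M.Y_eq ▸ inf_le_right) (M.CV.ge.trans inf_le_right))
theorem CQ1 (M : Md G τ) : M.S ⊓ C[M.Q1] = M.Z := le_antisymm
    (fun x hx => HBx.Z_of M hx.1 fun y hy => (mem_centralizer_iff.1 hx.2 y hy).symm)
    (le_inf (map_le_range _ _) ((HBx.ZS M).trans (C_anti M.Q1_S)))
theorem CQ2 (M : Md G τ) : M.S ⊓ C[M.Q2] = M.V := le_antisymm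
    ((inf_le_inf_left _ (C_anti (M.Y_eq ▸ inf_le_right))).trans M.CY.le)
    (le_inf (map_le_range _ _) (cents_symm (M.CV.ge.trans inf_le_right)))
theorem Cv (M : Md G τ) (hy : y ∈ M.V) (h : y ∉ M.Z) : M.S ⊓ C{y} = M.Q2 := by
  refine le_antisymm ?_ (le_inf M.Q2_S ((M.CV.ge.trans inf_le_right).trans (C_le_C1 hy)))
  obtain ⟨v, ⟨h1, h2, h3, h4⟩, rfl⟩ := M.mem_V.1 hy
  rintro _ ⟨⟨u, rfl⟩, hc⟩
  have e := (HBx.cm M (mem_centralizer_iff.1 hc _ rfl).symm).2.2.1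
  rw [U.comm_rW u h1 h3 h4] at e
  have hs : v.s ≠ 0 := fun e => h (M.ι_Z.2 ⟨h1, e, h2, h3, h4⟩)
  simpa [h2, Tw.T, hs, M.ι_Q2] using e
theorem Q1_of (M : Md G τ) (hx : x ∈ M.S) (h : ∀ y ∈ M.W, ⁅x, y⁆ ∈ M.Z) : x ∈ M.Q1 := by
  obtain ⟨u, rfl⟩ := hx
  refine M.ι_Q1.2 (τ.T_nd fun c => ?_)
  have := h _ (M.ι_W.2 ⟨rfl, rfl, rfl⟩ : M.ι (U.x3 τ c) ∈ M.W)
  rw [← map_commutatorElement, ι_Z] at this
  simpa [U.comm_s, U.x3, τ.T_zero, Tw.N, Tw.sh] using this.2.1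
/-- `Z = [V, x]` for `x ∈ S - Q₂` -/
theorem Z_of (M : Md G τ) (hx : x ∈ M.S) (h : x ∉ M.Q2) (hz : z ∈ M.Z) :
    ∃ y ∈ M.V, ⁅x, y⁆ = z := by
  obtain ⟨u, rfl⟩ := hx
  obtain ⟨v, ⟨h1, h2, h3, h4, h5⟩, rfl⟩ := M.mem_Z.1 hz
  rw [ι_Q2] at h
  refine ⟨M.ι (U.x2 ⟨u.t⁻¹ * v.r, by rw [τ.mem_F, map_mul, Tw.σ_inv u.ht, v.hr]⟩),
    M.ι_V.2 ⟨rfl, rfl, rfl, rfl⟩, ?_⟩
  rw [← map_commutatorElement]
  congr 1
  refine U.ext ?_ ?_ ?_ ?_ ?_ ?_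
  · rw [U.comm_a, h1]
  · simp [U.comm_s, U.x2, h2, Tw.T, Tw.N, Tw.sh]
  · simp [U.comm_c, U.x2, h3, Tw.cr, Tw.sh]
  · rw [U.comm_rW u rfl rfl rfl]; simp [U.x2, Tw.T, h]
  · simp [U.comm_b, U.x2, h4]
  · rw [U.comm_t, h5]
theorem inv_mem (M : Md G τ) (hx : x ∈ M.S) (h : x * x = 1) : x ∈ M.Q1 ∨ x ∈ M.Q2 := by
  obtain ⟨u, rfl⟩ := hx
  rw [← map_mul, ← map_one M.ι] at h
  rcases (U.inv_iff u).1 (M.inj h) with h | h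
  exacts [.inl (M.ι_Q1.2 h.1), .inr (M.ι_Q2.2 h.2.1)]
theorem exists_nc (M : Md G τ) : ∃ t ∈ M.S, t * t = 1 ∧ t ∉ C[M.S] := ⟨M.ι (U.x1 τ 1), M.ι_S _, by
    rw [← map_mul, ← (U.rel τ).a1, CharTwo.add_self_eq_zero]; exact map_one M.ι,
  fun h => one_ne_zero (M.ι_Z.1 (M.CS.le ⟨M.ι_S _, h⟩)).1⟩
theorem card_Z (M : Md G τ) : Nat.card M.Z = τ.q := by
  rw [Z, card_map_of_injective M.inj]
  have e : ↥(U.Z τ) ≃ τ.F :=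
    ⟨fun x => ⟨x.1.r, x.1.hr⟩, fun p => ⟨⟨0, 0, 0, p, 0, 0, map_zero _, p.2, map_zero _⟩, rfl, rfl, rfl, rfl, rfl⟩,
      fun ⟨x, hx⟩ => Subtype.ext (by
        simp only [U.Q1, U.Q2, U.W, U.V, U.Z, mem_inf, mem_mk, Submonoid.mem_mk, Subsemigroup.mem_mk,
          Set.mem_ofPred_eq] at hx
        ext <;> simp [hx]), fun _ => rfl⟩
  rw [Nat.card_congr e]; simp only [Nat.card_prod, Tw.q]
theorem card_V (M : Md G τ) : Nat.card M.V = τ.q ^ 2 := by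
  rw [V, card_map_of_injective M.inj]
  have e : ↥(U.V τ) ≃ τ.F × τ.F :=
    ⟨fun x => (⟨x.1.s, x.1.hs⟩, ⟨x.1.r, x.1.hr⟩), fun p => ⟨⟨0, p.1, 0, p.2, 0, 0, p.1.2, p.2.2, map_zero _⟩, rfl, rfl, rfl, rfl⟩,
      fun ⟨x, hx⟩ => Subtype.ext (by
        simp only [U.Q1, U.Q2, U.W, U.V, U.Z, mem_inf, mem_mk, Submonoid.mem_mk, Subsemigroup.mem_mk,
          Set.mem_ofPred_eq] at hx
        ext <;> simp [hx]), fun _ => rfl⟩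
  rw [Nat.card_congr e]; simp only [Nat.card_prod, Tw.q]; ring
theorem card_W (M : Md G τ) : Nat.card M.W = τ.q ^ 2 * Nat.card K := by
  rw [W, card_map_of_injective M.inj]
  have e : ↥(U.W τ) ≃ τ.F × τ.F × K :=
    ⟨fun x => (⟨x.1.s, x.1.hs⟩, ⟨x.1.r, x.1.hr⟩, x.1.c), fun p => ⟨⟨0, p.1, p.2.2, p.2.1, 0, 0, p.1.2, p.2.1.2, map_zero _⟩, rfl, rfl, rfl⟩,
      fun ⟨x, hx⟩ => Subtype.ext (by
        simp only [U.Q1, U.Q2, U.W, U.V, U.Z, mem_inf, mem_mk, Submonoid.mem_mk, Subsemigroup.mem_mk,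
          Set.mem_ofPred_eq] at hx
        ext <;> simp [hx]), fun _ => rfl⟩
  rw [Nat.card_congr e]; simp only [Nat.card_prod, Tw.q]; ring
theorem card_Y (M : Md G τ) : Nat.card M.Y = τ.q ^ 2 * Nat.card K ^ 2 := by
  rw [Y, card_map_of_injective M.inj]
  have e : ↥(U.Q1 τ ⊓ U.Q2 τ) ≃ τ.F × τ.F × K × K :=
    ⟨fun x => (⟨x.1.s, x.1.hs⟩, ⟨x.1.r, x.1.hr⟩, x.1.c, x.1.b), fun p => ⟨⟨0, p.1, p.2.2.1, p.2.1, p.2.2.2, 0, p.1.2, p.2.1.2, map_zero _⟩, rfl, rfl⟩,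
      fun ⟨x, hx⟩ => Subtype.ext (by
        simp only [U.Q1, U.Q2, U.W, U.V, U.Z, mem_inf, mem_mk, Submonoid.mem_mk, Subsemigroup.mem_mk,
          Set.mem_ofPred_eq] at hx
        ext <;> simp [hx]), fun _ => rfl⟩
  rw [Nat.card_congr e]; simp only [Nat.card_prod, Tw.q]; ring
theorem card_Q1 (M : Md G τ) : Nat.card M.Q1 = τ.q ^ 3 * Nat.card K ^ 2 := by
  rw [Q1, card_map_of_injective M.inj]
  have e : ↥(U.Q1 τ) ≃ τ.F × τ.F × τ.F × K × K :=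
    ⟨fun x => (⟨x.1.s, x.1.hs⟩, ⟨x.1.r, x.1.hr⟩, ⟨x.1.t, x.1.ht⟩, x.1.c, x.1.b), fun p => ⟨⟨0, p.1, p.2.2.2.1, p.2.1, p.2.2.2.2, p.2.2.1, p.1.2, p.2.1.2, p.2.2.1.2⟩, rfl⟩,
      fun ⟨x, hx⟩ => Subtype.ext (by
        simp only [U.Q1, U.Q2, U.W, U.V, U.Z, mem_inf, mem_mk, Submonoid.mem_mk, Subsemigroup.mem_mk,
          Set.mem_ofPred_eq] at hx
        ext <;> simp [hx]), fun _ => rfl⟩
  rw [Nat.card_congr e]; simp only [Nat.card_prod, Tw.q]; ring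
theorem card_Q2 (M : Md G τ) : Nat.card M.Q2 = τ.q ^ 2 * Nat.card K ^ 3 := by
  rw [Q2, card_map_of_injective M.inj]
  have e : ↥(U.Q2 τ) ≃ τ.F × τ.F × K × K × K :=
    ⟨fun x => (⟨x.1.s, x.1.hs⟩, ⟨x.1.r, x.1.hr⟩, x.1.c, x.1.b, x.1.a), fun p => ⟨⟨p.2.2.2.2, p.1, p.2.2.1, p.2.1, p.2.2.2.1, 0, p.1.2, p.2.1.2, map_zero _⟩, rfl⟩,
      fun ⟨x, hx⟩ => Subtype.ext (by
        simp only [U.Q1, U.Q2, U.W, U.V, U.Z, mem_inf, mem_mk, Submonoid.mem_mk, Subsemigroup.mem_mk,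
          Set.mem_ofPred_eq] at hx
        ext <;> simp [hx]), fun _ => rfl⟩
  rw [Nat.card_congr e]; simp only [Nat.card_prod, Tw.q]; ring
theorem card_S (M : Md G τ) : Nat.card M.S = τ.q ^ 3 * Nat.card K ^ 3 := (Nat.card_congr (MonoidHom.ofInjective M.inj).toEquiv).symm.trans (U.card τ)
theorem Same.refl (M : Md G τ) : M.Same M := ⟨rfl, rfl, rfl, rfl, rfl, rfl, rfl⟩
theorem Same.symm (h : M.Same M') : M'.Same M := ⟨h.S.symm, h.Q1.symm, h.Q2.symm, h.Y.symm, h.W.symm, h.V.symm, h.Z.symm⟩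
theorem Same.trans (h : M.Same M') (h' : M'.Same M'') : M.Same M'' := ⟨h'.S.trans h.S, h'.Q1.trans h.Q1, h'.Q2.trans h.Q2, h'.Y.trans h.Y,
  h'.W.trans h.W, h'.V.trans h.V, h'.Z.trans h.Z⟩
theorem same_conj (M : Md G τ) (w : U τ) : M.Same (M.conj w) := by
  have k : ∀ X : Subgroup (U τ), M.S ≤ N[X.map M.ι] → X.map (M.conj w).ι = X.map M.ι := fun X h => by
    have e : X.map (M.conj w).ι = cj (M.ι w) (X.map M.ι) := by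
      ext g
      rw [mem_cj']
      constructor
      · rintro ⟨x, hx, rfl⟩
        exact ⟨M.ι x, ⟨x, hx, rfl⟩, by simp [conj_ι]⟩
      · rintro ⟨_, ⟨x, hx, rfl⟩, rfl⟩
        exact ⟨x, hx, by simp [conj_ι]⟩
    rw [e]; exact mem_N_iff_cj.1 (h (M.ι_S w))
  obtain ⟨h1, h2, h3, h4, h5, h6⟩ := M.S_N
  refine ⟨?_, k _ h5, k _ h6, k _ h4, k _ h3, k _ h2, k _ h1⟩
  have := k ⊤ (by rw [← MonoidHom.range_eq_map]; exact le_normalizer)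
  rwa [← MonoidHom.range_eq_map, ← MonoidHom.range_eq_map] at this
theorem Cf.same (h : M.Cf) (e : M.Same M') : M'.Cf := ⟨h.big, by rw [e.Q2, e.W]; exact h.hW, by rw [e.Q1, e.V]; exact h.ex1,
  by rw [e.Q2, e.Z]; exact h.ex2⟩
theorem Gd.same (h : M.Gd) (e : M.Same M') : M'.Gd := ⟨h.toCf.same e, by rw [e.Q1]; exact h.cQ1, by rw [e.Q2]; exact h.cQ2,
  by rw [e.Q1, e.V, e.S]; exact h.nS1, by rw [e.Q2, e.Z, e.S]; exact h.nS2,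
  by rw [e.Q1, e.Z]; exact h.cz, by rw [e.Q2, e.W, e.V]; exact h.cy, by rw [e.Q1, e.Q2]; exact h.gen⟩
theorem of_equiv {G' : Type v} [Group G'] [Finite G'] (M₀ : Md G' τ) (hS : Syl 2 ⊤ S)
    {P' : Subgroup G'} (hP : Syl 2 ⊤ P') (e : S ≃* P') : ∃ M : Md G τ, M.S = S := by
  obtain ⟨g, -, hg⟩ := Sylow_Jsub Nat.prime_two hP M₀.twoS le_top
  let φ : U τ →* P' := ((MulAut.conj g).toMonoidHom.comp M₀.ι).codRestrict P' fun x =>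
    hg (conj_mem_cj g (M₀.ι_S x))
  have hφ : Function.Injective φ := fun a b h => M₀.inj ((MulAut.conj g).injective (congrArg Subtype.val h))
  let ι : U τ →* G := S.subtype.comp (e.symm.toMonoidHom.comp φ)
  have hι : Function.Injective ι := S.subtype_injective.comp (e.symm.injective.comp hφ)
  have hr : ι.range = S := by
    refine eq_of_card_eq (by rintro _ ⟨x, rfl⟩; exact (e.symm (φ x)).2) ?_
    rw [← Nat.card_congr (MonoidHom.ofInjective hι).toEquiv, Nat.card_congr e.toEquiv,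
      Nat.card_congr (MonoidHom.ofInjective M₀.inj).toEquiv]
    exact M₀.syl.card_eq hP
  exact ⟨⟨ι, hι, hr.symm ▸ hS⟩, hr⟩
end Md
theorem Ap.S0.same (h : A.S0 M) (e : M.Same M') : A.S0 M' := ⟨by rw [e.S]; exact h.HS, h.odd, by rw [e.S]; exact h.prod, by rw [e.Q1]; exact h.n1Q,
  by rw [e.V]; exact h.n1V, h.n1H, h.n1s, by rw [e.Q2]; exact h.n6Q, by rw [e.Z]; exact h.n6Z, h.n6H,
  h.n6s, by rw [e.S]; exact h.fpf⟩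


end H27.HX
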