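import Mathlib
import Cfsg.Prelude.Def_LieTwisted
import Cfsg.Prelude.Def_CaseTheorems
import Cfsg.Agent.H27.HX1
import Cfsg.Agent.H26.LMA
import Cfsg.Agent.H26.LMD
import Cfsg.Agent.H26.LMW

set_option autoImplicit false
set_option linter.unusedVariables false
set_option linter.unusedSectionVars false
set_option linter.unusedSimpArgs false

namespace H27.HX

open Cfsg H24 H26 H26.Gold H26.LM Subgroup
open scoped commutatorElement

universe u v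

variable {G : Type u} [Group G] [Finite G] {K : Type} [Field K] [Finite K] [CharP K 2] {τ : Tw K}
  {M M' M'' : Md G τ} {A : Ap G} {H S E M0 R X X' Y L D N0 P J : Subgroup G} {𝒟 : Set G}
  {g h j k l n s t x y z : G} {a a' b c c0 e f : K} {u v w : U τ}

/-! ### HE -/

namespace HEx

theorem odd (hx : OddE x) : Odd (orderOf x) :=
  Nat.odd_iff.2 (Nat.two_dvd_ne_zero.1 ((piNat_compl_singleton Nat.prime_two).1 hx))

theorem mono {C : ℕ → Subgroup G} {m : ℕ} (hm : ∀ i < m, C i ≤ C (i + 1)) : ∀ i ≤ m, C i ≤ C m := by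
  intro i hi
  induction hi using Nat.decreasingInduction with
  | self => exact le_rfl
  | of_succ k h ih => exact (hm k h).trans ih

theorem EM (h : Es H S E M0) : E ≤ M0 := (le_inf h.lt.le (norm_self E)).trans h.leM

end HEx

theorem cent_of_chain (C : ℕ → Subgroup G) (m : ℕ) (h0 : C 0 = ⊥) (h2 : ∀ i ≤ m, TwoG (C i))
    (hx : OddE x) (hm : ∀ i < m, C i ≤ C (i + 1)) (h : ∀ i < m, ∀ y ∈ C (i + 1), ⁅x, y⁆ ∈ C i) :
    x ∈ C[C m] := by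
  induction m with
  | zero => rw [h0, C_bot]; trivial
  | succ m ih =>
    have := ih (fun i hi => h2 i (by omega)) (fun i hi => hm i (by omega)) fun i hi => h i (by omega)
    refine mem_C'.2 fun y hy => ?_
    have c := h m (by omega) y hy
    exact LMWa.fix_of_odd (HEx.odd hx) (c := ⁅x, y⁆) (by rw [commutatorElement_def]; group)
      (mem_C'.1 this _ c) ((h2 m (by omega)).piElt c)

theorem es_stab (h : Es H S E M0) (hP : P ⊴ H ⊓ N[E]) (ho : ∀ x ∈ P, OddE x → x ∈ C[E]) :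
    P ⊓ S ≤ E := by
  have PM : P ≤ M0 := le_of_syl_le fun p hp _ => by
    by_cases e : p = 2
    · subst e
      exact ⟨_, h.syl.inf_nml hP, inf_le_left.trans h.leM⟩
    · obtain ⟨Q, hQ⟩ := Sylow_exists hp P
      exact ⟨Q, hQ, fun x hx => h.cM ⟨(hP.le (hQ.le hx)).1,
        ho x (hQ.le hx) ((hQ.pi.compl_of_ne e).piElt hx)⟩⟩
  intro t ht
  by_contra tE
  exact h.ne fun g hg => h.se g hg t ⟨ht.2, (hP.le ht.1).2⟩ tE (PM (hP.conj_mem hg ht.1))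

theorem es_chain (h : Es H S E M0) (C : ℕ → Subgroup G) (m : ℕ) (h0 : C 0 = ⊥) (hE : C m = E)
    (hm : ∀ i < m, C i ≤ C (i + 1)) (ht : t ∈ S ⊓ N[E])
    (hc : ∀ g ∈ H ⊓ N[E], ∀ i < m, ∀ y ∈ C (i + 1), ⁅g * t * g⁻¹, y⁆ ∈ C i) : t ∈ E := by
  let P : Subgroup G := subOfMul {x | x ∈ H ⊓ N[E] ∧
      ∀ g ∈ H ⊓ N[E], ∀ i < m, ∀ y ∈ C (i + 1), ⁅g * x * g⁻¹, y⁆ ∈ C i}
    ⟨one_mem _, fun g _ i _ y _ => by
      rw [mul_one, mul_inv_cancel, commutatorElement_one_left]; exact one_mem _⟩ (by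
      rintro a ⟨a1, a2⟩ b ⟨b1, b2⟩
      refine ⟨mul_mem a1 b1, fun g hg i hi y hy => ?_⟩
      have c := b2 g hg i hi y hy
      rw [← conj_mul, show ∀ u v : G, ⁅u * v, y⁆ = ⁅u, ⁅v, y⁆⁆ * ⁅v, y⁆ * ⁅u, y⁆ from fun u v => by
        simp only [commutatorElement_def]; group]
      refine mul_mem (mul_mem ?_ c) (a2 g hg i hi y hy)
      rcases i with _ | i
      · rw [h0, mem_bot] at c
        rw [c, commutatorElement_one_right]; exact one_mem _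
      · exact hm i (by omega) (a2 g hg i (by omega) _ c))
  refine es_stab (P := P) h ⟨fun x hx => hx.1, fun k hk => mem_N_of_finite fun x hx =>
    ⟨mul_mem (mul_mem hk hx.1) (inv_mem hk), fun g hg => ?_⟩⟩ (fun x hx ho => hE ▸ ?_)
    ⟨⟨⟨h.SH ht.1, ht.2⟩, hc⟩, ht.1⟩
  · rw [show g * (k * x * k⁻¹) * g⁻¹ = g * k * x * (g * k)⁻¹ by group]
    exact hx.2 _ (mul_mem hg hk)
  · refine cent_of_chain C m h0 (fun i hi => h.two.of_le ((HEx.mono hm i hi).trans (hE ▸ h.lt.le))) ho hm ?_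
    simpa using hx.2 1 (one_mem _)

theorem es_chainN (h : Es H S E M0) (C : ℕ → Subgroup G) (m : ℕ) (h0 : C 0 = ⊥) (hE : C m = E)
    (hm : ∀ i < m, C i ≤ C (i + 1)) (ht : t ∈ S ⊓ N[E]) (hN : ∀ i ≤ m, H ⊓ N[E] ≤ N[C i])
    (hc : ∀ i < m, ∀ y ∈ C (i + 1), ⁅t, y⁆ ∈ C i) : t ∈ E :=
  es_chain h C m h0 hE hm ht fun g hg i hi y hy => by
    have := conj_mem (hN i hi.le hg) (hc i hi _ (conj_mem' (hN (i + 1) hi hg) hy))
    rwa [conjugate_commutatorElement, show g * (g⁻¹ * y * g) * g⁻¹ = y by group] at this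

theorem es_conj (h : Es H S E M0) (hs : s ∈ S) : Es H S (cj s E) (cj s M0) := by
  have e1 : cj s S = S := cj_of_mem hs
  have e2 : cj s H = H := cj_of_mem (h.SH hs)
  have e3 : S ⊓ N[cj s E] = cj s (S ⊓ N[E]) := by rw [cj_inf, cj_N, e1]
  have e4 : H ⊓ N[cj s E] = cj s (H ⊓ N[E]) := by rw [cj_inf, cj_N, e2]
  refine ⟨(cj_lt_cj.2 h.lt).trans_eq e1, h.SH, h.two, ?_, ?_, ?_, ?_, ?_, ?_, ?_⟩
  · have := cj_mono s h.cent
    rwa [cj_inf, cj_C, e1] at this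
  · rw [e3, e4]; exact h.syl.cj s
  · rw [e3]; exact cj_mono s h.leM
  · have := cj_mono s h.cM
    rwa [cj_inf, cj_C, e2] at this
  · rw [e4]; exact cj_mono s h.Mle
  · rw [e4, cj_le_cj]; exact h.ne
  · rw [e3, e4]
    intro g hg t ht tE e
    rw [mem_cj] at *
    exact h.se _ hg _ ht tE (by convert e using 1; group)

theorem dih_lemB (h : Dih H S E x g) (hg : g ∈ C[X]) (hE : E ≤ C[X]) (hx : x ∈ N[X])
    (ht : t ∈ S ⊓ N[E]) (tE : t ∉ E) (t2 : t * t ∈ E) (tX : t ∈ N[X]) : t * x ∈ C[X] := by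
  obtain ⟨r, r1, r2⟩ := h.pw t ht tE t2
  obtain ⟨n, hn⟩ := (h.two.piElt (mul_mem ht.1 h.bT.1)).exists_pow Nat.prime_two
  have n1 := N_le_NC X (mul_mem tX hx)
  have g1 := norm_self _ hg
  have n2 : t * (g * x * g⁻¹) ∈ N[C[X]] :=
    mul_mem (N_le_NC X tX) (mul_mem (mul_mem g1 (N_le_NC X hx)) (inv_mem g1))
  refine D18.mem_of_cop (Nat.Coprime.pow_right n r1.coprime_two_right) ?_ (by
    rw [← hn, pow_orderOf_eq_one]; exact one_mem _)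
  rw [← cs_eq_one (pow_mem n1 _), cs, ap_pow _ n1, ← cs, (cs_eq_cs n1 n2).2 (by
    rw [show (t * x)⁻¹ * (t * (g * x * g⁻¹)) = x⁻¹ * g * x * g⁻¹ by group]
    exact mul_mem (conj_mem' (N_le_NC X hx) hg) (inv_mem hg)), cs, ← ap_pow _ n2]
  exact cs_of_mem (hE r2)

theorem es_lemA (h : Es H S E M0) (hY : Y ≤ E) (hE : E ≤ R) (hR : R ≤ S) (hc : R ≤ C[Y])
    (h2 : ∀ y ∈ Y, y * y = 1) (hk : ∀ x ∈ R, ∀ y ∈ R, ⁅x, y⁆ ∈ Y) (hq : ∀ x ∈ R, x * x ∈ Y)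
    (ht : t ∈ R) (tE : t ∉ E) (t2 : t * t = 1) :
    ∃ g ∈ H ⊓ N[E], ∃ x ∈ cj g Y, x ∉ Y ∧ E = R ⊓ C{x} := by
  have RN : R ≤ N[E] := fun r hr => mem_N_of_finite fun e he => by
    have := mul_mem (hY (hk r hr e (hE he))) he
    rwa [commutatorElement_def, inv_mul_cancel_right] at this
  have cm : ∀ r ∈ R, ∀ y ∈ Y, ⁅r, y⁆ ∈ (⊥ : Subgroup G) := fun r hr y hy =>
    mem_bot.2 (commutatorElement_eq_one_iff_mul_comm.2 (comm_of_cent hc hr hy))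
  obtain ⟨g, d⟩ := h.dih ⟨hR ht, RN ht⟩ tE t2
  have q : Qd S E E Y ⊥ R g := ⟨le_rfl, norm_self E, d.gH.2, hY, norm_of_cent (hE.trans hc), bot_le,
    by rw [C_bot]; trivial, by rw [C_bot]; exact le_top, fun y hy => cm y (hE (hY hy)),
    fun y hy => mem_bot.2 (h2 y hy), fun r hr => ⟨hR hr, RN hr⟩, fun r hr => hY (hq r hr),
    fun r _ => by rw [C_bot]; trivial, fun r hr x hx => hk r hr x (hE hx), cm⟩
  obtain ⟨x, x1, x2⟩ := q.w5 d ht d.nc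
  refine ⟨g, d.gH, x, x1, x2, le_antisymm (le_inf hE fun e he => ?_) fun r hr => ?_⟩
  · have := cent_cj (hE.trans hc) g
    rw [cj_of_mem_N d.gH.2] at this
    exact mem_C1.2 (comm_of_cent this he x1)
  · by_contra rE
    exact x2 (q.w1 d ht hr.1 rE x1 (by
      rw [commutatorElement_eq_one_iff_mul_comm.2 (mem_C1.1 hr.2)]; exact one_mem _))

theorem es_of_se (hS : Syl 2 H S) (hE : E < S) (hn : S ≤ N[E]) (hc : S ⊓ C[E] ≤ E) (hX : S ≤ N[X])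
    (hC : H ⊓ C[E] ≤ N[X]) (hne : ¬ H ⊓ N[E] ≤ N[X])
    (se : ∀ g ∈ H ⊓ N[E], ∀ t ∈ S, t ∉ E → g * t * g⁻¹ ∈ S → g ∈ N[X]) :
    Es H S E (H ⊓ N[E] ⊓ N[X]) := by
  have s1 : S ≤ H ⊓ N[E] := le_inf hS.le hn
  refine ⟨hE, hS.le, hS.pi, hc, ?_, inf_le_left.trans (le_inf s1 hX),
    le_inf (inf_le_inf_left _ (C_le_N E)) hC, inf_le_left, fun k => hne (k.trans inf_le_right),
    fun g hg t ht tE e => ?_⟩
  · rw [inf_eq_left.2 hn]; exact hS.of_le s1 inf_le_left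
  · obtain ⟨m, hm, k⟩ := Sylow_Jsub Nat.prime_two (hS.of_le (le_inf s1 hX) (inf_le_left.trans inf_le_left))
      ((hS.pi.piElt ht.1).conj g).isPi (zpowers_le.2 e)
    have := se (m * g) (mul_mem hm.1 hg) t ht.1 tE (by
      convert k (conj_mem_cj m (mem_zpowers _)) using 1; group)
    exact ⟨hg, (mul_mem_cancel_left (mem_inf.1 hm).2).1 this⟩

theorem idx_two (hS : Syl 2 L S) (hX : S ≤ N[X]) (h : ∀ l ∈ L, cj l X = X ∨ cj l X = X') :
    L ≤ N[X] := le_of_syl_le fun p hp _ => by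
  by_cases e : p = 2
  · subst e
    exact ⟨S, hS, hX⟩
  · obtain ⟨Q, hQ⟩ := Sylow_exists hp L
    refine ⟨Q, hQ, fun l hl => ?_⟩
    have l1 := hQ.le hl
    rcases h l l1 with k | k
    · exact mem_N_iff_cj.2 k
    rcases h _ (mul_mem l1 l1) with k' | k'
    · exact D18.mem_of_cop (HEx.odd ((hQ.pi.compl_of_ne e).piElt hl)).coprime_two_left
        (by rw [pow_two]; exact mem_N_iff_cj.2 k') (by rw [pow_orderOf_eq_one]; exact one_mem _)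
    · rw [← k, cj_mul, cj_inj] at k'
      exact mem_N_iff_cj.2 k'

theorem alp_sub (hS : Syl 2 H S) (h : ∀ E, AFam H S E → H ⊓ N[E] ≤ M0) (hD : D ≤ S) (hg : g ∈ H)
    (hD' : cj g D ≤ S) : ∃ n ∈ M0, ∃ c ∈ H ⊓ C[D], g = n * c := by
  suffices hh : ∃ n ∈ M0 ⊓ H, ∃ c ∈ H ⊓ C[D], g = n * c by
    obtain ⟨n, hn, c, hc, e⟩ := hh
    exact ⟨n, hn.1, c, hc, e⟩
  refine alp hS (fun D g => ∃ n ∈ M0 ⊓ H, ∃ c ∈ H ⊓ C[D], g = n * c) ?_ ?_ ?_ ?_ ?_ D g hD hg hD'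
  · exact fun D c _ hc => ⟨1, one_mem _, c, hc, (one_mul c).symm⟩
  · rintro D g k ⟨n, hn, c, hc, rfl⟩ ⟨n', hn', c', hc', rfl⟩
    refine ⟨n' * n, mul_mem hn' hn, n⁻¹ * c' * n * c, mul_mem (mem_inf.2 ⟨?_, ?_⟩) hc, by group⟩
    · exact mul_mem (mul_mem (inv_mem hn).2 hc'.1) hn.2
    · have h1 := hc'.2
      rw [cj_mul, cj_of_mem_C hc.2, ← cj_C] at h1
      exact mem_cj.1 h1
  · rintro D g ⟨n, hn, c, hc, rfl⟩
    refine ⟨n⁻¹, inv_mem hn, n * c⁻¹ * n⁻¹, mem_inf.2 ⟨?_, ?_⟩, by group⟩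
    · exact mul_mem (mul_mem hn.2 (inv_mem hc).1) (inv_mem hn).2
    · rw [cj_mul, cj_of_mem_C hc.2, ← cj_C]
      exact conj_mem_cj n (inv_mem hc).2
  · rintro D D' g h1 ⟨n, hn, c, hc, rfl⟩
    exact ⟨n, hn, c, ⟨hc.1, C_anti h1 hc.2⟩, rfl⟩
  · exact fun E hE g hg => ⟨g, ⟨h E hE hg, hg.1⟩, 1, one_mem _, (mul_one g).symm⟩

end H27.HX
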