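import Mathlib
import Cfsg.Prelude.Def_LieTwisted
import Cfsg.Prelude.Def_CaseTheorems
import Cfsg.Agent.H27.HX1
import Cfsg.Agent.H27.HB
import Cfsg.Agent.H27.HE

set_option autoImplicit false
set_option linter.unusedVariables false
set_option linter.unusedSectionVars false
set_option linter.unusedSimpArgs false

namespace H27.HX

open Cfsg H24 H26 H26.Gold H26.LM Subgroup
open scoped commutatorElement

universe u v

variable {G : Type u} [Group G] [Finite G] {K : Type} [Field K] [Finite K] [CharP K 2] {τ : Tw K}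
  {M M' M'' : Md G τ} {A : Ap G} {H S E M0 R X X' Y L D N0 P J : Subgroup G} {𝒟 : Set G}
  {g h j k l n s t x y z : G} {a a' b c c0 e f : K} {u v w : U τ}

namespace HE1x

/-- an element of `Q₁` -/
def mq (τ : Tw K) (s c b t : K) (hs : τ.σ s = s) (ht : τ.σ t = t) : U τ :=
  ⟨0, s, c, 0, b, t, hs, map_zero _, ht⟩

theorem comm1 (hu : u.a = 0) (hv : v.a = 0) : ⁅u, v⁆.s = 0 ∧ ⁅u, v⁆.c = 0 ∧ ⁅u, v⁆.b = 0 := by
  simp [U.comm_s, U.comm_c, U.comm_b, hu, hv, Tw.T, Tw.N, Tw.sh, Tw.cr]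

theorem mem (M : Md G τ) (hu : u.a = 0) (hw : w.a = 0)
    (e : u.t * w.s + w.t * u.s + τ.T (u.b * w.c) + τ.T (w.b * u.c) = 0) :
    M.ι u ∈ M.Q1 ⊓ C{M.ι w} :=
  ⟨M.ι_Q1.2 hu, mem_C1.2 (HBx.cm' M ⟨(comm1 hu hw).1, (comm1 hu hw).2.1,
    (U.comm_r1 hu hw).trans e, (comm1 hu hw).2.2⟩)⟩

theorem gen (M : Md G τ) (hu : u.a = 0) (hv : v.a = 0) (hw : M.ι w ∈ M.Z) (h1 : M.ι u ∈ X)
    (h2 : M.ι v ∈ X) (e : u.t * v.s + v.t * u.s + τ.T (u.b * v.c) + τ.T (v.b * u.c) = w.r) :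
    M.ι w ∈ ⁅X, X⁆ := by
  obtain ⟨a1, a2, a3, a4, a5⟩ := M.ι_Z.1 hw
  have : w = ⁅u, v⁆ := U.ext (by rw [a1, U.comm_a]) (by rw [a2, (comm1 hu hv).1])
    (by rw [a3, (comm1 hu hv).2.1]) (by rw [U.comm_r1 hu hv, e]) (by rw [a4, (comm1 hu hv).2.2])
    (by rw [a5, U.comm_t])
  rw [this, map_commutatorElement]
  exact commutator_mem_commutator h1 h2

theorem Z_le (h : Es H M.S E M0) : M.Z ≤ E := fun z hz =>
  h.cent ⟨M.Q1_S ((M.Y_eq ▸ M.W_Y (M.V_W (M.Z_V hz))).1), C_anti h.lt.le (HBx.ZS M hz)⟩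

theorem sqW (M : Md G τ) (hy : y ∈ M.W) : y * y = 1 := by
  rw [← pow_two]; exact M.eaW.2 y hy

end HE1x

open HE1x

/-! ### HE1 -/

theorem Md.perp_der (M : Md G τ) (hx : x ∈ M.Q1) (h : x ∉ M.Z) :
    ⁅M.Q1 ⊓ C{x}, M.Q1 ⊓ C{x}⁆ = M.Z := by
  refine le_antisymm (commutator_le.2 fun a ha b hb => M.c11 ha.1 hb.1) ?_
  obtain ⟨x, hx, rfl⟩ := hx
  have hx : x.a = 0 := hx
  rintro _ ⟨w, hw, rfl⟩
  have hw' : M.ι w ∈ M.Z := ⟨w, hw, rfl⟩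
  have z0 : τ.σ 0 = 0 := map_zero _
  have o1 : τ.σ 1 = 1 := map_one _
  have Tr : τ.T w.r = w.r := Tw.T_fix w.hr
  by_cases ht : x.t = 0
  · by_cases hc : x.c = 0
    · by_cases hb : x.b = 0
      · refine gen M (u := mq τ 0 w.r 0 0 z0 z0) (v := mq τ 0 0 1 0 z0 z0) rfl rfl hw'
          (mem M rfl hx ?_) (mem M rfl hx ?_) ?_ <;> simp [mq, ht, hc, hb, Tr, τ.T_zero]
      · obtain ⟨c, e⟩ := τ.T_surj hb x.hs
        refine gen M (u := mq τ w.r 0 0 0 w.hr z0) (v := mq τ 0 c 0 1 z0 o1) rfl rfl hw'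
          (mem M rfl hx ?_) (mem M rfl hx ?_) ?_ <;>
          simp [mq, ht, e, τ.T_zero, CharTwo.add_self_eq_zero]
    · obtain ⟨c, e⟩ := τ.T_surj hc x.hs
      refine gen M (u := mq τ w.r 0 0 0 w.hr z0) (v := mq τ 0 0 c 1 z0 o1) rfl rfl hw'
        (mem M rfl hx ?_) (mem M rfl hx ?_) ?_ <;>
        simp [mq, ht, mul_comm c, e, τ.T_zero, CharTwo.add_self_eq_zero]
  · have f : ∀ y, τ.σ (x.t⁻¹ * τ.T y) = x.t⁻¹ * τ.T y := fun y => by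
      rw [map_mul, Tw.σ_inv x.ht, τ.σ_T]
    refine gen M (u := mq τ _ w.r 0 0 (f (x.b * w.r)) z0) (v := mq τ _ 0 1 0 (f x.c) z0) rfl rfl hw'
      (mem M rfl hx ?_) (mem M rfl hx ?_) ?_ <;>
      simp [mq, ht, Tr, τ.T_zero, CharTwo.add_self_eq_zero]

theorem e1a (h : Es H M.S E M0) (hE : E ≤ M.Q1) : E = M.Q1 := by
  by_contra hne
  have ex : ∃ t ∈ M.Q1, t ∉ E ∧ t * t = 1 := by
    by_contra hn
    push Not at hn
    have key : ∀ u : U τ, u.a = 0 → u.s * u.t + τ.T (u.b * u.c) = 0 → M.ι u ∈ E := fun u h1 h2 => by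
      by_contra h3
      exact hn _ (M.ι_Q1.2 h1) h3 (by rw [← map_mul, (U.inv_iff u).2 (Or.inl ⟨h1, h2⟩), map_one])
    refine hne (le_antisymm hE ?_)
    rintro _ ⟨u, hu, rfl⟩
    have hu : u.a = 0 := hu
    rw [U.dec u]
    simp only [map_mul]
    refine mul_mem (mul_mem (mul_mem (mul_mem (mul_mem (key _ rfl ?_) (key _ rfl ?_)) (key _ rfl ?_))
      (key _ rfl ?_)) (key _ rfl ?_)) (key _ hu ?_) <;>
      simp [U.x1, U.x2, U.x3, U.x4, U.x5, U.x6, τ.T_zero]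
  obtain ⟨t, ht, tE, t2⟩ := ex
  obtain ⟨g, hg, x, hx, xZ, e⟩ := es_lemA h (Z_le h) hE M.Q1_S (M.Q1_S.trans M.S_CZ)
    (fun y hy => sqW M (M.V_W (M.Z_V hy))) (fun x hx y hy => M.c11 hx hy) (fun x hx => M.sq1 hx)
    ht tE t2
  have h1 : x ∈ M.Q1 := hE (cj_le_of_mem_N (Z_le h) hg.2 hx)
  have h2 : g ∈ N[M.Z] := by
    rw [← M.perp_der h1 xZ, ← e]
    exact norm_comm le_rfl le_rfl hg.2
  exact xZ (mem_N_iff_cj.1 h2 ▸ hx)

theorem e1b (h : Es H M.S E M0) : M.V ≤ E := by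
  intro v hv
  by_contra vE
  have ES := h.lt.le
  have ZE := Z_le h
  have VS : M.V ≤ M.S := fun y hy => M.Q1_S ((M.Y_eq ▸ M.W_Y (M.V_W hy)).1)
  have cm : ∀ t ∈ M.V, ∀ x ∈ E, ⁅t, x⁆ ∈ M.Z := fun t ht x hx => by
    rw [← commutatorElement_inv]; exact inv_mem (M.cSV (ES hx) ht)
  have VN : ∀ t ∈ M.V, t ∈ M.S ⊓ N[E] := fun t ht =>
    ⟨VS ht, HBx.norm_of fun y hy => ZE (cm t ht y hy)⟩
  have cz : ∀ t ∈ M.S, ∀ y ∈ M.Z, ⁅t, y⁆ ∈ (⊥ : Subgroup G) := fun t ht y hy =>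
    mem_bot.2 (commutatorElement_eq_one_iff_mul_comm.2 (mem_C'.1 (M.S_CZ ht) y hy))
  obtain ⟨g, d⟩ := h.dih (VN v hv) vE (sqW M (M.V_W hv))
  have q : Qd M.S E E M.Z ⊥ M.V g := ⟨le_rfl, le_normalizer, d.gH.2, ZE, ES.trans M.S_N.1, bot_le,
    by simp, by simp, fun y hy y' hy' => cz y (ES (ZE hy)) y' hy',
    fun y hy => mem_bot.2 (sqW M (M.V_W (M.Z_V hy))), VN,
    fun t ht => by rw [sqW M (M.V_W ht)]; exact one_mem _, fun t _ => by simp, cm,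
    fun t ht => cz t (VS ht)⟩
  obtain ⟨x, hx, xZ⟩ := q.w5 d hv d.nc
  have xE : x ∈ E := cj_le_of_mem_N ZE d.gH.2 hx
  have xC : x ∈ C[E] := cj_le_of_mem_N (fun z hz => C_anti ES (HBx.ZS M hz))
    (norm_C le_rfl d.gH.2) hx
  have x2 : x * x = 1 := by
    obtain ⟨y, hy, rfl⟩ := mem_cj'.1 hx
    rw [conj_mul, sqW M (M.V_W (M.Z_V hy)), mul_one, mul_inv_cancel]
  have xQ : x ∉ M.Q2 := fun h2 => xZ (q.w1 d hv hv vE hx (by
    rw [← M.CV] at h2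
    rw [commutatorElement_eq_one_iff_mul_comm.2 (mem_C.1 h2.2 v hv)]
    exact one_mem _))
  obtain ⟨x, ha, rfl⟩ := (M.inv_mem (ES xE) x2).resolve_right xQ
  have ha : x.a = 0 := ha
  have ht : x.t ≠ 0 := fun e => xQ (M.ι_Q2.2 e)
  have : E ≤ M.Q1 := fun e he => by
    obtain ⟨e, rfl⟩ := ES he
    have := (HBx.cm M (mem_C.1 xC _ he)).2.2.2
    rw [U.comm_b, ha, mul_zero, add_zero] at this
    exact M.ι_Q1.2 ((mul_eq_zero.1 this).resolve_left ht)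
  exact vE (e1a h this ▸ (M.Y_eq ▸ M.W_Y (M.V_W hv)).1)

end H27.HX
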