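import Mathlib
import Cfsg.Prelude.Def_LieTwisted
import Cfsg.Prelude.Def_CaseTheorems
import Cfsg.Agent.H27.HX1
import Cfsg.Agent.H27.HB
import Cfsg.Agent.H27.HE

set_option autoImplicit false
set_option linter.unusedVariables false
set_option linter.unusedSectionVars false
set_option linter.unusedSimpArgs false

namespace H27.HX

open Cfsg H24 H26 H26.Gold H26.LM Subgroup
open scoped commutatorElement

universe u v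

variable {G : Type u} [Group G] [Finite G] {K : Type} [Field K] [Finite K] [CharP K 2] {τ : Tw K}
  {M M' M'' : Md G τ} {A : Ap G} {H S E M0 R X X' Y L D N0 P J : Subgroup G} {𝒟 : Set G}
  {g h j k l n s t x y z : G} {a a' b c c0 e f : K} {u v w : U τ}

namespace HVx

theorem Z_Q1 (M : Md G τ) : M.Z ≤ M.Q1 := map_mono fun x hx => hx.1
theorem V_Q1 (M : Md G τ) : M.V ≤ M.Q1 := map_mono fun x hx => hx.1
theorem V_Q2 (M : Md G τ) : M.V ≤ M.Q2 := map_mono fun x hx => hx.2.2.2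
theorem Y_Q1 (M : Md G τ) : M.Y ≤ M.Q1 := M.Y_eq ▸ inf_le_left
theorem Y_Q2 (M : Md G τ) : M.Y ≤ M.Q2 := M.Y_eq ▸ inf_le_right

theorem cj_comm' (g x y : G) : g * ⁅x, y⁆ * g⁻¹ = ⁅g * x * g⁻¹, g * y * g⁻¹⁆ := by
  simp only [commutatorElement_def]; group

/-- `D(u)` -/
theorem D_iff (M : Md G τ) (hu : u.a ≠ 0) {p : U τ} (hp : p.a = 0) :
    (p.t = 0 ∧ p.b = 0 ∧ τ.T (u.a * p.c) = 0) ↔ M.ι p * M.ι p = 1 ∧ ⁅M.ι u, M.ι p⁆ ∈ M.Z := by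
  rw [← map_mul, ← map_commutatorElement, M.ι_Z, ← map_one M.ι, M.inj.eq_iff, U.inv_iff]
  simp only [U.comm_a, U.comm_t, U.comm_b, U.comm_c, U.comm_s, hp]
  constructor
  · rintro ⟨h1, h2, h3⟩
    simp [h1, h2, h3, Tw.T_zero, Tw.cr, Tw.sh, Tw.N]
  · rintro ⟨h0, -, h1, h2, h3, -⟩
    have ht : p.t = 0 := by simpa [hu] using h3
    have hc : τ.cr u.a p.b = 0 := by simpa [ht, Tw.cr, Tw.sh] using h2
    obtain ⟨f, hf, hb⟩ := τ.cr_eq_zero hu hc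
    have e1 : τ.T (τ.sh u.a * p.b) = f * τ.N u.a := by
      rw [hb, mul_left_comm, Tw.T_smul hf, mul_comm (τ.sh _), τ.mul_sh, Tw.T_fix (τ.σ_N _)]
    have h4 : τ.T (u.a * p.c) + f * τ.N u.a = 0 := by
      rw [e1, ht] at h1
      simpa [Tw.T_zero, Tw.sh, Tw.N] using h1
    have h5 : f * τ.T (u.a * p.c) = 0 := by
      rcases h0 with h0 | h0
      · have := h0.2
        rwa [ht, mul_zero, zero_add, hb, mul_assoc, Tw.T_smul hf] at this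
      · exact absurd rfl h0.1
    have hN := τ.N_ne hu
    have hf0 : f = 0 := by
      have : f * f * τ.N u.a = 0 := by grind
      simpa [hN] using this
    exact ⟨ht, by rw [hb, hf0, zero_mul], by simpa [hf0] using h4⟩

/-- `Dp(u)` -/
theorem Dp_iff (M : Md G τ) (ha : a ≠ 0) {p : U τ} (hp : p.a = 0) :
    (p.t = 0 ∧ τ.cr a p.b = 0) ↔ ∀ d : U τ, d.a = 0 → (d.t = 0 ∧ d.b = 0 ∧ τ.T (a * d.c) = 0) →
      M.ι p * M.ι d = M.ι d * M.ι p := by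
  constructor
  · rintro ⟨h1, h2⟩ d d1 ⟨d2, d3, d4⟩
    obtain ⟨f, hf, hb⟩ := τ.cr_eq_zero ha h2
    refine HBx.cm' M ?_
    have : τ.T (p.b * d.c) = 0 := by rw [hb, mul_assoc, Tw.T_smul hf, d4, mul_zero]
    simp [U.comm_s, U.comm_c, U.comm_b, U.comm_r1 hp d1, hp, h1, d1, d2, d3, this, Tw.T_zero, Tw.cr,
      Tw.sh, Tw.N]
  · intro h
    have k := fun (d : U τ) (d1 : d.a = 0) hd => (U.comm_r1 hp d1).symm.trans (HBx.cm M (h d d1 hd)).2.2.1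
    have ht : p.t = 0 := by
      simpa [U.x2, τ.T_zero] using k (U.x2 1) rfl ⟨rfl, rfl, by simp [U.x2, τ.T_zero]⟩
    obtain ⟨f, hf, hb⟩ := τ.perp_perp (b := p.b) ha fun c hc => by
      simpa [U.x3, τ.T_zero, mul_comm] using k (U.x3 τ c) rfl ⟨rfl, rfl, by simpa [U.x3, mul_comm] using hc⟩
    exact ⟨ht, by rw [hb, Tw.cr_smul hf, τ.cr_self, mul_zero]⟩

theorem nZ (M : Md G τ) : N[M.Q1] ≤ N[M.Z] := by
  have e : M.Z = M.Q1 ⊓ C[M.Q1] :=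
    le_antisymm (le_inf (Z_Q1 M) (M.CQ1.ge.trans inf_le_right))
      ((inf_le_inf_right _ M.Q1_S).trans M.CQ1.le)
  rw [e]; exact norm_inf le_rfl (norm_C le_rfl)

theorem flip (e : h * x * h⁻¹ = y) : h⁻¹ * y * h⁻¹⁻¹ = x := by rw [← e]; group

theorem a_ne (M : Md G τ) (hh : h ∈ N[M.Q1]) (e : h * M.ι u * h⁻¹ = M.ι v) (hu : u.a ≠ 0) :
    v.a ≠ 0 := fun hv => hu (M.ι_Q1.1 ((conj_mem_iff hh).1 (e ▸ M.ι_Q1.2 hv)))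

theorem a_eq (M : Md G τ) (hh : h ∈ N[M.Q1]) (e : h * M.ι u * h⁻¹ = M.ι v) (hu : u.a = 0) :
    v.a = 0 := M.ι_Q1.1 (e ▸ conj_mem hh (M.ι_Q1.2 hu))

theorem D_tr (M : Md G τ) (hh : h ∈ N[M.Q1]) (e : h * M.ι u * h⁻¹ = M.ι v) (hu : u.a ≠ 0)
    {p p' : U τ} (e' : h * M.ι p * h⁻¹ = M.ι p') (hp : p.a = 0)
    (hd : p.t = 0 ∧ p.b = 0 ∧ τ.T (u.a * p.c) = 0) : p'.t = 0 ∧ p'.b = 0 ∧ τ.T (v.a * p'.c) = 0 := by
  obtain ⟨h1, h2⟩ := (D_iff M hu hp).1 hd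
  refine (D_iff M (a_ne M hh e hu) (a_eq M hh e' hp)).2 ⟨?_, ?_⟩
  · rw [← e']
    calc _ = h * (M.ι p * M.ι p) * h⁻¹ := by group
      _ = 1 := by rw [h1]; group
  · rw [← e, ← e', ← cj_comm']; exact conj_mem (nZ M hh) h2

theorem Dp_tr (M : Md G τ) (hh : h ∈ N[M.Q1]) (e : h * M.ι u * h⁻¹ = M.ι v) (hu : u.a ≠ 0)
    {p p' : U τ} (e' : h * M.ι p * h⁻¹ = M.ι p') (hp : p.a = 0)
    (hd : p.t = 0 ∧ τ.cr u.a p.b = 0) : p'.t = 0 ∧ τ.cr v.a p'.b = 0 := by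
  have hv := a_ne M hh e hu
  refine (Dp_iff M hv (a_eq M hh e' hp)).2 fun d' d1 d2 => ?_
  obtain ⟨d, hd1, ed⟩ := M.mem_Q1.1 (conj_mem (inv_mem hh) (M.ι_Q1.2 d1))
  have h3 := (Dp_iff M hu hp).1 hd d hd1 (D_tr M (inv_mem hh) (flip e) hv ed.symm d1 d2)
  rw [ed, ← flip e'] at h3
  calc _ = h * (h⁻¹ * M.ι p' * h⁻¹⁻¹ * (h⁻¹ * M.ι d' * h⁻¹⁻¹)) * h⁻¹ := by group
    _ = _ := by rw [h3]; group

theorem comm_Dp (M : Md G τ) {p : U τ} (hp : p.a = 0) (hd : p.t = 0 ∧ τ.cr u.a p.b = 0) :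
    ⁅M.ι u, M.ι p⁆ ∈ M.V := by
  rw [← map_commutatorElement, M.ι_V]
  refine ⟨U.comm_a _ _, ?_, ?_, U.comm_t _ _⟩
  · rw [U.comm_c, hd.2, hd.1, hp]; simp [Tw.cr, Tw.sh]
  · rw [U.comm_b, hd.1, hp]; simp

theorem nV (M : Md G τ) (hh : h ∈ N[M.Q1]) (e : h * M.ι u * h⁻¹ = M.ι v) (hu : u.a ≠ 0) :
    h ∈ N[M.V] := by
  refine mem_N_of_finite fun x hx => ?_
  obtain ⟨w, ⟨w1, w2, w3, w4⟩, rfl⟩ := M.mem_V.1 hx
  obtain ⟨c, hc⟩ := τ.T_surj hu w.hs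
  have hd : (U.x3 τ c).t = 0 ∧ τ.cr u.a (U.x3 τ c).b = 0 := ⟨rfl, τ.cr_zero _⟩
  have h1 := comm_Dp M (u := u) (p := U.x3 τ c) rfl hd
  have h2 : ⁅M.ι u, M.ι (U.x3 τ c)⁆⁻¹ * M.ι w ∈ M.Z := by
    rw [← map_commutatorElement] at h1 ⊢
    obtain ⟨k1, k2, k3, k4⟩ := M.ι_V.1 h1
    have k5 : ⁅u, U.x3 τ c⁆.s = w.s := by
      rw [U.comm_s, ← hc]; simp [U.x3, Tw.T_zero, Tw.sh, Tw.N]
    rw [← map_inv, ← map_mul, M.ι_Z]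
    generalize ⁅u, U.x3 τ c⁆ = q at k1 k2 k3 k4 k5
    simp [U.mul_a, U.mul_s, U.mul_c, U.mul_b, U.mul_t, U.inv_a, U.inv_s, U.inv_c, U.inv_b, U.inv_t,
      k1, k2, k3, k4, k5, w1, w2, w3, w4, Tw.T_zero, Tw.cr, Tw.sh, Tw.N, CharTwo.add_self_eq_zero]
  obtain ⟨p', -, ep⟩ := M.mem_Q1.1 (conj_mem hh (M.ι_Q1.2 (rfl : (U.x3 τ c).a = 0)))
  have h3 := comm_Dp M (u := v) (a_eq M hh ep.symm rfl) (Dp_tr M hh e hu ep.symm rfl hd)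
  rw [ep, ← e, ← cj_comm'] at h3
  have h4 := mul_mem h3 (M.Z_V (conj_mem (nZ M hh) h2))
  convert h4 using 1; group

end HVx

open HVx

/-! ### HV -/

theorem Md.nQ1_Z (M : Md G τ) : N[M.Q1] ≤ N[M.Z] := nZ M
theorem Md.nQ2_V (M : Md G τ) : N[M.Q2] ≤ N[M.V] := by
  have e : M.V = M.Q2 ⊓ C[M.Q2] :=
    le_antisymm (le_inf (V_Q2 M) (M.CQ2.ge.trans inf_le_right))
      ((inf_le_inf_right _ M.Q2_S).trans M.CQ2.le)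
  rw [e]; exact norm_inf le_rfl (norm_C le_rfl)
theorem Md.nS_Z (M : Md G τ) : N[M.S] ≤ N[M.Z] := by
  rw [← M.CS]; exact norm_inf le_rfl (norm_C le_rfl)
theorem Md.nY1 (M : Md G τ) : N[M.Q1] ⊓ N[M.V] ≤ N[M.Y] := by
  have e : M.Y = M.Q1 ⊓ C[M.V] := by
    rw [M.Y_eq, ← M.CV, ← inf_assoc, inf_eq_left.2 M.Q1_S]
  rw [e]; exact norm_inf inf_le_left (norm_C inf_le_right)
theorem Md.dv (M : Md G τ) (hh : h ∈ N[M.Q1]) (e : h * M.ι u * h⁻¹ = M.ι v) (hu : u.a ≠ 0) :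
    v.a ≠ 0 ∧ h ∈ N[M.V] ∧ ∀ p p' : U τ, h * M.ι p * h⁻¹ = M.ι p' → p.a = 0 →
      ((p.t = 0 ∧ p.b = 0 ∧ τ.T (u.a * p.c) = 0) ↔ (p'.t = 0 ∧ p'.b = 0 ∧ τ.T (v.a * p'.c) = 0)) ∧
      ((p.t = 0 ∧ τ.cr u.a p.b = 0) ↔ (p'.t = 0 ∧ τ.cr v.a p'.b = 0)) := by
  have hv := a_ne M hh e hu
  exact ⟨hv, nV M hh e hu, fun p p' e' hp =>
    ⟨⟨D_tr M hh e hu e' hp, D_tr M (N[M.Q1].inv_mem hh) (HVx.flip e) hv (HVx.flip e') (a_eq M hh e' hp)⟩,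
      ⟨Dp_tr M hh e hu e' hp, Dp_tr M (N[M.Q1].inv_mem hh) (HVx.flip e) hv (HVx.flip e')
        (a_eq M hh e' hp)⟩⟩⟩
theorem Md.es1 (M : Md G τ) (hH : M.S ≤ H) (h : ¬ H ⊓ N[M.Q1] ≤ N[M.V]) :
    Es H M.S M.Q1 (H ⊓ N[M.Q1] ⊓ N[M.V]) :=
  es_of_se (M.syl_of hH) M.Q1_lt M.S_N.2.2.2.2.1 (M.CQ1.le.trans (Z_Q1 M)) M.S_N.2.1
    (inf_le_right.trans (norm_of_cent (C_anti (V_Q1 M)))) h fun g hg t ht t1 ht' => by
      obtain ⟨u, rfl⟩ := ht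
      obtain ⟨v, e⟩ := ht'
      exact nV M hg.2 e.symm fun hu => t1 (M.ι_Q1.2 hu)
theorem Md.es2 (M : Md G τ) (hH : M.S ≤ H) (h : ¬ H ⊓ N[M.Q2] ≤ N[M.Z]) :
    Es H M.S M.Q2 (H ⊓ N[M.Q2] ⊓ N[M.Z]) :=
  es_of_se (M.syl_of hH) M.Q2_lt M.S_N.2.2.2.2.2 (M.CQ2.le.trans (V_Q2 M)) M.S_N.1
    (inf_le_right.trans (norm_of_cent (C_anti (M.Z_V.trans (V_Q2 M))))) h fun g hg t ht t2 ht' =>
      mem_N_of_finite fun z hz => by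
        obtain ⟨y, hy, rfl⟩ := M.Z_of ht t2 hz
        rw [cj_comm']
        exact M.cSV ht' (conj_mem (M.nQ2_V hg.2) hy)


end H27.HX
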