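import Mathlib
import Cfsg.Prelude.Def_LieTwisted
import Cfsg.Prelude.Def_CaseTheorems
import Cfsg.Agent.H27.HX1
import Cfsg.Agent.H27.HV

set_option autoImplicit false
set_option linter.unusedVariables false
set_option linter.unusedSectionVars false
set_option linter.unusedSimpArgs false

namespace H27.HX

open Cfsg H24 H26 H26.Gold H26.LM Subgroup
open scoped commutatorElement

universe u v

variable {G : Type u} [Group G] [Finite G] {K : Type} [Field K] [Finite K] [CharP K 2] {τ : Tw K}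
  {M M' M'' : Md G τ} {A : Ap G} {H S E M0 R X X' Y L D N0 P J : Subgroup G} {𝒟 : Set G}
  {g h j k l n s t x y z : G} {a a' b c c0 e f : K} {u v w : U τ}

namespace HE2x
open HVx

/-- the join of the conjugates -/
def Jn (L X : Subgroup G) : Subgroup G := ⨆ g : L, cj (g : G) X

theorem le_Jn (L X : Subgroup G) : X ≤ Jn L X := by
  have := le_iSup (fun g : L => cj (g : G) X) 1
  rwa [OneMemClass.coe_one, cj_one] at this

theorem Jn_le (h : ∀ g ∈ L, ∀ x ∈ X, g * x * g⁻¹ ∈ Y) : Jn L X ≤ Y := iSup_le fun g y hy => by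
  obtain ⟨x, hx, rfl⟩ := mem_cj'.1 hy
  exact h g g.2 x hx

theorem norm_Jn (L X : Subgroup G) : L ≤ N[Jn L X] := fun g hg => mem_N_of_cj_le (by
  rw [cj_le_iff]
  refine iSup_le fun k => ?_
  rw [← cj_le_iff, ← cj_mul]
  exact le_iSup (fun g : L => cj (g : G) X) ⟨_, mul_mem hg k.2⟩)

theorem cj_comm1 (g x y : G) : ⁅g * x * g⁻¹, y⁆ = g * ⁅x, g⁻¹ * y * g⁆ * g⁻¹ := by
  simp only [commutatorElement_def]; group

theorem cj_comm2 (g x y : G) : ⁅x, g * y * g⁻¹⁆ = g * ⁅g⁻¹ * x * g, y⁆ * g⁻¹ := by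
  simp only [commutatorElement_def]; group

theorem comm_swap (h : ⁅x, y⁆ ∈ X) : ⁅y, x⁆ ∈ X := by
  rw [← commutatorElement_inv]; exact inv_mem h

theorem norm_of' (h : ∀ y ∈ E, ⁅x, y⁆ ∈ E) : x ∈ N[E] := HBx.norm_of h

theorem sq_cj (g : G) (h : x * x = 1) : g * x * g⁻¹ * (g * x * g⁻¹) = 1 := by
  calc g * x * g⁻¹ * (g * x * g⁻¹) = g * (x * x) * g⁻¹ := by group
    _ = 1 := by rw [h]; group

theorem sqW (M : Md G τ) (hx : x ∈ M.W) : x * x = 1 := by rw [← sq]; exact M.eaW.2 x hx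

/-- an involution whose commutator with `e` lies in `W` -/
theorem mem_Y (M : Md G τ) (ea : u.a ≠ 0) (et : u.t ≠ 0) (hx : x ∈ M.S) (h2 : x * x = 1)
    (h : ⁅x, M.ι u⁆ ∈ M.W) : x ∈ M.Y := by
  obtain ⟨p, rfl⟩ := hx
  rw [← map_commutatorElement, M.ι_W, U.comm_b] at h
  have hb := h.2.1
  rcases M.inv_mem (M.ι_S p) h2 with h1 | h1
  · have h3 := M.ι_Q1.1 h1
    exact M.ι_Y.2 ⟨h3, by simpa [h3, ea] using hb⟩
  · have h3 := M.ι_Q2.1 h1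
    exact M.ι_Y.2 ⟨by simpa [h3, et] using hb, h3⟩

theorem mem_W (M : Md G τ) (ea : u.a ≠ 0) (hx : x ∈ M.Q1) (h2 : x * x = 1)
    (h : ⁅M.ι u, x⁆ ∈ M.Z) : x ∈ M.W := by
  obtain ⟨p, hp, rfl⟩ := M.mem_Q1.1 hx
  have := (D_iff M ea hp).2 ⟨h2, h⟩
  exact M.ι_W.2 ⟨hp, this.2.1, this.1⟩

theorem mem_Z (M : Md G τ) (et : u.t ≠ 0) (hx : x ∈ M.V) (h : M.ι u * x = x * M.ι u) : x ∈ M.Z := by
  obtain ⟨p, ⟨h1, h2, h3, h4⟩, rfl⟩ := M.mem_V.1 hx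
  have := (HBx.cm M h).2.2.1
  rw [U.comm_rW u h1 h3 h4] at this
  exact M.ι_Z.2 ⟨h1, by simpa [h2, Tw.T_zero, et] using this, h2, h3, h4⟩

/-- `D(a)` -/
def Da (τ : Tw K) (a : K) : Subgroup (U τ) where
  carrier := {p | p.a = 0 ∧ p.t = 0 ∧ p.b = 0 ∧ τ.T (a * p.c) = 0}
  one_mem' := ⟨rfl, rfl, rfl, by simp [Tw.T_zero]⟩
  mul_mem' := fun {x y} hx hy => by
    obtain ⟨h1, h2, h3, h4⟩ := hx; obtain ⟨k1, k2, k3, k4⟩ := hy
    simp [U.mul_a, U.mul_b, U.mul_c, U.mul_t, Tw.cr, mul_add, Tw.T_add, *]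
  inv_mem' := fun {x} hx => by
    obtain ⟨h1, h2, h3, h4⟩ := hx
    simp [U.inv_a, U.inv_b, U.inv_c, U.inv_t, Tw.cr, *]

/-- `Dp(a)` -/
def Dp (τ : Tw K) (a : K) : Subgroup (U τ) where
  carrier := {p | p.a = 0 ∧ p.t = 0 ∧ τ.cr a p.b = 0}
  one_mem' := ⟨rfl, rfl, τ.cr_zero _⟩
  mul_mem' := fun {x y} hx hy => by
    obtain ⟨h1, h2, h3⟩ := hx; obtain ⟨k1, k2, k3⟩ := hy
    simp [U.mul_a, U.mul_b, U.mul_t, Tw.cr_add, *]
  inv_mem' := fun {x} hx => by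
    obtain ⟨h1, h2, h3⟩ := hx
    simp [U.inv_a, U.inv_b, U.inv_t, *]

end HE2x

open HVx HE2x

/-! ### HE2 -/

theorem e2 (h : Es H M.S E M0) (hV : M.V ≤ E) (h1 : ¬ E ≤ M.Q1) (h2 : ¬ E ≤ M.Q2) : False := by
  have ES : E ≤ M.S := h.lt.le
  obtain ⟨u, uE, ea, et⟩ : ∃ u : U τ, M.ι u ∈ E ∧ u.a ≠ 0 ∧ u.t ≠ 0 := by
    obtain ⟨x, hx, x1⟩ := SetLike.not_le_iff_exists.1 h1
    obtain ⟨y, hy, y2⟩ := SetLike.not_le_iff_exists.1 h2
    obtain ⟨p, rfl⟩ := ES hx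
    obtain ⟨q, rfl⟩ := ES hy
    rw [M.ι_Q1] at x1
    rw [M.ι_Q2] at y2
    by_cases hp : p.t = 0
    · by_cases hq : q.a = 0
      · exact ⟨p * q, by rw [map_mul]; exact mul_mem hx hy, by simpa [U.mul_a, hq] using x1,
          by simpa [U.mul_t, hp] using y2⟩
      · exact ⟨q, hy, hq, y2⟩
    · exact ⟨p, hx, x1, hp⟩
  have u2 : M.ι u ∉ M.Q2 := fun e => et (M.ι_Q2.1 e)
  have WS : M.W ≤ M.S := map_le_range _ _
  have YS : M.Y ≤ M.S := map_le_range _ _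
  have VS : M.V ≤ M.S := map_le_range _ _
  have ZE : M.Z ≤ E := M.Z_V.trans hV
  have cE : ∀ g ∈ H ⊓ N[E], ∀ x ∈ E, g * x * g⁻¹ ∈ E := fun g hg x hx => conj_mem hg.2 hx
  have cE' : ∀ g ∈ H ⊓ N[E], ∀ x ∈ E, g⁻¹ * x * g ∈ E := fun g hg x hx => conj_mem' hg.2 hx
  have cZ : ∀ t ∈ M.S, ∀ y ∈ M.Z, ⁅t, y⁆ ∈ (⊥ : Subgroup G) := fun t ht y hy =>
    mem_bot.2 (commutatorElement_eq_one_iff_mul_comm.2 (mem_C'.1 (M.S_CZ ht) y hy))
  have ZΩ : M.Z ≤ Om E := fun z hz =>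
    ⟨ZE hz, C_anti ES (HBx.ZS M hz), sqW M (M.V_W (M.Z_V hz))⟩
  have ΩW : Om E ≤ M.W := fun x hx => by
    have hc : ⁅M.ι u, x⁆ = 1 := commutatorElement_eq_one_iff_mul_comm.2 (mem_C.1 hx.2.1 _ uE)
    have hc' : ⁅x, M.ι u⁆ = 1 := commutatorElement_eq_one_iff_mul_comm.2 (mem_C'.1 hx.2.1 _ uE)
    exact mem_W M ea (Y_Q1 M (mem_Y M ea et (ES hx.1) hx.2.2 (hc' ▸ one_mem _))) hx.2.2 (hc ▸ one_mem _)
  -- (1)
  have VY : ∀ g ∈ H ⊓ N[E], ∀ x ∈ M.V, g * x * g⁻¹ ∈ M.Y := fun g hg x hx => by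
    refine mem_Y M ea et (ES (cE g hg x (hV hx))) (sq_cj g (sqW M (M.V_W hx))) ?_
    rw [cj_comm1]
    exact ΩW (conj_mem (norm_Om E hg.2) (ZΩ (comm_swap (M.cSV (ES (cE' g hg _ uE)) hx))))
  have JVE : Jn (H ⊓ N[E]) M.V ≤ E := Jn_le fun g hg x hx => cE g hg x (hV hx)
  have WE : M.W ≤ E := fun t ht => by
    have tE : ∀ y ∈ E, ⁅t, y⁆ ∈ M.V := fun y hy => comm_swap (M.cSW (ES hy) ht)
    refine es_chainN h (fun i => [⊥, Om E, Om E ⊔ Jn (H ⊓ N[E]) M.V].getD i E) 3 rfl rfl ?_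
      ⟨WS ht, norm_of' fun y hy => hV (tE y hy)⟩ ?_ ?_
    · intro i hi
      interval_cases i
      · exact bot_le
      · exact le_sup_left
      · exact sup_le (fun x hx => hx.1) JVE
    · intro i hi
      interval_cases i
      · exact N_bot.ge.trans' le_top
      · exact inf_le_right.trans (norm_Om E)
      · exact norm_sup (inf_le_right.trans (norm_Om E)) (norm_Jn _ _)
      · exact inf_le_right
    · intro i hi
      interval_cases i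
      · intro y hy
        exact mem_bot.2 (commutatorElement_eq_one_iff_mul_comm.2 (HBx.cm_sq (fun _ => sqW M) ht (ΩW hy)))
      · intro y hy
        exact ZΩ (M.c11 (Y_Q1 M (M.W_Y ht)) (Y_Q1 M (sup_le (ΩW.trans M.W_Y) (Jn_le VY) hy)))
      · intro y hy
        exact mem_sup_right (le_Jn _ _ (tE y hy))
  -- (2)
  have nZ : H ⊓ N[E] ≤ N[M.Z] := fun g hg => mem_N_of_finite fun z hz => by
    by_cases hW : ∀ x ∈ M.V, g * x * g⁻¹ ∈ M.W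
    · have zΩ := conj_mem (norm_Om E hg.2) (ZΩ hz)
      obtain ⟨y, hy, rfl⟩ := M.Z_of (ES uE) u2 hz
      refine mem_Z M et ?_ (mem_C.1 zΩ.2.1 _ uE)
      rw [cj_comm']
      exact M.cSW (ES (cE g hg _ uE)) (hW y hy)
    · push Not at hW
      obtain ⟨x, hx, xW⟩ := hW
      have h3 : g * x * g⁻¹ ∉ C[M.W] := fun e => xW (M.CW.le ⟨ES (cE g hg x (hV hx)), e⟩)
      rw [mem_C] at h3
      push Not at h3
      obtain ⟨w, hw, hne⟩ := h3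
      have w2 : g⁻¹ * w * g ∉ M.Q2 := fun e => hne (by
        have := mem_C'.1 (M.CV.ge e).2 x hx
        calc w * (g * x * g⁻¹) = g * (g⁻¹ * w * g * x) * g⁻¹ := by group
          _ = _ := by rw [this]; group)
      obtain ⟨y, hy, rfl⟩ := M.Z_of (ES (cE' g hg w (WE hw))) w2 hz
      rw [← cj_comm2]
      exact M.c11 (Y_Q1 M (M.W_Y hw)) (Y_Q1 M (VY g hg y hy))
  -- (3)
  have VW : ∀ g ∈ H ⊓ N[E], ∀ x ∈ M.V, g * x * g⁻¹ ∈ M.W := fun g hg x hx => by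
    refine mem_W M ea (Y_Q1 M (VY g hg x hx)) (sq_cj g (sqW M (M.V_W hx))) ?_
    rw [cj_comm2]
    exact conj_mem (nZ hg) (M.cSV (ES (cE' g hg _ uE)) hx)
  have WY : ∀ g ∈ H ⊓ N[E], ∀ x ∈ M.W, g * x * g⁻¹ ∈ M.Y := fun g hg x hx => by
    refine mem_Y M ea et (ES (cE g hg x (WE hx))) (sq_cj g (sqW M hx)) ?_
    rw [cj_comm1]
    exact VW g hg _ (comm_swap (M.cSW (ES (cE' g hg _ uE)) hx))
  have step : ∀ X : Subgroup G, M.Z ≤ X → X ≤ E → ∀ t ∈ M.Q1, (∀ y ∈ E, ⁅t, y⁆ ∈ X) →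
      (∀ g ∈ H ⊓ N[E], ∀ x ∈ X, g * x * g⁻¹ ∈ M.Q1) → t ∈ E := fun X ZX XE t ht tE hX => by
    refine es_chainN h (fun i => [⊥, M.Z, Jn (H ⊓ N[E]) X].getD i E) 3 rfl rfl ?_
      ⟨M.Q1_S ht, norm_of' fun y hy => XE (tE y hy)⟩ ?_ ?_
    · intro i hi
      interval_cases i
      · exact bot_le
      · exact ZX.trans (le_Jn _ _)
      · exact Jn_le fun g hg x hx => cE g hg x (XE hx)
    · intro i hi
      interval_cases i
      · exact N_bot.ge.trans' le_top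
      · exact nZ
      · exact norm_Jn _ _
      · exact inf_le_right
    · intro i hi
      interval_cases i
      · exact cZ t (M.Q1_S ht)
      · intro y hy
        exact M.c11 ht (Jn_le hX hy)
      · intro y hy
        exact le_Jn _ _ (tE y hy)
  have YE : M.Y ≤ E := fun t ht => step M.W (M.Z_V.trans M.V_W) WE t (Y_Q1 M ht)
    (fun y hy => comm_swap (M.cSY (ES hy) ht)) fun g hg x hx => Y_Q1 M (WY g hg x hx)
  -- (4)
  have toQ : ∀ g ∈ H ⊓ N[E], ∀ x ∈ E, x ∈ M.Q1 → g * x * g⁻¹ ∈ M.Q1 := fun g hg x hx hx1 =>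
    M.Q1_of (ES (cE g hg x hx)) fun w hw => by
      rw [cj_comm1]
      have := WY g⁻¹ (inv_mem hg) w hw
      rw [inv_inv] at this
      exact conj_mem (nZ hg) (M.c11 hx1 (Y_Q1 M this))
  have QE : M.Q1 ≤ E := fun t ht => step M.Y ((M.Z_V.trans M.V_W).trans M.W_Y) YE t ht
    (fun y hy => M.cSS (M.Q1_S ht) (ES hy)) fun g hg x hx => toQ g hg x (YE hx) (Y_Q1 M hx)
  have nQ : H ⊓ N[E] ≤ N[M.Q1] := fun g hg => mem_N_of_finite fun x hx => toQ g hg x (QE hx) hx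
  -- (5)
  refine h.lt.not_ge fun t ht => ?_
  refine es_chain h (fun i => [⊥, M.Z, M.V, (Da τ u.a).map M.ι, (Dp τ u.a).map M.ι, M.Y].getD i E) 6
    rfl rfl ?_ ⟨ht, norm_of' fun y hy => YE (M.cSS ht (ES hy))⟩ ?_
  · intro i hi
    interval_cases i
    · exact bot_le
    · exact M.Z_V
    · exact map_mono fun x ⟨k1, k2, k3, k4⟩ => ⟨k1, k4, k3, by rw [k2, mul_zero, τ.T_zero]⟩
    · exact map_mono fun x ⟨k1, k2, k3, k4⟩ => ⟨k1, k2, by rw [k3, τ.cr_zero]⟩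
    · exact map_mono fun x ⟨k1, k2, k3⟩ => ⟨k1, k2⟩
    · exact YE
  · intro g hg i hi y hy
    obtain ⟨u', eu⟩ := ES (cE' g hg _ uE)
    have eu' : g * M.ι u' * g⁻¹ = M.ι u := by rw [eu]; group
    have ea' : u'.a ≠ 0 := a_ne M (inv_mem (nQ hg)) (HVx.flip eu') ea
    have gV := nV M (nQ hg) eu' ea'
    have gY : g ∈ N[M.Y] := M.nY1 ⟨nQ hg, gV⟩
    obtain ⟨q, rfl⟩ := ht
    rw [cj_comm1]
    interval_cases i
    · rw [mem_bot.1 (cZ _ (M.ι_S q) _ (conj_mem' (nZ hg) hy))]; simp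
    · exact conj_mem (nZ hg) (M.cSV (M.ι_S q) (conj_mem' gV hy))
    · obtain ⟨p, ⟨k1, k2, k3, k4⟩, rfl⟩ := hy
      obtain ⟨p', -, ep⟩ := M.mem_Q1.1 (conj_mem (inv_mem (nQ hg)) (M.ι_Q1.2 k1))
      have := D_tr M (inv_mem (nQ hg)) (HVx.flip eu') ea ep.symm k1 ⟨k2, k3, k4⟩
      have pa := a_eq M (inv_mem (nQ hg)) ep.symm k1
      rw [inv_inv] at ep
      rw [← ep]
      exact conj_mem gV (M.cSW (M.ι_S q) (M.ι_W.2 ⟨pa, this.2.1, this.1⟩))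
    · obtain ⟨p, ⟨k1, k2, k3⟩, rfl⟩ := hy
      obtain ⟨p', -, ep⟩ := M.mem_Q1.1 (conj_mem (inv_mem (nQ hg)) (M.ι_Q1.2 k1))
      have := Dp_tr M (inv_mem (nQ hg)) (HVx.flip eu') ea ep.symm k1 ⟨k2, k3⟩
      have pa := a_eq M (inv_mem (nQ hg)) ep.symm k1
      rw [inv_inv] at ep
      rw [← ep, ← map_commutatorElement]
      obtain ⟨r, ra, er⟩ := M.mem_Q1.1 (conj_mem (nQ hg) (M.ι_Q1.2 (U.comm_a q p')))
      refine ⟨r, ⟨ra, D_tr M (nQ hg) eu' ea' er.symm (U.comm_a q p') ⟨U.comm_t _ _, ?_, ?_⟩⟩, er⟩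
      · rw [U.comm_b, this.1, pa]; simp
      · have e : ⁅q, p'⁆.c = τ.cr q.a p'.b := by
          rw [U.comm_c, this.1, pa]; simp [Tw.cr, Tw.sh]
        rw [e, τ.T_cr, τ.cr_comm p'.b, this.2, mul_zero, τ.T_zero]
    · obtain ⟨w, ⟨k1, k2, k3⟩, ew⟩ := M.mem_W.1 (M.cSY (M.ι_S q) (conj_mem' gY hy))
      rw [← ew]
      obtain ⟨r, ra, er⟩ := M.mem_Q1.1 (conj_mem (nQ hg) (M.ι_Q1.2 k1))
      exact ⟨r, ⟨ra, Dp_tr M (nQ hg) eu' ea' er.symm k1 ⟨k3, by rw [k2, τ.cr_zero]⟩⟩, er⟩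
    · exact conj_mem gY (M.cSS (M.ι_S q) (ES (cE' g hg y hy)))


end H27.HX
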