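import Mathlib
import Cfsg.Prelude.Def_LieTwisted
import Cfsg.Prelude.Def_CaseTheorems
import Cfsg.Agent.H27.HX1
import Cfsg.Agent.H27.HB
import Cfsg.Agent.H27.HE

set_option autoImplicit false
set_option linter.unusedVariables false
set_option linter.unusedSectionVars false
set_option linter.unusedSimpArgs false

namespace H27.HX

open Cfsg H24 H26 H26.Gold H26.LM Subgroup
open scoped commutatorElement

universe u v

variable {G : Type u} [Group G] [Finite G] {K : Type} [Field K] [Finite K] [CharP K 2] {τ : Tw K}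
  {M M' M'' : Md G τ} {A : Ap G} {H S E M0 R X X' Y L D N0 P J : Subgroup G} {𝒟 : Set G}
  {g h j k l n s t x y z : G} {a a' b c c0 e f : K} {u v w : U τ}

namespace HE3x

theorem zero_cr (τ : Tw K) (a : K) : τ.cr 0 a = 0 := by rw [τ.cr_comm, τ.cr_zero]
theorem sh_zero (τ : Tw K) : τ.sh 0 = 0 := by simp [Tw.sh]

/-- commutator of an element of `Q₂` with an element of `W` -/
theorem cW (hu : u.t = 0) (ha : w.a = 0) (hb : w.b = 0) (ht : w.t = 0) :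
    ⁅u, w⁆.s = τ.T (u.a * w.c) ∧ ⁅u, w⁆.c = 0 ∧ ⁅u, w⁆.r = τ.T (u.b * w.c) ∧ ⁅u, w⁆.b = 0 := by
  simp [U.comm_s, U.comm_c, U.comm_rW u ha hb ht, U.comm_b, hu, ha, hb, ht, τ.T_zero, τ.cr_zero,
    zero_cr, sh_zero]

theorem cm_iff (M : Md G τ) (hu : u.t = 0) (ha : w.a = 0) (hb : w.b = 0) (ht : w.t = 0) :
    M.ι u * M.ι w = M.ι w * M.ι u ↔ τ.T (u.a * w.c) = 0 ∧ τ.T (u.b * w.c) = 0 := by
  obtain ⟨h1, h2, h3, h4⟩ := cW hu ha hb ht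
  constructor
  · intro h
    have := HBx.cm M h
    exact ⟨h1 ▸ this.1, h3 ▸ this.2.2.1⟩
  · intro h
    exact HBx.cm' M ⟨h1.trans h.1, h2, h3.trans h.2, h4⟩

theorem c2 (hu : u.t = 0) (hv : v.t = 0) : ⁅u, v⁆.c = τ.cr u.a v.b + τ.cr v.a u.b := by
  simp [U.comm_c, hu, hv]

theorem Q2_CV (M : Md G τ) : M.Q2 ≤ C[M.V] := M.CV.ge.trans inf_le_right

theorem x1_sq (M : Md G τ) (a : K) : M.ι (U.x1 τ a) * M.ι (U.x1 τ a) = 1 := by
  rw [← map_mul, ← (U.rel τ).a1, CharTwo.add_self_eq_zero]; exact map_one _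
theorem x5_sq (M : Md G τ) (a : K) : M.ι (U.x5 τ a) * M.ι (U.x5 τ a) = 1 := by
  rw [← map_mul, ← (U.rel τ).a5, CharTwo.add_self_eq_zero]; exact map_one _
theorem x3_sq (M : Md G τ) (a : K) : M.ι (U.x3 τ a) * M.ι (U.x3 τ a) = 1 := by
  rw [← map_mul, ← (U.rel τ).a3, CharTwo.add_self_eq_zero]; exact map_one _

theorem Wsq (M : Md G τ) (hx : x ∈ M.W) : x * x = 1 := by rw [← sq]; exact M.eaW.2 x hx
theorem Wcm (M : Md G τ) (hx : x ∈ M.W) (hy : y ∈ M.W) : x * y = y * x :=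
  HBx.cm_sq (fun _ => Wsq M) hx hy

theorem comm_one (h : x * y = y * x) : ⁅x, y⁆ = 1 := commutatorElement_eq_one_iff_mul_comm.2 h

theorem Q2N (hW : M.W ≤ E) (h2 : E ≤ M.Q2) : M.Q2 ≤ M.S ⊓ N[E] := fun t ht =>
  ⟨M.Q2_S ht, HBx.norm_of fun y hy => hW (M.c22 ht (h2 hy))⟩

theorem caseA (h : Es H M.S E M0) (hW : M.W ≤ E) (h2 : E ≤ M.Q2) (hne : ¬ M.Q2 ≤ E)
    (hw : M.ι w ∈ Om E) (hc : w.c ≠ 0) : False := by
  have hT := Q2N hW h2
  have hOW : Om E ≤ M.W := fun x hx =>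
    M.CW.le ⟨h.lt.le hx.1, C_anti hW hx.2.1⟩
  have hVO : M.V ≤ Om E := fun x hx =>
    ⟨hW (M.V_W hx), cents_symm (h2.trans (Q2_CV M)) hx, Wsq M (M.V_W hx)⟩
  have hEO : E ≤ C[Om E] := cents_symm fun x hx => hx.2.1
  have hSO : M.S ⊓ C[Om E] ≤ M.Q2 := fun x hx => M.CV.le ⟨hx.1, C_anti hVO hx.2⟩
  -- the centraliser of `Ω` in coordinates
  have cO : ∀ {u : U τ}, u.t = 0 → (M.ι u ∈ C[Om E] ↔
      ∀ w : U τ, M.ι w ∈ Om E → τ.T (u.a * w.c) = 0 ∧ τ.T (u.b * w.c) = 0) := by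
    intro u hu
    rw [mem_C']
    constructor
    · intro hh w hw
      obtain ⟨k1, k2, k3⟩ := M.ι_W.1 (hOW hw)
      exact (cm_iff M hu k1 k2 k3).1 (hh _ hw)
    · intro hh x hx
      obtain ⟨w, ⟨k1, k2, k3⟩, rfl⟩ := M.mem_W.1 (hOW hx)
      exact (cm_iff M hu k1 k2 k3).2 (hh _ hx)
  have hCE : M.S ⊓ C[Om E] ≤ E := by
    intro t ht
    refine es_chainN h (fun i => if i = 0 then ⊥ else if i = 1 then Om E else E) 2 rfl rfl ?_
      (hT (hSO ht)) ?_ ?_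
    · intro i hi
      interval_cases i
      · exact bot_le
      · exact fun x hx => hx.1
    · intro i hi
      interval_cases i
      · exact le_top.trans N_bot.ge
      · exact inf_le_right.trans (norm_Om E)
      · exact inf_le_right
    · intro i hi y hy
      interval_cases i
      · exact (comm_one (mem_C'.1 ht.2 y hy)).symm ▸ one_mem _
      · show ⁅t, y⁆ ∈ Om E
        have hy' : y ∈ E := hy
        have hcw := M.c22 (hSO ht) (h2 hy')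
        refine ⟨hW hcw, ?_, Wsq M hcw⟩
        obtain ⟨u, hu, rfl⟩ := M.mem_Q2.1 (hSO ht)
        obtain ⟨v, hv, rfl⟩ := M.mem_Q2.1 (h2 hy')
        obtain ⟨u1, u2⟩ := (cO hu).1 ht.2 w hw
        obtain ⟨v1, v2⟩ := (cO hv).1 (hEO hy') w hw
        have e0 : τ.cr w.c ⁅u, v⁆.c = 0 := by
          rw [c2 hu hv, τ.cr_add, τ.cr_comm w.c, τ.cr_comm w.c, τ.cr_cr, τ.cr_cr, u1, u2, v1, v2]
          simp
        obtain ⟨f, hf, e1⟩ := τ.cr_eq_zero hc e0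
        rw [← map_commutatorElement] at hcw ⊢
        obtain ⟨k1, k2, k3⟩ := M.ι_W.1 hcw
        refine mem_C.2 fun x hx => ?_
        obtain ⟨p, hp, rfl⟩ := M.mem_Q2.1 (h2 hx)
        obtain ⟨p1, p2⟩ := (cO hp).1 (hEO hx) w hw
        refine (cm_iff M hp k1 k2 k3).2 ⟨?_, ?_⟩
        · rw [e1, mul_left_comm, Tw.T_smul hf, p1, mul_zero]
        · rw [e1, mul_left_comm, Tw.T_smul hf, p2, mul_zero]
  have mE : ∀ {u : U τ}, u.t = 0 → (M.ι u ∈ E ↔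
      ∀ w : U τ, M.ι w ∈ Om E → τ.T (u.a * w.c) = 0 ∧ τ.T (u.b * w.c) = 0) := fun {u} hu =>
    ⟨fun hh => (cO hu).1 (hEO hh), fun hh => hCE ⟨M.ι_S u, (cO hu).2 hh⟩⟩
  obtain ⟨a, w0, hw0, ha⟩ : ∃ a w0, M.ι w0 ∈ Om E ∧ τ.T (a * w0.c) ≠ 0 := by
    by_contra hcon
    push Not at hcon
    refine hne fun x hx => ?_
    obtain ⟨p, hp, rfl⟩ := M.mem_Q2.1 hx
    exact (mE hp).2 fun w hw => ⟨hcon _ _ hw, hcon _ _ hw⟩
  have n1 : M.ι (U.x1 τ a) ∉ E := fun hh => ha ((mE rfl).1 hh w0 hw0).1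
  have n5 : M.ι (U.x5 τ a) ∉ E := fun hh => ha ((mE rfl).1 hh w0 hw0).2
  have q1 : M.ι (U.x1 τ a) ∈ M.Q2 := M.ι_Q2.2 rfl
  have q5 : M.ι (U.x5 τ a) ∈ M.Q2 := M.ι_Q2.2 rfl
  obtain ⟨g, d⟩ := h.dih (hT q1) n1 (x1_sq M a)
  have hg : g ∉ C[Om E] := by
    intro hg
    have := dih_lemB d hg hEO (norm_Om E (hT q1).2) (hT q5) n5 (by rw [x5_sq]; exact one_mem _)
      (norm_Om E (hT q5).2)
    rw [← map_mul] at this
    refine ha ?_
    have := ((cO (by simp [U.mul_t, U.x1, U.x5])).1 this w0 hw0).1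
    simpa [U.mul_a, U.x1, U.x5] using this
  have q : Qd M.S E (Om E) M.V ⊥ M.Q2 g :=
    { KE := fun x hx => hx.1
      EK := (norm_self E).trans (norm_Om E)
      gK := norm_Om E d.gH.2
      YK := hVO
      EY := h.lt.le.trans M.S_N.2.1
      ZY := bot_le
      gZ := by rw [C_bot]; trivial
      EZ := by rw [C_bot]; exact le_top
      YY := fun y hy y' hy' => comm_one (Wcm M (M.V_W hy) (M.V_W hy'))
      Y2 := fun y hy => Wsq M (M.V_W hy)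
      BT := hT
      B2 := fun t ht => hW (M.sq2 ht)
      BZ := fun t _ => by rw [C_bot]; trivial
      BK := fun t ht x hx => M.cSW (M.Q2_S ht) (hOW hx)
      BY := fun t ht y hy => comm_one (mem_C'.1 (Q2_CV M ht) y hy) }
  obtain ⟨x, hx, hxV⟩ := q.w5 d q1 hg
  have hVO' : cj g M.V ≤ Om E := cj_le_of_mem_N hVO q.gK
  obtain ⟨p, ⟨p1, p2, p3⟩, rfl⟩ := M.mem_W.1 (hOW (hVO' hx))
  have pc : p.c ≠ 0 := fun e => hxV (M.ι_V.2 ⟨p1, e, p2, p3⟩)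
  have w1 : ∀ t ∈ M.Q2, ⁅t, M.ι p⁆ ∈ cj g M.V → t ∈ E := fun t ht hh => by
    by_contra tE
    exact hxV (q.w1 d q1 ht tE hx hh)
  have hdis : ∀ y ∈ M.V, y ∈ cj g M.V → y = 1 := by
    intro y hy hy'
    obtain ⟨v, ⟨v1, v2, v3, v4⟩, rfl⟩ := M.mem_V.1 hy
    obtain ⟨a', ha'⟩ := τ.T_surj pc v.hs
    obtain ⟨b', hb'⟩ := τ.T_surj pc v.hr
    let t : U τ := ⟨a', 0, 0, 0, b', 0, map_zero _, map_zero _, map_zero _⟩
    obtain ⟨k1, k2, k3, k4⟩ := cW (u := t) rfl p1 p2 p3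
    have e : ⁅t, p⁆ = v := by
      ext
      · rw [U.comm_a, v1]
      · rw [k1, ← ha', mul_comm]
      · rw [k2, v2]
      · rw [k3, ← hb', mul_comm]
      · rw [k4, v3]
      · rw [U.comm_t, v4]
    have e' : ⁅M.ι t, M.ι p⁆ = M.ι v := by rw [← map_commutatorElement, e]
    have := w1 _ (M.ι_Q2.2 rfl : M.ι t ∈ M.Q2) (e' ▸ hy')
    rw [← e']
    exact comm_one (mem_C.1 (hVO' hx).2.1 _ this)
  have hco : ∀ y : cj g M.V, ∃ f : τ.F, ∃ v : U τ, M.ι v = y ∧ v.c = f * p.c := by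
    intro y
    obtain ⟨v, -, e⟩ := M.mem_W.1 (hOW (hVO' y.2))
    obtain ⟨f, hf, e1⟩ := τ.perp_perp (b := v.c) pc (fun a ha => by
      have : M.ι (U.x1 τ a) ∈ E := w1 _ (M.ι_Q2.2 rfl) (by
        rw [comm_one ((cm_iff M (u := U.x1 τ a) rfl p1 p2 p3).2 ⟨ha, by simp [U.x1, τ.T_zero]⟩)]
        exact one_mem _)
      exact ((mE rfl).1 this v (e ▸ hVO' y.2)).1)
    exact ⟨⟨f, hf⟩, v, e, e1⟩
  choose φ hφ using hco
  have hinj : Function.Injective φ := by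
    intro y y' e
    obtain ⟨v, e1, e2⟩ := hφ y
    obtain ⟨v', e1', e2'⟩ := hφ y'
    obtain ⟨k1, k2, k3⟩ := M.ι_W.1 (e1 ▸ hOW (hVO' y.2))
    obtain ⟨k1', k2', k3'⟩ := M.ι_W.1 (e1' ▸ hOW (hVO' y'.2))
    have h1 : M.ι (v * v') ∈ M.V := M.ι_V.2 (by
      simp [U.mul_a, U.mul_c, U.mul_b, U.mul_t, k1, k2, k3, k1', k2', k3', e2, e2', e, τ.cr_zero,
        CharTwo.add_self_eq_zero])
    rw [map_mul, e1, e1'] at h1
    have h3 := hdis _ h1 (mul_mem y.2 y'.2)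
    have h4 := Wsq M (hOW (hVO' y.2))
    exact Subtype.ext (mul_left_cancel (h4.trans h3.symm))
  have h5 := Nat.card_le_card_of_injective φ hinj
  rw [card_cj, M.card_V] at h5
  have h6 := τ.two_le_q
  change τ.q ^ 2 ≤ τ.q at h5
  nlinarith

theorem caseB (h : Es H M.S E M0) (hW : M.W ≤ E) (h2 : E ≤ M.Q2) (hne : ¬ M.Q2 ≤ E)
    (hO : Om E ≤ M.V) : False := by
  have hT := Q2N hW h2
  obtain ⟨b, hb, bE, b2⟩ : ∃ b ∈ M.Q2, b ∉ E ∧ b * b = 1 := by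
    by_contra hcon
    push Not at hcon
    refine hne fun x hx => ?_
    obtain ⟨p, hp, rfl⟩ := M.mem_Q2.1 hx
    have k : ∀ y ∈ M.Q2, y * y = 1 → y ∈ E := fun y hy e => by
      by_contra hh; exact hcon y hy hh e
    rw [U.dec p]
    simp only [map_mul]
    refine mul_mem (mul_mem (mul_mem (mul_mem (mul_mem (hW (M.ι_W.2 ⟨rfl, rfl, rfl⟩))
      (hW (M.ι_W.2 ⟨rfl, rfl, rfl⟩))) (hW (M.ι_W.2 ⟨rfl, rfl, rfl⟩)))
      (k _ (M.ι_Q2.2 rfl) (x5_sq M _))) (hW (M.ι_W.2 ⟨rfl, rfl, hp⟩))) (k _ (M.ι_Q2.2 rfl) (x1_sq M _))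
  obtain ⟨g, d⟩ := h.dih (hT hb) bE b2
  have hVO : M.V ≤ Om E := fun x hx =>
    ⟨hW (M.V_W hx), cents_symm (h2.trans (Q2_CV M)) hx, Wsq M (M.V_W hx)⟩
  have hg : g ∈ C[M.V] := by
    by_contra hg
    have := d.case1 h.SH fun hh => hg (C_anti hVO hh)
    exact bE (this ⟨M.Q2_S hb, C_anti hO (Q2_CV M hb)⟩)
  have q : Qd M.S E E M.W M.V M.Q2 g :=
    { KE := le_rfl
      EK := norm_self E
      gK := d.gH.2
      YK := hW
      EY := h.lt.le.trans M.S_N.2.2.1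
      ZY := M.V_W
      gZ := hg
      EZ := h2.trans (Q2_CV M)
      YY := fun y hy y' hy' => (comm_one (Wcm M hy hy')).symm ▸ one_mem _
      Y2 := fun y hy => (Wsq M hy).symm ▸ one_mem _
      BT := hT
      B2 := fun t ht => hW (M.sq2 ht)
      BZ := fun t ht => Q2_CV M ht
      BK := fun t ht x hx => M.c22 ht (h2 hx)
      BY := fun t ht y hy => M.cSW (M.Q2_S ht) hy }
  have hWE : cj g M.W ≤ E := cj_le_of_mem_N hW d.gH.2
  have hVg : cj g M.V = M.V := cj_of_mem_N (C_le_N _ hg)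
  have hEV : ∀ y ∈ E, ∀ x ∈ cj g M.W, ⁅y, x⁆ ∈ M.V := by
    intro y hy x hx
    obtain ⟨x0, hx0, rfl⟩ := mem_cj'.1 hx
    have := conj_mem_cj g (M.cSW (h.lt.le (conj_mem' d.gH.2 hy)) hx0)
    rw [hVg] at this
    convert this using 1
    simp only [commutatorElement_def]; group
  have ab : ∀ x ∈ cj g M.W, ∀ y ∈ cj g M.W, x * y = y * x := by
    intro x hx y hy
    obtain ⟨x0, hx0, rfl⟩ := mem_cj'.1 hx
    obtain ⟨y0, hy0, rfl⟩ := mem_cj'.1 hy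
    calc g * x0 * g⁻¹ * (g * y0 * g⁻¹) = g * (x0 * y0) * g⁻¹ := by group
      _ = _ := by rw [Wcm M hx0 hy0]; group
  obtain ⟨x, hx, hxW⟩ := q.w5 d hb d.nc
  obtain ⟨p, hp, rfl⟩ := M.mem_Q2.1 (h2 (hWE hx))
  have p2 : p * p = 1 := by
    apply M.inj
    obtain ⟨x0, hx0, e⟩ := mem_cj'.1 hx
    rw [map_mul, map_one, e]
    calc g * x0 * g⁻¹ * (g * x0 * g⁻¹) = g * (x0 * x0) * g⁻¹ := by group
      _ = 1 := by rw [Wsq M hx0]; group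
  have pab : τ.cr p.a p.b = 0 := by
    rcases (U.inv_iff p).1 p2 with k | k
    · rw [k.1, zero_cr]
    · exact k.2.2.1
  obtain ⟨a0, h0, h1, k1, k2⟩ : ∃ a0, a0 ≠ 0 ∧ (a0 = p.a ∨ a0 = p.b) ∧ τ.cr a0 p.a = 0 ∧
      τ.cr a0 p.b = 0 := by
    by_cases ha : p.a = 0
    · exact ⟨p.b, fun e => hxW (M.ι_W.2 ⟨ha, e, hp⟩), Or.inr rfl, by rw [ha, τ.cr_zero], τ.cr_self _⟩
    · exact ⟨p.a, ha, Or.inl rfl, τ.cr_self _, pab⟩
  have w1 : ∀ u : U τ, u.t = 0 → ⁅u, p⁆.c = 0 → M.ι u ∈ E := fun u hu hh => by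
    by_contra tE
    refine hxW (q.w1 d hb (M.ι_Q2.2 hu) tE hx (cj_mono g M.V_W (hVg.ge ?_)))
    rw [← map_commutatorElement]
    exact M.ι_V.2 ⟨U.comm_a _ _, hh, by simp [U.comm_b, hu, hp], U.comm_t _ _⟩
  have e1 : M.ι (U.x1 τ a0) ∈ E := w1 _ rfl (by rw [c2 rfl hp]; simp [U.x1, k2, τ.cr_zero])
  have e5 : M.ι (U.x5 τ a0) ∈ E := w1 _ rfl (by
    rw [c2 rfl hp, τ.cr_comm p.a]; simp [U.x5, k1, zero_cr])
  refine h0 (τ.T_nd fun c => ?_)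
  obtain ⟨x', hx', c', hc', e⟩ := q.w2 d hb hb bE (M.ι_W.2 ⟨rfl, rfl, rfl⟩ : M.ι (U.x3 τ c) ∈ M.W)
  obtain ⟨p', hp', rfl⟩ := M.mem_Q2.1 (h2 (hWE hx'))
  obtain ⟨w, ⟨w1', w2', w3'⟩, rfl⟩ := M.mem_W.1 hc'.1
  obtain ⟨u, hu, rfl⟩ := M.mem_Q2.1 hb
  have f1 := hEV _ e1 _ hx'
  have f5 := hEV _ e5 _ hx'
  rw [← map_commutatorElement] at f1 f5
  have g1 : τ.cr a0 p'.b = 0 := by
    have := (M.ι_V.1 f1).2.1
    rw [c2 rfl hp'] at this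
    simpa [U.x1, τ.cr_zero] using this
  have g5 : τ.cr a0 p'.a = 0 := by
    have := (M.ι_V.1 f5).2.1
    rw [c2 rfl hp', τ.cr_comm p'.a] at this
    simpa [U.x5, zero_cr] using this
  have g3 : τ.T (a0 * w.c) = 0 := by
    have := (cm_iff M hp w1' w2' w3').1 (ab _ hx _ hc'.2)
    rcases h1 with rfl | rfl
    · exact this.1
    · exact this.2
  rw [← map_commutatorElement, ← map_mul] at e
  have e2 := congrArg U.c (M.inj e)
  rw [U.mul_c, U.comm_a, zero_cr, w3', zero_mul, add_zero, add_zero, c2 hu hp'] at e2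
  change c = _ at e2
  rw [e2, mul_add, mul_add, τ.T_add, τ.T_add, g3, τ.T_cr a0 u.a, τ.cr_comm p'.b, g1, τ.T_cr a0 p'.a,
    τ.T_cr p'.a, g5]
  simp [τ.T_zero]

end HE3x

/-! ### HE3 -/

theorem e3 (h : Es H M.S E M0) (hW : M.W ≤ E) (h2 : E ≤ M.Q2) : E = M.Q2 := by
  refine le_antisymm h2 ?_
  by_contra hne
  refine HE3x.caseB h hW h2 hne fun x hx => ?_
  obtain ⟨w, ⟨k1, k2, k3⟩, rfl⟩ := M.mem_W.1 (M.CW.le ⟨h.lt.le hx.1, C_anti hW hx.2.1⟩)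
  refine M.ι_V.2 ⟨k1, ?_, k2, k3⟩
  by_contra hc
  exact HE3x.caseA h hW h2 hne hx hc

end H27.HX
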