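import Mathlib
import Cfsg.Prelude.Def_LieTwisted
import Cfsg.Prelude.Def_CaseTheorems
import Cfsg.Agent.H27.HX1
import Cfsg.Agent.H27.HE1
import Cfsg.Agent.H27.HE2
import Cfsg.Agent.H27.HE3

set_option autoImplicit false
set_option linter.unusedVariables false
set_option linter.unusedSectionVars false
set_option linter.unusedSimpArgs false

namespace H27.HX

open Cfsg H24 H26 H26.Gold H26.LM Subgroup
open scoped commutatorElement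

universe u v

variable {G : Type u} [Group G] [Finite G] {K : Type} [Field K] [Finite K] [CharP K 2] {τ : Tw K}
  {M M' M'' : Md G τ} {A : Ap G} {H S E M0 R X X' Y L D N0 P J : Subgroup G} {𝒟 : Set G}
  {g h j k l n s t x y z : G} {a a' b c c0 e f : K} {u v w : U τ}

namespace HE4x

open HE3x

/-- `Y₁ = {b = t = 0}` -/
def Y1 (τ : Tw K) : Subgroup (U τ) where
  carrier := {x | x.b = 0 ∧ x.t = 0}
  one_mem' := ⟨rfl, rfl⟩
  mul_mem' := fun {x y} hx hy => by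
    obtain ⟨h1, h2⟩ := hx; obtain ⟨k1, k2⟩ := hy
    simp [U.mul_b, U.mul_t, *]
  inv_mem' := fun {x} hx => by
    obtain ⟨h1, h2⟩ := hx
    simp [U.inv_b, U.inv_t, *]

/-- `U₂` -/
def U2 (τ : Tw K) : Subgroup (U τ) where
  carrier := {x | x.a = 0 ∧ x.c = 0 ∧ x.r = 0 ∧ x.b = 0 ∧ x.t = 0}
  one_mem' := ⟨rfl, rfl, rfl, rfl, rfl⟩
  mul_mem' := fun {x y} hx hy => by
    obtain ⟨h1, h2, h3, h4, h5⟩ := hx; obtain ⟨k1, k2, k3, k4, k5⟩ := hy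
    simp [U.mul_a, U.mul_b, U.mul_c, U.mul_r, U.mul_t, Tw.cr, Tw.T, *]
  inv_mem' := fun {x} hx => by
    obtain ⟨h1, h2, h3, h4, h5⟩ := hx
    simp [U.inv_a, U.inv_b, U.inv_c, U.inv_r, U.inv_t, Tw.cr, Tw.T, *]

theorem cY (hu : u.b = 0) (hu' : u.t = 0) (hv : v.b = 0) (hv' : v.t = 0) :
    ⁅u, v⁆.s = τ.T (u.a * v.c) + τ.T (v.a * u.c) ∧ ⁅u, v⁆.c = 0 ∧ ⁅u, v⁆.r = 0 ∧ ⁅u, v⁆.b = 0 := by
  simp [U.comm_s, U.comm_c, U.comm_r2 hu' hv', U.comm_b, hu, hu', hv, hv', τ.T_zero, τ.cr_zero,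
    sh_zero]

theorem conj_sq (hx : x ∈ cj g X) (h : ∀ y ∈ X, y * y = 1) : x * x = 1 := by
  obtain ⟨y, hy, rfl⟩ := mem_cj'.1 hx
  calc g * y * g⁻¹ * (g * y * g⁻¹) = g * (y * y) * g⁻¹ := by group
    _ = 1 := by rw [h y hy]; group

theorem triv (h : Es H M.S E M0) (hσ : ∀ x, τ.σ x = x)
    (hE : ∀ u : U τ, M.ι u ∈ E ↔ u.c = 0 ∧ u.b = 0 ∧ u.t = 0) : False := by
  have cr0 : ∀ a b, τ.cr a b = 0 := fun a b => by
    simp only [Tw.cr, hσ]; exact CharTwo.add_self_eq_zero _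
  have T0 : ∀ a, τ.T a = a := fun a => Tw.T_fix (hσ a)
  have sh0 : ∀ a, τ.sh a = a ^ 2 := fun a => Tw.sh_fix (hσ a)
  have hV : M.V ≤ E := by
    rintro _ ⟨v, ⟨k1, k2, k3, k4⟩, rfl⟩
    exact (hE v).2 ⟨k2, k3, k4⟩
  have h2 : E ≤ M.Q2 := fun x hx => by
    obtain ⟨p, rfl⟩ := h.lt.le hx
    exact M.ι_Q2.2 ((hE p).1 hx).2.2
  have c22 : ∀ x ∈ M.Q2, ∀ y ∈ M.Q2, ⁅x, y⁆ ∈ M.V := by
    rintro _ ⟨p, hp, rfl⟩ _ ⟨p', hp', rfl⟩
    rw [← map_commutatorElement]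
    exact M.ι_V.2 ⟨U.comm_a _ _, by rw [c2 hp hp', cr0, cr0, add_zero],
      by simp [U.comm_b, show p.t = 0 from hp, show p'.t = 0 from hp'], U.comm_t _ _⟩
  have hT : M.Q2 ≤ M.S ⊓ N[E] := fun t ht =>
    ⟨M.Q2_S ht, HBx.norm_of fun y hy => hV (c22 _ ht _ (h2 hy))⟩
  have q3 : M.ι (U.x3 τ 1) ∈ M.Q2 := M.ι_Q2.2 rfl
  have n3 : M.ι (U.x3 τ 1) ∉ E := fun hh => one_ne_zero ((hE _).1 hh).1
  obtain ⟨g, d⟩ := h.dih (hT q3) n3 (x3_sq M 1)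
  have q : Qd M.S E E M.V ⊥ M.Q2 g :=
    { KE := le_rfl
      EK := norm_self E
      gK := d.gH.2
      YK := hV
      EY := h.lt.le.trans M.S_N.2.1
      ZY := bot_le
      gZ := by rw [C_bot]; trivial
      EZ := by rw [C_bot]; exact le_top
      YY := fun y hy y' hy' => comm_one (Wcm M (M.V_W hy) (M.V_W hy'))
      Y2 := fun y hy => Wsq M (M.V_W hy)
      BT := hT
      B2 := by
        rintro _ ⟨p, hp, rfl⟩
        have hp' : p.t = 0 := hp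
        rw [← map_mul]
        refine (hE _).2 ?_
        simp [U.mul_c, U.mul_b, U.mul_t, hp', cr0, CharTwo.add_self_eq_zero]
      BZ := fun t _ => by rw [C_bot]; trivial
      BK := fun t ht x hx => c22 _ ht _ (h2 hx)
      BY := fun t ht y hy => comm_one (mem_C'.1 (Q2_CV M ht) y hy) }
  have hVE : cj g M.V ≤ E := cj_le_of_mem_N hV d.gH.2
  obtain ⟨x, hx, hxV⟩ := q.w5 d q3 d.nc
  obtain ⟨p, rfl⟩ := h.lt.le (hVE hx)
  obtain ⟨p1, p2, p3⟩ := (hE p).1 (hVE hx)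
  have pa : p.a ≠ 0 := fun e => hxV (M.ι_V.2 ⟨e, p1, p2, p3⟩)
  obtain ⟨x', hx', c', hc', e⟩ := q.w2 d q3 q3 n3
    (M.ι_V.2 ⟨rfl, rfl, rfl, rfl⟩ : M.ι (U.x4 1) ∈ M.V)
  obtain ⟨p', rfl⟩ := h.lt.le (hVE hx')
  obtain ⟨p1', p2', p3'⟩ := (hE p').1 (hVE hx')
  obtain ⟨w, ⟨w1, w2, w3, w4⟩, rfl⟩ := M.mem_V.1 hc'.1
  rw [← map_commutatorElement, ← map_mul] at e
  have e2 := congrArg U.r (M.inj e)
  obtain ⟨-, -, k3, k4⟩ := cY (u := U.x3 τ 1) (v := p') rfl rfl p2' p3'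
  have wr : w.r = 1 := by
    rw [U.mul_r, U.comm_a, U.comm_t, k3, k4, w4] at e2
    simpa [U.x4, τ.T_zero] using e2.symm
  obtain ⟨b1, hb1⟩ := exists_sqrt p.a⁻¹
  have b0 : b1 ≠ 0 := by
    rintro rfl
    exact pa (by simpa using hb1.symm)
  let t : U τ := ⟨0, 0, (w.s + p.a ^ 2 * b1) / p.a, 0, b1, 0, map_zero _, map_zero _, map_zero _⟩
  have et : ⁅t, p⁆ = w := by
    ext
    · rw [U.comm_a, w1]
    · simp only [U.comm_s, t, T0, sh0, p1, p2, p3]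
      field_simp
      linear_combination (exp := 1) p.a ^ 2 * b1 * CharTwo.two_eq_zero (R := K)
    · rw [c2 rfl p3, cr0, cr0, add_zero, w2]
    · rw [U.comm_r2 rfl p3, wr]
      simp only [t, T0, sh0, p1, p2, cr0, hb1]
      field_simp
      ring
    · simp [U.comm_b, t, p3, w3]
    · rw [U.comm_t, w4]
  refine hxV (q.w1 d q3 (M.ι_Q2.2 rfl : M.ι t ∈ M.Q2) (fun hh => b0 ((hE t).1 hh).2.1) hx ?_)
  rw [← map_commutatorElement, et]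
  exact hc'.2

theorem core (h : Es H M.S E M0) (hV : M.V ≤ E) (h2 : E ≤ M.Q2) (hW : ¬ M.W ≤ E)
    (hu : M.ι u ∈ C[E]) (ua : u.a ≠ 0) (ub : u.b = 0) (ut : u.t = 0) (uc : τ.T (u.a * u.c) = 0) :
    False := by
  have mY : ∀ {p : U τ}, M.ι p ∈ (Y1 τ).map M.ι ↔ p.b = 0 ∧ p.t = 0 := mem_map_iff_mem M.inj
  have mU : ∀ {p : U τ}, M.ι p ∈ (U2 τ).map M.ι ↔ p.a = 0 ∧ p.c = 0 ∧ p.r = 0 ∧ p.b = 0 ∧ p.t = 0 :=
    mem_map_iff_mem M.inj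
  have hEY : E ≤ (Y1 τ).map M.ι := by
    intro y hy
    obtain ⟨p, hp, rfl⟩ := M.mem_Q2.1 (h2 hy)
    obtain ⟨-, k2, k3, -⟩ := HBx.cm M (mem_C.1 hu _ hy)
    rw [c2 hp ut, ub, τ.cr_zero, zero_add] at k2
    obtain ⟨f, hf, e⟩ := τ.cr_eq_zero ua k2
    rw [U.comm_r2 hp ut, ub, sh_zero, τ.cr_zero, e, τ.sh_mul, Tw.sh_fix hf] at k3
    have hf2 : τ.σ (f ^ 2) = f ^ 2 := by rw [map_pow, hf]
    simp only [mul_zero, zero_mul, add_zero, zero_add, τ.T_zero] at k3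
    rw [mul_assoc, Tw.T_smul hf, uc, mul_zero, zero_add, mul_left_comm, τ.mul_sh, Tw.T_smul hf2,
      Tw.T_fix (τ.σ_N _)] at k3
    have f0 : f = 0 := by
      simpa [τ.N_ne ua] using k3
    exact mY.2 ⟨by rw [e, f0, zero_mul], hp⟩
  have hUV : (U2 τ).map M.ι ≤ M.V := by
    rintro _ ⟨p, ⟨k1, k2, k3, k4, k5⟩, rfl⟩
    exact M.ι_V.2 ⟨k1, k2, k4, k5⟩
  have hYQ : (Y1 τ).map M.ι ≤ M.Q2 := by
    rintro _ ⟨p, hp, rfl⟩
    exact M.ι_Q2.2 hp.2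
  have hWY : M.W ≤ (Y1 τ).map M.ι := by
    rintro _ ⟨p, hp, rfl⟩
    exact mY.2 hp.2
  have hk : ∀ x ∈ (Y1 τ).map M.ι, ∀ y ∈ (Y1 τ).map M.ι, ⁅x, y⁆ ∈ (U2 τ).map M.ι := by
    rintro _ ⟨p, hp, rfl⟩ _ ⟨p', hp', rfl⟩
    obtain ⟨-, k2, k3, k4⟩ := cY hp.1 hp.2 hp'.1 hp'.2
    rw [← map_commutatorElement]
    exact mU.2 ⟨U.comm_a _ _, k2, k3, k4, U.comm_t _ _⟩
  obtain ⟨b, hb, bE⟩ := SetLike.not_le_iff_exists.1 hW
  obtain ⟨g, hg, x, hx, hxU, hE⟩ := es_lemA h (hUV.trans hV) hEY (hYQ.trans M.Q2_S)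
    (hYQ.trans ((Q2_CV M).trans (C_anti hUV))) (fun y hy => Wsq M (M.V_W (hUV hy))) hk (by
      rintro _ ⟨p, ⟨k1, k2⟩, rfl⟩
      rw [← map_mul]
      refine mU.2 ?_
      simp [U.mul_a, U.mul_c, U.mul_r, U.mul_b, U.mul_t, k1, k2, τ.cr_zero, sh_zero, τ.T_zero,
        CharTwo.add_self_eq_zero]) (hWY hb) bE (Wsq M hb)
  have hxE : x ∈ E := cj_le_of_mem_N (hUV.trans hV) hg.2 hx
  obtain ⟨p, ⟨p1, p2⟩, rfl⟩ := hEY hxE
  have pa : p.a ≠ 0 := fun e => bE (hE.ge ⟨hWY hb, mem_C1.2 (Wcm M hb (M.ι_W.2 ⟨e, p1, p2⟩))⟩)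
  have mE : ∀ v : U τ, M.ι v ∈ E ↔ (v.b = 0 ∧ v.t = 0) ∧ τ.T (v.a * p.c) + τ.T (p.a * v.c) = 0 := by
    intro v
    rw [hE, mem_inf, mY, mem_C1]
    refine and_congr_right fun hv => ?_
    obtain ⟨k1, k2, k3, k4⟩ := cY hv.1 hv.2 p1 p2
    exact ⟨fun hh => k1 ▸ (HBx.cm M hh).1, fun hh => HBx.cm' M ⟨k1.trans hh, k2, k3, k4⟩⟩
  by_cases hc : ∃ c, c ≠ 0 ∧ τ.T (p.a * c) = 0
  · obtain ⟨c, c0, hc⟩ := hc
    have h1 : ⁅E, E⁆ ≤ (U2 τ).map M.ι := commutator_le.2 fun x hx y hy => hk x (hEY hx) y (hEY hy)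
    have h3 : (U2 τ).map M.ι ≤ ⁅E, E⁆ := by
      rintro _ ⟨v, ⟨k1, k2, k3, k4, k5⟩, rfl⟩
      obtain ⟨a, ha⟩ := τ.T_surj c0 v.hs
      obtain ⟨c', hc'⟩ := τ.T_surj pa (τ.σ_T (a * p.c))
      let y : U τ := ⟨a, 0, c', 0, 0, 0, map_zero _, map_zero _, map_zero _⟩
      obtain ⟨j1, j2, j3, j4⟩ := cY (u := y) (v := U.x3 τ c) rfl rfl rfl rfl
      have e : ⁅y, U.x3 τ c⁆ = v := by
        ext
        · rw [U.comm_a, k1]
        · rw [j1, ← ha]; simp [y, U.x3, τ.T_zero, mul_comm]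
        · rw [j2, k2]
        · rw [j3, k3]
        · rw [j4, k4]
        · rw [U.comm_t, k5]
      rw [← e, map_commutatorElement]
      refine commutator_mem_commutator ((mE y).2 ⟨⟨rfl, rfl⟩, ?_⟩) ((mE _).2 ⟨⟨rfl, rfl⟩, ?_⟩)
      · show τ.T (a * p.c) + τ.T (p.a * c') = 0
        rw [hc']; exact CharTwo.add_self_eq_zero _
      · simp [U.x3, τ.T_zero, hc]
    exact hxU (h1 (cj_le_of_mem_N h3 (norm_der1 (le_refl N[E]) hg.2) hx))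
  · push Not at hc
    have hc' : ∀ c, τ.T (p.a * c) = 0 → c = 0 := fun c e => by
      by_contra h0; exact hc c h0 e
    have p3 : p * p = 1 := M.inj (by
      rw [map_mul, map_one]; exact conj_sq hx fun y hy => Wsq M (M.V_W (hUV hy)))
    have pc : p.c = 0 := by
      rcases (U.inv_iff p).1 p3 with k | k
      · exact absurd k.1 pa
      · refine hc' _ ?_
        have := k.2.2.2
        rwa [p1, mul_zero, τ.T_zero, add_zero] at this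
    refine triv h (τ.triv_of_perp hc') fun v => ?_
    rw [mE, pc, mul_zero, τ.T_zero, zero_add]
    exact ⟨fun hh => ⟨hc' _ hh.2, hh.1⟩, fun hh => ⟨hh.2, by rw [hh.1, mul_zero, τ.T_zero]⟩⟩

end HE4x

/-! ### HE4 -/

open HE3x HE4x in
theorem e4 (h : Es H M.S E M0) (hV : M.V ≤ E) (h2 : E ≤ M.Q2) : M.W ≤ E := by
  by_contra hW
  obtain ⟨b, hb, bE⟩ := SetLike.not_le_iff_exists.1 hW
  have hWS : M.W ≤ M.S := M.W_Y.trans (M.Y_eq.le.trans (inf_le_left.trans M.Q1_S))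
  have cWE : ∀ t ∈ M.W, ∀ x ∈ E, ⁅t, x⁆ ∈ M.V := fun t ht x hx => by
    rw [← commutatorElement_inv]
    exact inv_mem (M.cSW (h.lt.le hx) ht)
  have hT : M.W ≤ M.S ⊓ N[E] := fun t ht => ⟨hWS ht, HBx.norm_of fun y hy => hV (cWE t ht y hy)⟩
  obtain ⟨g, d⟩ := h.dih (hT hb) bE (Wsq M hb)
  have q : Qd M.S E E M.V ⊥ M.W g :=
    { KE := le_rfl
      EK := norm_self E
      gK := d.gH.2
      YK := hV
      EY := h.lt.le.trans M.S_N.2.1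
      ZY := bot_le
      gZ := by rw [C_bot]; trivial
      EZ := by rw [C_bot]; exact le_top
      YY := fun y hy y' hy' => comm_one (Wcm M (M.V_W hy) (M.V_W hy'))
      Y2 := fun y hy => Wsq M (M.V_W hy)
      BT := hT
      B2 := fun t ht => (Wsq M ht).symm ▸ one_mem _
      BZ := fun t _ => by rw [C_bot]; trivial
      BK := cWE
      BY := fun t ht y hy => comm_one (Wcm M ht (M.V_W hy)) }
  obtain ⟨x, hx, hxV⟩ := q.w5 d hb d.nc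
  have hVE : cj g M.V ≤ E := cj_le_of_mem_N hV d.gH.2
  have hxC : x ∈ C[E] := cj_le_of_mem_N (cents_symm (h2.trans (Q2_CV M))) (N_le_NC E d.gH.2) hx
  have hxW : x ∉ M.W := fun hh =>
    hxV (q.w1 d hb hb bE hx ((comm_one (Wcm M hb hh)).symm ▸ one_mem _))
  obtain ⟨p, hp, rfl⟩ := M.mem_Q2.1 (h2 (hVE hx))
  have p2 : p * p = 1 := M.inj (by
    rw [map_mul, map_one]; exact conj_sq hx fun y hy => Wsq M (M.V_W hy))
  rcases (U.inv_iff p).1 p2 with k | k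
  · obtain ⟨pa, k2⟩ := k
    rw [hp, mul_zero, zero_add] at k2
    have pb : p.b ≠ 0 := fun e => hxW (M.ι_W.2 ⟨pa, e, hp⟩)
    have h1 : E ≤ M.Q1 := by
      intro y hy
      obtain ⟨v, hv, rfl⟩ := M.mem_Q2.1 (h2 hy)
      obtain ⟨k1, k3, -, -⟩ := HBx.cm M (mem_C.1 hxC _ hy)
      rw [c2 hv hp, pa, zero_cr, add_zero, τ.cr_comm] at k3
      obtain ⟨f, hf, e⟩ := τ.cr_eq_zero pb k3
      have hf2 : τ.σ (f ^ 2) = f ^ 2 := by rw [map_pow, hf]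
      rw [U.comm_s, pa, hp, hv, sh_zero, e, τ.sh_mul, Tw.sh_fix hf] at k1
      simp only [mul_zero, zero_mul, add_zero, zero_add, τ.T_zero] at k1
      rw [mul_assoc, Tw.T_smul hf, k2, mul_zero, zero_add, mul_assoc, mul_comm _ p.b, τ.mul_sh,
        Tw.T_smul hf2, Tw.T_fix (τ.σ_N _)] at k1
      have f0 : f = 0 := by
        simpa [τ.N_ne pb] using k1
      exact M.ι_Q1.2 (by rw [e, f0, zero_mul])
    have := h2 ((e1a h h1).ge (M.ι_Q1.2 rfl : M.ι (U.x6 1) ∈ M.Q1))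
    exact one_ne_zero (M.ι_Q2.1 this)
  · obtain ⟨pa, -, k2, -⟩ := k
    obtain ⟨f, hf, e⟩ := τ.cr_eq_zero pa k2
    let w : U τ := U.x6 ⟨f, hf⟩
    have sm := M.same_conj w
    have ei : (M.conj w).ι (w⁻¹ * p * w) = M.ι p := by rw [Md.conj_ι]; congr 1; group
    have ea : (w⁻¹ * p * w).a = p.a := by simp [U.mul_a, U.inv_a, w, U.x6]
    have eb : (w⁻¹ * p * w).b = 0 := by
      simp [U.mul_a, U.mul_b, U.inv_a, U.inv_b, w, U.x6, e, CharTwo.add_self_eq_zero]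
    have et : (w⁻¹ * p * w).t = 0 := by
      simp [U.mul_t, U.inv_t, w, U.x6, hp, CharTwo.add_self_eq_zero]
    have p3 : (w⁻¹ * p * w) * (w⁻¹ * p * w) = 1 := by
      calc (w⁻¹ * p * w) * (w⁻¹ * p * w) = w⁻¹ * (p * p) * w := by group
        _ = 1 := by rw [p2]; group
    refine core (M := M.conj w) (u := w⁻¹ * p * w) (sm.S.symm ▸ h) (sm.V.symm ▸ hV) (sm.Q2.symm ▸ h2)
      (sm.W.symm ▸ hW) (ei.symm ▸ hxC) (ea.symm ▸ pa) eb et ?_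
    rcases (U.inv_iff _).1 p3 with k | k
    · exact absurd (ea.symm.trans k.1) pa
    · have := k.2.2.2
      rwa [eb, mul_zero, τ.T_zero, add_zero] at this

theorem afam (h : AFam H M.S E) : E = M.S ∨ E = M.Q1 ∨ E = M.Q2 := by
  rcases h with h | ⟨M0, h⟩
  · exact Or.inl h
  have hV := e1b h
  by_cases h1 : E ≤ M.Q1
  · exact Or.inr (Or.inl (e1a h h1))
  by_cases h2 : E ≤ M.Q2
  · exact Or.inr (Or.inr (e3 h (e4 h hV h2) h2))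
  exact (e2 h hV h1 h2).elim

end H27.HX
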