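import Mathlib
import Cfsg.Prelude.Def_LieTwisted
import Cfsg.Prelude.Def_CaseTheorems
import Cfsg.Agent.H27.HX1
import Cfsg.Agent.H27.HV

set_option autoImplicit false
set_option linter.unusedVariables false
set_option linter.unusedSectionVars false
set_option linter.unusedSimpArgs false

namespace H27.HX

open Cfsg H24 H26 H26.Gold H26.LM Subgroup
open scoped commutatorElement

universe u v

variable {G : Type u} [Group G] [Finite G] {K : Type} [Field K] [Finite K] [CharP K 2] {τ : Tw K}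
  {M M' M'' : Md G τ} {A : Ap G} {H S E M0 R X X' Y L D N0 P J : Subgroup G} {𝒟 : Set G}
  {g h j k l n s t x y z : G} {a a' b c c0 e f : K} {u v w : U τ}

/-! ### HW -/

namespace HWx

theorem triv (τ : Tw K) (hb : b ≠ 0) (h : ∀ a, τ.cr b a = 0) (x : K) : τ.σ x = x :=
  τ.triv_of_line (a := b) (fun a => τ.cr_eq_zero hb (h a)) x

theorem V_of (M : Md G τ) (hK : Big K) (hx : x ∈ M.S) (h : ∀ y ∈ M.S, ⁅x, y⁆ ∈ M.Z) : x ∈ M.V := by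
  obtain ⟨p, rfl⟩ := hx
  have k : ∀ q : U τ, ⁅p, q⁆.s = 0 ∧ ⁅p, q⁆.c = 0 ∧ ⁅p, q⁆.b = 0 := fun q => by
    have := h _ (M.ι_S q)
    rw [← map_commutatorElement, M.ι_Z] at this
    exact ⟨this.2.1, this.2.2.1, this.2.2.2.1⟩
  have ha : p.a = 0 := by simpa [U.comm_b, U.x6] using (k (U.x6 1)).2.2
  have ht : p.t = 0 := by simpa [U.comm_b, U.x1] using (k (U.x1 τ 1)).2.2
  have h1 : ∀ a, τ.cr p.b a = 0 := fun a => by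
    have := (k (U.x1 τ a)).2.1
    rw [τ.cr_comm]
    simpa [U.comm_c, U.x1, ha, ht, τ.cr_zero] using this
  have h2 : ∀ a, τ.T (a * p.c) + τ.T (τ.sh a * p.b) = 0 := fun a => by
    have := (k (U.x1 τ a)).1
    simpa [U.comm_s, U.x1, ha, ht, τ.T_zero] using this
  have hb : p.b = 0 := by
    by_contra hb
    have hσ := triv τ hb h1
    obtain ⟨ω, h0, h1⟩ := hK
    have e1 := h2 1
    have e2 := h2 ω
    simp only [Tw.T, Tw.sh, hσ] at e1 e2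
    grind
  refine M.ι_V.2 ⟨ha, τ.T_nd fun c => ?_, hb, ht⟩
  have := h2 c
  rwa [hb, mul_zero, τ.T_zero, add_zero, mul_comm] at this

theorem nSV (M : Md G τ) (hK : Big K) : N[M.S] ≤ N[M.V] := fun g hg =>
  mem_N_of_finite fun x hx => by
    have hVS := (HVx.V_Q2 M).trans M.Q2_S
    refine V_of M hK (conj_mem hg (hVS hx)) fun y hy => ?_
    have e : y = g * (g⁻¹ * y * g) * g⁻¹ := by group
    rw [e, ← HVx.cj_comm']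
    refine conj_mem (M.nS_Z hg) ?_
    rw [← commutatorElement_inv]
    exact InvMemClass.inv_mem (M.cSV (conj_mem' hg hy) hx)

theorem nSQ (M : Md G τ) (hK : Big K) : N[M.S] ≤ N[M.Q2] := by
  rw [← M.CV]; exact norm_inf le_rfl (norm_C (nSV M hK))

theorem W_Q2 (M : Md G τ) : M.W ≤ M.Q2 := M.W_Y.trans (HVx.Y_Q2 M)

theorem twisted (M : Md G τ) (hσ : ¬ ∀ x, τ.σ x = x) : N[M.Q2] ≤ N[M.W] := fun g hg =>
  mem_N_of_finite fun x hx => by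
    have k0 : ∀ y ∈ M.Q2, ⁅g * x * g⁻¹, y⁆ ∈ M.V := fun y hy => by
      have e : y = g * (g⁻¹ * y * g) * g⁻¹ := by group
      rw [e, ← HVx.cj_comm']
      refine conj_mem (M.nQ2_V hg) ?_
      rw [← commutatorElement_inv]
      exact InvMemClass.inv_mem (M.cSW (M.Q2_S (conj_mem' hg hy)) hx)
    obtain ⟨p, ht, hp⟩ := M.mem_Q2.1 (conj_mem hg (W_Q2 M hx))
    rw [← hp] at k0 ⊢
    have k : ∀ q : U τ, q.t = 0 → ⁅p, q⁆.c = 0 := fun q hq => by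
      have := k0 _ (M.ι_Q2.2 hq)
      rw [← map_commutatorElement, M.ι_V] at this
      exact this.2.1
    refine M.ι_W.2 ⟨?_, ?_, ht⟩
    · by_contra ha
      refine hσ (triv τ ha fun b => ?_)
      simpa [U.comm_c, U.x5, ht, Tw.cr] using k (U.x5 τ b) rfl
    · by_contra hb
      refine hσ (triv τ hb fun a => ?_)
      rw [τ.cr_comm]
      simpa [U.comm_c, U.x1, ht, τ.cr_zero] using k (U.x1 τ a) rfl

/-- commutators in `Q₂`, untwisted case -/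
theorem cq (hσ : ∀ x, τ.σ x = x) (hu : u.t = 0) (hv : v.t = 0) :
    ⁅u, v⁆.s = u.a * v.c + u.a ^ 2 * v.b + v.a * u.c + v.a ^ 2 * u.b ∧ ⁅u, v⁆.c = 0 ∧
    ⁅u, v⁆.r = u.a * v.b ^ 2 + u.b * v.c + v.a * u.b ^ 2 + v.b * u.c ∧ ⁅u, v⁆.b = 0 := by
  rw [U.comm_s, U.comm_c, U.comm_r2 hu hv, U.comm_b]
  simp only [Tw.T, Tw.N, Tw.sh, Tw.cr, hσ, hu, hv]
  refine ⟨?_, ?_, ?_, ?_⟩ <;> grind

theorem mem_cen (M : Md G τ) (hσ : ∀ x, τ.σ x = x) (hv : v.t = 0) :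
    M.ι u ∈ M.Q2 ⊓ C{M.ι v} ↔ u.t = 0 ∧ u.a * v.c + u.a ^ 2 * v.b + v.a * u.c + v.a ^ 2 * u.b = 0 ∧
      u.a * v.b ^ 2 + u.b * v.c + v.a * u.b ^ 2 + v.b * u.c = 0 := by
  rw [mem_inf, M.ι_Q2, mem_C1]
  refine and_congr_right fun hu => ?_
  obtain ⟨h1, h2, h3, h4⟩ := cq hσ hu hv
  rw [← h1, ← h3]
  exact ⟨fun e => ⟨(HBx.cm M e).1, (HBx.cm M e).2.2.1⟩, fun e => HBx.cm' M ⟨e.1, h2, e.2, h4⟩⟩

theorem ext_S (M : Md G τ) (hX : X ≤ M.S) (hY : Y ≤ M.S) (h : ∀ p, M.ι p ∈ X ↔ M.ι p ∈ Y) :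
    X = Y := by
  ext g
  exact ⟨fun e => by obtain ⟨p, rfl⟩ := hX e; exact (h p).1 e,
    fun e => by obtain ⟨p, rfl⟩ := hY e; exact (h p).2 e⟩

/-- `V U₁` -/
def W0 (M : Md G τ) : Subgroup G := M.Q2 ⊓ C{M.ι (U.x1 τ 1)}

theorem mem_W0 (M : Md G τ) (hσ : ∀ x, τ.σ x = x) :
    M.ι u ∈ W0 M ↔ u.t = 0 ∧ u.b = 0 ∧ u.c = 0 := by
  rw [W0, mem_cen M hσ rfl]
  simp only [U.x1]
  grind

theorem Ws_S (M : Md G τ) : M.Ws ≤ M.S := fun _ ⟨p, _, e⟩ => ⟨p, e⟩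

/-- the possible centralisers -/
def Al (M : Md G τ) (X : Subgroup G) : Prop := X = M.W ∨ X = M.Ws ∨ ∃ s ∈ M.S, cj s X = W0 M

theorem cls (M : Md G τ) (hσ : ∀ x, τ.σ x = x) (hx : x ∈ M.Q2) (h2 : x * x = 1) (hV : x ∉ M.V) :
    Al M (M.Q2 ⊓ C{x}) := by
  obtain ⟨p, ht, rfl⟩ := M.mem_Q2.1 hx
  have hle : ∀ y, M.Q2 ⊓ C{y} ≤ M.S := fun y => inf_le_left.trans M.Q2_S
  have hp := (U.inv_iff p).1 (M.inj (by simpa using h2))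
  simp only [Tw.T, Tw.sh, Tw.cr, hσ, ht] at hp
  rw [M.ι_V] at hV
  by_cases ha : p.a = 0
  · by_cases hb : p.b = 0
    · refine .inl (ext_S M (hle _) ((W_Q2 M).trans M.Q2_S) fun q => ?_)
      rw [mem_cen M hσ ht, M.ι_W]
      grind
    · refine .inr (.inl (ext_S M (hle _) (Ws_S M) fun q => ?_))
      rw [mem_cen M hσ ht, M.ι_Ws]
      grind
  · refine .inr (.inr ⟨M.ι (U.x6 ⟨p.b / p.a, hσ _⟩), M.ι_S _, ?_⟩)
    rw [cj_inf, cj_of_mem_N (M.S_N.2.2.2.2.2 (M.ι_S _)), cj_C1, ← map_inv, ← map_mul, ← map_mul]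
    have hc : p.c = p.a * p.b := by grind
    have hl : p.b / p.a * p.a = p.b := div_mul_cancel₀ _ ha
    set p' := U.x6 ⟨p.b / p.a, hσ _⟩ * p * (U.x6 ⟨p.b / p.a, hσ _⟩)⁻¹ with hp'
    have e : p'.a = p.a ∧ p'.t = 0 ∧ p'.b = 0 ∧ p'.c = 0 := by
      simp only [hp', U.mul_a, U.mul_b, U.mul_c, U.mul_t, U.inv_a, U.inv_b, U.inv_c, U.inv_t, U.x6,
        Tw.sh, Tw.cr, hσ, ht]
      generalize p.b / p.a = l at hl
      refine ⟨?_, ?_, ?_, ?_⟩ <;> grind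
    refine ext_S M (hle _) (hle _) fun q => ?_
    rw [mem_cen M hσ e.2.1, mem_W0 M hσ, e.1, e.2.2.1, e.2.2.2]
    grind

theorem mv (M : Md G τ) (hσ : ∀ x, τ.σ x = x) (hx : x ∈ M.Q2) (h2 : x * x = 1) (hV : x ∉ M.V)
    (hh : h ∈ N[M.Q2]) : Al M (cj h (M.Q2 ⊓ C{x})) := by
  rw [cj_inf, cj_of_mem_N hh, cj_C1]
  refine cls M hσ (conj_mem hh hx) ?_ fun e => hV ((conj_mem_iff (M.nQ2_V hh)).1 e)
  calc _ = h * (x * x) * h⁻¹ := by group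
    _ = 1 := by rw [h2]; group

theorem mvW (M : Md G τ) (hσ : ∀ x, τ.σ x = x) (hh : h ∈ N[M.Q2]) : Al M (cj h M.W) := by
  have e : M.W = M.Q2 ⊓ C{M.ι (U.x3 τ 1)} :=
    ext_S M ((W_Q2 M).trans M.Q2_S) (inf_le_left.trans M.Q2_S) fun q => by
      rw [mem_cen M hσ rfl, M.ι_W]; simp only [U.x3]; grind
  rw [e]
  refine mv M hσ (M.ι_Q2.2 rfl) (by rw [← sq]; exact M.eaW.2 _ (M.ι_W.2 ⟨rfl, rfl, rfl⟩)) (fun e => ?_) hh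
  exact one_ne_zero (M.ι_V.1 e).2.1

theorem mvWs (M : Md G τ) (hσ : ∀ x, τ.σ x = x) (hh : h ∈ N[M.Q2]) : Al M (cj h M.Ws) := by
  have e : M.Ws = M.Q2 ⊓ C{M.ι (U.x5 τ 1)} :=
    ext_S M (Ws_S M) (inf_le_left.trans M.Q2_S) fun q => by
      rw [mem_cen M hσ rfl, M.ι_Ws]; simp only [U.x5]; grind
  rw [e]
  refine mv M hσ (M.ι_Q2.2 rfl) ?_ (fun e => ?_) hh
  · rw [← map_mul, (U.inv_iff _).2 (.inl ⟨rfl, by simp [U.x5, τ.T_zero]⟩), map_one]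
  · exact one_ne_zero (M.ι_V.1 e).2.2.1

theorem S_Ws (M : Md G τ) (hσ : ∀ x, τ.σ x = x) : M.S ≤ N[M.Ws] := by
  rintro _ ⟨p, rfl⟩
  refine HBx.norm_of ?_
  rintro _ ⟨q, ⟨h1, h2, h3⟩, rfl⟩
  rw [← map_commutatorElement, M.ι_Ws]
  refine ⟨U.comm_a _ _, ?_, U.comm_t _ _⟩
  rw [U.comm_c]
  simp only [Tw.sh, Tw.cr, hσ, h1, h2, h3]
  grind

theorem not_W0 (M : Md G τ) (hσ : ∀ x, τ.σ x = x) : ¬ M.S ≤ N[W0 M] := fun h => by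
  have h1 := conj_mem (h (M.ι_S (U.x6 1))) ((mem_W0 M hσ (u := U.x1 τ 1)).2 ⟨rfl, rfl, rfl⟩)
  rw [← map_inv, ← map_mul, ← map_mul, mem_W0 M hσ] at h1
  simpa [U.mul_b, U.mul_a, U.mul_t, U.inv_t, U.inv_b, U.x1, U.x6] using h1.2.1

theorem nSW (M : Md G τ) (hK : Big K) (hσ : ∀ x, τ.σ x = x) : N[M.S] ≤ N[M.W] := by
  refine idx_two (X' := M.Ws) (M.syl_of (norm_self _)) M.S_N.2.2.1 fun l hl => ?_
  rcases mvW M hσ (nSQ M hK hl) with e | e | ⟨s, hs, e⟩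
  · exact .inl e
  · exact .inr e
  · refine (not_W0 M hσ ?_).elim
    have := norm_cj M.S_N.2.2.1 (s * l)
    rwa [cj_of_mem_N (mul_mem (norm_self _ hs) hl), cj_mul, e] at this

theorem not_Ws (M : Md G τ) (hK : Big K) (hσ : ∀ x, τ.σ x = x) (hh : h ∈ N[M.Q2]) :
    cj h M.W ≠ M.Ws := fun e => by
  have hS : Syl 2 (N[M.Q2] ⊓ N[M.Ws]) M.S := M.syl_of (le_inf M.S_N.2.2.2.2.2 (S_Ws M hσ))
  obtain ⟨l, hl, hle⟩ := Sylow_Jsub Nat.prime_two hS (M.twoS.cj h)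
    (le_inf (cj_le_of_mem M.S_N.2.2.2.2.2 hh) (e ▸ norm_cj M.S_N.2.2.1 h))
  rw [← cj_mul] at hle
  have h1 := cj_of_mem_N (nSW M hK hσ (mem_N_of_cj_le hle))
  rw [cj_mul, e, cj_of_mem_N hl.2] at h1
  have h2 : M.ι (U.x3 τ 1) ∈ M.Ws := h1 ▸ M.ι_W.2 ⟨rfl, rfl, rfl⟩
  exact one_ne_zero (M.ι_Ws.1 h2).2.1

/-- the commutator spaces `[X, y]` meet trivially or coincide -/
def Pr (Q X : Subgroup G) : Prop := ∀ w ∈ X, ∀ w' ∈ X, ∀ w₁ ∈ X, ∀ y ∈ Q, ∀ y' ∈ Q,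
  ⁅w, y⁆ = ⁅w', y'⁆ → ⁅w, y⁆ ≠ 1 → ∃ w₂ ∈ X, ⁅w₁, y⁆ = ⁅w₂, y'⁆

theorem Pr.cj {Q : Subgroup G} (hp : Pr Q X) (hh : h ∈ N[Q]) : Pr Q (cj h X) := by
  intro _ k1 _ k2 _ k3 _ k4 _ k5 e ne
  obtain ⟨w, hw, rfl⟩ := mem_cj'.1 k1
  obtain ⟨w', hw', rfl⟩ := mem_cj'.1 k2
  obtain ⟨w₁, hw₁, rfl⟩ := mem_cj'.1 k3
  rw [← cj_of_mem_N hh] at k4 k5
  obtain ⟨y, hy, rfl⟩ := mem_cj'.1 k4
  obtain ⟨y', hy', rfl⟩ := mem_cj'.1 k5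
  rw [← HVx.cj_comm'] at ne
  rw [← HVx.cj_comm', ← HVx.cj_comm'] at e
  obtain ⟨w₂, h2, e2⟩ := hp w hw w' hw' w₁ hw₁ y hy y' hy' (by simpa using e)
    fun e => ne (by rw [e]; group)
  exact ⟨_, conj_mem_cj h h2, by rw [← HVx.cj_comm', ← HVx.cj_comm', e2]⟩

theorem eq_iff (hσ : ∀ x, τ.σ x = x) {u' v' : U τ} (hu : u.t = 0) (hv : v.t = 0) (hu' : u'.t = 0)
    (hv' : v'.t = 0) : ⁅u, v⁆ = ⁅u', v'⁆ ↔
    u.a * v.c + u.a ^ 2 * v.b + v.a * u.c + v.a ^ 2 * u.b =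
      u'.a * v'.c + u'.a ^ 2 * v'.b + v'.a * u'.c + v'.a ^ 2 * u'.b ∧
    u.a * v.b ^ 2 + u.b * v.c + v.a * u.b ^ 2 + v.b * u.c =
      u'.a * v'.b ^ 2 + u'.b * v'.c + v'.a * u'.b ^ 2 + v'.b * u'.c := by
  obtain ⟨h1, h2, h3, h4⟩ := cq hσ hu hv
  obtain ⟨k1, k2, k3, k4⟩ := cq hσ hu' hv'
  rw [← h1, ← h3, ← k1, ← k3]
  exact ⟨fun e => by rw [e]; exact ⟨rfl, rfl⟩, fun e => U.ext (by rw [U.comm_a, U.comm_a]) e.1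
    (by rw [h2, k2]) e.2 (by rw [h4, k4]) (by rw [U.comm_t, U.comm_t])⟩

theorem prW (M : Md G τ) (hσ : ∀ x, τ.σ x = x) : Pr M.Q2 M.W := by
  rintro _ ⟨p, ⟨a1, b1, t1⟩, rfl⟩ _ ⟨p', ⟨a2, b2, t2⟩, rfl⟩ _ ⟨q, ⟨a3, b3, t3⟩, rfl⟩ _ ⟨y, hy, rfl⟩
    _ ⟨y', hy', rfl⟩ e ne
  have hc : p.c ≠ 0 := fun h0 => ne (by
    rw [commutatorElement_eq_one_iff_mul_comm]
    obtain ⟨h1, h2, h3, h4⟩ := cq hσ t1 hy
    exact HBx.cm' M ⟨by rw [h1]; simp [*], h2, by rw [h3]; simp [*], h4⟩)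
  rw [← map_commutatorElement, ← map_commutatorElement, M.inj.eq_iff, eq_iff hσ t1 hy t2 hy'] at e
  refine ⟨M.ι (U.x3 τ (q.c / p.c * p'.c)), M.ι_W.2 ⟨rfl, rfl, rfl⟩, ?_⟩
  rw [← map_commutatorElement, ← map_commutatorElement, M.inj.eq_iff, eq_iff hσ t3 hy rfl hy']
  have hl : q.c / p.c * p.c = q.c := div_mul_cancel₀ _ hc
  simp only [U.x3]
  generalize q.c / p.c = l at hl
  grind

theorem four (M : Md G τ) (hK : Big K) (hσ : ∀ x, τ.σ x = x) (h : Pr M.Q2 (W0 M)) (b : K) :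
    b ^ 4 = b := by
  by_cases hb : b = 0
  · simp [hb]
  obtain ⟨ω, h0, h1⟩ := hK
  obtain ⟨β, hβ⟩ : ∃ β, β * b = 1 := ⟨b⁻¹, inv_mul_cancel₀ hb⟩
  have m : ∀ a, M.ι (U.x1 τ a) ∈ W0 M := fun a => (mem_W0 M hσ).2 ⟨rfl, rfl, rfl⟩
  obtain ⟨w, hw, e⟩ := h _ (m 1) _ (m (β ^ 2)) _ (m ω) _ (M.ι_Q2.2 (rfl : (U.x5 τ 1).t = 0))
    (M.ι ⟨0, 0, b ^ 2 + β, 0, b, 0, hσ _, hσ _, hσ _⟩) (M.ι_Q2.2 rfl) (by
      rw [← map_commutatorElement, ← map_commutatorElement, M.inj.eq_iff, eq_iff hσ rfl rfl rfl rfl]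
      simp only [U.x1, U.x5]
      grind) (fun e => by
      have := (HBx.cm M (commutatorElement_eq_one_iff_mul_comm.1 e)).1
      rw [(cq hσ rfl rfl).1] at this
      simp [U.x1, U.x5] at this)
  obtain ⟨p, rfl⟩ := M.Q2_S hw.1
  obtain ⟨t1, b1, c1⟩ := (mem_W0 M hσ).1 hw
  rw [← map_commutatorElement, ← map_commutatorElement, M.inj.eq_iff, eq_iff hσ rfl rfl t1 rfl] at e
  simp only [U.x1, U.x5, b1, c1] at e
  grind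

/-- the exceptional automorphism for the field of order four -/
def θ (hσ : ∀ x, τ.σ x = x) (h4 : ∀ x : K, x ^ 4 = x) : U τ ≃* U τ where
  toFun p := ⟨p.a ^ 2, p.s, p.b, p.r + p.s ^ 2 + p.b * p.c, p.c, p.t, hσ _, hσ _, hσ _⟩
  invFun p := ⟨p.a ^ 2, p.s, p.b, p.r + p.s ^ 2 + p.b * p.c, p.c, p.t, hσ _, hσ _, hσ _⟩
  left_inv p := by have := h4 p.a; ext <;> simp only <;> grind
  right_inv p := by have := h4 p.a; ext <;> simp only <;> grind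
  map_mul' p q := by
    have := h4 p.a
    ext <;> simp only [U.mul_a, U.mul_s, U.mul_c, U.mul_r, U.mul_b, U.mul_t, Tw.T, Tw.N, Tw.sh,
      Tw.cr, hσ] <;> grind

end HWx

theorem Md.nS_V (M : Md G τ) (hK : Big K) : N[M.S] ≤ N[M.V] := HWx.nSV M hK
theorem Md.nS_Q2 (M : Md G τ) (hK : Big K) : N[M.S] ≤ N[M.Q2] := HWx.nSQ M hK
theorem Md.exists_W (M : Md G τ) (hK : Big K) :
    ∃ M' : Md G τ, M'.S = M.S ∧ N[M'.Q2] ≤ N[M'.W] := by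
  by_cases h0 : N[M.Q2] ≤ N[M.W]
  · exact ⟨M, rfl, h0⟩
  have hσ : ∀ x, τ.σ x = x := by_contra fun e => h0 (HWx.twisted M e)
  have hSQ := M.S_N.2.2.2.2.2
  obtain ⟨h, hh, e⟩ : ∃ h ∈ N[M.Q2], cj h M.W = HWx.W0 M := by
    obtain ⟨h, hh, hn⟩ := SetLike.not_le_iff_exists.1 h0
    rcases HWx.mvW M hσ hh with e | e | ⟨s, hs, e⟩
    · exact (hn (mem_N_iff_cj.2 e)).elim
    · exact (HWx.not_Ws M hK hσ hh e).elim
    · exact ⟨s * h, mul_mem (hSQ hs) hh, by rw [cj_mul, e]⟩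
  have h4 := HWx.four M hK hσ (e ▸ (HWx.prW M hσ).cj hh)
  have hN : N[M.Q2] ≤ N[M.Ws] := fun k hk => by
    rcases HWx.mvWs M hσ hk with e' | e' | ⟨s, hs, e'⟩
    · exact (HWx.not_Ws M hK hσ (InvMemClass.inv_mem hk) (by rw [← e', cj_inv_cj])).elim
    · exact mem_N_iff_cj.2 e'
    · refine (HWx.not_Ws M hK hσ (mul_mem (InvMemClass.inv_mem (mul_mem (hSQ hs) hk)) hh) ?_).elim
      rw [cj_mul, e, ← e', ← cj_mul s, cj_inv_cj]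
  have e1 : (M.aut (HWx.θ hσ h4)).Q2 = M.Q2 := by
    ext g
    exact ⟨fun ⟨p, hp, e⟩ => ⟨HWx.θ hσ h4 p, hp, e⟩, fun ⟨p, hp, e⟩ =>
      ⟨(HWx.θ hσ h4).symm p, hp, by rw [Md.aut_ι, MulEquiv.apply_symm_apply, e]⟩⟩
  have e2 : (M.aut (HWx.θ hσ h4)).W = M.Ws := by
    ext g
    exact ⟨fun ⟨p, hp, e⟩ => ⟨HWx.θ hσ h4 p, ⟨by show p.a ^ 2 = 0; simp [hp.1], hp.2.1, hp.2.2⟩, e⟩,
      fun ⟨p, hp, e⟩ => ⟨(HWx.θ hσ h4).symm p, ⟨by show p.a ^ 2 = 0; simp [hp.1], hp.2.1, hp.2.2⟩,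
        by rw [Md.aut_ι, MulEquiv.apply_symm_apply, e]⟩⟩
  refine ⟨M.aut (HWx.θ hσ h4), ?_, by rw [e1, e2]; exact hN⟩
  ext g
  exact ⟨fun ⟨p, e⟩ => ⟨HWx.θ hσ h4 p, e⟩, fun ⟨p, e⟩ =>
    ⟨(HWx.θ hσ h4).symm p, by rw [Md.aut_ι, MulEquiv.apply_symm_apply, e]⟩⟩

end H27.HX
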