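import Mathlib
import Cfsg.Prelude.Def_LieTwisted
import Cfsg.Prelude.Def_CaseTheorems
import Cfsg.Agent.H27.HX1
import Cfsg.Agent.H27.HE4
import Cfsg.Agent.H27.HW
import Cfsg.Agent.H2.CT3

set_option autoImplicit false
set_option linter.unusedVariables false
set_option linter.unusedSectionVars false
set_option linter.unusedSimpArgs false

namespace H27.HX

open Cfsg H24 H26 H26.Gold H26.LM Subgroup
open scoped commutatorElement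

universe u v

variable {G : Type u} [Group G] [Finite G] {K : Type} [Field K] [Finite K] [CharP K 2] {τ : Tw K}
  {M M' M'' : Md G τ} {A : Ap G} {H S E M0 R X X' Y L D N0 P J : Subgroup G} {𝒟 : Set G}
  {g h j k l n s t x y z : G} {a a' b c c0 e f : K} {u v w : U τ}

namespace HF1x

theorem W_Q1 (M : Md G τ) : M.W ≤ M.Q1 := M.W_Y.trans (M.Y_eq.le.trans inf_le_left)

theorem cc (g x y : G) : ⁅g * x * g⁻¹, y⁆ = g * ⁅x, g⁻¹ * y * g⁆ * g⁻¹ := by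
  simp only [commutatorElement_def]; group

theorem toQ1 (hW : g ∈ N[M.W]) (hZ : g ∈ N[M.Z]) (hx : x ∈ M.Q1) (hS : g * x * g⁻¹ ∈ M.S) :
    g * x * g⁻¹ ∈ M.Q1 := M.Q1_of hS fun y hy => by
  rw [cc]
  exact conj_mem hZ (M.c11 hx (W_Q1 M (conj_mem' hW hy)))

theorem sc [IsSimpleGroup G] (h1 : M.Z ≤ X) (h2 : X ≤ M.W) (n0 : N[M.S] ≤ N[X]) (n1 : N[M.Q1] ≤ N[X])
    (n2 : N[M.Q2] ≤ N[X]) : False := by
  have hS : X ≤ M.S := h2.trans ((W_Q1 M).trans M.Q1_S)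
  obtain ⟨t, t1, t2, t3⟩ := M.exists_nc
  rcases goldschmidt M.sylS (fun e => M.Z_ne (le_bot_iff.1 (e ▸ h1))) (M.eaW.abl.of_le h2)
    ⟨hS, fun x hx g => alp_sc M.sylS (fun E hE g hg x hx _ => by
      rcases afam hE with rfl | rfl | rfl
      exacts [conj_mem (n0 hg.2) hx, conj_mem (n1 hg.2) hx, conj_mem (n2 hg.2) hx]) hS x hx g
        (mem_top g)⟩ with h | ⟨H, h⟩
  · exact t3 (mem_C.2 fun y hy => h.comm hy t1)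
  · exact t3 (H2.C2.se_central h M.twoS t1 t2)

theorem c6 (hf : τ.σ f = f) (hu : u.a = 0 ∧ u.c = 0 ∧ u.b = 0 ∧ u.t = 0)
    (hv : v.a = 0 ∧ v.c = 0 ∧ v.b = 0 ∧ v.t = 0) (h1 : v.s = u.s) (h2 : v.r = u.r + f * u.s) :
    U.x6 ⟨f, hf⟩ * u * (U.x6 ⟨f, hf⟩)⁻¹ = v := by
  obtain ⟨a1, a2, a3, a4⟩ := hu
  obtain ⟨b1, b2, b3, b4⟩ := hv
  ext <;> simp only [U.mul_a, U.mul_s, U.mul_c, U.mul_r, U.mul_b, U.mul_t, U.inv_a, U.inv_s, U.inv_c,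
    U.inv_r, U.inv_b, U.inv_t, U.x6, Tw.T, Tw.N, Tw.sh, Tw.cr, map_add, map_mul, map_zero, *] <;> grind

theorem pw (h1 : g * x * g⁻¹ = x * z) (h2 : g * z * g⁻¹ = z) (n : ℕ) :
    g ^ n * x * (g ^ n)⁻¹ = x * z ^ n := by
  induction n with
  | zero => simp
  | succ n ih =>
    calc _ = g * (g ^ n * x * (g ^ n)⁻¹) * g⁻¹ := by rw [pow_succ']; group
      _ = _ := by rw [ih, ← conj_mul, h1, ← conj_pow, h2, pow_succ', mul_assoc]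

theorem ZV (hg : g ∈ N[M.Q2]) : cj g M.Z ≤ M.V :=
  (cj_mono g M.Z_V).trans (cj_of_mem_N (M.nQ2_V hg)).le

theorem S_N2 (M : Md G τ) (u : U τ) : M.ι u ∈ N[M.Q2] := M.S_N.2.2.2.2.2 (M.ι_S u)

end HF1x
open HF1x

/-! ### HF1 -/

theorem Md.Cf.nS_Q1 (h : M.Cf) : N[M.S] ≤ N[M.Q1] := fun g hg => mem_N_of_finite fun x hx =>
  toQ1 (h.hW (M.nS_Q2 h.big hg)) (M.nS_Z hg) hx (conj_mem hg (M.Q1_S hx))

theorem Md.Cf.nY2 (h : M.Cf) : N[M.Q2] ⊓ N[M.Z] ≤ N[M.Y] := fun g hg => mem_N_of_finite fun x hx => by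
  rw [M.Y_eq] at hx ⊢
  exact ⟨toQ1 (h.hW hg.1) hg.2 hx.1 (M.Q2_S (conj_mem hg.1 hx.2)), conj_mem hg.1 hx.2⟩

theorem Md.cf [IsSimpleGroup G] (hK : Big K) (hW : N[M.Q2] ≤ N[M.W]) : M.Cf :=
  ⟨hK, hW, fun h => sc M.Z_V M.V_W (M.nS_V hK) h M.nQ2_V,
    fun h => sc le_rfl (M.Z_V.trans M.V_W) M.nS_Z M.nQ1_Z h⟩

theorem Md.alpha (M : Md G τ) (hg : g ∈ N[M.Q2]) (h : g ∉ N[M.Z]) : M.Z ⊓ cj g M.Z = ⊥ := by
  have E := M.es2 (H := ⊤) le_top fun e => h (e ⟨mem_top g, hg⟩)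
  have x6 : ∀ {f : τ.F}, f ≠ 0 → M.ι (U.x6 f) ∈ M.S ⊓ N[M.Q2] ∧ M.ι (U.x6 f) ∉ M.Q2 ∧
      M.ι (U.x6 f) * M.ι (U.x6 f) ∈ M.Q2 := fun {f} hf =>
    ⟨⟨M.ι_S _, S_N2 M _⟩, fun e => hf (Subtype.ext (M.ι_Q2.1 e)), by
      rw [← map_mul]; exact M.ι_Q2.2 (CharTwo.add_self_eq_zero _)⟩
  obtain ⟨o1, o2, o3⟩ := x6 one_ne_zero
  refine eq_bot_iff.2 ?_
  rintro _ ⟨⟨z, hz, rfl⟩, hz'⟩
  by_contra z1
  obtain ⟨y, y1, y2⟩ : ∃ y ∈ cj g M.Z, y ∉ M.Z := by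
    by_contra! e
    exact h (mem_N_of_finite fun x hx => e _ (conj_mem_cj g hx))
  obtain ⟨p, hp, rfl⟩ := ZV hg y1
  have ps : p.s ≠ 0 := fun e => y2 (M.ι_Z.2 ⟨hp.1, e, hp.2⟩)
  have zr : z.r ≠ 0 := fun e => z1 (by
    rw [show z = 1 from U.ext hz.1 hz.2.1 hz.2.2.1 e hz.2.2.2.1 hz.2.2.2.2, map_one]; exact one_mem _)
  have hf : τ.σ (z.r * p.s⁻¹) = z.r * p.s⁻¹ := by rw [map_mul, z.hr, Tw.σ_inv p.hs]
  obtain ⟨t1, t2, t3⟩ := x6 (f := ⟨_, hf⟩) fun e => mul_ne_zero zr (inv_ne_zero ps) (congrArg Subtype.val e)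
  obtain ⟨r, ⟨k, rfl⟩, hr⟩ := D18.key E t1 t2 t3 (s := g * M.ι (U.x6 1) * g⁻¹)
    ⟨mem_top _, mul_mem (mul_mem hg o1.2) (Subgroup.inv_mem _ hg)⟩ (fun e => h (E.se g ⟨mem_top g, hg⟩ _ o1 o2 e).2)
    (by rw [conj_mul]; exact conj_mem hg o3)
  have sC : ∀ {y}, y ∈ cj g M.Z → g * M.ι (U.x6 1) * g⁻¹ * y * (g * M.ι (U.x6 1) * g⁻¹)⁻¹ = y := by
    rintro _ ⟨y, hy, rfl⟩
    change _ * (g * y * g⁻¹) * _ = g * y * g⁻¹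
    rw [conj_mul, ← mem_C.1 (M.S_CZ o1.1) y hy]; group
  have zz : M.ι z ∈ M.Z := ⟨z, hz, rfl⟩
  have e := pw (g := M.ι (U.x6 ⟨_, hf⟩) * (g * M.ι (U.x6 1) * g⁻¹)) (x := M.ι p) (z := M.ι z) (by
    rw [mul_inv_rev, mul_assoc (M.ι _), ← mul_assoc, mul_assoc (M.ι _), sC y1, ← map_inv, ← map_mul,
      ← map_mul, ← map_mul]
    obtain ⟨a1, a2, a3, a4⟩ := hp
    obtain ⟨b1, b2, b3, b4, b5⟩ := hz
    refine congrArg _ (c6 hf ⟨a1, a2, a3, a4⟩ ?_ ?_ ?_) <;>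
      simp [U.mul_a, U.mul_s, U.mul_c, U.mul_r, U.mul_b, U.mul_t, Tw.T, Tw.cr, *]) (by
    rw [mul_inv_rev, mul_assoc (M.ι _), ← mul_assoc, mul_assoc (M.ι _), sC hz',
      ← mem_C.1 (M.S_CZ t1.1) _ zz, mul_inv_cancel_right]) (2 * k + 1)
  rw [← mem_C.1 (M.CV.ge hr).2 _ (ZV hg y1), mul_inv_cancel_right, pow_succ, pow_mul, pow_two,
    M.eaW.sq (M.V_W (M.Z_V zz)), one_pow, one_mul, left_eq_mul] at e
  exact z1 e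

theorem HF1x.ex_s (hg : g ∈ N[M.Q2]) (h : g ∉ N[M.Z]) (hv : v.a = 0 ∧ v.c = 0 ∧ v.b = 0 ∧ v.t = 0)
    (h0 : v.s ≠ 0) : ∃ w, M.ι v ∈ cj (M.ι w * g) M.Z := by
  have m : ∀ r : τ.F, g * M.ι (U.x4 r) * g⁻¹ ∈ cj g M.Z := fun r =>
    conj_mem_cj g (M.ι_Z.2 ⟨rfl, rfl, rfl, rfl, rfl⟩)
  choose p hp e using fun r => ZV hg (m r)
  obtain ⟨r, hr⟩ := Finite.surjective_of_injective (f := fun r => (⟨(p r).s, (p r).hs⟩ : τ.F))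
    (fun r r' k => by
      have k : (p r).s = (p r').s := congrArg Subtype.val k
      obtain ⟨a1, a2, a3, a4⟩ := hp r
      obtain ⟨b1, b2, b3, b4⟩ := hp r'
      have : M.ι ((p r)⁻¹ * p r') = 1 := (M.alpha hg h).le ⟨M.ι_Z.2 (by
        simp [U.mul_a, U.mul_s, U.mul_c, U.mul_b, U.mul_t, U.inv_a, U.inv_s, U.inv_c, U.inv_b, U.inv_t,
          Tw.T, Tw.cr, CharTwo.add_self_eq_zero, *]), by
        rw [map_mul, map_inv, e, e]; exact Subgroup.mul_mem _ (Subgroup.inv_mem _ (m r)) (m r')⟩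
      rw [map_mul, map_inv, inv_mul_eq_one, e, e, mul_left_inj, mul_right_inj] at this
      exact Subtype.ext (congrArg U.r (M.inj this))) ⟨v.s, v.hs⟩
  have hr : (p r).s = v.s := congrArg Subtype.val hr
  have hf : τ.σ ((v.r + (p r).r) * v.s⁻¹) = (v.r + (p r).r) * v.s⁻¹ := by
    rw [map_mul, map_add, v.hr, (p r).hr, Tw.σ_inv v.hs]
  have k := c6 hf (hp r) hv hr.symm (by rw [hr, inv_mul_cancel_right₀ h0]; grind)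
  refine ⟨U.x6 ⟨_, hf⟩, ?_⟩
  generalize U.x6 ⟨_, hf⟩ = w at k ⊢
  rw [← k, cj_mul, map_mul, map_mul, map_inv, e]
  exact conj_mem_cj _ (m r)

theorem Md.two2 (M : Md G τ) (hg : g ∈ N[M.Q2]) (h : g ∉ N[M.Z]) (hk : k ∈ N[M.Q2])
    (h' : k ∉ N[M.Z]) : ∃ s ∈ M.S, cj k M.Z = cj s (cj g M.Z) := by
  obtain ⟨y, y1, y2⟩ : ∃ y ∈ cj k M.Z, y ∉ M.Z := by
    by_contra! e
    exact h' (mem_N_of_finite fun x hx => e _ (conj_mem_cj k hx))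
  obtain ⟨p, hp, rfl⟩ := ZV hk y1
  obtain ⟨w, hw⟩ := ex_s hg h hp fun e => y2 (M.ι_Z.2 ⟨hp.1, e, hp.2⟩)
  have n : (M.ι w * g)⁻¹ * k ∈ N[M.Z] := by
    by_contra n
    have : (M.ι w * g)⁻¹ * M.ι p * (M.ι w * g) = 1 :=
      (M.alpha (mul_mem (Subgroup.inv_mem _ (mul_mem (S_N2 M w) hg)) hk) n).le ⟨mem_cj.1 hw,
        mem_cj.2 (by simpa [mul_assoc] using mem_cj.1 y1)⟩
    rw [mul_assoc, inv_mul_eq_one, right_eq_mul] at this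
    exact y2 (this ▸ one_mem _)
  exact ⟨_, M.ι_S w, by
    rw [← cj_mul]; conv_rhs => rw [← cj_of_mem_N n, ← cj_mul, mul_inv_cancel_left]⟩

theorem Md.Cf.gamma (h : M.Cf) (hg : g ∈ N[M.Q2]) (h' : g ∉ N[M.Z]) : M.Y ⊓ cj g M.Y ≤ M.W := by
  rintro _ ⟨h1, y, h2, rfl⟩
  have YQ : M.Y ≤ M.Q1 := M.Y_eq.le.trans inf_le_left
  refine M.CW.le ⟨M.Q1_S (YQ h1), mem_C'.2 fun w hw => commutatorElement_eq_one_iff_mul_comm.1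
    ((M.alpha hg h').le ⟨M.c11 (YQ h1) (W_Q1 M hw), ?_⟩)⟩
  change ⁅g * y * g⁻¹, w⁆ ∈ cj g M.Z
  rw [cc]
  exact conj_mem_cj g (M.c11 (YQ h2) (W_Q1 M (conj_mem' (h.hW hg) hw)))

theorem Md.Cf.coverV (h : M.Cf) (hy : y ∈ M.V) : ∃ g ∈ N[M.Q2], y ∈ cj g M.Z := by
  obtain ⟨p, hp, rfl⟩ := hy
  by_cases e : p.s = 0
  · exact ⟨1, one_mem _, by simpa using M.ι_Z.2 ⟨hp.1, e, hp.2⟩⟩
  obtain ⟨g, g1, g2⟩ := SetLike.not_le_iff_exists.1 h.ex2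
  obtain ⟨w, hw⟩ := ex_s g1 g2 hp e
  exact ⟨_, mul_mem (S_N2 M w) g1, hw⟩

theorem Md.Cf.coverQ2 (h : M.Cf) (hy : y ∈ M.Q2) (h2 : y * y = 1) :
    ∃ g ∈ N[M.Q2], y ∈ cj g M.Y := by
  obtain ⟨u, hu, rfl⟩ := hy
  have hu : u.t = 0 := hu
  by_cases e0 : u.a = 0
  · exact ⟨1, one_mem _, by simpa using M.ι_Y.2 ⟨e0, hu⟩⟩
  have ln : ∀ {v : U τ}, M.ι v * M.ι v = 1 → v.a ≠ 0 → ∃ f, τ.σ f = f ∧ v.b = f * v.a := fun {v} a b =>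
    τ.cr_eq_zero b (((U.inv_iff v).1 (M.inj (by rw [map_mul, a, map_one]))).resolve_left
      fun c => b c.1).2.2.1
  obtain ⟨g, g1, g2⟩ := SetLike.not_le_iff_exists.1 h.ex2
  have m : ∀ b, g * M.ι (U.x5 τ b) * g⁻¹ ∈ cj g M.Y := fun b => conj_mem_cj g (M.ι_Y.2 ⟨rfl, rfl⟩)
  choose p hp e using fun b => M.mem_Q2.1 (conj_mem g1 (M.ι_Q2.2 (rfl : (U.x5 τ b).t = 0)))
  obtain ⟨b, hb⟩ := Finite.surjective_of_injective (f := fun b => (p b).a) (fun b b' k => by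
    have k : (p b).a = (p b').a := k
    have := h.gamma g1 g2 (show M.ι (p b * p b') ∈ _ from ⟨M.ι_Y.2 (by
      simp [U.mul_a, U.mul_t, k, hp, CharTwo.add_self_eq_zero]), by
      rw [map_mul, e, e]; exact mul_mem (m b) (m b')⟩)
    rw [map_mul, e, e, conj_mul, ← mem_N.1 (h.hW g1), ← map_mul, M.ι_W] at this
    simpa [U.mul_b, U.x5, CharTwo.add_eq_zero] using this.2.1) u.a
  have hb : (p b).a = u.a := hb
  obtain ⟨f, f1, f2⟩ := ln h2 e0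
  obtain ⟨f', f3, f4⟩ := ln (v := p b) (by
    rw [e, conj_mul, ← map_mul, ← (U.rel τ).a5, CharTwo.add_self_eq_zero,
      show U.x5 τ 0 = 1 from rfl, map_one, mul_one, mul_inv_cancel]) (hb ▸ e0)
  let w : U τ := U.x6 ⟨f + f', add_mem f1 f3⟩
  have n := mul_mem (S_N2 M w) g1
  refine ⟨_, n, ?_⟩
  have k1 : M.ι (w * p b * w⁻¹) ∈ cj (M.ι w * g) M.Y := by
    rw [cj_mul, map_mul, map_mul, map_inv, e]; exact conj_mem_cj _ (m b)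
  have k2 : M.ι (u * (w * p b * w⁻¹)⁻¹) ∈ cj (M.ι w * g) M.Y :=
    cj_mono _ M.W_Y ((cj_of_mem_N (h.hW n)).ge (M.ι_W.2 (by
      simp only [U.mul_a, U.mul_b, U.mul_t, U.inv_a, U.inv_b, U.inv_t, w, U.x6, f2, f4, hb, hu, hp]
      grind)))
  simpa only [← map_mul, inv_mul_cancel_right] using mul_mem k2 k1

end H27.HX
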