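import Mathlib
import Cfsg.Prelude.Def_LieTwisted
import Cfsg.Prelude.Def_CaseTheorems
import Cfsg.Agent.H27.HX1
import Cfsg.Agent.H27.HE
import Cfsg.Agent.S1225
import Cfsg.Agent.H8.PC1

set_option autoImplicit false
set_option linter.unusedVariables false
set_option linter.unusedSectionVars false
set_option linter.unusedSimpArgs false

namespace H27.HX

open Cfsg H24 H26 H26.Gold H26.LM Subgroup
open scoped commutatorElement

universe u v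

variable {G : Type u} [Group G] [Finite G] {K : Type} [Field K] [Finite K] [CharP K 2] {τ : Tw K}
  {M M' M'' : Md G τ} {A : Ap G} {H S E M0 R X X' Y L D N0 P J : Subgroup G} {𝒟 : Set G}
  {g h j k l n s t x y z : G} {a a' b c c0 e f : K} {u v w : U τ}

/-! ### HE0 -/

theorem es_swap (h : Es H S E M0) (ht : t ∈ S ⊓ N[E]) (tE : t ∉ E) (t2 : t * t ∈ E)
    (hg : g ∈ H ⊓ N[E]) (gM : g ∉ M0) : ∃ j ∈ closure {t, g * t * g⁻¹}, j ∉ M0 ∧ j * j ∈ E ∧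
      (j * t * j⁻¹)⁻¹ * (g * t * g⁻¹) ∈ E := by
  have tH : t ∈ H ⊓ N[E] := ⟨h.SH ht.1, ht.2⟩
  have s1 : g * t * g⁻¹ ∈ H ⊓ N[E] := mul_mem (mul_mem hg tH) (inv_mem hg)
  have sM : g * t * g⁻¹ ∉ M0 := fun e => gM (h.se g hg t ht tE e)
  have s2 : g * t * g⁻¹ * (g * t * g⁻¹) ∈ E := by rw [conj_mul]; exact conj_mem hg.2 t2
  generalize g * t * g⁻¹ = s at s1 sM s2 ⊢
  obtain ⟨_, ⟨i, rfl⟩, hr⟩ := D18.key h ht tE t2 s1 sM s2
  have y1 : t * s ∈ N[E] := mul_mem ht.2 s1.2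
  have u1 := pow_mem y1 (i + 1)
  have j1 : s * ((t * s) ^ (i + 1))⁻¹ ∈ N[E] := mul_mem s1.2 (inv_mem u1)
  have pw : ∀ n, cs E ((t * s) ^ n) = (cs E t * cs E s) ^ n := fun n => by
    rw [cs, ap_pow _ y1, ap_mul _ ht.2 s1.2]
  have e0 : cs E (s * ((t * s) ^ (i + 1))⁻¹) = cs E s * ((cs E t * cs E s) ^ (i + 1))⁻¹ := by
    rw [← pw, cs, ap_mul _ s1.2 (inv_mem u1), ap_inv _ u1]
  have a := D18.cs_sq ht.2 t2
  have b := D18.cs_sq s1.2 s2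
  have e1 := D18.odd_conj a b ((pw _).symm.trans (cs_of_mem hr))
  have e2 := (D18.inv_pw a b (i + 1)).1
  have k : (s * ((t * s) ^ (i + 1))⁻¹ * t * (s * ((t * s) ^ (i + 1))⁻¹)⁻¹)⁻¹ * s ∈ E := by
    rw [← cs_eq_cs (mul_mem (mul_mem j1 ht.2) (inv_mem j1)) s1.2, cs, ap_conj _ j1 ht.2, ← cs, e0, ← cs]
    generalize (cs E t * cs E s) ^ (i + 1) = u at e1
    rw [← e1]; group
  refine ⟨_, mul_mem (subset_closure (by simp)) (inv_mem (pow_mem (mul_mem (subset_closure (by simp))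
    (subset_closure (by simp))) _)), fun e => sM ?_, ?_, k⟩
  · exact (mul_mem_cancel_left (inv_mem (mul_mem (mul_mem e (h.leM ht)) (inv_mem e)))).1 (HEx.EM h k)
  · rw [← cs_eq_one (mul_mem j1 j1), cs, ap_mul _ j1 j1, ← cs, e0, ← mul_assoc, mul_assoc (cs E s), ← e2,
      ← mul_assoc, b, one_mul, mul_inv_cancel]

theorem es_dt (h : Es H S E M0) (hj : j ∈ H ⊓ N[E]) (jM : j ∉ M0) (j2 : j * j ∈ E)
    (ht : t ∈ S ⊓ N[E]) (tE : t ∉ E) (t2 : t * t ∈ E) (hs : s ∈ S ⊓ N[E]) (sE : s ∉ E)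
    (s2 : s * s ∈ E) : ∃ d ∈ M0 ⊓ cj j M0, (d * t * d⁻¹)⁻¹ * s ∈ E := by
  have EM := HEx.EM h
  obtain ⟨X, _, _, f, q⟩ := H8.PC.exists_quo (H := H ⊓ N[E]) (R := E) ⟨EM.trans h.Mle, inf_le_right⟩
  have : Fact (Nat.Prime 2) := ⟨Nat.prime_two⟩
  have mem : ∀ {x}, x ∈ H ⊓ N[E] → (ap f x ∈ img f M0 ↔ x ∈ M0) := fun hx => by
    rw [q.mem_iff hx h.Mle, sup_eq_left.2 EM]
  have o2 : ∀ {x}, x ∈ H ⊓ N[E] → x ∉ E → x * x ∈ E → orderOf (ap f x) = 2 := fun hx a b =>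
    orderOf_eq_prime (by rw [pow_two, ← ap_mul _ hx hx, q.ap_ker b]) fun e => a ((q.eq_one hx).1 e)
  have tM := h.leM ht
  have sM := h.leM hs
  have se : IsStronglyEmbedded (img f M0) := by
    refine ⟨fun e => jM ((mem hj).1 (e.ge (mem_top _))), even_iff_two_dvd.2 (o2 (h.Mle tM) tE t2 ▸
      orderOf_dvd_card' ((mem (h.Mle tM)).2 tM)), fun γ hγ => ?_⟩
    by_contra ev
    obtain ⟨x, hx, ox⟩ := exists_orderOf_eq Nat.prime_two
      (even_iff_two_dvd.1 (Nat.not_odd_iff_even.1 ev))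
    obtain ⟨g, hg, rfl⟩ := q.exists_ap γ
    obtain ⟨c, hc, rfl⟩ := q.exists_ap x
    have c1 := (mem hc).1 hx.1
    have c2 : g⁻¹ * c * g ∈ M0 := by
      rw [← mem (mul_mem (mul_mem (inv_mem hg) hc) hg), ap_mul _ (mul_mem (inv_mem hg) hc) hg,
        ap_mul _ (inv_mem hg) hc, ap_inv _ hg]
      exact mem_cj.1 hx.2
    have c3 : c * c ∈ E := (q.eq_one (mul_mem hc hc)).1 (by
      rw [ap_mul _ hc hc, ← pow_two, ← ox, pow_orderOf_eq_one])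
    obtain ⟨m, hm, k⟩ := Sylow_Jsub Nat.prime_two (h.syl.of_le h.leM h.Mle)
      (D18.two_of_sq (h.two.of_le h.lt.le) c3).isPi (zpowers_le.2 c1)
    have := h.se (g⁻¹ * m⁻¹) (mul_mem (inv_mem hg) (inv_mem (h.Mle hm))) _
      (k (conj_mem_cj m (mem_zpowers c))) (by
        rw [conj_mem_iff (h.Mle hm).2]
        intro e
        rw [q.ap_ker e, orderOf_one] at ox
        omega) (by convert c2 using 1; group)
    exact hγ ((mem hg).2 (inv_mem_iff.1 ((mul_mem_cancel_right (inv_mem hm)).1 this)))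
  obtain ⟨⟨δ, d1, d2⟩, -⟩ := Cfsg.Agent.S1225.result _ se _ (o2 hj (fun e => jM (EM e)) j2)
    (mt (mem hj).1 jM) _ _ (o2 (h.Mle tM) tE t2) ((mem (h.Mle tM)).2 tM) (o2 (h.Mle sM) sE s2)
    ((mem (h.Mle sM)).2 sM)
  obtain ⟨d, hd, rfl⟩ := q.exists_ap δ
  refine ⟨d, ⟨(mem hd).1 d1.1, mem_cj.2 ?_⟩, ?_⟩
  · rw [← mem (mul_mem (mul_mem (inv_mem hj) hd) hj), ap_mul _ (mul_mem (inv_mem hj) hd) hj,
      ap_mul _ (inv_mem hj) hd, ap_inv _ hj]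
    exact mem_cj.1 d1.2
  · rw [← q.eq_iff (mul_mem (mul_mem hd (h.Mle tM)) (inv_mem hd)) (h.Mle sM), ap_conj _ hd (h.Mle tM), d2]

end H27.HX
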