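import Mathlib
import Cfsg.Prelude.Def_LieTwisted
import Cfsg.Prelude.Def_CaseTheorems
import Cfsg.Agent.H27.HX1
import Cfsg.Agent.H27.HV

set_option autoImplicit false
set_option linter.unusedVariables false
set_option linter.unusedSectionVars false
set_option linter.unusedSimpArgs false

namespace H27.HX

open Cfsg H24 H26 H26.Gold H26.LM Subgroup
open scoped commutatorElement

universe u v

variable {G : Type u} [Group G] [Finite G] {K : Type} [Field K] [Finite K] [CharP K 2] {τ : Tw K}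
  {M M' M'' : Md G τ} {A : Ap G} {H S E M0 R X X' Y L D N0 P J : Subgroup G} {𝒟 : Set G}
  {g h j k l n s t x y z : G} {a a' b c c0 e f : K} {u v w : U τ}

/-! ### HF3 -/

namespace HF3x

/-- coordinates `s, p, q, t` of `Q₁ / Z` with `X = {q = t = 0}` -/
structure Co (M : Md G τ) (X : Subgroup G) (p q : U τ → K) (d : K → K) : Prop where
  hp : ∀ x y : U τ, x.a = 0 → p (x * y) = p x + p y
  hq : ∀ x y : U τ, x.a = 0 → q (x * y) = q x + q y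
  sq : ∀ x : U τ, x.a = 0 → (x * x = 1 ↔ x.s * x.t + p x * q x = 0)
  mem : ∀ x, M.ι x ∈ X ↔ x.a = 0 ∧ q x = 0 ∧ x.t = 0
  ex : ∀ s p' q' t, ∃ x : U τ, x.a = 0 ∧ x.s = s ∧ p x = p' ∧ q x = q' ∧ x.t = t
  hd : ∀ a l (x : U τ), x.a = 0 → x.s = l * q x → p x = l * x.t →
    (U.x1 τ a * x * (U.x1 τ a)⁻¹).s = (l + d a) * q (U.x1 τ a * x * (U.x1 τ a)⁻¹) ∧
    p (U.x1 τ a * x * (U.x1 τ a)⁻¹) = (l + d a) * (U.x1 τ a * x * (U.x1 τ a)⁻¹).t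

def Xl (p q : U τ → K) (l : K) (x : U τ) : Prop := x.a = 0 ∧ x.s = l * q x ∧ p x = l * x.t

def Mv (M : Md G τ) (p q : U τ → K) (g : G) (l m : K) : Prop :=
  ∀ x y, Xl p q l x → g * M.ι x * g⁻¹ = M.ι y → Xl p q m y

variable {p q : U τ → K} {d : K → K} {l₁ l₂ l₃ : K}

theorem ms {x : U τ} (y : U τ) (h : x.a = 0) : (x * y).s = x.s + y.s := by
  simp [U.mul_s, h, Tw.T, Tw.N, Tw.sh]

theorem img (hg : g ∈ N[M.Q1]) {x : U τ} (hx : x.a = 0) :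
    ∃ y : U τ, y.a = 0 ∧ g * M.ι x * g⁻¹ = M.ι y := by
  obtain ⟨y, hy, e⟩ := M.mem_Q1.1 (conj_mem hg (M.ι_Q1.2 hx))
  exact ⟨y, hy, e.symm⟩

theorem rmul {x y x' y' : U τ} (h : g * M.ι x * g⁻¹ = M.ι y) (h' : g * M.ι x' * g⁻¹ = M.ι y') :
    g * M.ι (x * x') * g⁻¹ = M.ι (y * y') := by
  rw [map_mul, map_mul, ← h, ← h']; group

theorem Mv.comp (hg : g ∈ N[M.Q1]) (h : Mv M p q g l₁ l₂) (h' : Mv M p q k l₂ l₃) :
    Mv M p q (k * g) l₁ l₃ := fun x y hx e => by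
  obtain ⟨z, -, e1⟩ := img hg hx.1
  exact h' z y (h x z hx e1) (by rw [← e1, ← e]; group)

theorem Co.xmul (c : Co M X p q d) {x y : U τ} (hx : Xl p q l₁ x) (hy : Xl p q l₁ y) :
    Xl p q l₁ (x * y) :=
  ⟨by rw [U.mul_a, hx.1, hy.1, add_zero], by rw [ms y hx.1, c.hq x y hx.1, hx.2.1, hy.2.1, mul_add],
    by rw [c.hp x y hx.1, U.mul_t, hx.2.2, hy.2.2, mul_add]⟩

theorem Co.over (c : Co M X p q d) (hg : g ∈ N[M.Q1]) (hX : g ∈ N[X]) (l q' t' : K) :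
    ∃ x y, Xl p q l x ∧ g * M.ι x * g⁻¹ = M.ι y ∧ y.a = 0 ∧ q y = q' ∧ y.t = t' := by
  obtain ⟨y, ya, -, -, yq, yt⟩ := c.ex 0 0 q' t'
  obtain ⟨x, xa, e⟩ := img (inv_mem hg) ya
  obtain ⟨w, wa, ws, wp, wq, wt⟩ := c.ex (x.s + l * q x) (p x + l * x.t) 0 0
  obtain ⟨w', -, e'⟩ := img hg wa
  obtain ⟨k1, k2, k3⟩ := (c.mem w').1 (e' ▸ conj_mem hX ((c.mem w).2 ⟨wa, wq, wt⟩))
  refine ⟨x * w, y * w', ⟨by rw [U.mul_a, xa, wa, add_zero], ?_, ?_⟩,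
    rmul (by rw [← e]; group) e', by rw [U.mul_a, ya, k1, add_zero],
    by rw [c.hq _ _ ya, yq, k2, add_zero], by rw [U.mul_t, yt, k3, add_zero]⟩
  · rw [ms w xa, c.hq _ _ xa, ws, wq]; grind
  · rw [c.hp _ _ xa, U.mul_t, wp, wt]; grind

theorem Co.uniq (c : Co M X p q d) (hg : g ∈ N[M.Q1]) (hX : g ∈ N[X]) (h : Mv M p q g l₁ l₂)
    (h' : Mv M p q g l₁ l₃) : l₂ = l₃ := by
  obtain ⟨x, y, hx, e, -, yq, -⟩ := c.over hg hX l₁ 1 0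
  have := (h x y hx e).2.1.symm.trans (h' x y hx e).2.1
  rwa [yq, mul_one, mul_one] at this

theorem Co.exi (c : Co M X p q d) (hg : g ∈ N[M.Q1]) (hX : g ∈ N[X]) (l : K) :
    ∃ m, Mv M p q g l m := by
  have key : ∀ x y, Xl p q l x → g * M.ι x * g⁻¹ = M.ι y →
      y.a = 0 ∧ y.s * y.t + p y * q y = 0 := fun x y hx e => by
    obtain ⟨y', ya, e'⟩ := img hg hx.1
    obtain rfl := M.inj (e.symm.trans e')
    refine ⟨ya, (c.sq y ya).1 (M.inj ?_)⟩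
    rw [← rmul e e, (c.sq x hx.1).2 (by rw [hx.2.1, hx.2.2]; grind), map_one]; group
  obtain ⟨x1, y1, h1, e1, a1, q1, t1⟩ := c.over hg hX l 1 0
  obtain ⟨x2, y2, h2, e2, a2, q2, t2⟩ := c.over hg hX l 0 1
  have k1 := (key _ _ h1 e1).2
  have k2 := (key _ _ h2 e2).2
  have k3 := (key _ _ (c.xmul h1 h2) (rmul e1 e2)).2
  refine ⟨y1.s, fun x y hx e => ?_⟩
  obtain ⟨ya, k4⟩ := key _ _ hx e
  have k5 := (key _ _ (c.xmul hx h1) (rmul e e1)).2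
  have k6 := (key _ _ (c.xmul hx h2) (rmul e e2)).2
  rw [ms _ a1, c.hp _ _ a1, c.hq _ _ a1, U.mul_t] at k3
  rw [ms _ ya, c.hp _ _ ya, c.hq _ _ ya, U.mul_t] at k5 k6
  rw [q1, t1] at k1 k3 k5
  rw [q2, t2] at k2 k3 k6
  exact ⟨ya, by grind, by grind⟩

theorem Co.add (c : Co M X p q d) (hg : g ∈ N[M.Q1]) (hX : g ∈ N[X]) {m0 m1 m2 m3 : K}
    (h0 : Mv M p q g 0 m0) (h1 : Mv M p q g l₁ m1) (h2 : Mv M p q g l₂ m2)
    (h3 : Mv M p q g (l₁ + l₂) m3) : m3 = m1 + m2 + m0 := by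
  obtain ⟨x, xa, xs, xp, xq, xt⟩ := c.ex 0 0 0 1
  obtain ⟨y, ya, e⟩ := img hg xa
  have key : ∀ l, ∃ w w', w.a = 0 ∧ w.s = 0 ∧ p w = l ∧ q w = 0 ∧ w.t = 0 ∧
      g * M.ι w * g⁻¹ = M.ι w' ∧ w'.a = 0 ∧ q w' = 0 ∧ w'.t = 0 := fun l => by
    obtain ⟨w, wa, ws, wp, wq, wt⟩ := c.ex 0 l 0 0
    obtain ⟨w', -, e'⟩ := img hg wa
    exact ⟨w, w', wa, ws, wp, wq, wt, e', (c.mem w').1 (e' ▸ conj_mem hX ((c.mem w).2 ⟨wa, wq, wt⟩))⟩
  obtain ⟨w1, v1, a1, s1, p1, q1, t1, e1, b1, r1, u1⟩ := key l₁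
  obtain ⟨w2, v2, a2, s2, p2, q2, t2, e2, b2, r2, u2⟩ := key l₂
  obtain ⟨-, k1, k2⟩ := h0 x y ⟨xa, by rw [xs, zero_mul], by rw [xp, zero_mul]⟩ e
  obtain ⟨-, k3, k4⟩ := h1 _ _ ⟨by rw [U.mul_a, xa, a1, add_zero],
    by rw [ms _ a1, c.hq _ _ a1, s1, xs, q1, xq]; ring,
    by rw [c.hp _ _ a1, U.mul_t, p1, xp, t1, xt]; ring⟩ (rmul e1 e)
  obtain ⟨-, k5, k6⟩ := h2 _ _ ⟨by rw [U.mul_a, xa, a2, add_zero],
    by rw [ms _ a2, c.hq _ _ a2, s2, xs, q2, xq]; ring,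
    by rw [c.hp _ _ a2, U.mul_t, p2, xp, t2, xt]; ring⟩ (rmul e2 e)
  obtain ⟨-, k7, k8⟩ := h3 _ _ ⟨by rw [U.mul_a, U.mul_a, xa, a1, a2, add_zero, add_zero],
    by rw [ms _ a1, ms _ a2, c.hq _ _ a1, c.hq _ _ a2, s1, s2, xs, q1, q2, xq]; ring,
    by rw [c.hp _ _ a1, c.hp _ _ a2, U.mul_t, U.mul_t, p1, p2, xp, t1, t2, xt]; ring⟩
    (rmul e1 (rmul e2 e))
  simp only [ms _ b1, ms _ b2, c.hp _ _ b1, c.hp _ _ b2, c.hq _ _ b1, c.hq _ _ b2, U.mul_t, r1, r2,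
    u1, u2, zero_add] at k3 k4 k5 k6 k7 k8
  by_contra hne
  have ne : m3 + (m1 + m2 + m0) ≠ 0 := fun e => hne (by grind)
  have n1 : q y = 0 := (mul_eq_zero.1 (by grind : (m3 + (m1 + m2 + m0)) * q y = 0)).resolve_left ne
  have n2 : y.t = 0 := (mul_eq_zero.1 (by grind : (m3 + (m1 + m2 + m0)) * y.t = 0)).resolve_left ne
  exact one_ne_zero (xt.symm.trans
    ((c.mem x).1 ((conj_mem_iff hX).1 (e ▸ (c.mem y).2 ⟨ya, n1, n2⟩))).2.2)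

theorem Co.q1 (c : Co M X p q d) (hg : g ∈ M.Q1) (l : K) : Mv M p q g l l := fun x y hx e => by
  obtain ⟨u, ua, rfl⟩ := M.mem_Q1.1 hg
  have e1 : y * u = u * x := M.inj (by rw [map_mul, map_mul, ← e]; group)
  have ya : y.a = 0 := by
    have := congrArg U.a e1; rwa [U.mul_a, U.mul_a, ua, hx.1, add_zero, add_zero] at this
  have k1 := congrArg U.s e1
  have k2 := congrArg p e1
  have k3 := congrArg q e1
  have k4 := congrArg U.t e1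
  rw [ms _ ya, ms _ ua] at k1
  rw [c.hp _ _ ya, c.hp _ _ ua] at k2
  rw [c.hq _ _ ya, c.hq _ _ ua] at k3
  rw [U.mul_t, U.mul_t] at k4
  obtain ⟨-, k5, k6⟩ := hx
  exact ⟨ya, by grind, by grind⟩

theorem Co.x1 (c : Co M X p q d) (a l : K) : Mv M p q (M.ι (U.x1 τ a)) l (l + d a) :=
  fun x y hx e => by
    obtain rfl : U.x1 τ a * x * (U.x1 τ a)⁻¹ = y := M.inj (by rw [map_mul, map_mul, map_inv, e])
    exact ⟨by simp only [U.mul_a, U.inv_a, hx.1]; grind, c.hd a l x hx.1 hx.2.1 hx.2.2⟩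

theorem Co.main (c : Co M X p q d) (hS : M.S ≤ N[X]) (hj : j ∈ N[M.Q1]) (hX : j ∈ N[X])
    (j2 : j * j ∈ M.Q1) {r : ℕ} (hr : Odd r) (h : (M.ι (U.x1 τ a) * j) ^ r ∈ M.Q1) :
    Mv M p q j 0 (d a) := by
  choose φ hφ using c.exi hj hX
  have SQ := M.S_N.2.2.2.2.1
  have n1 := mul_mem (SQ (M.ι_S (U.x1 τ a))) hj
  have n2 := mul_mem (hS (M.ι_S (U.x1 τ a))) hX
  have ad : ∀ l m, φ (l + m) = φ l + φ m + φ 0 := fun l m => c.add hj hX (hφ 0) (hφ l) (hφ m) (hφ _)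
  have sq : ∀ l, φ (φ l) = l := fun l => c.uniq (mul_mem hj hj) (mul_mem hX hX)
    ((hφ l).comp hj (hφ _)) (c.q1 j2 l)
  have st : ∀ l, Mv M p q (M.ι (U.x1 τ a) * j) l (φ l + d a) := fun l => (hφ l).comp hj (c.x1 a _)
  have ind : ∀ k : ℕ, ∀ l, Mv M p q ((M.ι (U.x1 τ a) * j) ^ (2 * k)) l
      (l + k * (φ (d a) + φ 0 + d a)) := fun k => by
    induction k with
    | zero => intro l; simpa using c.q1 (one_mem _) l
    | succ k ih =>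
      intro l
      have := (ih l).comp (pow_mem n1 _) ((st _).comp n1 (st _))
      rw [ad, sq, ← pow_two, ← pow_add] at this
      convert this using 1
      · congr 1; ring
      · push_cast; ring
  obtain ⟨k, rfl⟩ := hr
  have fin : ∀ l, φ (l + k * (φ (d a) + φ 0 + d a)) + d a = l := fun l => by
    have := (ind k l).comp (pow_mem n1 _) (st _)
    rw [← pow_succ'] at this
    exact c.uniq (pow_mem n1 _) (pow_mem n2 _) this (c.q1 h l)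
  have k1 := fin (k * (φ (d a) + φ 0 + d a))
  have k2 := fin (d a + k * (φ (d a) + φ 0 + d a))
  rw [CharTwo.add_self_eq_zero] at k1
  rw [add_assoc, CharTwo.add_self_eq_zero, add_zero] at k2
  have k3 : φ (d a) + φ 0 + d a = 0 := by grind
  rw [k3, mul_zero] at k1
  have : φ 0 = d a := by grind
  exact this ▸ hφ 0

end HF3x

open HF3x in
theorem Md.fake (M : Md G τ) (hK : Big K) (hσ : ∀ x, τ.σ x = x) (hX : X = M.W ∨ X = M.Ws)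
    (hj : j ∈ N[M.Q1]) (hX' : j ∈ N[X]) (j2 : j * j ∈ M.Q1)
    (h : ∀ a, a ≠ 0 → ∃ r, Odd r ∧ (M.ι (U.x1 τ a) * j) ^ r ∈ M.Q1) : False := by
  obtain ⟨ω, ω0, ω1⟩ := hK
  obtain ⟨r, hr, h1⟩ := h 1 one_ne_zero
  obtain ⟨r', hr', h2⟩ := h ω ω0
  have hb : ∀ x y : U τ, x.a = 0 → (x * y).b = x.b + y.b := fun x y e => by simp [U.mul_b, e]
  have hc : ∀ x y : U τ, x.a = 0 → (x * y).c = x.c + y.c := fun x y e => by
    simp [U.mul_c, e, Tw.cr, Tw.sh]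
  have hs : ∀ x : U τ, x.a = 0 → (x * x = 1 ↔ x.s * x.t + x.b * x.c = 0) := fun x e => by
    rw [U.inv_iff, τ.T_fix (hσ _)]; simp [e]
  rcases hX with rfl | rfl
  · have c : Co M M.W U.c U.b fun a => a ^ 2 := ⟨hc, hb, fun x e => by rw [hs x e, mul_comm x.b],
      fun x => M.ι_W, fun s p q t => ⟨⟨0, s, p, 0, q, t, hσ _, hσ _, hσ _⟩, rfl, rfl, rfl, rfl, rfl⟩,
      fun a l x e1 e2 e3 => by
        simp only [U.mul_a, U.mul_s, U.mul_c, U.mul_b, U.mul_t, U.inv_a, U.inv_s, U.inv_c, U.inv_b,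
          U.inv_t, U.x1, e1, e2, e3, Tw.T, Tw.N, Tw.sh, Tw.cr, hσ]
        constructor <;> grind⟩
    have := c.uniq hj hX' (c.main M.S_N.2.2.1 hj hX' j2 hr h1) (c.main M.S_N.2.2.1 hj hX' j2 hr' h2)
    have e : (ω + 1) ^ 2 = 0 := by grind
    exact ω1 (by have := pow_eq_zero_iff two_ne_zero |>.1 e; grind)
  · have c : Co M M.Ws U.b U.c fun a => a := ⟨hb, hc, hs,
      fun x => M.ι_Ws, fun s p q t => ⟨⟨0, s, q, 0, p, t, hσ _, hσ _, hσ _⟩, rfl, rfl, rfl, rfl, rfl⟩,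
      fun a l x e1 e2 e3 => by
        simp only [U.mul_a, U.mul_s, U.mul_c, U.mul_b, U.mul_t, U.inv_a, U.inv_s, U.inv_c, U.inv_b,
          U.inv_t, U.x1, e1, e2, e3, Tw.T, Tw.N, Tw.sh, Tw.cr, hσ]
        constructor <;> grind⟩
    have hS : M.S ≤ N[M.Ws] := le_N_iff.2 (by
      rintro _ ⟨u, rfl⟩ _ ⟨x, ⟨e1, e2, e3⟩, rfl⟩
      rw [← map_inv, ← map_mul, ← map_mul, M.ι_Ws]
      simp only [U.mul_a, U.mul_c, U.mul_b, U.mul_t, U.inv_a, U.inv_c, U.inv_b,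
        U.inv_t, e1, e2, e3, Tw.sh, Tw.cr, hσ]
      refine ⟨?_, ?_, ?_⟩ <;> grind)
    exact ω1 (c.uniq hj hX' (c.main hS hj hX' j2 hr' h2) (c.main hS hj hX' j2 hr h1))

end H27.HX
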