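import Mathlib
import Cfsg.Prelude.Def_LieTwisted
import Cfsg.Prelude.Def_CaseTheorems
import Cfsg.Agent.H27.HX1
import Cfsg.Agent.H27.HF3
import Cfsg.Agent.H27.HE0

set_option autoImplicit false
set_option linter.unusedVariables false
set_option linter.unusedSectionVars false
set_option linter.unusedSimpArgs false

namespace H27.HX

open Cfsg H24 H26 H26.Gold H26.LM Subgroup
open scoped commutatorElement

universe u v

variable {G : Type u} [Group G] [Finite G] {K : Type} [Field K] [Finite K] [CharP K 2] {τ : Tw K}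
  {M M' M'' : Md G τ} {A : Ap G} {H S E M0 R X X' Y L D N0 P J : Subgroup G} {𝒟 : Set G}
  {g h j k l n s t x y z : G} {a a' b c c0 e f : K} {u v w : U τ}

namespace HF2x

/-- scalar multiple in `Q₁ / Z` -/
def sm (l : K) (hl : τ.σ l = l) (p : U τ) : U τ :=
  ⟨0, l * p.s, l * p.c, 0, l * p.b, l * p.t, by rw [map_mul, hl, p.hs], map_zero _,
    by rw [map_mul, hl, p.ht]⟩

theorem comm1 {x y : U τ} (hx : x.a = 0) (hy : y.a = 0) :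
    x * y = y * x ↔ x.t * y.s + τ.T (x.b * y.c) = y.t * x.s + τ.T (y.b * x.c) := by
  constructor
  · intro h
    have := congrArg U.r h
    simp only [U.mul_r, hx, hy, Tw.T, Tw.N, Tw.sh, Tw.cr, map_add, map_mul, map_zero] at this ⊢
    grind
  · intro h
    simp only [Tw.T, map_mul] at h
    ext <;> simp only [U.mul_a, U.mul_s, U.mul_c, U.mul_r, U.mul_b, U.mul_t, hx, hy, Tw.T, Tw.N, Tw.sh,
      Tw.cr, map_add, map_mul, map_zero] <;> grind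

theorem cl (hX : X ≤ M.Q1) (hu : u.a = 0) (h : M.ι u ∈ C[X]) (hf : τ.σ f = f) :
    M.ι (sm f hf u) ∈ M.Q1 ⊓ C[X] := by
  refine ⟨M.ι_Q1.2 rfl, mem_C.2 fun y hy => ?_⟩
  obtain ⟨p, hp, rfl⟩ := hX hy
  have := mem_C.1 h _ hy
  rw [← map_mul, ← map_mul] at this ⊢
  have e := (comm1 hp hu).1 (M.inj this)
  refine congrArg _ ((comm1 hp rfl).2 ?_)
  simp only [sm]
  rw [show p.b * (f * u.c) = f * (p.b * u.c) by ring, mul_assoc f u.b, Tw.T_smul hf, Tw.T_smul hf]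
  linear_combination f * e

theorem cj_Q1 (hg : g ∈ N[M.Q1]) (hX : X ≤ M.Q1) : cj g X ≤ M.Q1 :=
  (cj_mono g hX).trans (cj_of_mem_N hg).le

theorem cjV (hg : g ∈ N[M.Q1]) : cj g M.V = M.Q1 ⊓ C[cj g M.Y] := by
  have : M.V = M.Q1 ⊓ C[M.Y] := by
    rw [← inf_eq_right.2 (HVx.V_Q1 M), ← M.CY, ← inf_assoc, inf_eq_left.2 M.Q1_S]
  rw [this, cj_inf, cj_C, cj_of_mem_N hg]

theorem smV (hg : g ∈ N[M.Q1]) (hv : M.ι v ∈ cj g M.V) (hf : τ.σ f = f) :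
    M.ι (sm f hf v) ∈ cj g M.V := by
  have ha := M.ι_Q1.1 (cj_Q1 hg (HVx.V_Q1 M) hv)
  rw [cjV hg] at hv ⊢
  exact cl (cj_Q1 hg (HVx.Y_Q1 M)) ha hv.2 hf

theorem line (hg : g ∈ N[M.Q1]) (hv : M.ι v ∈ cj g M.V) (hZ : M.ι v ∉ M.Z) (x : U τ)
    (hx : M.ι x ∈ cj g M.V) : ∃ f, τ.σ f = f ∧ x.s = f * v.s ∧ x.c = f * v.c ∧ x.b = f * v.b ∧
      x.t = f * v.t := by
  have va := M.ι_Q1.1 (cj_Q1 hg (HVx.V_Q1 M) hv)
  have hZV : M.Z ≤ cj g M.V := (cj_of_mem_N (M.nQ1_Z hg)).ge.trans (cj_mono g M.Z_V)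
  let φ : τ.F × τ.F → cj g M.V := fun p => ⟨M.ι (sm (p.1 : K) (τ.mem_F.1 p.1.2) v * U.x4 p.2), by
    rw [map_mul]
    exact mul_mem (smV hg hv _) (hZV (M.ι_Z.2 ⟨rfl, rfl, rfl, rfl, rfl⟩))⟩
  have co : ∀ (f r : τ.F), (sm (f : K) (τ.mem_F.1 f.2) v * U.x4 r).s = f * v.s ∧ (sm (f : K) (τ.mem_F.1 f.2) v * U.x4 r).c = f * v.c ∧
      (sm (f : K) (τ.mem_F.1 f.2) v * U.x4 r).b = f * v.b ∧ (sm (f : K) (τ.mem_F.1 f.2) v * U.x4 r).t = f * v.t ∧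
      (sm (f : K) (τ.mem_F.1 f.2) v * U.x4 r).r = r := fun f r => by
    simp [U.mul_s, U.mul_c, U.mul_b, U.mul_t, U.mul_r, sm, U.x4, Tw.T, Tw.N, Tw.sh, Tw.cr]
  have inj : Function.Injective φ := by
    rintro ⟨f, r⟩ ⟨f', r'⟩ e
    have e1 : sm (f : K) (τ.mem_F.1 f.2) v * U.x4 r = sm (f' : K) (τ.mem_F.1 f'.2) v * U.x4 r' := M.inj (congrArg Subtype.val e)
    obtain ⟨h1, h2, h3, h4, h5⟩ := co f r
    obtain ⟨k1, k2, k3, k4, k5⟩ := co f' r'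
    rw [e1] at h1 h2 h3 h4 h5
    have e2 : (f : K) = f' := by
      by_contra hne
      have z : ∀ {p : K}, (f' : K) * p = f * p → p = 0 := fun {p} e => by
        have : ((f : K) - f') * p = 0 := by linear_combination -e
        exact (mul_eq_zero.1 this).resolve_left (sub_ne_zero.2 hne)
      exact hZ (M.ι_Z.2 ⟨va, z (k1.symm.trans h1), z (k2.symm.trans h2), z (k3.symm.trans h3),
        z (k4.symm.trans h4)⟩)
    exact Prod.ext (Subtype.ext e2) (Subtype.ext (h5.symm.trans k5))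
  obtain ⟨⟨f, r⟩, e⟩ := ((Nat.bijective_iff_injective_and_card φ).2 ⟨inj, by
    rw [card_cj, M.card_V, Nat.card_prod, pow_two]; rfl⟩).2 ⟨_, hx⟩
  have e1 : sm (f : K) (τ.mem_F.1 f.2) v * U.x4 r = x := M.inj (congrArg Subtype.val e)
  obtain ⟨h1, h2, h3, h4, -⟩ := co f r
  rw [e1] at h1 h2 h3 h4
  exact ⟨f, τ.mem_F.1 f.2, h1, h2, h3, h4⟩

theorem es (hg : g ∈ N[M.Q1]) (h : g ∉ N[M.V]) : Es ⊤ M.S M.Q1 (⊤ ⊓ N[M.Q1] ⊓ N[M.V]) :=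
  M.es1 le_top fun e => h (e ⟨mem_top g, hg⟩)

theorem x1_mem (M : Md G τ) (a : K) : M.ι (U.x1 τ a) ∈ M.S ⊓ N[M.Q1] :=
  ⟨M.ι_S _, M.S_N.2.2.2.2.1 (M.ι_S _)⟩

theorem x1_sq (M : Md G τ) (a : K) : M.ι (U.x1 τ a) * M.ι (U.x1 τ a) ∈ M.Q1 := by
  rw [← map_mul]
  exact M.ι_Q1.2 (CharTwo.add_self_eq_zero a)

theorem swp (hg : g ∈ N[M.Q1]) (h : g ∉ N[M.V]) : ∃ j ∈ N[M.Q1], j ∉ ⊤ ⊓ N[M.Q1] ⊓ N[M.V] ∧
    j * j ∈ M.Q1 ∧ cj g M.V = cj j M.V := by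
  have t1 := x1_mem M 1
  obtain ⟨j, h1, h2, h3, h4⟩ := es_swap (es hg h) t1 (fun e => one_ne_zero (M.ι_Q1.1 e)) (x1_sq M 1)
    ⟨mem_top g, hg⟩ fun e => h e.2
  have hj : j ∈ N[M.Q1] := (closure_le (K := N[M.Q1])).2 (by
    rintro _ (rfl | rfl)
    · exact t1.2
    · exact mul_mem (mul_mem hg t1.2) (inv_mem hg)) h1
  refine ⟨j, hj, h2, h3, cj_eq_cj_iff.2 ?_⟩
  obtain ⟨p, -, e⟩ := conj_mem' hj h4
  refine (M.dv (u := U.x1 τ 1) (v := U.x1 τ 1 * p) (mul_mem (inv_mem hj) hg) ?_ one_ne_zero).2.1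
  rw [map_mul, e]; group

end HF2x

/-! ### HF2 -/

theorem Md.dt (M : Md G τ) (hg : g ∈ N[M.Q1]) (h : g ∉ N[M.V]) (ha : a ≠ 0) (ha' : a' ≠ 0) :
    ∃ d ∈ N[M.Q1] ⊓ N[M.V] ⊓ N[cj g M.V], ∃ p : U τ, p.a = a' ∧
      d * M.ι (U.x1 τ a) * d⁻¹ = M.ι p := by
  obtain ⟨j, hj, h2, h3, h4⟩ := HF2x.swp hg h
  obtain ⟨d, ⟨h5, h6⟩, p, hp, e⟩ := es_dt (HF2x.es hg h) ⟨mem_top j, hj⟩ h2 h3 (HF2x.x1_mem M a)
    (fun e => ha (M.ι_Q1.1 e)) (HF2x.x1_sq M a) (HF2x.x1_mem M a') (fun e => ha' (M.ι_Q1.1 e))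
    (HF2x.x1_sq M a')
  refine ⟨d, ⟨⟨h5.1.2, h5.2⟩, ?_⟩, U.x1 τ a' * p⁻¹, ?_, ?_⟩
  · rw [h4, ← cj_N]
    exact cj_mono j inf_le_right h6
  · have : p.a = 0 := hp
    simp [U.mul_a, U.inv_a, U.x1, this]
  · rw [map_mul, map_inv, e]; group
theorem Md.beta (M : Md G τ) (hK : Big K) (hg : g ∈ N[M.Q1]) (h : g ∉ N[M.V]) :
    cj g M.V ⊓ M.Y ≤ M.Z := by
  rintro _ ⟨hv, v, ⟨va, vt⟩, rfl⟩
  have va : v.a = 0 := va
  have vt : v.t = 0 := vt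
  by_contra hZ
  have hv : M.ι v ∈ cj g M.V := hv
  have ln := HF2x.line hg hv hZ
  have tr : ∀ a a', a ≠ 0 → a' ≠ 0 → (v.b = 0 → τ.T (a * v.c) = 0 → τ.T (a' * v.c) = 0) ∧
      (τ.cr a v.b = 0 → τ.cr a' v.b = 0) := by
    intro a a' ha ha'
    obtain ⟨d, ⟨⟨h1, -⟩, h2⟩, p, rfl, e⟩ := M.dt hg h ha ha'
    have h3 := conj_mem h2 hv
    obtain ⟨v', v'a, e'⟩ := HF2x.cj_Q1 hg (HVx.V_Q1 M) h3
    rw [← e'] at h3
    obtain ⟨f, hf, k1, k2, k3, k4⟩ := ln v' h3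
    have f0 : f ≠ 0 := fun f0 => hZ ((H24.conj_mem_iff (M.nQ1_Z h1)).1
      (e' ▸ M.ι_Z.2 ⟨v'a, by simp [k1, f0], by simp [k2, f0], by simp [k3, f0], by simp [k4, f0]⟩))
    obtain ⟨r1, r2⟩ := (M.dv h1 e ha).2.2 v v' e'.symm va
    refine ⟨fun hb hT => ?_, fun hc => ?_⟩
    · have := (r1.1 ⟨vt, hb, hT⟩).2.2
      rw [k2, mul_left_comm, Tw.T_smul hf] at this
      exact (mul_eq_zero.1 this).resolve_left f0
    · have := (r2.1 ⟨vt, hc⟩).2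
      rw [k3, Tw.cr_smul hf] at this
      exact (mul_eq_zero.1 this).resolve_left f0
  have nz : v.b = 0 → v.c ≠ 0 := fun hb hc => h (mem_N_of_cj_le fun x hx => by
    obtain ⟨p, pa, rfl⟩ := HF2x.cj_Q1 hg (HVx.V_Q1 M) hx
    obtain ⟨f, -, -, k2, k3, k4⟩ := ln p hx
    exact M.ι_V.2 ⟨pa, by simp [k2, hc], by simp [k3, hb], by simp [k4, vt]⟩)
  have hσ : ∀ x, τ.σ x = x := by
    by_cases hb : v.b = 0
    · refine τ.triv_of_perp (a := v.c) fun a ha => ?_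
      by_contra a0
      refine nz hb (τ.T_nd fun c => ?_)
      by_cases c0 : c = 0
      · rw [c0, mul_zero, τ.T_zero]
      · rw [mul_comm] at ha ⊢
        exact (tr a c a0 c0).1 hb ha
    · refine τ.triv_of_line (a := v.b) fun b => τ.cr_eq_zero hb ?_
      by_cases b0 : b = 0
      · rw [b0, τ.cr_zero]
      · rw [τ.cr_comm]
        exact (tr _ b hb b0).2 (τ.cr_self _)
  have bc : v.b * v.c = 0 := by
    have e : v * v = 1 := M.inj (by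
      obtain ⟨y, hy, e⟩ := mem_cj'.1 hv
      rw [map_mul, e, conj_mul, M.eaW.sq (M.V_W hy), mul_one, mul_inv_cancel, map_one])
    have := (((U.inv_iff v).1 e).resolve_right fun k => k.1 va).2
    rwa [vt, mul_zero, zero_add, Tw.T_fix (hσ _)] at this
  obtain ⟨j, hj, h2, h3, h4⟩ := HF2x.swp hg h
  have hN : j ∈ N[M.V ⊔ cj g M.V] := by
    rw [mem_N_iff_cj, cj_sup, h4, ← cj_mul, cj_of_mem_N (M.S_N.2.1 (M.Q1_S h3)), sup_comm]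
  refine M.fake hK hσ (X := M.V ⊔ cj g M.V) ?_ hj hN h3 fun a ha =>
    D18.key (HF2x.es hg h) (HF2x.x1_mem M a) (fun e => ha (M.ι_Q1.1 e)) (HF2x.x1_sq M a)
      ⟨mem_top j, hj⟩ h2 h3
  have dec : ∀ (p : U τ) (f : K), p.a = 0 → p.t = 0 → p.c = f * v.c → p.b = f * v.b →
      M.ι p ∈ M.V ⊔ cj g M.V := fun p f pa pt pc pb => by
    rw [← inv_mul_cancel_right p (HF2x.sm f (hσ f) v), map_mul]
    refine mul_mem (mem_sup_left (M.ι_V.2 ?_)) (mem_sup_right (HF2x.smV hg hv _))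
    simp [U.mul_a, U.mul_c, U.mul_b, U.mul_t, U.inv_a, U.inv_c, U.inv_b, U.inv_t, HF2x.sm, Tw.cr, Tw.sh,
      pa, pt, pc, pb, vt, CharTwo.add_self_eq_zero]
  by_cases hb : v.b = 0
  · refine Or.inl (le_antisymm (sup_le M.V_W fun x hx => ?_) ?_)
    · obtain ⟨p, pa, rfl⟩ := HF2x.cj_Q1 hg (HVx.V_Q1 M) hx
      obtain ⟨f, -, -, k2, k3, k4⟩ := ln p hx
      exact M.ι_W.2 ⟨pa, by simp [k3, hb], by simp [k4, vt]⟩
    · rintro _ ⟨p, ⟨pa, pb, pt⟩, rfl⟩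
      exact dec p (p.c / v.c) pa pt (by rw [div_mul_cancel₀ _ (nz hb)]) (by rw [pb, hb, mul_zero])
  · have hc := (mul_eq_zero.1 bc).resolve_left hb
    refine Or.inr (le_antisymm (sup_le ?_ fun x hx => ?_) ?_)
    · rintro _ ⟨p, ⟨pa, pc, -, pt⟩, rfl⟩
      exact M.ι_Ws.2 ⟨pa, pc, pt⟩
    · obtain ⟨p, pa, rfl⟩ := HF2x.cj_Q1 hg (HVx.V_Q1 M) hx
      obtain ⟨f, -, -, k2, k3, k4⟩ := ln p hx
      exact M.ι_Ws.2 ⟨pa, by simp [k2, hc], by simp [k4, vt]⟩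
    · rintro _ ⟨p, ⟨pa, pc, pt⟩, rfl⟩
      exact dec p (p.b / v.b) pa pt (by rw [pc, hc, mul_zero]) (by rw [div_mul_cancel₀ _ hb])


end H27.HX
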