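import Mathlib
import Cfsg.Prelude.Def_LieTwisted
import Cfsg.Prelude.Def_CaseTheorems
import Cfsg.Agent.H27.HX1
import Cfsg.Agent.H27.HW

set_option autoImplicit false
set_option linter.unusedVariables false
set_option linter.unusedSectionVars false
set_option linter.unusedSimpArgs false

namespace H27.HX

open Cfsg H24 H26 H26.Gold H26.LM Subgroup
open scoped commutatorElement

universe u v

variable {G : Type u} [Group G] [Finite G] {K : Type} [Field K] [Finite K] [CharP K 2] {τ : Tw K}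
  {M M' M'' : Md G τ} {A : Ap G} {H S E M0 R X X' Y L D N0 P J : Subgroup G} {𝒟 : Set G}
  {g h j k l n s t x y z : G} {a a' b c c0 e f : K} {u v w : U τ}

namespace HF4x

theorem Y1 (M : Md G τ) : M.Y ≤ M.Q1 := M.Y_eq ▸ inf_le_left
theorem Y2 (M : Md G τ) : M.Y ≤ M.Q2 := M.Y_eq ▸ inf_le_right
theorem Q2C (M : Md G τ) : M.Q2 ≤ C[M.V] := M.CV ▸ inf_le_right
theorem sqW (M : Md G τ) (hy : y ∈ M.W) : y * y = 1 := by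
  rw [← pow_two]; exact M.eaW.2 y hy

/-- the second maximal elementary abelian subgroup of `Dp` -/
def Wa (τ : Tw K) (a : K) : Subgroup (U τ) :=
  subOfMul {x | x.a = 0 ∧ x.t = 0 ∧ τ.cr a x.b = 0 ∧ τ.T (a * x.c) = 0}
    ⟨rfl, rfl, τ.cr_zero a, by simp [τ.T_zero]⟩ (by
      rintro x ⟨h1, h2, h3, h4⟩ y ⟨k1, k2, k3, k4⟩
      refine ⟨by simp [U.mul_a, *], by simp [U.mul_t, *], ?_, ?_⟩
      · rw [U.mul_b, k2, zero_mul, add_zero, τ.cr_add, h3, k3, add_zero]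
      · rw [U.mul_c, h1, k2, τ.cr_comm, τ.cr_zero, zero_mul, add_zero, add_zero, mul_add, τ.T_add,
          h4, k4, add_zero])

theorem Wa_comm (M : Md G τ) (ha : a ≠ 0) (hu : u ∈ Wa τ a) (hv : v ∈ Wa τ a) :
    M.ι u * M.ι v = M.ι v * M.ι u := by
  obtain ⟨h1, h2, h3, h4⟩ := hu
  obtain ⟨k1, k2, k3, k4⟩ := hv
  obtain ⟨f, hf, e⟩ := τ.cr_eq_zero ha h3
  obtain ⟨f', hf', e'⟩ := τ.cr_eq_zero ha k3
  refine HBx.cm' M ⟨?_, ?_, ?_, ?_⟩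
  · simp [U.comm_s, h1, k1, Tw.T, Tw.N, Tw.sh]
  · simp [U.comm_c, h1, k1, Tw.cr, Tw.sh]
  · rw [U.comm_r1 h1 k1, h2, k2, e, e', mul_assoc, mul_assoc, Tw.T_smul hf, Tw.T_smul hf', h4, k4]
    simp
  · simp [U.comm_b, h1, k1]

theorem two_W (M : Md G τ) (hl : l ∈ N[M.Q1]) (e : l * M.ι u * l⁻¹ = M.ι v) (hu : u.a ≠ 0)
    (hv : v.a = u.a) : cj l M.W = M.W ∨ cj l M.W = (Wa τ u.a).map M.ι := by
  have WQ : M.W ≤ M.Q1 := M.W_Y.trans (Y1 M)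
  have h1 : (cj l M.W : Set G) ⊆ M.W ∪ (Wa τ u.a).map M.ι := by
    intro x hx
    have x1 : x ∈ M.Q1 := cj_le_of_mem_N WQ hl hx
    obtain ⟨y, hy, e1⟩ := mem_cj'.1 hx
    have x2 : x * x = 1 := by rw [e1, conj_mul, sqW M hy, mul_one, mul_inv_cancel]
    obtain ⟨p', ha, rfl⟩ := x1
    have ha : p'.a = 0 := ha
    obtain ⟨p, ⟨p1, p2, p3⟩, rfl⟩ := hy
    obtain ⟨t0, c0⟩ := ((M.dv hl e hu).2.2 p p' e1.symm p1).2.1 ⟨p3, by rw [p2, τ.cr_zero]⟩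
    rw [hv] at c0
    obtain ⟨f, hf, e2⟩ := τ.cr_eq_zero hu c0
    have h2 := ((U.inv_iff p').1 (M.inj (by rw [map_mul, x2, map_one]))).resolve_right
      fun h => h.1 ha
    rw [t0, mul_zero, zero_add, e2, mul_assoc, Tw.T_smul hf] at h2
    rcases mul_eq_zero.1 h2.2 with h3 | h3
    · exact Or.inl (M.ι_W.2 ⟨ha, by rw [e2, h3, zero_mul], t0⟩)
    · exact Or.inr ⟨p', ⟨ha, t0, c0, h3⟩, rfl⟩
  rcases SubgroupClass.subset_union.1 h1 with h2 | h2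
  · exact Or.inl (mem_N_iff_cj.1 (mem_N_of_cj_le h2))
  · refine Or.inr (le_antisymm h2 ?_)
    rintro _ ⟨p, hp, rfl⟩
    refine mem_cj.2 (M.CW.le ⟨M.Q1_S (conj_mem' hl (M.ι_Q1.2 hp.1)), mem_C.2 fun w hw => ?_⟩)
    obtain ⟨p', hp', e1⟩ := h2 (conj_mem_cj l hw)
    have := Wa_comm M hu hp' hp
    rw [e1] at this
    calc w * (l⁻¹ * M.ι p * l) = l⁻¹ * (l * w * l⁻¹ * M.ι p) * l := by group
      _ = l⁻¹ * M.ι p * l * w := by rw [this]; group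

end HF4x

open HF4x

/-! ### HF4 -/

theorem beta0 (h : Es H M.S M.Q1 M0) (hH : H ≤ N[M.V]) : False := by
  have b2 : M.ι (U.x1 τ 1) * M.ι (U.x1 τ 1) = 1 := by
    rw [← map_mul, (U.inv_iff _).2 (Or.inr ⟨one_ne_zero, rfl, τ.cr_zero _, by
      simp [U.x1, τ.T_zero]⟩), map_one]
  have bQ : M.ι (U.x1 τ 1) ∉ M.Q1 := fun e => one_ne_zero (M.ι_Q1.1 e)
  have bQ2 : M.ι (U.x1 τ 1) ∈ M.Q2 := M.ι_Q2.2 rfl
  obtain ⟨g, d⟩ := h.dih ⟨M.ι_S _, M.S_N.2.2.2.2.1 (M.ι_S _)⟩ bQ b2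
  have gV : g ∈ N[M.V] := hH d.gH.1
  have gY : g ∈ N[M.Y] := M.nY1 ⟨d.gH.2, gV⟩
  have b' : g * M.ι (U.x1 τ 1) * g⁻¹ ∈ C[M.V] := conj_mem (norm_C le_rfl gV) (Q2C M bQ2)
  have gC : g ∈ C[M.V] := mem_C'.2 fun y hy => LMWa.comm_of_sq d.odd (by
    rw [← LMWa.bb d]; exact mem_C'.1 (mul_mem b' (Q2C M bQ2)) y hy)
  have SY : M.S ≤ N[M.Y] := M.S_N.2.2.2.1
  have d2 : Dih H M.Q2 M.Y (M.ι (U.x1 τ 1)) g := by
    refine ⟨Y2 M, M.twoS.of_le M.Q2_S, ⟨bQ2, SY (M.ι_S _)⟩, fun e => bQ (Y1 M e), b2,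
      ⟨d.gH.1, gY⟩, d.odd, d.inv, fun hc => d.nc (mem_C'.2 fun x hx => ?_), fun t ht tY t2 => ?_⟩
    · have c1 : g * x * g⁻¹ * x⁻¹ ∈ M.V := by
        refine M.CY.le ⟨M.Q1_S (mul_mem (conj_mem d.gH.2 hx) (inv_mem hx)), mem_C'.2 fun y hy => ?_⟩
        have e1 := mem_C'.1 hc _ (conj_mem' (SY (M.Q1_S hx)) hy)
        have e2 := mem_C'.1 hc _ hy
        calc g * x * g⁻¹ * x⁻¹ * y = g * x * g⁻¹ * (x⁻¹ * y * x * g) * g⁻¹ * x⁻¹ := by group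
          _ = g * y * x * g⁻¹ * x⁻¹ := by rw [← e1]; group
          _ = y * (g * x * g⁻¹ * x⁻¹) := by rw [e2]; group
      exact LMWa.fix_of_odd d.odd (by group) (mem_C'.1 gC _ c1)
        (M.twoS.piElt (M.Q1_S (Y1 M (M.W_Y (M.V_W c1)))))
    · obtain ⟨r, hr, e⟩ := d.pw t ⟨M.Q2_S ht.1, M.S_N.2.2.2.2.1 (M.Q2_S ht.1)⟩
        (fun e => tY (M.Y_eq ▸ ⟨e, ht.1⟩)) (Y1 M t2)
      exact ⟨r, hr, M.Y_eq ▸ ⟨e, M.CV.le ⟨M.Q1_S e, pow_mem (mul_mem (Q2C M ht.1) b') r⟩⟩⟩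
  have YS : M.Y ≤ M.S := (Y1 M).trans M.Q1_S
  have q : Qd M.Q2 M.Y M.Y M.W M.V M.Q2 g := ⟨le_rfl, le_normalizer, gY, M.W_Y,
    YS.trans M.S_N.2.2.1, M.V_W, gC, (Y2 M).trans (Q2C M),
    fun y hy y' hy' => M.cSW (YS (M.W_Y hy)) hy', fun y hy => by rw [sqW M hy]; exact one_mem _,
    fun t ht => ⟨ht, SY (M.Q2_S ht)⟩, fun t ht => M.sqS (M.Q2_S ht), fun t ht => Q2C M ht,
    fun t ht x hx => M.cSY (M.Q2_S ht) hx, fun t ht x hx => M.cSW (M.Q2_S ht) hx⟩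
  obtain ⟨x, hx, xW⟩ := q.w5 d2 bQ2 d2.nc
  obtain ⟨x, ⟨x1, x2⟩, rfl⟩ := cj_le_of_mem_N M.W_Y gY hx
  have x1 : x.a = 0 := x1
  have x2 : x.t = 0 := x2
  have hb : x.b ≠ 0 := fun e => xW (M.ι_W.2 ⟨x1, e, x2⟩)
  refine xW (q.w1 d2 bQ2 (t := M.ι (U.x1 τ x.b)) (M.ι_Q2.2 rfl) (fun e => hb (M.ι_Y.1 e).1) hx ?_)
  have : ⁅M.ι (U.x1 τ x.b), M.ι x⁆ ∈ M.V := by
    rw [← map_commutatorElement]
    refine M.ι_V.2 ⟨U.comm_a _ _, ?_, ?_, U.comm_t _ _⟩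
    · simp [U.comm_c, U.x1, x1, x2, τ.cr_self]
    · simp [U.comm_b, U.x1, x1, x2]
  exact cj_mono g M.V_W ((mem_N_iff_cj.1 gV).ge this)

theorem Md.Cf.eps (h : M.Cf) : N[M.Q1] ⊓ N[M.V] ≤ N[M.W] := by
  by_contra hne
  have SQ := M.S_N.2.2.2.2.1
  have WQ : M.W ≤ M.Q1 := M.W_Y.trans (Y1 M)
  refine beta0 (es_of_se (H := N[M.Q1] ⊓ N[M.V]) (X := M.W) (M.syl_of (le_inf SQ M.S_N.2.1)) M.Q1_lt
    SQ (M.CQ1.le.trans (M.Z_V.trans (M.V_W.trans WQ))) M.S_N.2.2.1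
    (inf_le_right.trans ((C_anti WQ).trans (C_le_N _)))
    (fun e => hne fun x hx => e ⟨hx, hx.1⟩) fun g hg t ht tQ ht' => ?_) inf_le_right
  obtain ⟨u, hu⟩ := ht'
  have ua : u.a ≠ 0 := fun e => tQ ((conj_mem_iff hg.2).1 (hu ▸ M.ι_Q1.2 e))
  let L : Subgroup G := subOfMul {x | x ∈ N[M.Q1] ∧ ⁅x, M.ι u⁆ ∈ M.Q1} ⟨one_mem _, by simp⟩ (by
    rintro x ⟨h1, h2⟩ y ⟨k1, k2⟩
    refine ⟨mul_mem h1 k1, ?_⟩
    have : ⁅x * y, M.ι u⁆ = x * ⁅y, M.ι u⁆ * x⁻¹ * ⁅x, M.ι u⁆ := by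
      simp only [commutatorElement_def]; group
    rw [this]
    exact mul_mem (conj_mem h1 k2) h2)
  have SL : M.S ≤ L := fun s hs => ⟨SQ hs, Y1 M (M.cSS hs (M.ι_S u))⟩
  have SL' : cj g M.S ≤ L := fun x hx => by
    obtain ⟨s, hs, rfl⟩ := mem_cj'.1 hx
    refine ⟨mul_mem (mul_mem hg.2 (SQ hs)) (Subgroup.inv_mem _ hg.2), ?_⟩
    rw [hu, ← conjugate_commutatorElement]
    exact conj_mem hg.2 (Y1 M (M.cSS hs ht))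
  have LW : L ≤ N[M.W] := idx_two (M.syl_of SL) M.S_N.2.2.1 fun l hl => by
    obtain ⟨p, pa, e⟩ := hl.2
    refine two_W M hl.1 (v := p * u) (by rw [map_mul, e, commutatorElement_def]; group) ua ?_
    rw [U.mul_a, show p.a = 0 from pa, zero_add]
  have s2 : Syl 2 L (cj g M.S) := by
    have := M.sylS.cj g
    rw [cj_top] at this
    exact this.of_le SL' le_top
  obtain ⟨c, hc, e⟩ := Sylow_trans Nat.prime_two (M.syl_of SL) s2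
  have h1 : c⁻¹ * g ∈ N[M.S] := mem_N_iff_cj.2 (by
    rw [cj_mul, e, ← cj_mul, inv_mul_cancel, cj_one])
  simpa using mul_mem (LW hc) (h.hW (M.nS_Q2 h.big h1))

end H27.HX
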