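import Mathlib
import Cfsg.Prelude.Def_LieTwisted
import Cfsg.Prelude.Def_CaseTheorems
import Cfsg.Agent.H27.HX1
import Cfsg.Agent.H27.HF2
import Cfsg.Agent.H27.HF4

set_option autoImplicit false
set_option linter.unusedVariables false
set_option linter.unusedSectionVars false
set_option linter.unusedSimpArgs false

namespace H27.HX

open Cfsg H24 H26 H26.Gold H26.LM Subgroup
open scoped commutatorElement

universe u v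

variable {G : Type u} [Group G] [Finite G] {K : Type} [Field K] [Finite K] [CharP K 2] {τ : Tw K}
  {M M' M'' : Md G τ} {A : Ap G} {H S E M0 R X X' Y L D N0 P J : Subgroup G} {𝒟 : Set G}
  {g h j k l n s t x y z : G} {a a' b c c0 e f : K} {u v w : U τ}

namespace HF5x

/-- scalar multiple in `Q₁ / Z` -/
def sm (l : K) (hl : τ.σ l = l) (p : U τ) : U τ :=
  ⟨0, l * p.s, l * p.c, 0, l * p.b, l * p.t, by rw [map_mul, hl, p.hs], map_zero _,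
    by rw [map_mul, hl, p.ht]⟩

theorem comm1 {x y : U τ} (hx : x.a = 0) (hy : y.a = 0) :
    x * y = y * x ↔ x.t * y.s + τ.T (x.b * y.c) = y.t * x.s + τ.T (y.b * x.c) := by
  constructor
  · intro h
    have := congrArg U.r h
    simp only [U.mul_r, hx, hy, Tw.T, Tw.N, Tw.sh, Tw.cr, map_add, map_mul, map_zero] at this ⊢
    grind
  · intro h
    simp only [Tw.T, map_mul] at h
    ext <;> simp only [U.mul_a, U.mul_s, U.mul_c, U.mul_r, U.mul_b, U.mul_t, hx, hy, Tw.T, Tw.N, Tw.sh,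
      Tw.cr, map_add, map_mul, map_zero] <;> grind

theorem cl (hX : X ≤ M.Q1) (hu : u.a = 0) (h : M.ι u ∈ C[X]) (hf : τ.σ f = f) :
    M.ι (sm f hf u) ∈ M.Q1 ⊓ C[X] := by
  refine ⟨M.ι_Q1.2 rfl, mem_C.2 fun y hy => ?_⟩
  obtain ⟨p, hp, rfl⟩ := hX hy
  have := mem_C.1 h _ hy
  rw [← map_mul, ← map_mul] at this ⊢
  have e := (comm1 hp hu).1 (M.inj this)
  refine congrArg _ ((comm1 hp rfl).2 ?_)
  simp only [sm]
  rw [show p.b * (f * u.c) = f * (p.b * u.c) by ring, mul_assoc f u.b, Tw.T_smul hf, Tw.T_smul hf]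
  linear_combination f * e

theorem W_Q1 (M : Md G τ) : M.W ≤ M.Q1 := M.W_Y.trans (M.Y_eq.le.trans inf_le_left)
theorem V_Q1 (M : Md G τ) : M.V ≤ M.Q1 := M.V_W.trans (W_Q1 M)
theorem Y_Q1 (M : Md G τ) : M.Y ≤ M.Q1 := M.Y_eq.le.trans inf_le_left

theorem cj_Q1 (hg : g ∈ N[M.Q1]) (hX : X ≤ M.Q1) : cj g X ≤ M.Q1 :=
  (cj_mono g hX).trans (cj_of_mem_N hg).le

theorem cjC (hg : g ∈ N[M.Q1]) (e : M.S ⊓ C[X] = Y) : cj g (M.Q1 ⊓ Y) = M.Q1 ⊓ C[cj g X] := by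
  rw [← e, ← inf_assoc, inf_eq_left.2 M.Q1_S, cj_inf, cj_C, cj_of_mem_N hg]

theorem cjV (hg : g ∈ N[M.Q1]) : cj g M.V = M.Q1 ⊓ C[cj g M.Y] := by
  rw [← cjC hg M.CY, inf_eq_right.2 (V_Q1 M)]
theorem cjW (hg : g ∈ N[M.Q1]) : cj g M.W = M.Q1 ⊓ C[cj g M.W] := by
  rw [← cjC hg M.CW, inf_eq_right.2 (W_Q1 M)]
theorem cjY (hg : g ∈ N[M.Q1]) : cj g M.Y = M.Q1 ⊓ C[cj g M.V] := by
  rw [← cjC hg M.CV, ← M.Y_eq]
theorem cjZ (hg : g ∈ N[M.Q1]) : cj g M.Z = M.Z := cj_of_mem_N (M.nQ1_Z hg)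
theorem Z_cj (hg : g ∈ N[M.Q1]) (hX : M.Z ≤ X) : M.Z ≤ cj g X := (cjZ hg).ge.trans (cj_mono g hX)

theorem a_zero (hg : g ∈ N[M.Q1]) (hX : X ≤ M.Q1) (h : M.ι u ∈ cj g X) : u.a = 0 :=
  M.ι_Q1.1 (cj_Q1 hg hX h)

theorem sing (hg : g ∈ N[M.Q1]) (h : M.ι u ∈ cj g M.W) : u.s * u.t + τ.T (u.b * u.c) = 0 := by
  have e : u * u = 1 := M.inj (by
    obtain ⟨y, hy, e⟩ := mem_cj'.1 h
    rw [map_mul, e, conj_mul, M.eaW.sq hy, mul_one, mul_inv_cancel, map_one])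
  exact (((U.inv_iff u).1 e).resolve_right fun k => k.1 (a_zero hg (W_Q1 M) h)).2

theorem line (hK : Big K) (hg : g ∈ N[M.Q1]) (h : g ∉ N[M.V]) : ∃ v : U τ, v.a = 0 ∧ v.t = 1 ∧
    M.ι v ∈ cj g M.V ∧ ∀ x, M.ι x ∈ cj g M.V →
      x.a = 0 ∧ x.s = x.t * v.s ∧ x.c = x.t * v.c ∧ x.b = x.t * v.b := by
  have be := M.beta hK hg h
  have c : ∀ p, M.ι p ∈ cj g M.V → ∀ f (hf : τ.σ f = f), M.ι (sm f hf p) ∈ cj g M.V := fun p hp f hf => by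
    have ha := a_zero hg (V_Q1 M) hp
    rw [cjV hg] at hp ⊢
    exact cl (cj_Q1 hg (Y_Q1 M)) ha hp.2 hf
  obtain ⟨p, hp, pt⟩ : ∃ p, M.ι p ∈ cj g M.V ∧ p.t ≠ 0 := by
    by_contra k
    push Not at k
    have h1 : cj g M.V ≤ cj g M.Z := fun y hy => by
      obtain ⟨p, pa, rfl⟩ := cj_Q1 hg (V_Q1 M) hy
      rw [cjZ hg]
      exact be ⟨hy, M.ι_Y.2 ⟨pa, k p hy⟩⟩
    have h2 := h1 (conj_mem_cj g (M.ι_V.2 (⟨rfl, rfl, rfl, rfl⟩ : (U.x2 (τ := τ) 1).a = 0 ∧ _)))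
    rw [conj_mem_cj_iff, M.ι_Z] at h2
    exact one_ne_zero h2.2.1
  have t1 : (sm p.t⁻¹ (Tw.σ_inv p.ht) p).t = 1 := inv_mul_cancel₀ pt
  have m1 := c p hp _ (Tw.σ_inv p.ht)
  generalize sm p.t⁻¹ (Tw.σ_inv p.ht) p = v at t1 m1
  refine ⟨v, a_zero hg (V_Q1 M) m1, t1, m1, fun x hx => ?_⟩
  have xa := a_zero hg (V_Q1 M) hx
  have m2 := mul_mem hx (c v m1 _ x.ht)
  rw [← map_mul] at m2
  have := M.ι_Z.1 (be ⟨m2, M.ι_Y.2 ⟨a_zero hg (V_Q1 M) m2, by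
    simp only [U.mul_t, sm, t1]; grind⟩⟩)
  simp only [U.mul_a, U.mul_s, U.mul_c, U.mul_b, U.mul_t, sm, xa, Tw.T, Tw.N, Tw.sh, Tw.cr, map_zero,
    map_mul] at this
  refine ⟨xa, ?_, ?_, ?_⟩ <;> grind

theorem cj_eq_of (h : s⁻¹ * k ∈ N[X]) : cj k X = cj s X := by
  rw [← mul_inv_cancel_left s k, cj_mul, cj_of_mem_N h]

theorem x1_t (a : K) (u : U τ) : (U.x1 τ a * u * (U.x1 τ a)⁻¹).t = u.t := by
  simp only [U.mul_t, U.inv_t, U.x1]; grind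
theorem x1_b (a : K) (u : U τ) : (U.x1 τ a * u * (U.x1 τ a)⁻¹).b = u.b + u.t * a := by
  simp only [U.mul_a, U.mul_t, U.mul_b, U.inv_a, U.inv_t, U.inv_b, U.x1]; grind

end HF5x

open HF5x

/-! ### HF5 -/

theorem Md.two1 (M : Md G τ) (hK : Big K) (hg : g ∈ N[M.Q1]) (h : g ∉ N[M.V]) (hk : k ∈ N[M.Q1])
    (h' : k ∉ N[M.V]) : ∃ s ∈ M.S, cj k M.V = cj s (cj g M.V) := by
  obtain ⟨v, -, vt, vm, -⟩ := line hK hg h
  obtain ⟨w, wa, wt, wm, -⟩ := line hK hk h'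
  let x := U.x1 τ (v.b + w.b)
  have sg : M.ι x * g ∈ N[M.Q1] := mul_mem (M.S_N.2.2.2.2.1 (M.ι_S x)) hg
  have sv : M.ι x * g ∉ N[M.V] := fun e => h ((mul_mem_cancel_left (M.S_N.2.1 (M.ι_S x))).1 e)
  refine ⟨M.ι x, M.ι_S x, ?_⟩
  rw [← cj_mul]
  refine cj_eq_of ?_
  by_contra hn
  obtain ⟨p, pa, pt, pm, hp⟩ := line hK sg sv
  have m : M.ι (x * v * x⁻¹) ∈ cj (M.ι x * g) M.V := by
    rw [cj_mul, map_mul, map_mul, map_inv]; exact conj_mem_cj _ vm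
  have pb : p.b = w.b := by
    have := (hp _ m).2.2.2
    rw [x1_t, x1_b, vt] at this
    grind
  have s1 := sing sg (cj_mono _ M.V_W pm)
  have s2 := sing hk (cj_mono _ M.V_W wm)
  have wY : M.ι w ∈ cj (M.ι x * g) M.Y := by
    rw [cjY sg]
    refine ⟨M.ι_Q1.2 wa, mem_C.2 fun y hy => ?_⟩
    obtain ⟨q, qa, rfl⟩ := cj_Q1 sg (V_Q1 M) hy
    obtain ⟨-, e1, e2, e3⟩ := hp q hy
    rw [← map_mul, ← map_mul]
    refine congrArg _ ((comm1 qa wa).2 ?_)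
    rw [e1, e2, e3, pb, mul_assoc q.t, show w.b * (q.t * p.c) = q.t * (w.b * p.c) by ring,
      Tw.T_smul q.ht, Tw.T_smul q.ht, wt]
    rw [pt, pb] at s1
    rw [wt] at s2
    grind
  have := M.beta hK (mul_mem (Subgroup.inv_mem _ sg) hk) hn (x := (M.ι x * g)⁻¹ * M.ι w * (M.ι x * g))
    ⟨by rw [cj_mul]; exact mem_cj.2 (by simpa [mul_assoc] using wm), mem_cj.1 wY⟩
  have := M.ι_Z.1 ((cjZ sg).le (mem_cj.2 this))
  exact one_ne_zero (wt.symm.trans this.2.2.2.2)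

theorem Md.nV1 (M : Md G τ) (hK : Big K) (hg : g ∈ N[M.Q1]) (h : g ∉ N[M.V]) :
    M.S ⊓ N[cj g M.V] ≤ M.Q1 := by
  rintro _ ⟨⟨u, rfl⟩, hu⟩
  obtain ⟨v, va, vt, vm, hv⟩ := line hK hg h
  have m := mul_mem (conj_mem hu vm) (Subgroup.inv_mem _ vm)
  rw [← commutatorElement_def, ← map_commutatorElement] at m
  have := (hv _ m).2.2.2
  rw [U.comm_b, U.comm_t, va, vt] at this
  exact M.ι_Q1.2 (by grind)

namespace HF5x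

theorem dich (h : M.Cf) (hg : g ∈ N[M.Q1]) (h' : g ∉ N[M.V]) :
    M.W ⊓ cj g M.W ≤ M.Z ∨ ∀ w ∈ M.W, ∃ i ∈ M.W ⊓ cj g M.W, ∃ v ∈ M.V, w = i * v := by
  let C : AddSubgroup K :=
    { carrier := {c | ∃ x, M.ι x ∈ M.W ⊓ cj g M.W ∧ x.c = c}
      zero_mem' := ⟨1, by rw [map_one]; exact one_mem _, rfl⟩
      add_mem' := by
        rintro _ _ ⟨x, hx, rfl⟩ ⟨y, hy, rfl⟩
        refine ⟨x * y, by rw [map_mul]; exact mul_mem hx hy, ?_⟩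
        simp [U.mul_c, (M.ι_W.1 hx.1).1, Tw.cr, Tw.sh]
      neg_mem' := by
        rintro _ ⟨x, hx, rfl⟩
        exact ⟨x, hx, (CharTwo.neg_eq _).symm⟩ }
  by_cases hC : C = ⊤
  · refine Or.inr ?_
    rintro _ ⟨w, hw, rfl⟩
    obtain ⟨x, hx, e⟩ : w.c ∈ C := hC ▸ AddSubgroup.mem_top _
    obtain ⟨x1, x2, x3⟩ := M.ι_W.1 hx.1
    obtain ⟨w1, w2, w3⟩ := hw
    refine ⟨_, hx, M.ι (x⁻¹ * w), M.ι_V.2 ?_, by rw [← map_mul, mul_inv_cancel_left]⟩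
    simp only [U.mul_a, U.mul_c, U.mul_b, U.mul_t, U.inv_a, U.inv_c, U.inv_b, U.inv_t, x1, x2, x3, w1, w2,
      w3, e, Tw.cr, Tw.sh, map_zero]
    grind
  obtain ⟨a, a0, ha⟩ := τ.perp C (by
    rintro f hf _ ⟨x, hx, rfl⟩
    obtain ⟨x1, x2, x3⟩ := M.ι_W.1 hx.1
    refine ⟨sm f hf x, ⟨M.ι_W.2 ⟨rfl, by simp [sm, x2], by simp [sm, x3]⟩, ?_⟩, rfl⟩
    have := hx.2
    rw [cjW hg] at this ⊢
    exact cl (cj_Q1 hg (W_Q1 M)) x1 this.2 hf) hC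
  refine Or.inl fun y hy => ?_
  obtain ⟨x, ⟨x1, x2, x3⟩, rfl⟩ := hy.1
  have xc : x.c = 0 := τ.T_nd fun a' => by
    rw [mul_comm]
    by_cases a1 : a' = 0
    · rw [a1, zero_mul, τ.T_zero]
    obtain ⟨d, ⟨⟨d1, d2⟩, d3⟩, p, pa, e⟩ := M.dt hg h' a0 a1
    have dW : d ∈ N[M.W] := h.eps ⟨d1, d2⟩
    have dW' : d ∈ N[cj g M.W] := by
      have := h.eps (x := g⁻¹ * d * g) ⟨(N[M.Q1]).mul_mem (mul_mem (inv_mem hg) d1) hg, by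
        rw [← cj_N] at d3; exact mem_cj.1 d3⟩
      rw [← cj_N]; exact mem_cj.2 this
    have m : d⁻¹ * M.ι x * d ∈ M.W ⊓ cj g M.W := ⟨conj_mem' dW hy.1, conj_mem' dW' hy.2⟩
    obtain ⟨q, ⟨q1, q2, q3⟩, eq⟩ := m.1
    have := ((M.dv d1 e a0).2.2 q x (by rw [eq]; group) q1).1.1
      ⟨q3, q2, ha _ ⟨q, eq ▸ m, rfl⟩⟩
    rw [← pa]
    exact this.2.2
  have := M.beta h.big (inv_mem hg) (fun e => h' (inv_mem_iff.1 e)) (x := g⁻¹ * M.ι x * g)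
    ⟨mem_cj.2 (by simpa [mul_assoc] using M.ι_V.2 ⟨x1, xc, x2, x3⟩), M.W_Y (mem_cj.1 hy.2)⟩
  exact (cjZ hg).le (mem_cj.2 this)

theorem trans (h : M.Cf) (hg : g ∈ N[M.Q1]) (h' : g ∉ N[M.V]) (hk : k ∈ N[M.Q1]) (hk' : k ∉ N[M.V])
    (e : M.W ⊓ cj g M.W ≤ M.Z) : M.W ⊓ cj k M.W ≤ M.Z := by
  obtain ⟨s, hs, e1⟩ := M.two1 h.big hg h' hk hk'
  have m : (s * g)⁻¹ * k ∈ N[M.W] := h.eps ⟨(N[M.Q1]).mul_mem (inv_mem (mul_mem (M.S_N.2.2.2.2.1 hs) hg)) hk,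
    mem_N_iff_cj.2 (by rw [cj_mul, e1, ← cj_mul s, ← cj_mul, inv_mul_cancel, cj_one])⟩
  rw [cj_eq_of m, cj_mul, ← cj_of_mem_N (M.S_N.1 hs)]
  nth_rw 1 [← cj_of_mem_N (M.S_N.2.2.1 hs)]
  rw [← cj_inf]
  exact cj_mono s e

end HF5x

theorem Md.Cf.delta (h : M.Cf) (hg : g ∈ N[M.Q1]) (h' : g ∉ N[M.V]) : M.W ⊓ cj g M.W ≤ M.Z := by
  by_contra hn
  have P : ∀ k ∈ N[M.Q1], k ∉ N[M.V] → ∀ w ∈ M.W, ∃ i ∈ M.W ⊓ cj k M.W, ∃ v ∈ M.V, w = i * v :=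
    fun k hk hk' => (dich h hk hk').resolve_left fun e => hn (HF5x.trans h hk hk' hg h' e)
  have P' : ∀ k ∈ N[M.Q1], g⁻¹ * k ∉ N[M.V] → ∀ u, M.ι u ∈ cj g M.W →
      ∃ i v, M.ι i ∈ cj g M.W ⊓ cj k M.W ∧ M.ι v ∈ cj g M.V ∧ u = i * v := fun k hk hk' u hu => by
    obtain ⟨i, hi, v, hv, e⟩ := P _ (mul_mem (Subgroup.inv_mem _ hg) hk) hk' _ (mem_cj.1 hu)
    obtain ⟨i', -, ei⟩ := cj_Q1 hg (W_Q1 M) (conj_mem_cj g hi.1)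
    obtain ⟨v', -, ev⟩ := cj_Q1 hg (V_Q1 M) (conj_mem_cj g hv)
    refine ⟨i', v', ⟨ei ▸ conj_mem_cj g hi.1, ?_⟩, ev ▸ conj_mem_cj g hv, M.inj ?_⟩
    · have := conj_mem_cj g hi.2
      rwa [← cj_mul, mul_inv_cancel_left, ← ei] at this
    · rw [map_mul, ei, ev, conj_mul, ← e]; group
  obtain ⟨v, va, vt, vm, hv⟩ := line h.big hg h'
  have hb : ∀ u, M.ι u ∈ cj g M.W → u.b = u.t * v.b := fun u hu => by
    obtain ⟨i, p, hi, hp, rfl⟩ := P' 1 (one_mem _) (by simpa using h') u hu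
    rw [cj_one] at hi
    obtain ⟨i1, i2, i3⟩ := M.ι_W.1 hi.2
    rw [U.mul_b, U.mul_t, i1, i2, i3, (hv p hp).2.2.2]
    ring
  have hc : ∀ u, M.ι u ∈ cj g M.W → u.t = 0 → u.s = τ.T (v.b * u.c) := fun u hu ut => by
    have e := (M.eaW.abl.cj g).comm hu (cj_mono g M.V_W vm)
    rw [← map_mul, ← map_mul] at e
    have := (comm1 (a_zero hg (W_Q1 M) hu) va).1 (M.inj e)
    rw [hb u hu, ut, vt, zero_mul, zero_mul, zero_mul, τ.T_zero] at this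
    grind
  let x := U.x1 τ 1
  have xQ := M.S_N.2.2.2.2.1 (M.ι_S x)
  refine one_ne_zero (τ.T_nd (a := 1) fun c => ?_)
  obtain ⟨_, ⟨⟨i, ⟨i1, i2, i3⟩, rfl⟩, hi⟩, _, ⟨p, ⟨p1, p2, p3, p4⟩, rfl⟩, e⟩ :=
    P g hg h' _ (M.ι_W.2 (⟨rfl, rfl, rfl⟩ : (U.x3 τ c).a = 0 ∧ _))
  have ic : i.c = c := by
    rw [← map_mul] at e
    have := congrArg U.c (M.inj e)
    simp only [U.mul_c, U.x3, i1, p2, p3, p4, Tw.cr, Tw.sh, map_zero] at this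
    grind
  obtain ⟨y, w, hy, hw, e⟩ := P' ((M.ι x)⁻¹ * g) (mul_mem (Subgroup.inv_mem _ xQ) hg) (fun e => by
    have : (M.ι x)⁻¹ ∈ N[cj g M.V] := by
      rw [← cj_N]; exact mem_cj.2 (by rwa [mul_assoc])
    exact one_ne_zero (M.ι_Q1.1 (M.nV1 h.big hg h' ⟨M.ι_S x, (Subgroup.inv_mem_iff _).1 this⟩))) i hi
  have ya := a_zero hg (W_Q1 M) hy.1
  have m : M.ι (x * y * x⁻¹) ∈ cj g M.W := by
    have := conj_mem_cj (M.ι x) hy.2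
    rwa [← cj_mul, mul_inv_cancel_left, ← map_inv, ← map_mul, ← map_mul] at this
  have b1 := hb y hy.1
  have b2 := hb _ m
  rw [x1_b, x1_t] at b2
  have yt : y.t = 0 := by grind
  have yb : y.b = 0 := by rw [b1, yt, zero_mul]
  have s1 := hc y hy.1 yt
  have s2 := hc _ m (by rw [x1_t, yt])
  have wt : w.t = 0 := by
    have := congrArg U.t e
    rw [U.mul_t, i3, yt] at this
    grind
  have yc : y.c = c := by
    have := congrArg U.c e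
    rw [U.mul_c, ic, ya, (hv w hw).2.2.1, wt] at this
    simp only [Tw.cr, Tw.sh, map_zero] at this
    grind
  simp only [x, U.mul_a, U.mul_s, U.mul_c, U.mul_b, U.mul_t, U.inv_a, U.inv_s, U.inv_c, U.inv_b, U.inv_t,
    U.x1, ya, yb, yt, yc, Tw.T, Tw.N, Tw.sh, Tw.cr, map_add, map_mul, map_zero, map_one] at s1 s2 ⊢
  grind

end H27.HX
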