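import Mathlib
import Cfsg.Prelude.Def_LieTwisted
import Cfsg.Prelude.Def_CaseTheorems
import Cfsg.Agent.H27.HX1
import Cfsg.Agent.H27.HF1
import Cfsg.Agent.H27.HF5

set_option autoImplicit false
set_option linter.unusedVariables false
set_option linter.unusedSectionVars false
set_option linter.unusedSimpArgs false

namespace H27.HX

open Cfsg H24 H26 H26.Gold H26.LM Subgroup
open scoped commutatorElement

universe u v

variable {G : Type u} [Group G] [Finite G] {K : Type} [Field K] [Finite K] [CharP K 2] {τ : Tw K}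
  {M M' M'' : Md G τ} {A : Ap G} {H S E M0 R X X' Y L D N0 P J : Subgroup G} {𝒟 : Set G}
  {g h j k l n s t x y z : G} {a a' b c c0 e f : K} {u v w : U τ}

open HF5x

namespace HF6x

theorem surj_of {X B : Type*} [Group X] [Finite X] [Group B] [Finite B] (φ : X →* B) {n : ℕ}
    (h1 : Nat.card φ.ker ≤ n) (h2 : Nat.card X = n * Nat.card B) : Function.Surjective φ := by
  have e := φ.ker.card_mul_index
  rw [index_ker, h2] at e
  have hn : 0 < n := lt_of_lt_of_le Nat.card_pos h1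
  refine MonoidHom.range_eq_top.1 (eq_top_of_le_card _ (Nat.le_of_mul_le_mul_left ?_ hn))
  rw [← e]
  exact Nat.mul_le_mul_right _ h1

theorem onto (h : M.Cf) (hg : g ∈ N[M.Q1]) (h' : g ∉ N[M.V]) (b : K) (hf : τ.σ f = f) :
    ∃ w, M.ι w ∈ cj g M.W ∧ w.b = b ∧ w.t = f := by
  let φ : (cj g M.W).comap M.ι →* Multiplicative (K × τ.F) :=
    MonoidHom.mk' (fun x => Multiplicative.ofAdd (x.1.b, ⟨x.1.t, x.1.ht⟩)) fun x y => by
      refine Prod.ext ?_ (Subtype.ext (U.mul_t _ _))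
      change (x.1 * y.1).b = x.1.b + y.1.b
      rw [U.mul_b, a_zero hg (W_Q1 M) x.2, mul_zero, add_zero]
  have h1 : Nat.card φ.ker ≤ τ.q := by
    rw [← M.card_Z]
    refine Nat.card_le_card_of_injective (fun x => ⟨M.ι x.1.1, h.delta hg h' ⟨M.ι_W.2
      ⟨a_zero hg (W_Q1 M) x.1.2, congrArg (fun p => (Multiplicative.toAdd p).1) x.2,
        congrArg (fun p => ((Multiplicative.toAdd p).2 : K)) x.2⟩, x.1.2⟩⟩) fun x y e => ?_
    exact Subtype.ext (Subtype.ext (M.inj (congrArg Subtype.val e)))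
  have h2 : Nat.card ((cj g M.W).comap M.ι) = τ.q * Nat.card (Multiplicative (K × τ.F)) := by
    rw [← card_map_of_injective M.inj, map_comap_eq_self ((cj_Q1 hg (W_Q1 M)).trans M.Q1_S), card_cj,
      M.card_W, Nat.card_congr Multiplicative.toAdd, Nat.card_prod, Tw.q]
    ring
  obtain ⟨x, e⟩ := surj_of φ h1 h2 (Multiplicative.ofAdd (b, ⟨f, hf⟩))
  exact ⟨x.1, x.2, congrArg (fun p => (Multiplicative.toAdd p).1) e,
    congrArg (fun p => ((Multiplicative.toAdd p).2 : K)) e⟩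

theorem mem_same (hg : g ∈ N[M.Q1]) (hw : M.ι w ∈ cj g M.W) (ua : u.a = 0) (h1 : u.s = w.s) (h2 : u.c = w.c)
    (h3 : u.b = w.b) (h4 : u.t = w.t) : M.ι u ∈ cj g M.W := by
  have wa := a_zero hg (W_Q1 M) hw
  have : M.ι (u * w⁻¹) ∈ M.Z := M.ι_Z.2 (by
    simp only [U.mul_a, U.mul_s, U.mul_c, U.mul_b, U.mul_t, U.inv_a, U.inv_s, U.inv_c, U.inv_b, U.inv_t,
      ua, wa, h1, h2, h3, h4, Tw.T, Tw.N, Tw.sh, Tw.cr, map_zero, map_mul, map_add]
    grind)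
  have m := mul_mem (Z_cj hg (M.Z_V.trans M.V_W) this) hw
  rwa [← map_mul, inv_mul_cancel_right] at m

end HF6x

open HF6x

/-! ### HF6 -/

theorem Md.Cf.spread (h : M.Cf) (hy : y ∈ M.Q1) (h2 : y * y = 1) :
    ∃ g ∈ N[M.Q1], y ∈ cj g M.W := by
  obtain ⟨u, ua, rfl⟩ := hy
  by_cases h0 : u.b = 0 ∧ u.t = 0
  · exact ⟨1, one_mem _, by rw [cj_one]; exact M.ι_W.2 ⟨ua, h0⟩⟩
  have su : u.s * u.t + τ.T (u.b * u.c) = 0 :=
    (((U.inv_iff u).1 (M.inj (by rw [map_mul, h2, map_one]))).resolve_right fun k => k.1 ua).2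
  obtain ⟨g, hg, h'⟩ := SetLike.not_le_iff_exists.1 h.ex1
  have m1 : ∀ a, M.ι (U.x1 τ a) * g ∈ N[M.Q1] := fun a => mul_mem (M.S_N.2.2.2.2.1 (M.ι_S _)) hg
  have m2 : ∀ a, M.ι (U.x1 τ a) * g ∉ N[M.V] := fun a e =>
    h' ((mul_mem_cancel_left (M.S_N.2.1 (M.ι_S _))).1 e)
  choose w hw wb wt using fun a => onto h (m1 a) (m2 a) u.b u.ht
  obtain ⟨e, he⟩ : ∃ e, u.t + τ.T (u.b * e) ≠ 0 := by
    by_cases ut : u.t = 0
    · obtain ⟨e, he⟩ := τ.T_surj (a := u.b) (fun k => h0 ⟨k, ut⟩) (map_one τ.σ)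
      exact ⟨e, by rw [ut, he, zero_add]; exact one_ne_zero⟩
    · exact ⟨0, by rwa [mul_zero, τ.T_zero, add_zero]⟩
  have key : ∀ p q : U τ, p.s * u.t + τ.T (u.b * p.c) = 0 → q.s * u.t + τ.T (u.b * q.c) = 0 →
      p.c + p.s * e = q.c + q.s * e → p.s = q.s ∧ p.c = q.c := fun p q hp hq k => by
    have k1 := congrArg (fun x => τ.T (u.b * x)) k
    simp only [mul_add, τ.T_add] at k1
    rw [mul_left_comm, mul_left_comm u.b, Tw.T_smul p.hs, Tw.T_smul q.hs] at k1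
    have k2 : p.s = q.s := mul_right_cancel₀ he (by grind)
    exact ⟨k2, by rw [k2] at k; exact add_right_cancel k⟩
  have sw : ∀ a, (w a).s * u.t + τ.T (u.b * (w a).c) = 0 := fun a => by
    rw [← wt a, ← wb a]; exact sing (m1 a) (hw a)
  have inj : Function.Injective fun a => (w a).c + (w a).s * e := fun a a' k => by
    by_contra ne
    obtain ⟨k1, k2⟩ := key _ _ (sw a) (sw a') k
    have m := mem_same (m1 a') (hw a') (a_zero (m1 a) (W_Q1 M) (hw a)) k1 k2 ((wb a).trans (wb a').symm)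
      ((wt a).trans (wt a').symm)
    have nv : (M.ι (U.x1 τ a) * g)⁻¹ * (M.ι (U.x1 τ a') * g) ∉ N[M.V] := fun k => by
      have : M.ι ((U.x1 τ a)⁻¹ * U.x1 τ a') ∈ N[cj g M.V] := by
        rw [← cj_N, map_mul, map_inv]; exact mem_cj.2 (by simpa [mul_assoc] using k)
      have := M.ι_Q1.1 (M.nV1 h.big hg h' ⟨M.ι_S _, this⟩)
      simp only [U.mul_a, U.inv_a, U.x1] at this
      exact ne (by grind)
    have := h.delta (mul_mem (Subgroup.inv_mem _ (m1 a)) (m1 a')) nv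
      (x := (M.ι (U.x1 τ a) * g)⁻¹ * M.ι (w a) * (M.ι (U.x1 τ a) * g))
      ⟨mem_cj.1 (hw a), by rw [cj_mul]; exact mem_cj.2 (by simpa [mul_assoc] using m)⟩
    have := M.ι_Z.1 ((cjZ (m1 a)).le (mem_cj.2 this))
    exact h0 ⟨(wb a).symm.trans this.2.2.2.1, (wt a).symm.trans this.2.2.2.2⟩
  obtain ⟨a, k⟩ := Finite.injective_iff_surjective.1 inj (u.c + u.s * e)
  obtain ⟨k1, k2⟩ := key _ _ (sw a) su k
  exact ⟨_, m1 a, mem_same (m1 a) (hw a) ua k1.symm k2.symm (wb a).symm (wt a).symm⟩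

theorem Md.Cf.classes (h : M.Cf) (hy : y ∈ M.S) (h2 : y * y = 1) :
    ∃ g ∈ N[M.Q1] ⊔ N[M.Q2], g * y * g⁻¹ ∈ M.Z ∨ (g * y * g⁻¹ ∈ M.W ∧ g * y * g⁻¹ ∉ M.V) := by
  obtain ⟨g, hg, m⟩ : ∃ g ∈ N[M.Q1] ⊔ N[M.Q2], g * y * g⁻¹ ∈ M.Q1 := by
    rcases M.inv_mem hy h2 with k | k
    · exact ⟨1, one_mem _, by simpa using k⟩
    · obtain ⟨g, hg, m⟩ := h.coverQ2 k h2
      exact ⟨g⁻¹, mem_sup_right (Subgroup.inv_mem _ hg), by rw [inv_inv]; exact Y_Q1 M (mem_cj.1 m)⟩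
  obtain ⟨k, hk, m1⟩ := h.spread m (by rw [conj_mul, h2, mul_one, mul_inv_cancel])
  have m2 := mem_cj.1 m1
  have hk' : k⁻¹ * g ∈ N[M.Q1] ⊔ N[M.Q2] := mul_mem (mem_sup_left (Subgroup.inv_mem _ hk)) hg
  have e : k⁻¹ * (g * y * g⁻¹) * k = k⁻¹ * g * y * (k⁻¹ * g)⁻¹ := by group
  rw [e] at m2
  by_cases hV : k⁻¹ * g * y * (k⁻¹ * g)⁻¹ ∈ M.V
  · obtain ⟨l, hl, m3⟩ := h.coverV hV
    refine ⟨l⁻¹ * (k⁻¹ * g), mul_mem (mem_sup_right (Subgroup.inv_mem _ hl)) hk', Or.inl ?_⟩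
    have := mem_cj.1 m3
    rwa [show l⁻¹ * (k⁻¹ * g * y * (k⁻¹ * g)⁻¹) * l = l⁻¹ * (k⁻¹ * g) * y * (l⁻¹ * (k⁻¹ * g))⁻¹ by group]
      at this
  · exact ⟨_, hk', Or.inr ⟨m2, hV⟩⟩

end H27.HX
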