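import Mathlib
import Cfsg.Prelude.Def_LieTwisted
import Cfsg.Prelude.Def_CaseTheorems
import Cfsg.Agent.H27.HX1
import Cfsg.Agent.H27.HF6
import Cfsg.Agent.H26.Coprime

set_option autoImplicit false
set_option linter.unusedVariables false
set_option linter.unusedSectionVars false
set_option linter.unusedSimpArgs false

namespace H27.HX

open Cfsg H24 H26 H26.Gold H26.LM Subgroup
open scoped commutatorElement

universe u v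

variable {G : Type u} [Group G] [Finite G] {K : Type} [Field K] [Finite K] [CharP K 2] {τ : Tw K}
  {M M' M'' : Md G τ} {A : Ap G} {H S E M0 R X X' Y L D N0 P J : Subgroup G} {𝒟 : Set G}
  {g h j k l n s t x y z : G} {a a' b c c0 e f : K} {u v w : U τ}

namespace HC1x

theorem gen {Q : Subgroup G} (hS : Syl 2 ⊤ S) (hH : SD S H N[S])
    (es : Es ⊤ S Q (⊤ ⊓ N[Q] ⊓ N[X])) (nS : N[Q] ⊓ N[X] ≤ N[S]) (hQ : N[S] ≤ N[Q])
    (hX : N[S] ≤ N[X]) (ex : ¬ N[Q] ≤ N[X]) (sq : ∀ x ∈ S, x * x ∈ Q)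
    (cm : ∀ x ∈ S, ∀ y ∈ S, ⁅x, y⁆ ∈ Q)
    (oth : ∀ x ∈ S, x ∉ Q → ∃ y ∈ S, y ∉ Q ∧ x⁻¹ * y ∉ Q)
    (two : ∀ g ∈ N[Q], g ∉ N[X] → ∀ k ∈ N[Q], k ∉ N[X] → ∃ s ∈ S, cj k X = cj s (cj g X))
    (nv : ∀ g ∈ N[Q], g ∉ N[X] → S ⊓ N[cj g X] ≤ Q) :
    (∃ n ∈ N[Q], n ∉ N[X] ∧ n ∈ N[H] ∧ n * n ∈ S) ∧ S ⊓ C[H] ≤ Q := by
  have QS : Q ≤ S := es.lt.le
  have SB : S ≤ N[S] := norm_self S
  have SQ : S ≤ N[Q] := SB.trans hQ
  have SX : S ≤ N[X] := SB.trans hX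
  obtain ⟨t, ht, tQ⟩ := SetLike.exists_of_lt es.lt
  obtain ⟨g, hg, gX⟩ := SetLike.not_le_iff_exists.1 ex
  obtain ⟨j, hj, jM, j2, -⟩ := es_swap es ⟨ht, SQ ht⟩ tQ (sq t ht) ⟨mem_top g, hg⟩
    (fun h => gX h.2)
  have jQ : j ∈ N[Q] := by
    refine (closure_le _).2 ?_ hj
    rintro x (rfl | rfl)
    · exact SQ ht
    · exact mul_mem (mul_mem hg (SQ ht)) (inv_mem hg)
  have jX : j ∉ N[X] := fun h => jM ⟨⟨mem_top j, jQ⟩, h⟩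
  constructor
  · set D : Subgroup G := N[Q] ⊓ N[X] ⊓ N[cj j X] with hD
    have DB : D ≤ N[S] := inf_le_left.trans nS
    have jj : cj j (cj j X) = X := by rw [← cj_mul, cj_of_mem_N (SX (QS j2))]
    have jD : cj j D = D := by
      rw [hD, cj_inf, cj_inf, cj_N, cj_N, cj_N, cj_of_mem_N jQ, jj, inf_assoc, inf_comm N[cj j X],
        ← inf_assoc]
    have QD : Q ≤ D := by
      refine le_inf (le_inf (norm_self Q) (QS.trans SX)) ?_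
      have := norm_cj (QS.trans SX) j
      rwa [cj_of_mem_N jQ] at this
    have SD' : S ⊓ D = Q :=
      le_antisymm ((inf_le_inf_left S inf_le_right).trans (nv j jQ jX)) (le_inf QS QD)
    have hB : Syl 2 N[S] S := hS.of_le SB le_top
    have hQD : Syl 2 D Q := SD' ▸ hB.nml_inf le_rfl DB
    obtain ⟨H', hH'⟩ := H26.Hall.exists_sd hQD (inf_le_left.trans inf_le_left)
    have hS' : SD S H' N[S] := by
      refine ⟨hH'.right_le.trans DB, ?_, le_antisymm (sup_le SB (hH'.right_le.trans DB)) ?_⟩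
      · rw [← inf_eq_right.2 hH'.right_le, ← inf_assoc, SD', hH'.inf]
      · intro b hb
        obtain ⟨s, hs, e⟩ := two j jQ jX (b * j) (mul_mem (hQ hb) jQ)
          (fun h => jX (by simpa using mul_mem (inv_mem (hX hb)) h))
        have h1 : s⁻¹ * b ∈ N[S] := mul_mem (inv_mem (SB hs)) hb
        have h2 : s⁻¹ * b ∈ D := ⟨⟨hQ h1, hX h1⟩, by rw [cj_mul] at e; exact cj_eq_cj_iff.1 e⟩
        rw [← hH'.sup] at h2
        have h3 : s⁻¹ * b ∈ S ⊔ H' := sup_le_sup_right QS H' h2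
        simpa using mul_mem (mem_sup_left hs : s ∈ S ⊔ H') h3
    have hj' : SD Q (cj j H') D := by
      have := hH'.cj j
      rwa [cj_of_mem_N jQ, jD] at this
    obtain ⟨y, hy, e⟩ := SchurZassenhaus_trans hH' hj' (hH'.coprime hQD)
      (Or.inl (IsPi.sol Nat.prime_two hQD.pi))
    obtain ⟨s, hs, e'⟩ := SchurZassenhaus_trans hS' hH (hS'.coprime hB)
      (Or.inl (IsPi.sol Nat.prime_two hB.pi))
    have n1 : y⁻¹ * j ∈ N[H'] := cj_eq_cj_iff.1 e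
    refine ⟨s * (y⁻¹ * j) * s⁻¹, mul_mem (mul_mem (SQ hs) (mul_mem (inv_mem (SQ (QS hy))) jQ))
      (inv_mem (SQ hs)), fun h => jX ?_, ?_, ?_⟩
    · have := mul_mem (SX (QS hy)) (mul_mem (mul_mem (inv_mem (SX hs)) h) (SX hs))
      simpa [mul_assoc] using this
    · rw [e', ← cj_N]; exact conj_mem_cj s n1
    · have h1 : j * y⁻¹ * j⁻¹ ∈ Q := (mem_N.1 jQ _).1 (inv_mem hy)
      have := mul_mem (mul_mem hs (QS (mul_mem (mul_mem (inv_mem hy) h1) j2))) (inv_mem hs)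
      convert this using 1
      group
  · intro x hx
    by_contra xQ
    obtain ⟨y, hy, yQ, xy⟩ := oth x hx.1 xQ
    obtain ⟨d, hd, e⟩ := es_dt es ⟨mem_top j, jQ⟩ jM j2 ⟨hx.1, SQ hx.1⟩ xQ (sq x hx.1)
      ⟨hy, SQ hy⟩ yQ (sq y hy)
    obtain ⟨s, hs, h, hh, rfl⟩ := hH.isProd.mul d (nS ⟨hd.1.1.2, hd.1.2⟩)
    have c : h * x = x * h := mem_C.1 hx.2 h hh
    apply xy
    have := mul_mem (cm _ (inv_mem hx.1) s hs) e
    convert this using 1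
    rw [commutatorElement_def]
    calc x⁻¹ * y = x⁻¹ * s * (x * h) * h⁻¹ * s⁻¹ * (s * (x * h) * h⁻¹ * s⁻¹)⁻¹ * y := by group
      _ = _ := by rw [← c]; simp only [mul_inv_rev, inv_inv, mul_assoc]; rw [← mul_assoc h x, c]; group

theorem step {Q : Subgroup G} (hn : n ∈ N[Q]) (hH : n ∈ N[H]) (QS : Q ≤ S) (XQ : X ≤ Q)
    (h : S ⊓ C[H] ≤ X) : S ⊓ C[H] ≤ X ⊓ cj n X := fun x hx => by
  refine ⟨h hx, mem_cj.2 (h ⟨QS ?_, ?_⟩)⟩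
  · simpa using (mem_N.1 (inv_mem hn) x).1 (XQ (h hx))
  · simpa using (mem_N.1 (inv_mem (N_le_NC H hH)) x).1 hx.2

theorem nZ2 (M : Md G τ) (hg : g ∈ N[M.Q2]) (h : g ∉ N[M.Z]) : M.S ⊓ N[cj g M.Z] ≤ M.Q2 := by
  intro x hx
  obtain ⟨z, hz, z1⟩ := exists_ne_one M.Z_ne
  have hv : g * z * g⁻¹ ∈ cj g M.Z := conj_mem_cj g hz
  have vV : g * z * g⁻¹ ∈ M.V := (mem_N.1 (M.nQ2_V hg) z).1 (M.Z_V hz)
  have a := M.alpha hg h
  have vZ : g * z * g⁻¹ ∉ M.Z := fun e => z1 (conj_eq_one_iff.1 (mem_bot.1 (a.le ⟨e, hv⟩)))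
  have c : ⁅x, g * z * g⁻¹⁆ ∈ M.Z ⊓ cj g M.Z :=
    mem_inf.2 ⟨M.cSV hx.1 vV, (cj g M.Z).mul_mem ((mem_N.1 hx.2 _).1 hv) (inv_mem hv)⟩
  rw [a, mem_bot, commutatorElement_eq_one_iff_mul_comm] at c
  rw [← M.Cv vV vZ]
  exact ⟨hx.1, mem_C1.2 c⟩

theorem ne2 {ω : K} (h1 : ω ≠ 1) (ha : a ≠ 0) : a + ω * a ≠ 0 := fun e => by
  have h2 : (2 : K) = 0 := CharTwo.two_eq_zero
  have : (ω - 1) * a = 0 := by linear_combination e - a * h2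
  rcases mul_eq_zero.1 this with h | h
  · exact h1 (sub_eq_zero.1 h)
  · exact ha h

end HC1x

/-! ### HC1 -/

theorem Md.Gd.exists_S0 (h : M.Gd) (hF : τ.BigF) : ∃ A : Ap G, A.S0 M := by
  have hB : Syl 2 N[M.S] M.S := M.sylS.of_le (norm_self _) le_top
  obtain ⟨H, hH⟩ := H26.Hall.exists_sd hB le_rfl
  have Y1 : M.Y ≤ M.Q1 := M.Y_eq.le.trans inf_le_left
  have Y2 : M.Y ≤ M.Q2 := M.Y_eq.le.trans inf_le_right
  obtain ⟨ω, ωF, ω0, ω1⟩ := hF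
  obtain ⟨⟨n1, a1, a2, a3, a4⟩, a5⟩ := HC1x.gen M.sylS hH
    (M.es1 le_top (by simpa using h.ex1)) h.nS1 h.toCf.nS_Q1 (M.nS_V h.big) h.ex1
    (fun x hx => Y1 (M.sqS hx)) (fun x hx y hy => Y1 (M.cSS hx hy))
    (by
      rintro _ ⟨u, rfl⟩ hu
      rw [M.ι_Q1] at hu
      refine ⟨M.ι (U.x1 τ (ω * u.a)), M.ι_S _, ?_, ?_⟩
      · rw [M.ι_Q1]; exact mul_ne_zero ω0 hu
      · rw [← map_inv, ← map_mul, M.ι_Q1]; exact HC1x.ne2 ω1 hu)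
    (fun g hg g' k hk k' => M.two1 h.big hg g' hk k') (fun g hg g' => M.nV1 h.big hg g')
  obtain ⟨⟨n6, b1, b2, b3, b4⟩, b5⟩ := HC1x.gen M.sylS hH
    (M.es2 le_top (by simpa using h.ex2)) h.nS2 (M.nS_Q2 h.big) M.nS_Z h.ex2
    (fun x hx => Y2 (M.sqS hx)) (fun x hx y hy => Y2 (M.cSS hx hy))
    (by
      rintro _ ⟨u, rfl⟩ hu
      rw [M.ι_Q2] at hu
      refine ⟨M.ι (U.x6 ⟨ω * u.t, τ.mem_F.2 (by rw [map_mul, ωF, u.ht])⟩), M.ι_S _, ?_, ?_⟩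
      · rw [M.ι_Q2]; exact mul_ne_zero ω0 hu
      · rw [← map_inv, ← map_mul, M.ι_Q2]; exact HC1x.ne2 ω1 hu)
    (fun g hg g' k hk k' => M.two2 hg g' hk k') (fun g hg g' => HC1x.nZ2 M hg g')
  have f1 : M.S ⊓ C[H] ≤ M.Y := M.Y_eq ▸ le_inf a5 b5
  have f2 : M.S ⊓ C[H] ≤ M.W := (HC1x.step b1 b3 M.Q2_S Y2 f1).trans (h.toCf.gamma b1 b2)
  have f3 : M.S ⊓ C[H] ≤ M.Z :=
    (HC1x.step a1 a3 M.Q1_S (M.W_Y.trans Y1) f2).trans (h.toCf.delta a1 a2)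
  have f4 : M.S ⊓ C[H] = ⊥ := le_bot_iff.1 ((HC1x.step b1 b3 M.Q2_S
    (M.Z_V.trans (M.V_W.trans (M.W_Y.trans Y2))) f3).trans (M.alpha b1 b2).le)
  have sq : ∀ n ∈ N[H], n * n ∈ M.S → n * n ∈ H := fun n hn h2 => by
    have : n * n ∈ M.S ⊓ N[H] := ⟨h2, mul_mem hn hn⟩
    rw [hH.left_inf_N le_rfl, f4, mem_bot] at this
    rw [this]; exact one_mem _
  exact ⟨⟨H, n1, n6⟩, hH.norm, hH.isPi_right hB, hH.isProd.mul, a1, a2, a3, sq _ a3 a4, b1, b2, b3,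
    sq _ b3 b4, f4⟩

end H27.HX
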