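import Mathlib
import Cfsg.Prelude.Def_LieTwisted
import Cfsg.Prelude.Def_CaseTheorems
import Cfsg.Agent.H27.HX1
import Cfsg.Agent.H27.HF6

set_option autoImplicit false
set_option linter.unusedVariables false
set_option linter.unusedSectionVars false
set_option linter.unusedSimpArgs false

namespace H27.HX

open Cfsg H24 H26 H26.Gold H26.LM Subgroup
open scoped commutatorElement

universe u v

variable {G : Type u} [Group G] [Finite G] {K : Type} [Field K] [Finite K] [CharP K 2] {τ : Tw K}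
  {M M' M'' : Md G τ} {A : Ap G} {H S E M0 R X X' Y L D N0 P J : Subgroup G} {𝒟 : Set G}
  {g h j k l n s t x y z : G} {a a' b c c0 e f : K} {u v w : U τ}

namespace HC2x
open HF5x

theorem nH (hn : n ∈ N[H]) (h : H ≤ N[X]) : H ≤ N[cj n X] := by
  have := norm_cj h n
  rwa [cj_of_mem_N hn] at this

theorem cj2 (hn : n * n ∈ H) (h : H ≤ N[X]) : cj n (cj n X) = X := by
  rw [← cj_mul, cj_of_mem_N (h hn)]

theorem sqc (h : ∀ x ∈ X, x * x = 1) (g : G) : ∀ x ∈ cj g X, x * x = 1 := fun x hx => by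
  obtain ⟨y, hy, rfl⟩ := mem_cj'.1 hx
  rw [conj_mul, h y hy, mul_one, mul_inv_cancel]

theorem bot_cj (hn : n ∈ N[Y]) (h : Y ⊓ X = ⊥) : Y ⊓ cj n X = ⊥ := by
  rw [← cj_of_mem_N hn, ← cj_inf, h, cj_bot]

theorem one_of (h : X = ⊥) (hu : M.ι u ∈ X) : u = 1 :=
  M.inj (by rw [map_one]; exact mem_bot.1 (h.le hu))

theorem bij {B : Type} (hR : R ≤ M.S) (φ : U τ → B)
    (hi : ∀ x y, M.ι x ∈ R → M.ι y ∈ R → φ x = φ y → x = y) :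
    ∃ ψ : R → B, Function.Injective ψ ∧ ∀ b, b ∈ Set.range ψ ↔ ∃ x, M.ι x ∈ R ∧ φ x = b := by
  choose p hp using fun x : R => hR x.2
  refine ⟨fun x => φ (p x), fun x y e => Subtype.ext ?_, fun b => ⟨?_, ?_⟩⟩
  · rw [← hp x, ← hp y, hi _ _ (hp x ▸ x.2) (hp y ▸ y.2) e]
  · rintro ⟨x, rfl⟩
    exact ⟨p x, hp x ▸ x.2, rfl⟩
  · rintro ⟨x, hx, rfl⟩
    exact ⟨⟨_, hx⟩, congrArg φ (M.inj (hp _))⟩

theorem onto {B : Type} [Finite B] (hR : R ≤ M.S) (φ : U τ → B)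
    (hi : ∀ x y, M.ι x ∈ R → M.ι y ∈ R → φ x = φ y → x = y) (hc : Nat.card R = Nat.card B) (b : B) :
    ∃ x, M.ι x ∈ R ∧ φ x = b := by
  obtain ⟨ψ, i, e⟩ := bij hR φ hi
  exact (e b).1 (((Nat.bijective_iff_injective_and_card ψ).2 ⟨i, hc⟩).2 b)

theorem card_of {B : Type} [Finite B] (hR : R ≤ M.S) (φ : U τ → B)
    (hi : ∀ x y, M.ι x ∈ R → M.ι y ∈ R → φ x = φ y → x = y) (hs : ∀ b, ∃ x, M.ι x ∈ R ∧ φ x = b) :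
    Nat.card R = Nat.card B := by
  obtain ⟨ψ, i, e⟩ := bij hR φ hi
  exact Nat.card_eq_of_bijective ψ ⟨i, fun b => (e b).2 (hs b)⟩

theorem inj_of (φ : U τ → K) (h1 : ∀ x, M.ι x ∈ R → φ x = 0 → x = 1)
    (h2 : ∀ x y, M.ι x ∈ R → M.ι y ∈ R → φ (x * y) = φ x + φ y) (h3 : ∀ x ∈ R, x * x = 1)
    (x y : U τ) (hx : M.ι x ∈ R) (hy : M.ι y ∈ R) (e : φ x = φ y) : x = y := by
  have e1 := h1 (x * y) (by rw [map_mul]; exact mul_mem hx hy)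
    (by rw [h2 x y hx hy, e]; exact CharTwo.add_self_eq_zero _)
  have e2 : y * y = 1 := M.inj (by rw [map_mul, map_one]; exact h3 _ hy)
  exact mul_right_cancel (e1.trans e2.symm)

end HC2x

open HF5x HC2x

/-! ### HC2 -/

theorem Ap.S0.s1 (hA : A.S0 M) (h : M.Gd) : A.S1 M := by
  have Y2 : M.Y ≤ M.Q2 := M.Y_eq.le.trans inf_le_right
  have ZW : M.Z ≤ M.W := M.Z_V.trans M.V_W
  have WS : M.W ≤ M.S := (W_Q1 M).trans M.Q1_S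
  have HZ : A.H ≤ N[M.Z] := hA.HS.trans M.nS_Z
  have HW : A.H ≤ N[M.W] := hA.HS.trans ((M.nS_Q2 h.big).trans h.hW)
  have H2 : A.H ≤ N[A.R2 M] := nH hA.n6H HZ
  have H6 : A.H ≤ N[A.R6 M] := nH hA.n1H H2
  have H3 : A.H ≤ N[A.R3 M] := norm_inf (norm_inf HW (norm_C H6)) (norm_C (nH hA.n6H H6))
  have H5 : A.H ≤ N[A.R5 M] := nH hA.n1H H3
  have H1 : A.H ≤ N[A.R1 M] := nH hA.n6H H5
  have c16 : cj A.n1 (A.R6 M) = A.R2 M := cj2 hA.n1s H2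
  have c15 : cj A.n1 (A.R5 M) = A.R3 M := cj2 hA.n1s H3
  have c62 : cj A.n6 (A.R2 M) = M.Z := cj2 hA.n6s HZ
  have c61 : cj A.n6 (A.R1 M) = A.R5 M := cj2 hA.n6s H5
  have n6W : A.n6 ∈ N[M.W] := h.hW hA.n6Q
  have n6V : A.n6 ∈ N[M.V] := M.nQ2_V hA.n6Q
  have n1Z : A.n1 ∈ N[M.Z] := M.nQ1_Z hA.n1Q
  have c63 : cj A.n6 (A.R3 M) = A.R3 M := by
    rw [Ap.R3, cj_inf, cj_inf, cj_C, cj_C, cj2 hA.n6s H6, cj_of_mem_N n6W, inf_right_comm]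
  have le2 : A.R2 M ≤ M.V := cj_le_of_mem_N M.Z_V n6V
  have le3 : A.R3 M ≤ M.W := inf_le_left.trans inf_le_left
  have le6V : A.R6 M ≤ cj A.n1 M.V := cj_mono _ le2
  have le6 : A.R6 M ≤ M.Q1 := le6V.trans (cj_Q1 hA.n1Q (V_Q1 M))
  have le5W : A.R5 M ≤ cj A.n1 M.W := cj_mono _ le3
  have le5Q : A.R5 M ≤ M.Q1 := le5W.trans (cj_Q1 hA.n1Q (W_Q1 M))
  have WC : M.W ≤ C[M.W] := M.CW.ge.trans inf_le_right
  have c56 : A.R5 M ≤ C[A.R6 M] :=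
    cent_cj (le3.trans (WC.trans (centralizer_le (le2.trans M.V_W)))) _
  have c52 : A.R5 M ≤ C[A.R2 M] := by
    have := cent_cj (inf_le_left.trans inf_le_right : A.R3 M ≤ C[A.R6 M]) A.n1
    rwa [c16] at this
  have b2 : M.Z ⊓ A.R2 M = ⊥ := M.alpha hA.n6Q hA.n6Z
  have b6 : M.Z ⊓ A.R6 M = ⊥ := bot_cj n1Z b2
  have b6' : M.Q2 ⊓ A.R6 M = ⊥ := le_bot_iff.1 fun x hx => b6.le ⟨M.beta h.big hA.n1Q hA.n1V
    ⟨le6V hx.2, M.Y_eq.ge ⟨le6 hx.2, hx.1⟩⟩, hx.2⟩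
  obtain ⟨z, hz, z1⟩ := exists_ne_one M.Z_ne
  have z2 : A.n6 * z * A.n6⁻¹ ∈ A.R2 M := conj_mem_cj _ hz
  have z21 : A.n6 * z * A.n6⁻¹ ≠ 1 := fun e => z1 (conj_eq_one_iff.1 e)
  have le5 : A.R5 M ≤ M.Y := fun x hx => M.Y_eq.ge ⟨le5Q hx,
    (M.Cv (le2 z2) fun e => z21 (mem_bot.1 (b2.le ⟨e, z2⟩))).le
      ⟨M.Q1_S (le5Q hx), C_le_C1 z2 (c52 hx)⟩⟩
  have le1Y : A.R1 M ≤ cj A.n6 M.Y := cj_mono _ le5
  have le1 : A.R1 M ≤ M.Q2 := le1Y.trans (cj_le_of_mem_N Y2 hA.n6Q)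
  have b3Z : M.V ⊓ A.R3 M ≤ M.Z := fun x hx => by
    by_contra xZ
    have z6 : A.n1 * (A.n6 * z * A.n6⁻¹) * A.n1⁻¹ ∈ A.R6 M := conj_mem_cj _ z2
    have := (M.Cv hx.1 xZ).le ⟨M.Q1_S (le6 z6), mem_C1_comm.1 (C_le_C1 z6 hx.2.1.2)⟩
    exact z21 (conj_eq_one_iff.1 (mem_bot.1 (b6'.le ⟨this, z6⟩)))
  have b3 : M.V ⊓ A.R3 M = ⊥ := by
    refine le_bot_iff.1 ((le_inf b3Z ?_).trans b2.le)
    have := cj_mono A.n6 b3Z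
    rwa [cj_inf, c63, cj_of_mem_N n6V] at this
  have b5 : M.W ⊓ A.R5 M = ⊥ := le_bot_iff.1 fun x hx =>
    (bot_cj n1Z (le_bot_iff.1 ((inf_le_inf_right _ M.Z_V).trans b3.le))).le
      ⟨h.toCf.delta hA.n1Q hA.n1V ⟨hx.1, le5W hx.2⟩, hx.2⟩
  have b1 : M.Y ⊓ A.R1 M = ⊥ := le_bot_iff.1 fun x hx =>
    (bot_cj n6W b5).le ⟨h.toCf.gamma hA.n6Q hA.n6Z ⟨hx.1, le1Y hx.2⟩, hx.2⟩
  have sW : ∀ x ∈ M.W, x * x = 1 := fun x hx => M.eaW.sq hx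
  have s2 : ∀ x ∈ A.R2 M, x * x = 1 := fun x hx => sW x (M.V_W (le2 hx))
  have s3 : ∀ x ∈ A.R3 M, x * x = 1 := fun x hx => sW x (le3 hx)
  have s6 : ∀ x ∈ A.R6 M, x * x = 1 := sqc s2 _
  have s5 : ∀ x ∈ A.R5 M, x * x = 1 := sqc s3 _
  have s1 : ∀ x ∈ A.R1 M, x * x = 1 := sqc s5 _
  have in1 : ∀ x, M.ι x ∈ A.R1 M → x.a = 0 → x = 1 := fun x hx e =>
    one_of b1 ⟨M.ι_Y.2 ⟨e, M.ι_Q2.1 (le1 hx)⟩, hx⟩
  have in2 : ∀ x, M.ι x ∈ A.R2 M → x.s = 0 → x = 1 := fun x hx e => by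
    obtain ⟨e1, e2⟩ := M.ι_V.1 (le2 hx)
    exact one_of b2 ⟨M.ι_Z.2 ⟨e1, e, e2⟩, hx⟩
  have in3 : ∀ x, M.ι x ∈ A.R3 M → x.c = 0 → x = 1 := fun x hx e => by
    obtain ⟨e1, e2⟩ := M.ι_W.1 (le3 hx)
    exact one_of b3 ⟨M.ι_V.2 ⟨e1, e, e2⟩, hx⟩
  have in5 : ∀ x, M.ι x ∈ A.R5 M → x.b = 0 → x = 1 := fun x hx e => by
    obtain ⟨e1, e2⟩ := M.ι_Y.1 (le5 hx)
    exact one_of b5 ⟨M.ι_W.2 ⟨e1, e, e2⟩, hx⟩
  have in6 : ∀ x, M.ι x ∈ A.R6 M → x.t = 0 → x = 1 := fun x hx e =>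
    one_of b6' ⟨M.ι_Q2.2 e, hx⟩
  have k2 : Nat.card (A.R2 M) = Nat.card τ.F := (card_cj _ _).trans M.card_Z
  have on2 : ∀ s, τ.σ s = s → ∃ x, M.ι x ∈ A.R2 M ∧ x.s = s := fun s hs => by
    obtain ⟨x, hx, e⟩ := onto (le2.trans (M.V_W.trans WS)) (fun x => (⟨x.s, x.hs⟩ : τ.F))
      (fun x y hx hy e => inj_of U.s in2 (fun x y hx hy => by
        simp [U.mul_s, (M.ι_V.1 (le2 hx)).1, Tw.T, Tw.N, Tw.sh]) s2 x y hx hy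
        (congrArg Subtype.val e)) k2 ⟨s, hs⟩
    exact ⟨x, hx, congrArg Subtype.val e⟩
  have on6 : ∀ t, τ.σ t = t → ∃ x, M.ι x ∈ A.R6 M ∧ x.t = t := fun s hs => by
    obtain ⟨x, hx, e⟩ := onto (le6.trans M.Q1_S) (fun x => (⟨x.t, x.ht⟩ : τ.F))
      (fun x y hx hy e => inj_of U.t in6 (fun x y hx hy => U.mul_t x y) s6 x y hx hy
        (congrArg Subtype.val e)) ((card_cj _ _).trans k2) ⟨s, hs⟩
    exact ⟨x, hx, congrArg Subtype.val e⟩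
  obtain ⟨v, va, vt, -, hv⟩ := line h.big hA.n1Q hA.n1V
  have w6 : ∀ p : U τ, M.ι p ∈ M.W → p.s = τ.T (v.b * p.c) → M.ι p ∈ C[A.R6 M] := fun p hp e => by
    obtain ⟨pa, pb, pt⟩ := M.ι_W.1 hp
    refine mem_C.2 fun y hy => ?_
    obtain ⟨x, rfl⟩ := M.Q1_S (le6 hy)
    obtain ⟨xa, -, -, xb⟩ := hv x (le6V hy)
    rw [← map_mul, ← map_mul, (comm1 xa pa).2]
    rw [xb, e, pt, pb, mul_assoc, Tw.T_smul x.ht, zero_mul, zero_mul, Tw.T_zero]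
    grind
  have dW : ∀ g ∈ M.W, ∃ r ∈ A.R2 M, g * r ∈ C[A.R6 M] := fun g hg => by
    obtain ⟨p, rfl⟩ := WS hg
    obtain ⟨y, hy, e⟩ := on2 (p.s + τ.T (v.b * p.c)) (by rw [map_add, p.hs, τ.σ_T])
    refine ⟨_, hy, ?_⟩
    rw [← map_mul]
    refine w6 _ (by rw [map_mul]; exact mul_mem hg (M.V_W (le2 hy))) ?_
    obtain ⟨pa, pb, pt⟩ := M.ι_W.1 hg
    obtain ⟨ya, yc, yb, yt⟩ := M.ι_V.1 (le2 hy)
    simp only [U.mul_s, U.mul_c, pa, yc, yb, yt, e, Tw.cr, map_zero, mul_zero, zero_mul, add_zero,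
      Tw.T_zero]
    grind
  have on3 : ∀ c, ∃ x, M.ι x ∈ A.R3 M ∧ x.c = c := fun c => by
    let p : U τ := ⟨0, τ.T (v.b * c), c, 0, 0, 0, τ.σ_T _, map_zero _, map_zero _⟩
    have pW : M.ι p ∈ M.W := M.ι_W.2 ⟨rfl, rfl, rfl⟩
    obtain ⟨r, hr, e⟩ := dW (A.n6⁻¹ * M.ι p * A.n6⁻¹⁻¹) ((mem_N.1 (inv_mem n6W) _).1 pW)
    have rZ : A.n6 * r * A.n6⁻¹ ∈ M.Z := c62 ▸ conj_mem_cj _ hr
    obtain ⟨y, ⟨ya, ys, yc, yb, yt⟩, ey⟩ := M.mem_Z.1 rZ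
    refine ⟨p * y, mem_inf.2 ⟨mem_inf.2 ⟨?_, ?_⟩, ?_⟩, ?_⟩
    · rw [map_mul, ey]; exact mul_mem pW (ZW rZ)
    · rw [map_mul, ey]
      exact mul_mem (w6 p pW rfl) (mem_C.2 fun g hg => (mem_C.1 (M.S_CZ (M.Q1_S (le6 hg))) _ rZ).symm)
    · rw [← cj_C, mem_cj, map_mul, ey]
      convert e using 1
      group
    · simp [U.mul_c, yc, yb, yt, p, Tw.cr]
  have k3 : Nat.card (A.R3 M) = Nat.card K := card_of (le3.trans WS) U.c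
    (inj_of U.c in3 (fun x y hx hy => by
      simp [U.mul_c, (M.ι_W.1 (le3 hx)).1, Tw.cr, Tw.sh]) s3) on3
  have k5 : Nat.card (A.R5 M) = Nat.card K := (card_cj _ _).trans k3
  have on5 := onto (le5Q.trans M.Q1_S) U.b (inj_of U.b in5 (fun x y hx hy => by
      simp [U.mul_b, M.ι_Q1.1 (le5Q hx)]) s5) k5
  have on1 := onto (le1.trans M.Q2_S) U.a (inj_of U.a in1 (fun x y hx hy => U.mul_a x y) s1)
    ((card_cj _ _).trans k5)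
  refine ⟨hA, le1, le2, le5, le6, ?_, in1, in2, in3, in5, in6, on1, on2, on3, on5, on6, H1, H2, H3,
    H5, H6, c16, c15, c62, c61, c63, c56, fun x hx y hy => ?_⟩
  · rintro g (hg | hg | hg)
    exacts [s1 g hg, s5 g hg, s6 g hg]
  · rw [← c63] at hy
    obtain ⟨x', hx', rfl⟩ := mem_cj'.1 hx
    obtain ⟨y', hy', rfl⟩ := mem_cj'.1 hy
    rw [← conjugate_commutatorElement]
    exact conj_mem_cj _ (M.c11 (le5Q hx') (W_Q1 M (le3 hy')))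

end H27.HX
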