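import Mathlib
import Cfsg.Prelude.Def_LieTwisted
import Cfsg.Prelude.Def_CaseTheorems
import Cfsg.Agent.H27.HX1
import Cfsg.Agent.H27.HC2

set_option autoImplicit false
set_option linter.unusedVariables false
set_option linter.unusedSectionVars false
set_option linter.unusedSimpArgs false

namespace H27.HX

open Cfsg H24 H26 H26.Gold H26.LM Subgroup
open scoped commutatorElement

universe u v

variable {G : Type u} [Group G] [Finite G] {K : Type} [Field K] [Finite K] [CharP K 2] {τ : Tw K}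
  {M M' M'' : Md G τ} {A : Ap G} {H S E M0 R X X' Y L D N0 P J : Subgroup G} {𝒟 : Set G}
  {g h j k l n s t x y z : G} {a a' b c c0 e f : K} {u v w : U τ}

namespace HC2bx

theorem R2_eq (e : M.Same M') : A.R2 M' = A.R2 M := by rw [Ap.R2, Ap.R2, e.Z]
theorem R6_eq (e : M.Same M') : A.R6 M' = A.R6 M := by rw [Ap.R6, Ap.R6, R2_eq e]
theorem R3_eq (e : M.Same M') : A.R3 M' = A.R3 M := by rw [Ap.R3, Ap.R3, R6_eq e, e.W]
theorem R5_eq (e : M.Same M') : A.R5 M' = A.R5 M := by rw [Ap.R5, Ap.R5, R3_eq e]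
theorem R1_eq (e : M.Same M') : A.R1 M' = A.R1 M := by rw [Ap.R1, Ap.R1, R5_eq e]

theorem s1_same (hA : A.S1 M) (h : M.Gd) (e : M.Same M') : A.S1 M' := (hA.toS0.same e).s1 (h.same e)

theorem eq_of_T (τ : Tw K) (h : ∀ c, τ.T (a * c) = τ.T (b * c)) : a = b := by
  have := τ.T_nd (a := a + b) fun c => by rw [add_mul, τ.T_add, h, CharTwo.add_self_eq_zero]
  grind

theorem skew (P : K → K → Prop) (ex : ∀ a, ∃ c, P a c) (h1 : ∀ a c, P a c → τ.T (a * c) = 0)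
    (h2 : ∀ a c a' c', P a c → P a' c' → τ.T (a * c') = τ.T (a' * c)) :
    ∃ e, ∀ a c, P a c → c = τ.cr e a := by
  choose γ hγ using ex
  have k : ∀ a c, P a c → ∀ d, τ.T (c * d) = τ.T (a * γ d) := fun a c hc d => by
    rw [h2 _ _ _ _ hc (hγ d), mul_comm]
  obtain ⟨e, he⟩ := τ.skew (AddMonoidHom.mk' γ fun a b => eq_of_T τ fun d => by
      rw [add_mul, τ.T_add, k _ _ (hγ _), k _ _ (hγ _), k _ _ (hγ _), add_mul, τ.T_add])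
    (fun f hf b => eq_of_T τ fun d => by
      change τ.T (γ _ * _) = τ.T (f * γ _ * _)
      rw [mul_assoc, Tw.T_smul hf, k _ _ (hγ _), k _ _ (hγ _), mul_assoc, Tw.T_smul hf])
    (fun b => h1 _ _ (hγ b))
  exact ⟨e, fun a c hc => (eq_of_T τ fun d => (k _ _ hc d).trans (k _ _ (hγ a) d).symm).trans (he a)⟩

theorem sq_of (hX : ∀ g ∈ X, g * g = 1) (hu : M.ι u ∈ X) : u * u = 1 :=
  M.inj (by rw [map_mul, hX _ hu, map_one])

def P6 (A : Ap G) (M : Md G τ) : Prop := ∃ x, M.ι x ∈ A.R6 M ∧ x.t = 1 ∧ x.b = 0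
def P1 (A : Ap G) (M : Md G τ) : Prop :=
  (∀ x, M.ι x ∈ A.R1 M → x.b = 0) ∧ ∀ x, M.ι x ∈ A.R2 M → x.r = 0

theorem st1 (hA : A.S1 M) : ∃ w, P6 A (M.conj w) := by
  obtain ⟨x, hx, ht⟩ := hA.on6 1 (map_one _)
  refine ⟨U.x1 τ x.b, (U.x1 τ x.b)⁻¹ * x * U.x1 τ x.b, ?_, ?_, ?_⟩
  · rw [R6_eq (M.same_conj _), M.conj_ι]; simpa [mul_assoc] using hx
  · simp [U.mul_t, U.inv_t, U.x1, ht]
  · simp [U.mul_b, U.inv_b, U.inv_a, U.x1, ht, CharTwo.add_self_eq_zero]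

theorem p6_conj (hA : A.S1 M) (h6 : P6 A M) (w : U τ) (hw : w.a = 0) : P6 A (M.conj w) := by
  obtain ⟨x, hx, ht, hb⟩ := h6
  have ha := M.ι_Q1.1 (hA.le6 hx)
  refine ⟨w⁻¹ * x * w, ?_, ?_, ?_⟩
  · rw [R6_eq (M.same_conj _), M.conj_ι]; simpa [mul_assoc] using hx
  · simp only [U.mul_t, U.inv_t, ht]; grind
  · simp only [U.mul_b, U.mul_a, U.inv_b, U.inv_a, ha, hw, hb]; grind

theorem st2 (hA : A.S1 M) : ∃ l, P1 A (M.conj (U.x6 l)) := by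
  obtain ⟨p, hp, ps⟩ := hA.on2 1 (map_one _)
  have uq : ∀ x y, M.ι x ∈ A.R2 M → M.ι y ∈ A.R2 M → x.s = y.s → x.r = y.r := fun x y hx hy e => by
    obtain ⟨a1, a2, a3, a4⟩ := M.ι_V.1 (hA.le2 hx)
    obtain ⟨b1, b2, b3, b4⟩ := M.ι_V.1 (hA.le2 hy)
    have := congrArg U.r (hA.in2 (x * y) (by rw [map_mul]; exact mul_mem hx hy) (by
      simp [U.mul_s, Tw.T, Tw.N, CharTwo.add_self_eq_zero, *]))
    simp only [U.mul_r, U.one_r, a1, a2, a3, a4, b1, b2, b3, b4, Tw.T, Tw.N, Tw.sh, Tw.cr, map_zero, map_mul,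
      map_add] at this
    grind
  have c13 : ∀ x, M.ι x ∈ A.R1 M → ∀ c, ∃ y, M.ι y ∈ A.R2 M ∧ y.s = τ.T (x.a * c) ∧ y.r = τ.T (x.b * c) :=
    fun x hx c => by
      obtain ⟨y, hy, rfl⟩ := hA.on3 c
      obtain ⟨a1, a2, a3⟩ := M.ι_W.1 hy.1.1
      have ht := M.ι_Q2.1 (hA.le1 hx)
      refine ⟨⁅x, y⁆, by rw [map_commutatorElement]; exact hA.c13 _ hx _ hy, ?_, ?_⟩
      · simp [U.comm_s, Tw.T, Tw.sh, *]
      · simp [U.comm_rW x a1 a2 a3, ht]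
  have k : ∀ x, M.ι x ∈ A.R1 M → x.a ≠ 0 → x.b = p.r * x.a ∧ ∀ y, M.ι y ∈ A.R2 M → y.r = p.r * y.s :=
    fun x hx ha => by
      obtain ⟨f, hf, e⟩ := τ.perp_perp (b := x.b) ha fun c hc => by
        obtain ⟨y, hy, e1, e2⟩ := c13 x hx c
        rw [mul_comm, ← e2, hA.in2 y hy (by rw [e1, mul_comm, hc]), U.one_r]
      have k2 : ∀ y, M.ι y ∈ A.R2 M → y.r = f * y.s := fun y hy => by
        obtain ⟨c, hc⟩ := τ.T_surj ha y.hs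
        obtain ⟨y', hy', e1, e2⟩ := c13 x hx c
        rw [uq y y' hy hy' (by rw [e1, hc]), e2, e, mul_assoc, Tw.T_smul hf, hc]
      have : p.r = f := by rw [k2 p hp, ps, mul_one]
      rw [this]
      exact ⟨e, k2⟩
  refine ⟨⟨p.r, p.hr⟩, fun x hx => ?_, fun x hx => ?_⟩
  · rw [R1_eq (M.same_conj _), M.conj_ι] at hx
    have e : ∀ y, M.ι y ∈ A.R1 M → y.b = p.r * y.a := fun y hy => by
      by_cases ha : y.a = 0
      · rw [hA.in1 y hy ha]; simp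
      · exact (k y hy ha).1
    have := e _ hx
    simp only [U.mul_a, U.mul_b, U.mul_t, U.inv_a, U.inv_b, U.inv_t, U.x6] at this
    grind
  · rw [R2_eq (M.same_conj _), M.conj_ι] at hx
    obtain ⟨y, hy, ya⟩ := hA.on1 1
    have := (k y hy (by rw [ya]; exact one_ne_zero)).2 _ hx
    have hv : M.ι x ∈ M.V := (mem_N.1 (M.S_N.2.1 (M.ι_S (U.x6 ⟨p.r, p.hr⟩))) _).2 (by
      rw [← map_inv, ← map_mul, ← map_mul]; exact hA.le2 hx)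
    obtain ⟨a1, a2, a3, a4⟩ := M.ι_V.1 hv
    simp only [U.mul_a, U.mul_b, U.mul_t, U.mul_r, U.mul_s, U.mul_c, U.inv_a, U.inv_b, U.inv_t, U.inv_r, U.inv_s,
      U.inv_c, U.x6, a1, a2, a3, a4, Tw.T, Tw.N, Tw.sh, Tw.cr, map_zero, map_mul, map_add] at this
    grind

theorem st3 (hA : A.S1 M) (h1 : P1 A M) :
    ∃ e, P1 A (M.conj (U.x5 τ e)) ∧ ∀ x, (M.conj (U.x5 τ e)).ι x ∈ A.R1 (M.conj (U.x5 τ e)) → x.c = 0 := by
  have sq : ∀ g ∈ A.R1 M, g * g = 1 := fun g hg => hA.sq g (.inl hg)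
  obtain ⟨e, he⟩ := skew (τ := τ) (fun a c => ∃ x, M.ι x ∈ A.R1 M ∧ x.a = a ∧ x.c = c)
    (fun a => by obtain ⟨x, hx, e⟩ := hA.on1 a; exact ⟨_, x, hx, e, rfl⟩)
    (by
      rintro _ _ ⟨x, hx, rfl, rfl⟩
      rcases (U.inv_iff x).1 (sq_of sq hx) with k | k
      · rw [k.1, zero_mul, τ.T_zero]
      · simpa [h1.1 x hx, τ.T_zero] using k.2.2.2)
    (by
      rintro _ _ _ _ ⟨x, hx, rfl, rfl⟩ ⟨y, hy, rfl, rfl⟩
      have := (HBx.cm M (HBx.cm_sq sq hx hy)).1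
      rw [U.comm_s, h1.1 x hx, h1.1 y hy, M.ι_Q2.1 (hA.le1 hx), M.ι_Q2.1 (hA.le1 hy)] at this
      simp only [mul_zero, zero_mul, τ.T_zero, add_zero] at this
      grind)
  have k : ∀ x, (M.conj (U.x5 τ e)).ι x ∈ A.R1 (M.conj (U.x5 τ e)) → x.b = 0 ∧ x.c = 0 := fun x hx => by
    rw [R1_eq (M.same_conj _), M.conj_ι] at hx
    have e1 := h1.1 _ hx
    have e2 := he _ _ ⟨_, hx, rfl, rfl⟩
    have e3 := M.ι_Q2.1 (hA.le1 hx)
    simp only [U.mul_a, U.mul_b, U.mul_t, U.mul_c, U.inv_a, U.inv_b, U.inv_t, U.inv_c, U.x5, Tw.sh, Tw.cr,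
      map_zero, map_mul, map_add] at e1 e2 e3
    grind
  refine ⟨e, ⟨fun x hx => (k x hx).1, fun x hx => ?_⟩, fun x hx => (k x hx).2⟩
  rw [R2_eq (M.same_conj _), M.conj_ι] at hx
  have := h1.2 _ hx
  have hv : M.ι x ∈ M.V := (mem_N.1 (M.S_N.2.1 (M.ι_S (U.x5 τ e))) _).2 (by
    rw [← map_inv, ← map_mul, ← map_mul]; exact hA.le2 hx)
  obtain ⟨a1, a2, a3, a4⟩ := M.ι_V.1 hv
  simp only [U.mul_a, U.mul_b, U.mul_t, U.mul_r, U.mul_s, U.mul_c, U.inv_a, U.inv_b, U.inv_t, U.inv_r, U.inv_s,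
    U.inv_c, U.x5, a1, a2, a3, a4, Tw.T, Tw.N, Tw.sh, Tw.cr, map_zero, map_mul, map_add] at this
  grind

theorem st4 (hA : A.S1 M) (h6 : P6 A M) (h1 : P1 A M) (hc : ∀ x, M.ι x ∈ A.R1 M → x.c = 0) :
    ∃ c0 e, A.S2 M c0 e := by
  obtain ⟨p, hp, pt, pb⟩ := h6
  have sq : ∀ g ∈ A.R5 M, g * g = 1 := fun g hg => hA.sq g (.inr (.inl hg))
  obtain ⟨e, he⟩ := skew (τ := τ) (fun a c => ∃ x, M.ι x ∈ A.R5 M ∧ x.b = a ∧ x.c = c)
    (fun a => by obtain ⟨x, hx, e⟩ := hA.on5 a; exact ⟨_, x, hx, e, rfl⟩)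
    (by
      rintro _ _ ⟨x, hx, rfl, rfl⟩
      obtain ⟨a1, a2⟩ := M.ι_Y.1 (hA.le5 hx)
      simpa [a2] using (((U.inv_iff x).1 (sq_of sq hx)).resolve_right fun k => k.1 a1).2)
    (by
      rintro _ _ _ _ ⟨x, hx, rfl, rfl⟩ ⟨y, hy, rfl, rfl⟩
      obtain ⟨a1, a2⟩ := M.ι_Y.1 (hA.le5 hx)
      obtain ⟨b1, b2⟩ := M.ι_Y.1 (hA.le5 hy)
      have := (HBx.cm M (HBx.cm_sq sq hx hy)).2.2.1
      rw [U.comm_r1 a1 b1, a2, b2] at this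
      grind)
  have k3 : ∀ x y, M.ι x ∈ A.R6 M → M.ι y ∈ A.R3 M → x.t * y.s = τ.T (x.b * y.c) := fun x y hx hy => by
    obtain ⟨a1, a2, a3⟩ := M.ι_W.1 hy.1.1
    have := (HBx.cm M (mem_C.1 hy.1.2 _ hx)).2.2.1
    rw [U.comm_r1 (M.ι_Q1.1 (hA.le6 hx)) a1, a2, a3, zero_mul, zero_mul, τ.T_zero] at this
    grind
  have s3 : ∀ y, M.ι y ∈ A.R3 M → y.s = 0 := fun y hy => by
    simpa [pt, pb, τ.T_zero] using k3 p y hp hy
  have b6 : ∀ x, M.ι x ∈ A.R6 M → x.b = 0 := fun x hx => τ.T_nd fun c => by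
    obtain ⟨y, hy, rfl⟩ := hA.on3 c
    rw [← k3 x y hx hy, s3 y hy, mul_zero]
  have k5 : ∀ x y, M.ι x ∈ A.R6 M → M.ι y ∈ A.R5 M → x.t * y.s = τ.T (y.b * x.c) := fun x y hx hy => by
    obtain ⟨a1, a2⟩ := M.ι_Y.1 (hA.le5 hy)
    have := (HBx.cm M (mem_C.1 (hA.c56 hy) _ hx)).2.2.1
    rw [U.comm_r1 (M.ι_Q1.1 (hA.le6 hx)) a1, a2, b6 x hx, zero_mul, zero_mul, τ.T_zero] at this
    grind
  have s5 : ∀ y, M.ι y ∈ A.R5 M → y.s = τ.T (y.b * p.c) := fun y hy => by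
    simpa [pt] using k5 p y hp hy
  refine ⟨p.c, e, hA, fun x hx => ⟨hc x hx, h1.1 x hx⟩, h1.2, s3,
    fun x hx => ⟨s5 x hx, he _ _ ⟨x, hx, rfl, rfl⟩⟩, fun x hx => ⟨?_, b6 x hx, eq_of_T τ fun b => ?_⟩⟩
  · by_cases ht : x.t = 0
    · rw [hA.in6 x hx ht, U.one_s]
    have := (((U.inv_iff x).1 (sq_of (fun g hg => hA.sq g (.inr (.inr hg))) hx)).resolve_right
      fun k => k.1 (M.ι_Q1.1 (hA.le6 hx))).2
    simpa [b6 x hx, τ.T_zero, ht] using this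
  · obtain ⟨y, hy, rfl⟩ := hA.on5 b
    rw [mul_comm, ← k5 x y hx hy, s5 y hy, ← Tw.T_smul x.ht]
    congr 1; ring

end HC2bx

open HC2bx

/-! ### HC2b -/

theorem Ap.S1.s2 (hA : A.S1 M) (h : M.Gd) :
    ∃ (M' : Md G τ) (c0 e : K), M.Same M' ∧ A.S2 M' c0 e := by
  obtain ⟨w, k1⟩ := st1 hA
  have e1 := M.same_conj w
  have a1 := s1_same hA h e1
  obtain ⟨l, k2⟩ := st2 a1
  have e2 := e1.trans ((M.conj w).same_conj (U.x6 l))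
  have a2 := s1_same hA h e2
  obtain ⟨e, k3, k4⟩ := st3 a2 k2
  have e3 := e2.trans (((M.conj w).conj (U.x6 l)).same_conj (U.x5 τ e))
  obtain ⟨c0, e', k⟩ := st4 (s1_same hA h e3) (p6_conj a2 (p6_conj a1 k1 _ rfl) _ rfl) k3 k4
  exact ⟨_, c0, e', e3, k⟩

end H27.HX
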