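import Mathlib
import Cfsg.Prelude.Def_LieTwisted
import Cfsg.Prelude.Def_CaseTheorems
import Cfsg.Agent.H27.HX1
import Cfsg.Agent.H27.HF6

set_option autoImplicit false
set_option linter.unusedVariables false
set_option linter.unusedSectionVars false
set_option linter.unusedSimpArgs false

namespace H27.HX

open Cfsg H24 H26 H26.Gold H26.LM Subgroup
open scoped commutatorElement

universe u v

variable {G : Type u} [Group G] [Finite G] {K : Type} [Field K] [Finite K] [CharP K 2] {τ : Tw K}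
  {M M' M'' : Md G τ} {A : Ap G} {H S E M0 R X X' Y L D N0 P J : Subgroup G} {𝒟 : Set G}
  {g h j k l n s t x y z : G} {a a' b c c0 e f : K} {u v w : U τ}

/-! ### HC3 -/

namespace HC3x

variable {α β γ δ α' β' γ' δ' : K}

/-- `g` normalises `Q₂`, centralises `W / V` and acts on `V` by a matrix -/
structure Act (M : Md G τ) (g : G) (α β γ δ : K) : Prop where
  n : g ∈ N[M.Q2]
  ac : ∀ x y : U τ, x.a = 0 → x.b = 0 → x.t = 0 → g * M.ι x * g⁻¹ = M.ι y →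
    y.c = x.c ∧ (x.c = 0 → y.s = α * x.s + β * x.r ∧ y.r = γ * x.s + δ * x.r)

theorem exW (h : M.Cf) (hg : g ∈ N[M.Q2]) (ha : u.a = 0) (hb : u.b = 0) (ht : u.t = 0) :
    ∃ y : U τ, (y.a = 0 ∧ y.b = 0 ∧ y.t = 0) ∧ g * M.ι u * g⁻¹ = M.ι y :=
  let ⟨y, hy, e⟩ := conj_mem (h.hW hg) (M.ι_W.2 ⟨ha, hb, ht⟩)
  ⟨y, hy, e.symm⟩

theorem Act.mul (h : M.Cf) (h1 : Act M g α β γ δ) (h2 : Act M k α' β' γ' δ') {α₁ β₁ γ₁ δ₁ : K}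
    (e1 : α₁ = α * α' + β * γ') (e2 : β₁ = α * β' + β * δ') (e3 : γ₁ = γ * α' + δ * γ')
    (e4 : δ₁ = γ * β' + δ * δ') : Act M (g * k) α₁ β₁ γ₁ δ₁ := by
  refine ⟨mul_mem h1.n h2.n, fun x y ha hb ht e => ?_⟩
  obtain ⟨p, ⟨pa, pb, pt⟩, hp⟩ := exW h h2.n ha hb ht
  obtain ⟨q1, q2⟩ := h2.ac x p ha hb ht hp
  obtain ⟨r1, r2⟩ := h1.ac p y pa pb pt (by rw [← hp, ← e]; group)
  refine ⟨r1.trans q1, fun hc => ?_⟩
  obtain ⟨q3, q4⟩ := q2 hc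
  obtain ⟨r3, r4⟩ := r2 (q1.trans hc)
  rw [r3, r4, q3, q4, e1, e2, e3, e4]
  constructor <;> ring

theorem of_S (M : Md G τ) (p : U τ) : Act M (M.ι p) 1 0 p.t 1 := by
  refine ⟨M.S_N.2.2.2.2.2 (M.ι_S p), fun x y ha hb ht e => ?_⟩
  rw [← map_inv, ← map_mul, ← map_mul] at e
  obtain rfl := M.inj e
  refine ⟨?_, fun hc => ⟨?_, ?_⟩⟩ <;>
    simp only [U.mul_a, U.mul_s, U.mul_c, U.mul_r, U.mul_b, U.mul_t, U.inv_a, U.inv_s, U.inv_c,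
      U.inv_r, U.inv_b, U.inv_t, Tw.T, Tw.N, Tw.sh, Tw.cr, map_add, map_mul, map_zero, τ.three,
      p.ht, x.hs, *] <;> grind

theorem conj_comm (e : g * M.ι u * g⁻¹ = M.ι v) {p p' : U τ} (e' : g * M.ι p * g⁻¹ = M.ι p') :
    g * M.ι ⁅u, p⁆ * g⁻¹ = M.ι ⁅v, p'⁆ := by
  rw [map_commutatorElement, map_commutatorElement, conjugate_commutatorElement, e, e']

theorem cW (u : U τ) (ha : w.a = 0) (hb : w.b = 0) (ht : w.t = 0) :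
    ⁅u, w⁆.b = 0 ∧ ⁅u, w⁆.c = 0 ∧ ⁅u, w⁆.s = τ.T (u.a * w.c) := by
  simp [U.comm_b, U.comm_c, U.comm_s, ha, hb, ht, Tw.cr, Tw.sh, Tw.T, Tw.N]

theorem eq_of_T (h : ∀ c, τ.T (a * c) = τ.T (b * c)) : a = b := by
  have := τ.T_nd (a := a + b) fun c => by rw [add_mul, τ.T_add, h, CharTwo.add_self_eq_zero]
  exact CharTwo.add_eq_zero.1 this

theorem Act.ab (h : M.Cf) (h1 : Act M g α β γ δ) (hα : τ.σ α = α) (hβ : τ.σ β = β)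
    (hγ : τ.σ γ = γ) (hδ : τ.σ δ = δ) (e : g * M.ι u * g⁻¹ = M.ι v) :
    v.a = α * u.a + β * (u.b + u.t * u.a) ∧ (u.t = 0 → v.t = 0 ∧ v.b = γ * u.a + δ * u.b) := by
  have key : ∀ c, τ.T (v.a * c) = α * τ.T (u.a * c) + β * (τ.T (u.b * c) + u.t * τ.T (u.a * c)) ∧
      (v.t = 0 → τ.T (v.b * c) = γ * τ.T (u.a * c) + δ * (τ.T (u.b * c) + u.t * τ.T (u.a * c))) :=
    fun c => by
      obtain ⟨p, ⟨pa, pb, pt⟩, hp⟩ := exW h h1.n (u := U.x3 τ c) rfl rfl rfl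
      have pc : p.c = c := (h1.ac _ p rfl rfl rfl hp).1
      obtain ⟨k1, k2, k3⟩ := cW (w := U.x3 τ c) u rfl rfl rfl
      obtain ⟨l1, l2⟩ := (h1.ac _ _ (U.comm_a _ _) k1 (U.comm_t _ _) (conj_comm e hp)).2 k2
      rw [k3, U.comm_rW (y := U.x3 τ c) u rfl rfl rfl] at l1 l2
      rw [(cW v pa pb pt).2.2, pc] at l1
      rw [U.comm_rW v pa pb pt, pc] at l2
      simp only [U.x3, mul_zero, zero_add] at l1 l2
      exact ⟨l1, fun ht => by simpa [ht] using l2⟩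
  refine ⟨eq_of_T (τ := τ) fun c => ?_, fun ht => ?_⟩
  · rw [(key c).1, add_mul, mul_assoc, mul_assoc, τ.T_add, Tw.T_smul hα, Tw.T_smul hβ, add_mul,
      τ.T_add, mul_assoc, Tw.T_smul u.ht]
  have vt : v.t = 0 := M.ι_Q2.1 (e ▸ conj_mem h1.n (M.ι_Q2.2 ht))
  refine ⟨vt, eq_of_T (τ := τ) fun c => ?_⟩
  rw [(key c).2 vt, ht, zero_mul, add_zero, add_mul, mul_assoc, mul_assoc, τ.T_add, Tw.T_smul hγ,
    Tw.T_smul hδ]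

theorem Act.tt (h : M.Cf) (h1 : Act M g α β γ δ) (e : g * M.ι u * g⁻¹ = M.ι v) :
    v.t * α = δ * u.t := by
  obtain ⟨p, ⟨pa, pb, pt⟩, hp⟩ := exW h h1.n (u := U.x2 1) rfl rfl rfl
  obtain ⟨pc, q⟩ := h1.ac _ p rfl rfl rfl hp
  obtain ⟨ps, -⟩ := q rfl
  obtain ⟨k1, k2, k3⟩ := cW (w := U.x2 1) u rfl rfl rfl
  obtain ⟨-, l2⟩ := (h1.ac _ _ (U.comm_a _ _) k1 (U.comm_t _ _) (conj_comm e hp)).2 k2
  rw [k3, U.comm_rW (y := U.x2 1) u rfl rfl rfl, U.comm_rW v pa pb pt, pc, ps] at l2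
  simpa [U.x2, Tw.T] using l2

theorem mem_R2 (hA : A.S2 M c0 e) :
    M.ι u ∈ A.R2 M ↔ u.a = 0 ∧ u.c = 0 ∧ u.b = 0 ∧ u.t = 0 ∧ u.r = 0 := by
  have f : ∀ x : U τ, M.ι x ∈ A.R2 M → x.a = 0 ∧ x.c = 0 ∧ x.b = 0 ∧ x.t = 0 ∧ x.r = 0 :=
    fun x hx =>
      let ⟨h1, h2, h3, h4⟩ := M.ι_V.1 (hA.le2 hx)
      ⟨h1, h2, h3, h4, hA.sh2 x hx⟩
  refine ⟨f u, fun ⟨h1, h2, h3, h4, h5⟩ => ?_⟩
  obtain ⟨x, hx, hs⟩ := hA.on2 u.s u.hs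
  obtain ⟨k1, k2, k3, k4, k5⟩ := f x hx
  rwa [show u = x by ext <;> simp [*]]

theorem Act.exV (h : M.Cf) (h1 : Act M g α β γ δ) (ha : u.a = 0) (hc : u.c = 0) (hb : u.b = 0)
    (ht : u.t = 0) : ∃ y : U τ, g * M.ι u * g⁻¹ = M.ι y ∧ y.a = 0 ∧ y.c = 0 ∧ y.b = 0 ∧ y.t = 0 ∧
      y.s = α * u.s + β * u.r ∧ y.r = γ * u.s + δ * u.r := by
  obtain ⟨p, ⟨pa, pb, pt⟩, hp⟩ := exW h h1.n ha hb ht
  obtain ⟨q1, q2⟩ := h1.ac _ p ha hb ht hp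
  exact ⟨p, hp, pa, q1.trans hc, pb, pt, q2 hc⟩

theorem Act.zz (h : M.Cf) (h1 : Act M g α 0 γ δ) : cj g M.Z ≤ M.Z := by
  rintro _ ⟨_, ⟨x, ⟨h2, h3, h4, h5, h6⟩, rfl⟩, rfl⟩
  obtain ⟨y, e, k1, k2, k3, k4, k5, -⟩ := h1.exV h h2 h4 h5 h6
  exact ⟨y, ⟨k1, by simp [k5, h3], k2, k3, k4⟩, e.symm⟩

theorem Act.zr (hA : A.S2 M c0 e) (h : M.Cf) (h1 : Act M g α β γ 0) : cj g M.Z ≤ A.R2 M := by
  rintro _ ⟨_, ⟨x, ⟨h2, h3, h4, h5, h6⟩, rfl⟩, rfl⟩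
  obtain ⟨y, e, k1, k2, k3, k4, -, k5⟩ := h1.exV h h2 h4 h5 h6
  exact (show g * M.ι x * g⁻¹ ∈ _ from e ▸ (mem_R2 hA).2 ⟨k1, k2, k3, k4, by simp [k5, h3]⟩)

theorem Act.rz (hA : A.S2 M c0 e) (h : M.Cf) (h1 : Act M g 0 β γ δ) : cj g (A.R2 M) ≤ M.Z := by
  rintro _ ⟨_, hx, rfl⟩
  obtain ⟨x, -, rfl⟩ := hA.le2 hx
  obtain ⟨h2, h3, h4, h5, h6⟩ := (mem_R2 hA).1 hx
  obtain ⟨y, e, k1, k2, k3, k4, k5, -⟩ := h1.exV h h2 h3 h4 h5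
  exact ⟨y, ⟨k1, by simp [k5, h6], k2, k3, k4⟩, e.symm⟩

theorem Act.rr (hA : A.S2 M c0 e) (h : M.Cf) (h1 : Act M g α β 0 δ) : cj g (A.R2 M) ≤ A.R2 M := by
  rintro _ ⟨_, hx, rfl⟩
  obtain ⟨x, -, rfl⟩ := hA.le2 hx
  obtain ⟨h2, h3, h4, h5, h6⟩ := (mem_R2 hA).1 hx
  obtain ⟨y, e, k1, k2, k3, k4, -, k5⟩ := h1.exV h h2 h3 h4 h5
  exact (show g * M.ι x * g⁻¹ ∈ _ from e ▸ (mem_R2 hA).2 ⟨k1, k2, k3, k4, by simp [k5, h6]⟩)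

theorem dec (hA : A.S2 M c0 e) (h : M.Gd) (hg : g ∈ N[M.Q2]) (hZ : cj g M.Z ≤ M.Z)
    (hR : cj g (A.R2 M) ≤ A.R2 M) : ∃ k ∈ A.H, ∃ p : U τ, p.t = 0 ∧ k = M.ι p * g := by
  obtain ⟨_, ⟨p, rfl⟩, k, hk, rfl⟩ := hA.prod g (h.nS2 ⟨hg, mem_N_of_cj_le hZ⟩)
  refine ⟨k, hk, p⁻¹, ?_, by simp⟩
  have hp : M.ι p ∈ N[A.R2 M] := (mul_mem_cancel_right (hA.H2 hk)).1 (mem_N_of_cj_le hR)
  obtain ⟨y, e, -, -, -, -, -, k5⟩ := (of_S M p).exV h.toCf (u := U.x2 1) rfl rfl rfl rfl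
  have := ((mem_R2 hA).1 (e ▸ conj_mem hp ((mem_R2 hA).2 ⟨rfl, rfl, rfl, rfl, rfl⟩))).2.2.2.2
  simpa [this, U.x2, eq_comm, U.inv_t] using k5

theorem Act.red (h : M.Cf) (h1 : Act M g α β γ δ) (ht : u.t = 0) : Act M (M.ι u * g) α β γ δ :=
  (of_S M u).mul h h1 (by simp) (by simp) (by simp [ht]) (by simp [ht])

theorem Act.fixV (h : M.Cf) (h1 : Act M g 1 0 0 1) : g ∈ C[M.V] := by
  refine mem_C'.2 ?_
  rintro _ ⟨x, ⟨h2, h3, h4, h5⟩, rfl⟩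
  obtain ⟨y, e, k1, k2, k3, k4, k5, k6⟩ := h1.exV h h2 h3 h4 h5
  rw [← mul_inv_eq_iff_eq_mul, e, show y = x by ext <;> simp [*]]

theorem Act.triv (hA : A.S2 M c0 e) (h : M.Gd) (h1 : Act M g 1 0 0 1) : g ∈ M.Q2 := by
  obtain ⟨k, hk, p, pt, e⟩ := dec hA h h1.n (h1.zz h.toCf) (h1.rr hA h.toCf)
  have h2 : Act M k 1 0 0 1 := e ▸ h1.red h.toCf pt
  have q2 : TwoG M.Q2 := M.twoS.of_le M.Q2_S
  have w2 : M.W ≤ M.Q2 := M.W_Y.trans (M.Y_eq.le.trans inf_le_right)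
  have : k ∈ C[M.Q2] := cent_of_chain
    (fun i => match i with | 0 => ⊥ | 1 => M.V | 2 => M.W | _ => M.Q2) 3 rfl
    (fun i hi => by
      interval_cases i
      exacts [q2.of_le bot_le, q2.of_le (M.V_W.trans w2), q2.of_le w2, q2])
    (hA.odd.piElt hk)
    (fun i hi => by
      interval_cases i
      exacts [bot_le, M.V_W, w2])
    fun i hi => by
      interval_cases i
      · exact fun y hy => commutatorElement_eq_one_iff_mul_comm.2 (mem_C'.1 (h2.fixV h.toCf) y hy)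
      · rintro _ ⟨x, ⟨h3, h4, h5⟩, rfl⟩
        obtain ⟨y, ⟨pa, pb, pt⟩, hy⟩ := exW h.toCf h2.n h3 h4 h5
        have := (h2.ac x y h3 h4 h5 hy).1
        refine ⟨y * x⁻¹, ?_, by rw [map_mul, map_inv, ← hy, commutatorElement_def]⟩
        simp [U.V, U.mul_a, U.mul_c, U.mul_b, U.mul_t, U.inv_a, U.inv_c, U.inv_b, U.inv_t, Tw.cr,
          CharTwo.add_self_eq_zero, *]
      · rintro _ ⟨x, h3 : x.t = 0, rfl⟩
        obtain ⟨y, -, hy⟩ := conj_mem h2.n (M.ι_Q2.2 h3)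
        obtain ⟨k1, k2⟩ := h2.ab h.toCf (map_one _) (map_zero _) (map_zero _) (map_one _) hy.symm
        obtain ⟨k3, k4⟩ := k2 h3
        refine ⟨y * x⁻¹, ?_, by rw [map_mul, map_inv, hy, commutatorElement_def]⟩
        simp [U.W, U.mul_a, U.mul_b, U.mul_t, U.inv_a, U.inv_b, U.inv_t,
          CharTwo.add_self_eq_zero, *]
  exact (mul_mem_cancel_left (M.ι_Q2.2 pt)).1 (e ▸ h.cQ2 this)

theorem r0 (hA : A.S2 M c0 e) (h : M.Gd) (hu : M.ι u ∈ A.R6 M) :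
    ∃ κ, τ.σ κ = κ ∧ Act M (A.n6 * M.ι u * A.n6⁻¹) 1 κ 0 1 := by
  obtain ⟨g, hg⟩ : ∃ g, g = A.n6 * M.ι u * A.n6⁻¹ := ⟨_, rfl⟩
  rw [← hg]
  have gQ : g ∈ N[M.Q2] := hg ▸ mul_mem (mul_mem hA.n6Q (of_S M u).n) (inv_mem hA.n6Q)
  have nV := M.nQ2_V hA.n6Q
  have hV : ∀ x y : U τ, M.ι x ∈ M.V → g * M.ι x * g⁻¹ = M.ι y → M.ι y ∈ M.V ∧ y.r = x.r :=
    fun x y hx e => by
      have hy : M.ι y ∈ M.V := e ▸ conj_mem (M.nQ2_V gQ) hx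
      have : M.ι (y * x⁻¹) ∈ A.R2 M := by
        refine mem_cj.2 ?_
        convert M.cSV (M.ι_S u) (conj_mem' nV hx) using 1
        rw [map_mul, map_inv, ← e, hg, commutatorElement_def]; group
      have := ((mem_R2 hA).1 this).2.2.2.2
      obtain ⟨h1, h2, h3, h4⟩ := M.ι_V.1 hx
      obtain ⟨k1, k2, k3, k4⟩ := M.ι_V.1 hy
      refine ⟨hy, CharTwo.add_eq_zero.1 ?_⟩
      simpa [U.mul_r, U.inv_a, U.inv_s, U.inv_c, U.inv_r, U.inv_b, U.inv_t, Tw.T, Tw.N, Tw.sh,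
        Tw.cr, h1, h2, h3, h4, k1, k2, k3, k4] using this
  obtain ⟨κ, hκ, hk⟩ : ∃ κ, τ.σ κ = κ ∧ ∀ (r : τ.F) (y : U τ),
      g * M.ι (U.x4 r) * g⁻¹ = M.ι y → y.s = κ * r := by
    have z4 : ∀ r : τ.F, M.ι (U.x4 r) ∈ M.Z := fun r => M.ι_Z.2 ⟨rfl, rfl, rfl, rfl, rfl⟩
    by_cases c : g ∈ N[M.Z]
    · exact ⟨0, map_zero _, fun r y e => by
        rw [zero_mul]; exact (M.ι_Z.1 (e ▸ conj_mem c (z4 r))).2.1⟩
    obtain ⟨_, ⟨p, rfl⟩, hp⟩ := M.two2 hA.n6Q hA.n6Z gQ c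
    have key : ∀ (r : τ.F) (y : U τ), g * M.ι (U.x4 r) * g⁻¹ = M.ι y → p.t * y.s = r :=
      fun r y e => by
        obtain ⟨_, hx, e'⟩ := mem_cj'.1 (hp ▸ conj_mem_cj g (z4 r))
        obtain ⟨x, -, rfl⟩ := hA.le2 hx
        obtain ⟨h2, h3, h4, h5, h6⟩ := (mem_R2 hA).1 hx
        obtain ⟨k1, k2⟩ := ((of_S M p).ac x y h2 h4 h5 (e'.symm.trans e)).2 h3
        have : y.r = r := (hV _ _ (M.Z_V (z4 r)) e).2
        rw [← this, k1, k2, h6]; ring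
    obtain ⟨y, -, e⟩ := exW h.toCf gQ (u := U.x4 1) rfl rfl rfl
    have pt : p.t ≠ 0 := fun e0 => by simpa [e0] using key 1 y e
    exact ⟨p.t⁻¹, Tw.σ_inv p.ht, fun r y e => by rw [← key r y e, inv_mul_cancel_left₀ pt]⟩
  refine ⟨κ, hκ, gQ, fun x y ha hb ht e => ⟨?_, fun hc => ?_⟩⟩
  · obtain ⟨p, hp, pc⟩ := hA.on3 x.c
    obtain ⟨pa, pb, pt⟩ := M.ι_W.1 hp.1.1
    have cp : g * M.ι p * g⁻¹ = M.ι p := by
      rw [mem_C.1 hp.2 g (hg ▸ conj_mem_cj _ hu), mul_inv_cancel_right]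
    have : M.ι (p⁻¹ * y) ∈ M.V := by
      have : M.ι (p⁻¹ * x) ∈ M.V := M.ι_V.2 (by
        simp [U.mul_a, U.mul_c, U.mul_b, U.mul_t, U.inv_a, U.inv_c, U.inv_b, U.inv_t, Tw.cr,
          CharTwo.add_self_eq_zero, *])
      convert conj_mem (M.nQ2_V gQ) this using 1
      rw [map_mul, map_mul, map_inv, ← e, ← conj_mul, ← conj_inv, cp]
    obtain ⟨y', ⟨ya, yb, yt⟩, e'⟩ := exW h.toCf gQ ha hb ht
    obtain rfl := M.inj (e.symm.trans e')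
    have := (M.ι_V.1 this).2.1
    refine (CharTwo.add_eq_zero.1 ?_).symm
    simpa [U.mul_c, U.inv_a, U.inv_c, Tw.cr, pa, pb, pt, pc, yt] using this
  · have yr := (hV x y (M.ι_V.2 ⟨ha, hc, hb, ht⟩) e).2
    refine ⟨?_, by simp [yr]⟩
    have c2 : g * M.ι (U.x2 ⟨x.s, x.hs⟩) * g⁻¹ = M.ι (U.x2 ⟨x.s, x.hs⟩) := by
      have h1 : M.ι (U.x2 ⟨x.s, x.hs⟩) ∈ A.R2 M := (mem_R2 hA).2 ⟨rfl, rfl, rfl, rfl, rfl⟩
      have h2 : g ∈ C[A.R2 M] := by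
        rw [Ap.R2, ← cj_C, hg]; exact conj_mem_cj _ (M.S_CZ (M.ι_S u))
      rw [mem_C'.1 h2 _ h1, mul_inv_cancel_right]
    have := hk ⟨x.r, x.hr⟩ ((U.x2 ⟨x.s, x.hs⟩)⁻¹ * y) (by
      rw [map_mul, map_inv, ← e, ← c2, conj_inv (a := M.ι _), conj_mul, ← map_inv, ← map_mul]
      congr 3
      ext <;> simp [U.x2, U.x4, U.mul_a, U.mul_s, U.mul_c, U.mul_r, U.mul_b, U.mul_t, U.inv_a,
        U.inv_s, U.inv_c, U.inv_r, U.inv_b, U.inv_t, Tw.T, Tw.N, Tw.sh, Tw.cr,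
        CharTwo.add_self_eq_zero, *])
    simp [U.x2, U.mul_s, U.inv_a, U.inv_s, Tw.T, Tw.N, Tw.sh] at this
    rw [← this]
    grind

theorem exm (hA : A.S2 M c0 e) (h : M.Gd) (hf : τ.σ f = f) (h0 : f ≠ 0) :
    ∃ m, Act M m 0 f⁻¹ f 0 := by
  choose p hp pt using fun t : τ.F => hA.on6 t t.2
  choose κ hκ hk using fun t : τ.F => r0 hA h (hp t)
  have inj : Function.Injective fun t : τ.F => (⟨κ t, hκ t⟩ : τ.F) := fun t t' e => by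
    have e : κ t = κ t' := congrArg Subtype.val e
    have h1 := ((hk t).mul h.toCf (hk t') (α₁ := 1) (β₁ := 0) (γ₁ := 0) (δ₁ := 1) (by simp)
      (by simp [e, CharTwo.add_self_eq_zero]) (by simp) (by simp)).fixV h.toCf
    rw [conj_mul, ← cj_of_mem_N (M.nQ2_V hA.n6Q), ← cj_C, conj_mem_cj_iff, ← map_mul] at h1
    have h2 := M.ι_Q2.1 (M.CV.le ⟨M.ι_S _, h1⟩)
    rw [U.mul_t, pt, pt] at h2
    exact Subtype.ext (CharTwo.add_eq_zero.1 h2)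
  obtain ⟨t, ht⟩ := Finite.injective_iff_surjective.1 inj ⟨f⁻¹, Tw.σ_inv hf⟩
  have ht : κ t = f⁻¹ := congrArg Subtype.val ht
  have h1 := ht ▸ hk t
  exact ⟨_, (h1.mul h.toCf (of_S M (U.x6 ⟨f, hf⟩)) (α₁ := 0) (β₁ := f⁻¹) (γ₁ := f) (δ₁ := 1)
    (by simp [U.x6, h0, CharTwo.add_self_eq_zero]) (by simp) (by simp [U.x6]) (by simp)).mul h.toCf h1
    (by simp) (by simp) (by simp) (by simp [h0, CharTwo.add_self_eq_zero])⟩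

end HC3x

open HC3x in
theorem Ap.S2.t6 (hA : A.S2 M c0 e) (h : M.Gd) : A.T6 M := by
  obtain ⟨m, hm⟩ := exm hA h (map_one τ.σ) one_ne_zero
  rw [inv_one] at hm
  refine ⟨fun ν hν h0 => ?_, ?_⟩
  · obtain ⟨m', hm'⟩ := exm hA h hν h0
    have h1 := hm'.mul h.toCf hm (α₁ := ν⁻¹) (β₁ := 0) (γ₁ := 0) (δ₁ := ν) (by simp) (by simp)
      (by simp) (by simp)
    obtain ⟨k, hk, p, pt, e⟩ := dec hA h h1.n (h1.zz h.toCf) (h1.rr hA h.toCf)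
    have h2 : Act M k ν⁻¹ 0 0 ν := e ▸ h1.red h.toCf pt
    refine ⟨k, hk, fun x y e => ?_⟩
    obtain ⟨k1, k2⟩ := h2.ab h.toCf (Tw.σ_inv hν) (map_zero _) (map_zero _) hν e
    have k3 := h2.tt h.toCf e
    refine ⟨?_, by simp [k1], fun ha ht => ⟨by simp [(k2 ht).2], fun hb => ?_⟩⟩
    · rw [pow_two, mul_assoc, ← k3]; field_simp
    · simpa using h2.ac x y ha hb ht e
  · obtain ⟨k, hk, p, pt, e⟩ := dec hA h (mul_mem hm.n (inv_mem hA.n6Q))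
      (by rw [cj_mul, ← hA.c62, cj_inv_cj, hA.c62]; exact hm.rz hA h.toCf)
      (by rw [cj_mul]; nth_rw 1 [Ap.R2]; rw [cj_inv_cj]; exact hm.zr hA h.toCf)
    have h2 : Act M (k * A.n6) 0 1 1 0 := by
      rw [e, mul_assoc, inv_mul_cancel_right]; exact hm.red h.toCf pt
    refine ⟨k, hk, fun x y ht e => ?_, fun x _ ht => ?_⟩
    · obtain ⟨k1, k2⟩ := h2.ab h.toCf (map_zero _) (map_one _) (map_one _) (map_zero _) e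
      exact ⟨by simp [k1, ht], by simp [(k2 ht).2], fun ha hb => by simpa using h2.ac x y ha hb ht e⟩
    · have h3 := (of_S M x).mul h.toCf h2 (α₁ := 0) (β₁ := 1) (γ₁ := 1) (δ₁ := 1) (by simp)
        (by simp) (by simp) (by simp [ht])
      rw [pow_three']
      exact ((h3.mul h.toCf h3 (α₁ := 1) (β₁ := 1) (γ₁ := 1) (δ₁ := 0) (by simp) (by simp) (by simp)
        (by simp [CharTwo.add_self_eq_zero])).mul h.toCf h3 (by simp)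
        (by simp [CharTwo.add_self_eq_zero]) (by simp) (by simp)).triv hA h

theorem Ap.S2.kill (hA : A.S2 M c0 e) (h6 : A.T6 M) (hF : τ.BigF) : A.S2 M c0 0 := by
  obtain ⟨ν, hν, h0, h1⟩ := hF
  obtain ⟨k, hk, tor⟩ := h6.tor ν hν h0
  have ex : ∀ x : U τ, ∃ y, k * M.ι x * k⁻¹ = M.ι y := fun x =>
    let ⟨y, e⟩ := conj_mem (hA.HS hk) (M.ι_S x)
    ⟨y, e.symm⟩
  have key : ∀ a, τ.cr e a = 0 := fun a => by
    obtain ⟨x, hx, xa⟩ := hA.on1 a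
    obtain ⟨y, hy, yt⟩ := hA.on6 1 (map_one _)
    obtain ⟨p, hp, pb⟩ := hA.on5 a
    obtain ⟨x', ex'⟩ := ex x
    obtain ⟨y', ey'⟩ := ex y
    obtain ⟨p', ep'⟩ := ex p
    have hx' : M.ι x' ∈ A.R1 M := ex' ▸ conj_mem (hA.H1 hk) hx
    have hy' : M.ι y' ∈ A.R6 M := ey' ▸ conj_mem (hA.H6 hk) hy
    have hp' : M.ι p' ∈ A.R5 M := ep' ▸ conj_mem (hA.H5 hk) hp
    have xt := M.ι_Q2.1 (hA.le1 hx)
    have xt' := M.ι_Q2.1 (hA.le1 hx')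
    have ya := M.ι_Q1.1 (hA.le6 hy)
    have ya' := M.ι_Q1.1 (hA.le6 hy')
    obtain ⟨pa, pt⟩ := M.ι_Y.1 (hA.le5 hp)
    obtain ⟨pa', pt'⟩ := M.ι_Y.1 (hA.le5 hp')
    have xb := (hA.sh1 x hx).2
    have xb' := (hA.sh1 x' hx').2
    have yb := (hA.sh6 y hy).2.1
    have yb' := (hA.sh6 y' hy').2.1
    have pc := (hA.sh5 p hp).2
    have pc' := (hA.sh5 p' hp').2
    have e1 := (tor x x' ex').2.1
    have e2 := (tor y y' ey').1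
    have e3 := ((tor p p' ep').2.2 pa pt).1
    have e4 := (((tor (p⁻¹ * ⁅x, y⁆) (p'⁻¹ * ⁅x', y'⁆) (by
      rw [map_mul, map_mul, map_inv, map_inv, ← HC3x.conj_comm ex' ey', ← ep', conj_inv,
        conj_mul])).2.2 (by simp [U.mul_a, U.inv_a, U.comm_a, pa])
      (by simp [U.mul_t, U.inv_t, U.comm_t, pt])).2
      (by simp [U.mul_b, U.inv_a, U.inv_b, U.comm_b, U.comm_t, CharTwo.add_self_eq_zero, *])).1
    simp only [U.mul_c, U.inv_c, U.inv_a, U.comm_c, U.comm_t, pa, pa', pt, pt', xt, xt', ya, ya', xb,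
      xb', yb, yb', pc, pc', e1, e2, e3, xa, yt, pb, Tw.cr_smul hν, τ.sh_mul,
      Tw.sh_fix (Tw.σ_inv hν), τ.cr_zero, τ.cr_comm 0, zero_mul, add_zero, mul_one, one_mul,
      zero_add, mul_zero] at e4
    have e5 : ν ^ 2 * (ν⁻¹ ^ 2 * τ.sh a) = τ.sh a := by field_simp
    rw [e5, add_left_inj] at e4
    exact (mul_left_eq_self₀.1 e4).resolve_left h1
  exact { hA with
    sh5 := fun x hx => ⟨(hA.sh5 x hx).1, by rw [(hA.sh5 x hx).2, key, τ.cr_comm, τ.cr_zero]⟩ }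


end H27.HX
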