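import Mathlib
import Cfsg.Prelude.Def_LieTwisted
import Cfsg.Prelude.Def_CaseTheorems
import Cfsg.Agent.H27.HX1
import Cfsg.Agent.H27.HF6

set_option autoImplicit false
set_option linter.unusedVariables false
set_option linter.unusedSectionVars false
set_option linter.unusedSimpArgs false

namespace H27.HX

open Cfsg H24 H26 H26.Gold H26.LM Subgroup
open scoped commutatorElement

universe u v

variable {G : Type u} [Group G] [Finite G] {K : Type} [Field K] [Finite K] [CharP K 2] {τ : Tw K}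
  {M M' M'' : Md G τ} {A : Ap G} {H S E M0 R X X' Y L D N0 P J : Subgroup G} {𝒟 : Set G}
  {g h j k l n s t x y z : G} {a a' b c c0 e f : K} {u v w : U τ}

namespace HC4ax

/-- the coordinate `s* = s + T(b c₀)` -/
def ss (c0 : K) (x : U τ) : K := x.s + τ.T (x.b * c0)
/-- the coordinate `c* = c + c₀ t` -/
def cs (c0 : K) (x : U τ) : K := x.c + c0 * x.t

theorem ss_mul (hu : u.a = 0) (v : U τ) : ss c0 (u * v) = ss c0 u + ss c0 v := by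
  simp only [ss, U.mul_s, U.mul_b, hu, Tw.T, Tw.N, Tw.sh, map_add, map_mul, map_zero]; ring
theorem cs_mul (hu : u.a = 0) (v : U τ) : cs c0 (u * v) = cs c0 u + cs c0 v := by
  simp only [cs, U.mul_c, U.mul_t, hu, Tw.cr, Tw.sh, map_zero]; ring
theorem b_mul (hu : u.a = 0) (v : U τ) : (u * v).b = u.b + v.b := by
  simp only [U.mul_b, hu]; ring
theorem a_mul (hu : u.a = 0) (hv : v.a = 0) : (u * v).a = 0 := by rw [U.mul_a, hu, hv, add_zero]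

theorem conj_co (u : U τ) (hv : v.a = 0) :
    ss c0 (u * v * u⁻¹) = ss c0 v + τ.T (u.a * cs c0 v) + τ.T (τ.sh u.a * v.b) + v.t * τ.N u.a ∧
    cs c0 (u * v * u⁻¹) = cs c0 v + τ.cr u.a v.b + v.t * τ.sh u.a ∧
    (u * v * u⁻¹).b = v.b + v.t * u.a ∧ (u * v * u⁻¹).t = v.t := by
  refine ⟨?_, ?_, ?_, ?_⟩ <;>
    simp only [ss, cs, U.mul_a, U.mul_s, U.mul_c, U.mul_b, U.mul_t, U.inv_a, U.inv_s, U.inv_c,
      U.inv_b, U.inv_t, Tw.T, Tw.N, Tw.sh, Tw.cr, map_add, map_mul, map_zero, τ.three, u.ht, v.ht,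
      hv] <;> grind

theorem polar (hu : u.a = 0) (hv : v.a = 0) : ⁅u, v⁆.r =
    u.t * ss c0 v + v.t * ss c0 u + τ.T (u.b * cs c0 v) + τ.T (v.b * cs c0 u) := by
  rw [U.comm_r1 hu hv]
  simp only [ss, cs, Tw.T, map_add, map_mul, u.ht, v.ht]; grind

def Yn (τ : Tw K) (c0 : K) : Subgroup (U τ) :=
  subOfMul {x | x.a = 0 ∧ ss c0 x = 0} ⟨rfl, by simp [ss, τ.T_zero]⟩ (by
    rintro x ⟨h1, h2⟩ y ⟨k1, k2⟩
    exact ⟨a_mul h1 k1, by rw [ss_mul h1, h2, k2, add_zero]⟩)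
def Wn (τ : Tw K) (c0 : K) : Subgroup (U τ) :=
  subOfMul {x | x ∈ Yn τ c0 ∧ cs c0 x = 0} ⟨one_mem _, by simp [cs]⟩ (by
    rintro x ⟨h1, h2⟩ y ⟨k1, k2⟩
    exact ⟨mul_mem h1 k1, by rw [cs_mul h1.1, h2, k2, add_zero]⟩)
def Vn (τ : Tw K) (c0 : K) : Subgroup (U τ) :=
  subOfMul {x | x ∈ Wn τ c0 ∧ x.b = 0} ⟨one_mem _, rfl⟩ (by
    rintro x ⟨h1, h2⟩ y ⟨k1, k2⟩
    exact ⟨mul_mem h1 k1, by rw [b_mul h1.1.1, h2, k2, add_zero]⟩)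

theorem eqsup (h1 : X ≤ Y) (h2 : R ≤ Y) (h : ∀ y ∈ Y, ∃ r ∈ R, r * y ∈ X) : Y = R ⊔ X := by
  refine le_antisymm (fun y hy => ?_) (sup_le h2 h1)
  obtain ⟨r, hr, e⟩ := h y hy
  simpa using mul_mem (mem_sup_left (inv_mem hr) : _ ∈ R ⊔ X) (mem_sup_right e)

theorem co2 (hA : A.S2 M c0 0) (h : M.ι u ∈ A.R2 M) : u.a = 0 ∧ u.c = 0 ∧ u.b = 0 ∧ u.t = 0 :=
  M.ι_V.1 (hA.le2 h)
theorem co3 (hA : A.S2 M c0 0) (h : M.ι u ∈ A.R3 M) : u.a = 0 ∧ u.s = 0 ∧ u.b = 0 ∧ u.t = 0 :=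
  have := M.ι_W.1 h.1.1
  ⟨this.1, hA.sh3 u h, this.2⟩
theorem co5 (hA : A.S2 M c0 0) (h : M.ι u ∈ A.R5 M) : u ∈ Wn τ c0 ∧ u.t = 0 := by
  obtain ⟨h1, h2⟩ := M.ι_Y.1 (hA.le5 h)
  obtain ⟨h3, h4⟩ := hA.sh5 u h
  rw [τ.cr_comm, τ.cr_zero] at h4
  exact ⟨⟨⟨h1, by rw [ss, h3, CharTwo.add_self_eq_zero]⟩, by rw [cs, h4, h2, mul_zero, add_zero]⟩, h2⟩
theorem co6 (hA : A.S2 M c0 0) (h : M.ι u ∈ A.R6 M) : u ∈ Vn τ c0 := by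
  obtain ⟨h3, h4, h5⟩ := hA.sh6 u h
  exact ⟨⟨⟨M.ι_Q1.1 (hA.le6 h), by rw [ss, h3, h4, zero_mul, τ.T_zero, add_zero]⟩,
    by rw [cs, h5, CharTwo.add_self_eq_zero]⟩, h4⟩

theorem cjV (hA : A.S2 M c0 0) : cj A.n1 M.V = (Vn τ c0).map M.ι := by
  have e1 : M.V = A.R2 M ⊔ M.Z := eqsup M.Z_V hA.le2 (by
    rintro _ ⟨x, ⟨h1, h2, h3, h4⟩, rfl⟩
    obtain ⟨p, hp, e⟩ := hA.on2 x.s x.hs
    obtain ⟨k1, k2, k3, k4⟩ := co2 hA hp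
    refine ⟨_, hp, ?_⟩
    rw [← map_mul, M.ι_Z]
    simp [U.mul_a, U.mul_s, U.mul_c, U.mul_b, U.mul_t, Tw.T, Tw.cr, CharTwo.add_self_eq_zero, *])
  have e2 : (Vn τ c0).map M.ι = A.R6 M ⊔ M.Z := eqsup (by
    rintro _ ⟨x, ⟨h1, h2, h3, h4, h5⟩, rfl⟩
    exact ⟨x, ⟨⟨⟨h1, by simp [ss, τ.T_zero, *]⟩, by simp [cs, *]⟩, h4⟩, rfl⟩) (fun x hx => by
    obtain ⟨x, rfl⟩ := M.Q1_S (hA.le6 hx)
    exact ⟨x, co6 hA hx, rfl⟩) (by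
    rintro _ ⟨x, hx, rfl⟩
    obtain ⟨p, hp, e⟩ := hA.on6 x.t x.ht
    refine ⟨_, hp, ?_⟩
    obtain ⟨⟨⟨h1, h2⟩, h3⟩, h4⟩ := mul_mem (co6 hA hp) hx
    have h5 : (p * x).t = 0 := by rw [U.mul_t, e, CharTwo.add_self_eq_zero]
    rw [← map_mul]
    exact M.ι_Z.2 ⟨h1, by simpa [ss, h4, τ.T_zero] using h2, by simpa [cs, h5] using h3, h4, h5⟩)
  rw [e2, e1, cj_sup, HF5x.cjZ hA.n1Q]; rfl

theorem cjW (hA : A.S2 M c0 0) : cj A.n1 M.W = (Wn τ c0).map M.ι := by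
  have e1 : M.W = A.R3 M ⊔ M.V := eqsup M.V_W (inf_le_left.trans inf_le_left) (by
    rintro _ ⟨x, ⟨h1, h2, h3⟩, rfl⟩
    obtain ⟨p, hp, e⟩ := hA.on3 x.c
    obtain ⟨k1, k2, k3, k4⟩ := co3 hA hp
    refine ⟨_, hp, ?_⟩
    rw [← map_mul, M.ι_V]
    simp [U.mul_a, U.mul_c, U.mul_b, U.mul_t, Tw.cr, CharTwo.add_self_eq_zero, *])
  have e2 : (Wn τ c0).map M.ι = A.R5 M ⊔ (Vn τ c0).map M.ι :=
    eqsup (map_mono fun x hx => hx.1) (fun x hx => by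
    obtain ⟨x, rfl⟩ := M.Q1_S (HF5x.Y_Q1 M (hA.le5 hx))
    exact ⟨x, (co5 hA hx).1, rfl⟩) (by
    rintro _ ⟨x, hx, rfl⟩
    obtain ⟨p, hp, e⟩ := hA.on5 x.b
    exact ⟨_, hp, p * x, ⟨mul_mem (co5 hA hp).1 hx, by
      rw [b_mul (co5 hA hp).1.1.1, e, CharTwo.add_self_eq_zero]⟩, map_mul _ _ _⟩)
  rw [e2, e1, cj_sup, cjV hA]; rfl

theorem cjY (hA : A.S2 M c0 0) : cj A.n1 M.Y = (Yn τ c0).map M.ι := by
  have e1 : M.Y = A.R5 M ⊔ M.W := eqsup M.W_Y hA.le5 (by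
    rintro _ ⟨x, ⟨h1, h2⟩, rfl⟩
    obtain ⟨p, hp, e⟩ := hA.on5 x.b
    obtain ⟨⟨⟨k1, -⟩, -⟩, k4⟩ := co5 hA hp
    have h1 : x.a = 0 := h1
    have h2 : x.t = 0 := h2
    refine ⟨_, hp, ?_⟩
    rw [← map_mul, M.ι_W]
    simp [U.mul_a, U.mul_b, U.mul_t, CharTwo.add_self_eq_zero, *])
  have y3 : ∀ p, M.ι p ∈ A.R3 M → p ∈ Yn τ c0 := fun p hp => by
    obtain ⟨k1, k2, k3, k4⟩ := co3 hA hp
    exact ⟨k1, by simp [ss, τ.T_zero, *]⟩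
  have e2 : (Yn τ c0).map M.ι = A.R3 M ⊔ (Wn τ c0).map M.ι :=
    eqsup (map_mono fun x hx => hx.1) (fun x hx => by
    obtain ⟨x, rfl⟩ := M.Q1_S (HF5x.W_Q1 M hx.1.1)
    exact ⟨x, y3 x hx, rfl⟩) (by
    rintro _ ⟨x, hx, rfl⟩
    obtain ⟨p, hp, e⟩ := hA.on3 (cs c0 x)
    obtain ⟨k1, k2, k3, k4⟩ := co3 hA hp
    exact ⟨_, hp, p * x, ⟨mul_mem (y3 p hp) hx, by
      rw [cs_mul k1, cs, e, k4, mul_zero, add_zero, CharTwo.add_self_eq_zero]⟩, map_mul _ _ _⟩)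
  rw [e2, e1, cj_sup, cjW hA, hA.c15]

/-- the conjugates of `V` -/
theorem line (hA : A.S2 M c0 0) (h : M.Gd) (hk : k ∈ N[M.Q1]) (hu : M.ι u ∈ cj k M.V)
    (h1 : ss c0 u = 1) : ∃ d, ∀ x, M.ι x ∈ cj k M.V →
      cs c0 x = ss c0 x * d ∧ x.b = ss c0 x * τ.sh d ∧ x.t = ss c0 x * τ.N d := by
  by_cases hV : k ∈ N[M.V]
  · refine ⟨0, fun x hx => ?_⟩
    rw [mem_N_iff_cj.1 hV] at hx
    obtain ⟨k1, k2, k3, k4⟩ := M.ι_V.1 hx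
    simp [cs, Tw.sh, Tw.N, *]
  obtain ⟨_, ⟨w, rfl⟩, e⟩ := M.two1 h.big hA.n1Q hA.n1V hk hV
  have key : ∀ x, M.ι x ∈ cj k M.V → ss c0 x = x.t * τ.N w.a ∧ cs c0 x = x.t * τ.sh w.a ∧
      x.b = x.t * w.a := fun x hx => by
    rw [e, cjV hA] at hx
    obtain ⟨_, ⟨y, ⟨⟨⟨k1, k2⟩, k3⟩, k4⟩, rfl⟩, e1⟩ := mem_cj'.1 hx
    rw [← map_inv, ← map_mul, ← map_mul] at e1
    obtain ⟨c1, c2, c3, c4⟩ := conj_co (c0 := c0) w k1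
    rw [M.inj e1, c1, c2, c3, c4, k2, k3, k4]
    simp [τ.T_zero, τ.cr_zero]
  have ha : w.a ≠ 0 := fun e0 => by
    have := (key u hu).1
    rw [h1, e0] at this
    simp [Tw.N] at this
  have h2 := τ.sh_ne ha
  have h3 : τ.sh w.a⁻¹ = (τ.sh w.a)⁻¹ := by simp [Tw.sh, mul_comm]
  have h4 : τ.N w.a⁻¹ = (τ.N w.a)⁻¹ := by rw [← τ.mul_sh, ← τ.mul_sh, h3, mul_inv]
  refine ⟨w.a⁻¹, fun x hx => ?_⟩
  obtain ⟨c1, c2, c3⟩ := key x hx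
  rw [c1, c2, h3, h4, ← τ.mul_sh]
  refine ⟨by field_simp, ?_, by field_simp⟩
  rw [c3]; field_simp

theorem cm (h : ∀ y ∈ X, ⁅x, y⁆ ∈ Y) (hy : y ∈ cj n X) : ⁅n * x * n⁻¹, y⁆ ∈ cj n Y := by
  obtain ⟨y, hy', rfl⟩ := mem_cj'.1 hy
  rw [← conjugate_commutatorElement]
  exact conj_mem_cj n (h y hy')

/-- the formula -/
def Fm (M : Md G τ) (c0 d : K) (g : G) : Prop :=
  ∀ x y : U τ, x.a = 0 → g * M.ι x * g⁻¹ = M.ι y → ss c0 y = ss c0 x ∧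
    cs c0 y = cs c0 x + ss c0 x * d ∧ y.b = x.b + τ.cr d (cs c0 x) + ss c0 x * τ.sh d ∧
    y.t = x.t + τ.T (d * x.b) + τ.T (τ.sh d * cs c0 x) + ss c0 x * τ.N d

theorem cZ (hA : A.S2 M c0 0) (hx : x ∈ M.S) : A.n1 * x * A.n1⁻¹ ∈ C[M.Z] :=
  conj_mem (norm_C le_rfl (M.nQ1_Z hA.n1Q)) (M.S_CZ hx)

theorem fm (hA : A.S2 M c0 0) (h : M.Gd) (hx : x ∈ M.S) : ∃ d, Fm M c0 d (A.n1 * x * A.n1⁻¹) := by
  set g := A.n1 * x * A.n1⁻¹ with hg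
  have gQ : g ∈ N[M.Q1] := mul_mem (mul_mem hA.n1Q (M.S_N.2.2.2.2.1 hx)) (inv_mem hA.n1Q)
  have gZ : g ∈ C[M.Z] := cZ hA hx
  have ex : ∀ u : U τ, ∃ v : U τ, u.a = 0 → v.a = 0 ∧ g * M.ι u * g⁻¹ = M.ι v := fun u => by
    by_cases hu : u.a = 0
    · obtain ⟨v, h1, h2⟩ := conj_mem gQ (M.ι_Q1.2 hu)
      exact ⟨v, fun _ => ⟨h1, h2.symm⟩⟩
    · exact ⟨1, fun h => absurd h hu⟩
  choose φ hφ using ex
  have mul : ∀ u v : U τ, u.a = 0 → v.a = 0 → φ (u * v) = φ u * φ v := fun u v hu hv => M.inj (by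
    rw [← (hφ _ (a_mul hu hv)).2, map_mul, map_mul, ← (hφ u hu).2, ← (hφ v hv).2]; group)
  have fac : ∀ (X : Subgroup G) (B : Subgroup (U τ)) (u : U τ), u.a = 0 →
      ⁅g, M.ι u⁆ ∈ B.map M.ι → ∃ w ∈ B, φ u = w * u := fun X B u hu ⟨w, hw, e⟩ =>
    ⟨w, hw, M.inj (by rw [← (hφ u hu).2, map_mul, e, commutatorElement_def]; group)⟩
  have F0 : ∀ u : U τ, u.a = 0 → ss c0 (φ u) = ss c0 u := fun u hu => by
    obtain ⟨w, hw, e⟩ := fac ⊤ (Yn τ c0) u hu (cjY hA ▸ cm (X := M.Q1)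
      (fun y hy => M.cSS hx (M.Q1_S hy)) ((mem_N_iff_cj.1 hA.n1Q).ge (M.ι_Q1.2 hu)))
    rw [e, ss_mul hw.1, hw.2, zero_add]
  have F1 : ∀ u ∈ Yn τ c0, cs c0 (φ u) = cs c0 u := fun u hu => by
    obtain ⟨w, hw, e⟩ := fac ⊤ (Wn τ c0) u hu.1 (cjW hA ▸ cm (X := M.Y)
      (fun y hy => M.cSY hx hy) ((cjY hA).ge ⟨u, hu, rfl⟩))
    rw [e, cs_mul hw.1.1, hw.2, zero_add]
  have F2 : ∀ u ∈ Wn τ c0, (φ u).b = u.b := fun u hu => by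
    obtain ⟨w, hw, e⟩ := fac ⊤ (Vn τ c0) u hu.1.1 (cjV hA ▸ cm (X := M.W)
      (fun y hy => M.cSW hx hy) ((cjW hA).ge ⟨u, hu, rfl⟩))
    rw [e, b_mul hw.1.1.1, hw.2, zero_add]
  have Ff : ∀ u v : U τ, u.a = 0 → v.a = 0 → ⁅φ u, φ v⁆ = ⁅u, v⁆ := fun u v hu hv => M.inj (by
    rw [map_commutatorElement, map_commutatorElement, ← (hφ u hu).2, ← (hφ v hv).2,
      ← conjugate_commutatorElement, mem_C'.1 gZ _ (M.c11 (M.ι_Q1.2 hu) (M.ι_Q1.2 hv)),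
      mul_inv_cancel_right])
  have fs : ∀ u : U τ, τ.σ (ss c0 u) = ss c0 u := fun u => by rw [ss, map_add, u.hs, τ.σ_T]
  have mV : ∀ k ∈ N[M.Q1], ∀ u : U τ, u.a = 0 → M.ι u ∈ cj k M.V → M.ι (φ u) ∈ cj (g * k) M.V :=
    fun k hk u hu e => by rw [← (hφ u hu).2, cj_mul]; exact conj_mem_cj g e
  have s2 : ∀ s : τ.F, ss c0 (U.x2 s) = s ∧ cs c0 (U.x2 s) = 0 ∧ M.ι (U.x2 s) ∈ cj 1 M.V :=
    fun s => ⟨by simp [ss, U.x2, τ.T_zero], by simp [cs, U.x2],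
      by rw [cj_one]; exact M.ι_V.2 ⟨rfl, rfl, rfl, rfl⟩⟩
  obtain ⟨d, hd⟩ := line hA h (mul_mem gQ (one_mem _)) (mV 1 (one_mem _) _ rfl (s2 1).2.2)
    (by rw [F0 _ rfl, (s2 1).1]; rfl)
  have G2 : ∀ s : τ.F, cs c0 (φ (U.x2 s)) = s * d ∧ (φ (U.x2 s)).b = s * τ.sh d ∧
      (φ (U.x2 s)).t = s * τ.N d := fun s => by
    have := hd _ (mV 1 (one_mem _) _ rfl (s2 s).2.2)
    rwa [F0 _ rfl, (s2 s).1] at this
  have y2 : ∀ u : U τ, u.a = 0 → U.x2 ⟨ss c0 u, fs u⟩ * u ∈ Yn τ c0 := fun u hu =>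
    ⟨a_mul rfl hu, by rw [ss_mul rfl, (s2 _).1, CharTwo.add_self_eq_zero]⟩
  have G1 : ∀ u : U τ, u.a = 0 → cs c0 (φ u) = cs c0 u + ss c0 u * d := fun u hu => by
    have := F1 _ (y2 u hu)
    rw [mul _ _ rfl hu, cs_mul (hφ _ rfl).1, cs_mul rfl, (G2 _).1, (s2 _).2.1] at this
    linear_combination (exp := 1) this - CharTwo.add_self_eq_zero (ss c0 u * d)
  have s3 : ∀ c, ss c0 (U.x3 τ c) = 0 ∧ cs c0 (U.x3 τ c) = c := fun c =>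
    ⟨by simp [ss, U.x3, τ.T_zero], by simp [cs, U.x3]⟩
  have G0 : ∀ u : U τ, u.a = 0 →
      (φ u).b = u.b + (φ (U.x3 τ (cs c0 u))).b + ss c0 u * τ.sh d := fun u hu => by
    have h1 := y2 u hu
    have h2 : U.x3 τ (cs c0 u) * (U.x2 ⟨ss c0 u, fs u⟩ * u) ∈ Wn τ c0 :=
      ⟨mul_mem ⟨rfl, (s3 _).1⟩ h1, by
        rw [cs_mul rfl, cs_mul rfl, (s3 _).2, (s2 _).2.1, zero_add, CharTwo.add_self_eq_zero]⟩
    have := F2 _ h2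
    rw [mul _ _ rfl h1.1, mul _ _ rfl hu, b_mul (hφ _ rfl).1, b_mul (hφ _ rfl).1, b_mul rfl,
      b_mul rfl, (G2 _).2.1] at this
    have e1 : (U.x3 τ (cs c0 u)).b = 0 := rfl
    have e2 : (U.x2 ⟨ss c0 u, fs u⟩ : U τ).b = 0 := rfl
    rw [e1, e2] at this
    linear_combination (exp := 1) this - CharTwo.add_self_eq_zero (ss c0 u * τ.sh d) -
      CharTwo.add_self_eq_zero (φ (U.x3 τ (cs c0 u))).b
  have G3 : ∀ c, (φ (U.x3 τ c)).b = τ.cr d c := fun c => by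
    by_cases hc : c = 0
    · rw [F2 _ ⟨⟨rfl, (s3 _).1⟩, (s3 c).2.trans hc⟩, hc, τ.cr_zero]; rfl
    obtain ⟨p, hp, e⟩ := hA.on6 (τ.N c) (τ.σ_N c)
    obtain ⟨⟨⟨k1, k2⟩, k3⟩, k4⟩ := co6 hA hp
    obtain ⟨c1, c2, c3, c4⟩ := conj_co (c0 := c0) (U.x1 τ c⁻¹) k1
    have h2 := τ.sh_ne hc
    have h3 : τ.sh c⁻¹ = (τ.sh c)⁻¹ := by simp [Tw.sh, mul_comm]
    have h4 : τ.N c⁻¹ = (τ.N c)⁻¹ := by rw [← τ.mul_sh, ← τ.mul_sh, h3, mul_inv]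
    have e1 : (U.x1 τ c⁻¹).a = c⁻¹ := rfl
    rw [k2, k3, k4, e, e1, mul_zero, mul_zero, τ.T_zero, h4, mul_inv_cancel₀ (τ.N_ne hc)] at c1
    rw [k3, k4, e, e1, τ.cr_zero, h3, ← τ.mul_sh, mul_inv_cancel_right₀ h2] at c2
    rw [k4, e, e1, ← τ.mul_sh, mul_comm c, mul_inv_cancel_right₀ hc] at c3
    simp only [zero_add, add_zero] at c1 c2 c3
    set l := U.x1 τ c⁻¹ * p * (U.x1 τ c⁻¹)⁻¹ with hl
    have la : l.a = 0 := by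
      rw [hl, U.mul_a, U.mul_a, U.inv_a, k1, add_zero, CharTwo.add_self_eq_zero]
    have kQ : M.ι (U.x1 τ c⁻¹) * A.n1 ∈ N[M.Q1] := mul_mem (M.S_N.2.2.2.2.1 (M.ι_S _)) hA.n1Q
    have lV : M.ι l ∈ cj (M.ι (U.x1 τ c⁻¹) * A.n1) M.V := by
      rw [cj_mul, hl, map_mul, map_mul, map_inv]
      exact conj_mem_cj _ (cj_mono _ hA.le2 hp)
    have l1 : ss c0 (φ l) = 1 := by rw [F0 l la, c1]
    obtain ⟨d', hd'⟩ := line hA h (mul_mem gQ kQ) (mV _ kQ l la lV) l1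
    obtain ⟨e2, e3, -⟩ := hd' _ (mV _ kQ l la lV)
    rw [G1 l la, l1, c1, c2, one_mul, one_mul] at e2
    rw [G0 l la, l1, c1, c2, c3, one_mul, one_mul, ← e2] at e3
    have e4 : τ.sh (c + d) = τ.sh c + τ.cr d c + τ.sh d := by
      simp only [Tw.sh, Tw.cr, map_add]; ring
    linear_combination (exp := 1) e3 + e4
  refine ⟨d, fun u y hu e => ?_⟩
  obtain rfl : φ u = y := M.inj ((hφ u hu).2.symm.trans e)
  have hb := G0 u hu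
  rw [G3] at hb
  refine ⟨F0 u hu, G1 u hu, hb, ?_⟩
  have := congrArg U.r (Ff (U.x2 1) u rfl hu)
  rw [polar (c0 := c0) (hφ _ rfl).1 (hφ u hu).1, polar (c0 := c0) rfl hu, (G2 1).1, (G2 1).2.1,
    (G2 1).2.2, F0 (U.x2 1) rfl, F0 u hu, G1 u hu, hb, (s2 1).1, (s2 1).2.1] at this
  have e1 : (U.x2 1 : U τ).b = 0 := rfl
  have e2 : (U.x2 1 : U τ).t = 0 := rfl
  have e3 := fs u
  rw [e1, e2] at this
  simp only [OneMemClass.coe_one, Tw.T, Tw.N, Tw.sh, Tw.cr, map_add, map_mul, map_zero, map_one,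
    τ.three, e3] at this ⊢
  grind

theorem triv (hA : A.S2 M c0 0) (h : M.Gd) (hu : M.ι u ∈ A.R1 M)
    (hV : A.n1 * M.ι u * A.n1⁻¹ ∈ N[M.V]) : u.a = 0 := by
  have gQ : A.n1 * M.ι u * A.n1⁻¹ ∈ N[M.Q1] :=
    mul_mem (mul_mem hA.n1Q (M.S_N.2.2.2.2.1 (M.ι_S u))) (inv_mem hA.n1Q)
  have h1 : A.n1 * M.ι u * A.n1⁻¹ ∈ M.S := (M.syl_of le_normalizer).mem_of_nml le_rfl
    ((M.twoS.piElt (M.ι_S u)).conj _) (h.nS1 ⟨gQ, hV⟩)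
  have h2 : A.n1 * M.ι u * A.n1⁻¹ ∈ N[cj A.n1 M.V] := by
    rw [← cj_N]; exact conj_mem_cj _ (M.S_N.2.1 (M.ι_S u))
  exact M.ι_Q1.1 ((H24.conj_mem_iff hA.n1Q).1 (M.nV1 h.big hA.n1Q hA.n1V ⟨h1, h2⟩))

end HC4ax

open HC4ax

/-! ### HC4a -/

/-- the action of `R₇ = R₁^(n₁)` on `Q₁ / Z` -/
theorem Ap.S2.r7 (hA : A.S2 M c0 0) (h : M.Gd) (d : K) : ∃ g ∈ cj A.n1 (A.R1 M), g ∈ C[M.Z] ∧
    ∀ x y, x.a = 0 → g * M.ι x * g⁻¹ = M.ι y →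
      y.s + τ.T (y.b * c0) = x.s + τ.T (x.b * c0) ∧
      y.c + c0 * y.t = x.c + c0 * x.t + (x.s + τ.T (x.b * c0)) * d ∧
      y.b = x.b + τ.cr d (x.c + c0 * x.t) + (x.s + τ.T (x.b * c0)) * τ.sh d ∧
      y.t = x.t + τ.T (d * x.b) + τ.T (τ.sh d * (x.c + c0 * x.t)) +
        (x.s + τ.T (x.b * c0)) * τ.N d := by
  choose p hp ha using hA.on1
  choose δ hδ using fun a => fm hA h (M.ι_S (p a))
  have gQ : ∀ a, A.n1 * M.ι (p a) * A.n1⁻¹ ∈ N[M.Q1] := fun a =>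
    mul_mem (mul_mem hA.n1Q (M.S_N.2.2.2.2.1 (M.ι_S _))) (Subgroup.inv_mem _ hA.n1Q)
  have inj : Function.Injective δ := fun a a' e => by
    have h1 : ((p a')⁻¹ * p a).a = 0 := by
      refine triv hA h (by rw [map_mul, map_inv]; exact mul_mem (Subgroup.inv_mem _ (hp a')) (hp a))
        (mem_N_of_finite ?_)
      rintro _ ⟨v, ⟨k1, k2, k3, k4⟩, rfl⟩
      obtain ⟨y, ya, ey⟩ := conj_mem (gQ a) (M.ι_Q1.2 k1)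
      obtain ⟨w, wa, ew⟩ := conj_mem' (gQ a') (M.ι_Q1.2 ya)
      obtain ⟨c1, c2, c3, c4⟩ := hδ a v y k1 ey.symm
      obtain ⟨d1, d2, d3, d4⟩ := hδ a' w y wa (by rw [ew]; group)
      have e0 : HC4ax.cs c0 v = 0 := by simp [HC4ax.cs, k2, k4]
      rw [← e, ← d1, c1] at d2 d3 d4
      have e1 : HC4ax.cs c0 w = 0 := by linear_combination (exp := 1) c2 - d2 + e0
      rw [e1, ← e0] at d3 d4
      have e2 : w.b = 0 := by linear_combination (exp := 1) c3 - d3 + k3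
      rw [e2, ← k3] at d4
      have e3 : w.t = 0 := by linear_combination (exp := 1) c4 - d4 + k4
      have : M.ι w ∈ M.V := M.ι_V.2 ⟨wa, by simpa [HC4ax.cs, e3] using e1, e2, e3⟩
      rw [ew, ey] at this
      convert this using 1
      rw [map_mul, map_inv]; group
    rw [U.mul_a, U.inv_a, ha, ha] at h1
    linear_combination (exp := 1) h1 - CharTwo.add_self_eq_zero a'
  obtain ⟨a, rfl⟩ := Finite.surjective_of_injective inj d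
  exact ⟨_, conj_mem_cj _ (hp a), cZ hA (M.ι_S _), hδ a⟩

end H27.HX
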