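import Mathlib
import Cfsg.Prelude.Def_LieTwisted
import Cfsg.Prelude.Def_CaseTheorems
import Cfsg.Agent.H27.HX1
import Cfsg.Agent.H27.HC4a

set_option autoImplicit false
set_option linter.unusedVariables false
set_option linter.unusedSectionVars false
set_option linter.unusedSimpArgs false

namespace H27.HX

open Cfsg H24 H26 H26.Gold H26.LM Subgroup
open scoped commutatorElement

universe u v

variable {G : Type u} [Group G] [Finite G] {K : Type} [Field K] [Finite K] [CharP K 2] {τ : Tw K}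
  {M M' M'' : Md G τ} {A : Ap G} {H S E M0 R X X' Y L D N0 P J : Subgroup G} {𝒟 : Set G}
  {g h j k l n s t x y z : G} {a a' b c c0 e f : K} {u v w : U τ}

namespace HC4x

/-- coordinates of `Q₁ / Z` -/
def κ (c0 : K) (x : U τ) : K × K × K × K := (x.s + τ.T (x.b * c0), x.c + c0 * x.t, x.b, x.t)

/-- `g` acts on `Q₁ / Z` by `φ` -/
structure Act (M : Md G τ) (c0 : K) (g : G) (φ : K × K × K × K → K × K × K × K) : Prop where
  nQ : g ∈ N[M.Q1]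
  cZ : g ∈ C[M.Z]
  act : ∀ x y : U τ, x.a = 0 → g * M.ι x * g⁻¹ = M.ι y → κ c0 y = φ (κ c0 x)

variable {φ ψ : K × K × K × K → K × K × K × K}

theorem ex (hg : g ∈ N[M.Q1]) (hx : u.a = 0) : ∃ v : U τ, v.a = 0 ∧ g * M.ι u * g⁻¹ = M.ι v := by
  obtain ⟨v, h1, h2⟩ := (mem_N.1 hg _).1 (M.ι_Q1.2 hx)
  exact ⟨v, h1, h2.symm⟩

theorem a0 (hg : g ∈ N[M.Q1]) (hx : u.a = 0) (e : g * M.ι u * g⁻¹ = M.ι v) : v.a = 0 :=
  M.ι_Q1.1 (e ▸ (mem_N.1 hg _).1 (M.ι_Q1.2 hx))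

theorem Act.mul (h : Act M c0 g φ) (h' : Act M c0 k ψ) : Act M c0 (g * k) (φ ∘ ψ) := by
  refine ⟨mul_mem h.nQ h'.nQ, mul_mem h.cZ h'.cZ, fun x y hx e => ?_⟩
  obtain ⟨z, hz, ez⟩ := ex h'.nQ hx
  rw [Function.comp, ← h'.act x z hx ez]
  exact h.act z y hz (by rw [← ez, ← e]; group)

theorem Act.congr (h : Act M c0 g φ)
    (e : ∀ s c b t, τ.σ s = s → τ.σ t = t → φ (s, c, b, t) = ψ (s, c, b, t)) : Act M c0 g ψ :=
  ⟨h.nQ, h.cZ, fun x y hx e' => (h.act x y hx e').trans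
    (e _ _ _ _ (by rw [map_add, x.hs, τ.σ_T]) x.ht)⟩

/-- the action of `x₁(a)` -/
def X1 (τ : Tw K) (a : K) (v : K × K × K × K) : K × K × K × K :=
  (v.1 + τ.T (a * v.2.1) + τ.T (τ.sh a * v.2.2.1) + v.2.2.2 * τ.N a,
    v.2.1 + τ.cr a v.2.2.1 + v.2.2.2 * τ.sh a, v.2.2.1 + v.2.2.2 * a, v.2.2.2)

/-- the action of `x₇(d)` -/
def X7 (τ : Tw K) (d : K) (v : K × K × K × K) : K × K × K × K :=
  (v.1, v.2.1 + v.1 * d, v.2.2.1 + τ.cr d v.2.1 + v.1 * τ.sh d,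
    v.2.2.2 + τ.T (d * v.2.2.1) + τ.T (τ.sh d * v.2.1) + v.1 * τ.N d)

/-- the action of `m_l` -/
def Mm (τ : Tw K) (l : K) (v : K × K × K × K) : K × K × K × K :=
  (τ.N l * v.2.2.2, τ.N l * (l ^ 2)⁻¹ * v.2.2.1, l ^ 2 * (τ.N l)⁻¹ * v.2.1, (τ.N l)⁻¹ * v.1)

theorem actS (M : Md G τ) (c0 : K) (p : U τ) : Act M c0 (M.ι p) (X1 τ p.a) := by
  refine ⟨M.S_N.2.2.2.2.1 (M.ι_S p), M.S_CZ (M.ι_S p), fun x y hx e => ?_⟩
  rw [← map_inv, ← map_mul, ← map_mul] at e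
  rw [← M.inj e]
  simp only [κ, X1, Prod.mk.injEq]
  refine ⟨?_, ?_, ?_, ?_⟩ <;>
  simp only [U.mul_a, U.mul_s, U.mul_c, U.mul_b, U.mul_t, U.inv_a, U.inv_s, U.inv_c, U.inv_b, U.inv_t,
    hx, Tw.T, Tw.N, Tw.sh, Tw.cr, map_add, map_mul, map_zero, τ.three, x.hs, x.ht, p.ht, p.hs] <;> grind

theorem actQ (hs : s ∈ M.Q1) : Act M c0 s id := by
  obtain ⟨p, hp, rfl⟩ := hs
  refine (actS M c0 p).congr fun s c b t _ _ => ?_
  have : p.a = 0 := hp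
  simp [X1, this, Tw.T, Tw.N, Tw.sh, Tw.cr]

theorem red (h : Act M c0 (s * n) φ) (hs : s ∈ M.Q1) : Act M c0 n φ := by
  have := (actQ (c0 := c0) (Subgroup.inv_mem _ hs)).mul h
  rwa [inv_mul_cancel_left] at this

theorem act7 (hA : A.S2 M c0 0) (h : M.Gd) (d : K) : ∃ g, Act M c0 g (X7 τ d) := by
  obtain ⟨g, hg, hZ, ha⟩ := hA.r7 h d
  refine ⟨g, ?_, hZ, fun x y hx e => ?_⟩
  · obtain ⟨r, hr, rfl⟩ := mem_cj'.1 hg
    exact mul_mem (mul_mem hA.n1Q (M.S_N.2.2.2.2.1 (M.Q2_S (hA.le1 hr)))) (Subgroup.inv_mem _ hA.n1Q)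
  · obtain ⟨h1, h2, h3, h4⟩ := ha x y hx e
    simp only [κ, X7, Prod.mk.injEq]
    exact ⟨h1, h2, h3, h4⟩

theorem mm_eq (τ : Tw K) {l : K} (hl : l ≠ 0) (s c b t : K) (hs : τ.σ s = s) (ht : τ.σ t = t) :
    (X7 τ l⁻¹ ∘ X1 τ l ∘ X7 τ l⁻¹) (s, c, b, t) = Mm τ l (s, c, b, t) := by
  have h1 : τ.σ l ≠ 0 := (map_ne_zero _).2 hl
  have h2 : τ.σ (τ.σ l) ≠ 0 := (map_ne_zero _).2 h1
  simp only [Function.comp, X7, X1, Mm, Prod.mk.injEq, Tw.T, Tw.N, Tw.sh, Tw.cr, map_add, map_mul,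
    map_inv₀, τ.three, hs, ht]
  generalize τ.σ (τ.σ l) = l2 at *
  generalize τ.σ l = l1 at *
  generalize τ.σ (τ.σ b) = b2 at *
  generalize τ.σ b = b1 at *
  generalize τ.σ (τ.σ c) = c2 at *
  generalize τ.σ c = c1 at *
  refine ⟨?_, ?_, ?_, ?_⟩ <;> field_simp <;> grind

theorem actM (hA : A.S2 M c0 0) (h : M.Gd) (hl : a ≠ 0) : ∃ g, Act M c0 g (Mm τ a) := by
  obtain ⟨g, hg⟩ := act7 hA h a⁻¹
  exact ⟨_, (hg.mul ((actS M c0 (U.x1 τ a)).mul hg)).congr (mm_eq τ hl)⟩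

theorem κ6 (hA : A.S2 M c0 0) (hu : M.ι u ∈ A.R6 M) : u.a = 0 ∧ κ c0 u = (0, 0, 0, u.t) := by
  obtain ⟨h1, h2, h3⟩ := hA.sh6 u hu
  refine ⟨M.ι_Q1.1 (hA.le6 hu), ?_⟩
  simp only [κ, h1, h2, h3, zero_mul, Tw.T_zero, add_zero, CharTwo.add_self_eq_zero]

theorem κV (hu : u.a = 0) (h : (κ c0 u).2 = 0) : M.ι u ∈ M.V := by
  simp only [κ, Prod.ext_iff, Prod.fst_zero, Prod.snd_zero] at h
  exact M.ι_V.2 ⟨hu, by simpa [h.2.2] using h.1, h.2.1, h.2.2⟩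

theorem Vκ (h : M.ι u ∈ M.V) : u.a = 0 ∧ κ c0 u = (u.s, 0, 0, 0) := by
  obtain ⟨h1, h2, h3, h4⟩ := M.ι_V.1 h
  exact ⟨h1, by simp only [κ, h2, h3, h4, zero_mul, mul_zero, Tw.T_zero, add_zero]⟩

/-- the `S`-part of a factorisation lies in `Q₁` -/
theorem inQ (hA : A.S2 M c0 0) (h : Act M c0 (s * n) φ) (hs : s ∈ M.S) (hu : u.a = 0) (h1 : u ≠ 1)
    (h6 : n * M.ι u * n⁻¹ ∈ A.R6 M) (hφ : (φ (κ c0 u)).2.2.1 = 0) : s ∈ M.Q1 := by
  obtain ⟨p, rfl⟩ := hs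
  obtain ⟨w, -, ew⟩ := hA.le6 h6
  rw [← ew] at h6
  obtain ⟨wa, wk⟩ := κ6 hA h6
  have wt : w.t ≠ 0 := fun e => h1 (M.inj (by
    rw [hA.in6 w h6 e, map_one] at ew
    rw [map_one]; exact conj_eq_one_iff.1 ew.symm))
  have e1 := h.act u (p * w * p⁻¹) hu (by rw [map_mul, map_mul, map_inv, ew]; group)
  have e2 := (actS M c0 p).act w (p * w * p⁻¹) wa (by rw [map_mul, map_mul, map_inv])
  rw [← e1, e2, wk] at hφ
  simp only [X1, zero_add, mul_eq_zero, wt, false_or] at hφ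
  exact M.ι_Q1.2 hφ

theorem HV (hA : A.S2 M c0 0) (h : M.Gd) : A.H ≤ N[M.V] := hA.HS.trans (M.nS_V h.big)

/-- elements fixing `V` and the class of `R₆` -/
theorem toH (hA : A.S2 M c0 0) (h : M.Gd) (hg : Act M c0 g φ) (hV : ∀ s, (φ (s, 0, 0, 0)).2 = 0)
    (h6 : (φ (0, 0, 0, 1)).2.2.1 = 0) : ∃ s ∈ M.Q1, ∃ k ∈ A.H, g = s * k ∧ Act M c0 k φ := by
  have gV : g ∈ N[M.V] := mem_N_of_finite fun x hx => by
    obtain ⟨u, -, rfl⟩ := id hx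
    obtain ⟨ua, uk⟩ := Vκ (c0 := c0) hx
    obtain ⟨v, va, e⟩ := ex hg.nQ ua
    rw [e]
    exact κV (c0 := c0) va (by rw [hg.act u v ua e, uk]; exact hV _)
  obtain ⟨s, hs, k, hk, rfl⟩ := hA.prod g (h.nS1 ⟨hg.nQ, gV⟩)
  obtain ⟨u, hu, ut⟩ := hA.on6 1 (map_one _)
  obtain ⟨ua, uk⟩ := κ6 hA hu
  have sQ := inQ hA hg hs ua (fun e => by rw [e] at ut; exact zero_ne_one ut)
    ((mem_N.1 (hA.H6 hk) _).1 hu) (by rw [uk, ut]; exact h6)
  exact ⟨s, sQ, k, hk, rfl, red hg sQ⟩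

theorem triv (hA : A.S2 M c0 0) (h : M.Gd) (hg : Act M c0 g id) : g ∈ M.Q1 := by
  obtain ⟨s, hs, k, hk, rfl, ha⟩ := toH hA h hg (fun _ => rfl) rfl
  refine mul_mem hs ?_
  have k2 : k * k ∈ M.Q1 := h.cQ1 (mem_C.2 fun x hx => by
    obtain ⟨u, ua, rfl⟩ := hx
    obtain ⟨v, va, e⟩ := ex ha.nQ ua
    have e1 := ha.act u v ua e
    simp only [κ, id, Prod.mk.injEq] at e1
    have ua' : u.a = 0 := ua
    have hz : M.ι (u⁻¹ * v) ∈ M.Z := M.ι_Z.2 (by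
      obtain ⟨e2, e3, e4, e5⟩ := e1
      rw [e4] at e2; rw [e5] at e3
      have e6 := add_right_cancel e2
      have e7 := add_right_cancel e3
      simp only [U.mul_a, U.mul_s, U.mul_c, U.mul_b, U.mul_t, U.inv_a, U.inv_s, U.inv_c, U.inv_b,
        U.inv_t, ua', va, e4, e5, e6, e7, Tw.T, Tw.N, Tw.sh, Tw.cr, map_zero, map_mul, zero_mul, mul_zero,
        add_zero, CharTwo.add_self_eq_zero, and_self])
    have z2 := M.eaW.sq (M.V_W (M.Z_V hz))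
    have zc := mem_C.1 ha.cZ _ hz
    rw [map_mul, map_inv, ← e] at z2 zc
    generalize M.ι u = x at z2 zc ⊢
    have e3 : k * x * k⁻¹ = x * (x⁻¹ * (k * x * k⁻¹)) := by group
    generalize x⁻¹ * (k * x * k⁻¹) = z at z2 zc e3
    have e4 : k * x = x * z * k := by rw [← e3]; group
    calc x * (k * k) = x * (z * z) * (k * k) := by rw [z2, mul_one]
      _ = x * z * (z * k) * k := by group
      _ = x * z * (k * z) * k := by rw [zc]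
      _ = x * z * k * (z * k) := by group
      _ = k * x * (z * k) := by rw [e4]
      _ = k * (x * z * k) := by group
      _ = k * k * x := by rw [← e4, mul_assoc])
  obtain ⟨m, hm⟩ := oddE_iff.1 (IsPi.piElt hA.odd hk)
  have : k = (k * k) ^ (m + 1) := by
    rw [← sq, ← pow_mul, show 2 * (m + 1) = (2 * m + 1) + 1 by ring, pow_succ, ← hm,
      pow_orderOf_eq_one, one_mul]
  rw [this]; exact pow_mem k2 _

end HC4x

open HC4x

/-! ### HC4 -/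

theorem Ap.S2.t1 (hA : A.S2 M c0 0) (h : M.Gd) : A.T1 M c0 := by
  obtain ⟨m1, hm1⟩ := actM hA h one_ne_zero
  have N1 : τ.N 1 = 1 := by simp [Tw.N]
  constructor
  · intro l hl
    obtain ⟨m, hm⟩ := actM hA h hl
    obtain ⟨s, -, k, hk, -, ha⟩ := toH hA h (hm.mul hm1) (fun s => by simp [Mm]) (by simp [Mm])
    have hN := τ.N_ne hl
    have key : ∀ x y : U τ, x.a = 0 → k * M.ι x * k⁻¹ = M.ι y → y.t = (τ.N l)⁻¹ * x.t ∧
        y.b = l ^ 2 * (τ.N l)⁻¹ * x.b ∧ y.c + c0 * y.t = τ.N l * (l ^ 2)⁻¹ * (x.c + c0 * x.t) ∧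
        y.s + τ.T (y.b * c0) = τ.N l * (x.s + τ.T (x.b * c0)) := fun x y hx e => by
      have := ha.act x y hx e
      simp only [κ, Mm, Function.comp, N1, one_pow, inv_one, one_mul, Prod.mk.injEq] at this
      exact ⟨this.2.2.2, this.2.2.1, this.2.1, this.1⟩
    refine ⟨k, hk, ha.cZ, fun x y e => ⟨?_, fun hx => key x y hx e⟩⟩
    obtain ⟨v, va, ev⟩ := ex (u := U.x6 (τ := τ) 1) ha.nQ rfl
    have e1 := (key _ v rfl ev).1
    have e2 := (key ⁅x, U.x6 1⁆ ⁅y, v⁆ (U.comm_a _ _) (by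
      rw [map_commutatorElement, map_commutatorElement, ← e, ← ev]
      simp only [commutatorElement_def]; group)).2.1
    simp only [U.comm_b, e1, va, U.x6, OneMemClass.coe_one, mul_one, one_mul, mul_zero, add_zero] at e2
    field_simp at e2
    exact e2
  · have n1i : A.n1⁻¹ ∈ N[M.Q1] := Subgroup.inv_mem _ hA.n1Q
    have gV : m1 * A.n1⁻¹ ∈ N[M.V] := mem_N_of_finite fun x hx => by
      obtain ⟨u, -, rfl⟩ := id hx
      obtain ⟨r, hr, rs⟩ := hA.on2 u.s u.hs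
      have hz : M.ι (r⁻¹ * u) ∈ M.Z := M.ι_Z.2 (by
        obtain ⟨a1, a2, a3, a4⟩ := M.ι_V.1 hx
        obtain ⟨b1, b2, b3, b4⟩ := M.ι_V.1 (hA.le2 hr)
        simp only [U.mul_a, U.mul_s, U.mul_c, U.mul_b, U.mul_t, U.inv_a, U.inv_s, U.inv_c, U.inv_b,
          U.inv_t, a1, a2, a3, a4, b1, b2, b3, b4, rs, Tw.T, Tw.N, Tw.sh, Tw.cr, map_zero, map_mul,
          zero_mul, mul_zero, add_zero, CharTwo.add_self_eq_zero, and_self])
      have e : M.ι u = M.ι r * M.ι (r⁻¹ * u) := by rw [← map_mul, mul_inv_cancel_left]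
      rw [e, ← conj_mul]
      refine mul_mem ?_ (M.Z_V ((mem_N.1 (M.nQ1_Z (mul_mem hm1.nQ n1i)) _).1 hz))
      rw [← hA.c16, mem_cj] at hr
      obtain ⟨w, -, ew⟩ := hA.le6 hr
      rw [← ew] at hr
      obtain ⟨wa, wk⟩ := κ6 hA hr
      obtain ⟨v, va, ev⟩ := ex hm1.nQ wa
      have e' : m1 * A.n1⁻¹ * M.ι r * (m1 * A.n1⁻¹)⁻¹ = M.ι v := by rw [← ev, ew]; group
      rw [e']
      exact κV (c0 := c0) va (by rw [hm1.act w v wa ev, wk]; simp [Mm])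
    obtain ⟨s, hs, k, hk, e⟩ := hA.prod _ (h.nS1 ⟨mul_mem hm1.nQ n1i, gV⟩)
    have e1 : m1 = s * (k * A.n1) := by rw [← mul_assoc, ← e, inv_mul_cancel_right]
    rw [e1] at hm1
    obtain ⟨u, hu, us⟩ := hA.on2 1 (map_one _)
    obtain ⟨ua, uk⟩ := Vκ (c0 := c0) (hA.le2 hu)
    have sQ := inQ hA hm1 hs ua (fun e => by rw [e] at us; exact zero_ne_one us) (by
      have := (mem_N.1 (hA.H6 hk) _).1 (conj_mem_cj A.n1 hu)
      rwa [show k * (A.n1 * M.ι u * A.n1⁻¹) * k⁻¹ = k * A.n1 * M.ι u * (k * A.n1)⁻¹ by group] at this)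
      (by rw [uk]; simp [Mm])
    have ha := red hm1 sQ
    refine ⟨k, hk, ha.cZ, fun x y hx e => ?_, fun x _ xa => triv hA h ?_⟩
    · have := ha.act x y hx e
      simp only [κ, Mm, N1, one_pow, inv_one, one_mul, Prod.mk.injEq] at this
      exact ⟨this.2.2.2, this.2.2.1, this.2.1, this.1⟩
    · have h1 := (actS M c0 x).mul ha
      rw [xa] at h1
      rw [pow_three]
      refine (h1.mul (h1.mul h1)).congr fun s c b t hs ht => ?_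
      simp only [Function.comp, X1, Mm, N1, one_pow, inv_one, one_mul, id, Prod.mk.injEq, Tw.T, Tw.sh,
        Tw.cr, map_add, map_mul, map_one, τ.three, hs, ht, mul_one]
      refine ⟨?_, ?_, ?_, ?_⟩ <;> grind


end H27.HX
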