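import Mathlib
import Cfsg.Prelude.Def_LieTwisted
import Cfsg.Prelude.Def_CaseTheorems
import Cfsg.Agent.H27.HX1
import Cfsg.Agent.H27.HB

set_option autoImplicit false
set_option linter.unusedVariables false
set_option linter.unusedSectionVars false
set_option linter.unusedSimpArgs false

namespace H27.HX

open Cfsg H24 H26 H26.Gold H26.LM Subgroup
open scoped commutatorElement

universe u v

variable {G : Type u} [Group G] [Finite G] {K : Type} [Field K] [Finite K] [CharP K 2] {τ : Tw K}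
  {M M' M'' : Md G τ} {A : Ap G} {H S E M0 R X X' Y L D N0 P J : Subgroup G} {𝒟 : Set G}
  {g h j k l n s t x y z : G} {a a' b c c0 e f : K} {u v w : U τ}

/-! ### HM -/

namespace HMx
section
variable {y1 y3 y5 : K → G} {y2 y4 y6 : τ.F → G} (hR : Rel τ y1 y3 y5 y2 y4 y6)

theorem zero_of {A : Type} [AddGroup A] {y : A → G} (hy : ∀ a b, y (a + b) = y a * y b) : y 0 = 1 := by
  have := hy 0 0
  rw [add_zero] at this
  exact left_eq_mul.1 this

theorem sw {x y z : G} (e : ⁅x, y⁆ = z) (g : G) : x * (y * g) = z * (y * (x * g)) := by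
  rw [← e, commutatorElement_def]; group

theorem cm {x y : G} (e : Commute x y) (g : G) : y * (x * g) = x * (y * g) := by
  rw [← mul_assoc, ← e.eq, mul_assoc]

theorem ad {A : Type} [Add A] {y : A → G} (hy : ∀ a b, y (a + b) = y a * y b) (a b : A) (g : G) :
    y a * (y b * g) = y (a + b) * g := by rw [hy, mul_assoc]

include hR

theorem sq4 (r : τ.F) : y4 r * y4 r = 1 := by
  rw [← hR.a4, show r + r = 0 from Subtype.ext (CharTwo.add_self_eq_zero (r : K)), zero_of hR.a4]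

theorem r12 (a : K) (s : τ.F) (g : G) : y1 a * (y2 s * g) = y2 s * (y1 a * g) := (cm (hR.c12 a s) g).symm
theorem r13 (a c : K) (g : G) : y1 a * (y3 c * g) = y2 (τ.TF (a * c)) * (y3 c * (y1 a * g)) :=
  sw (hR.c13 a c) g
theorem r14 (a : K) (s : τ.F) (g : G) : y1 a * (y4 s * g) = y4 s * (y1 a * g) := (cm (hR.c14 a s) g).symm
theorem r15 (a b : K) (g : G) : y1 a * (y5 b * g) = y2 (τ.TF (τ.sh a * b)) * (y3 (τ.cr a b) *
    (y4 (τ.TF (a * τ.sh b)) * (y5 b * (y1 a * g)))) := by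
  rw [sw (hR.c15 a b) g]; simp only [mul_assoc]
theorem r16 (a : K) (t : τ.F) (g : G) : y1 a * (y6 t * g) = y2 (t * τ.NF a) * (y3 (t * τ.sh a) *
    (y4 (t ^ 2 * τ.NF a) * (y5 (t * a) * (y6 t * (y1 a * g))))) := by
  rw [sw (hR.c16 a t) g]; simp only [mul_assoc]
theorem r32 (c : K) (s : τ.F) (g : G) : y3 c * (y2 s * g) = y2 s * (y3 c * g) := cm (hR.c23 s c) g
theorem r42 (r s : τ.F) (g : G) : y4 r * (y2 s * g) = y2 s * (y4 r * g) := cm (hR.c24 s r) g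
theorem r52 (b : K) (s : τ.F) (g : G) : y5 b * (y2 s * g) = y2 s * (y5 b * g) := cm (hR.c25 s b) g
theorem r43 (r : τ.F) (c : K) (g : G) : y4 r * (y3 c * g) = y3 c * (y4 r * g) := cm (hR.c34 c r) g
theorem r63 (t : τ.F) (c : K) (g : G) : y6 t * (y3 c * g) = y3 c * (y6 t * g) := cm (hR.c36 c t) g
theorem r54 (b : K) (r : τ.F) (g : G) : y5 b * (y4 r * g) = y4 r * (y5 b * g) := cm (hR.c45 r b) g
theorem r64 (t r : τ.F) (g : G) : y6 t * (y4 r * g) = y4 r * (y6 t * g) := cm (hR.c46 r t) g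
theorem r65 (t : τ.F) (b : K) (g : G) : y6 t * (y5 b * g) = y5 b * (y6 t * g) := cm (hR.c56 b t) g
theorem r53 (b c : K) (g : G) : y5 b * (y3 c * g) = y3 c * (y4 (τ.TF (b * c)) * (y5 b * g)) := by
  rw [← r43 hR, sw (hR.c35 c b) g, ← mul_assoc (y4 _), sq4 hR, one_mul]
theorem r62 (t s : τ.F) (g : G) : y6 t * (y2 s * g) = y2 s * (y4 (s * t) * (y6 t * g)) := by
  rw [← r42 hR, sw (hR.c26 s t) g, ← mul_assoc (y4 _), sq4 hR, one_mul]

end

/-- the normal form -/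
def nf (y1 y3 y5 : K → G) (y2 y4 y6 : τ.F → G) (u : U τ) : G :=
  y2 ⟨u.s, u.hs⟩ * (y3 u.c * (y4 ⟨u.r, u.hr⟩ * (y5 u.b * (y6 ⟨u.t, u.ht⟩ * (y1 u.a * 1)))))

theorem nf_congr {y1 y3 y5 : K → G} {y2 y4 y6 : τ.F → G} {s s' r r' t t' : τ.F} {a a' b b' c c' : K}
    (h2 : (s : K) = s') (h3 : c = c') (h4 : (r : K) = r') (h5 : b = b') (h6 : (t : K) = t') (h1 : a = a') :
    y2 s * (y3 c * (y4 r * (y5 b * (y6 t * (y1 a * 1))))) =
      y2 s' * (y3 c' * (y4 r' * (y5 b' * (y6 t' * (y1 a' * 1))))) := by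
  rw [Subtype.ext h2, h3, Subtype.ext h4, h5, Subtype.ext h6, h1]

theorem nf_mul {y1 y3 y5 : K → G} {y2 y4 y6 : τ.F → G} (h : Rel τ y1 y3 y5 y2 y4 y6) (u v : U τ) :
    nf y1 y3 y5 y2 y4 y6 (u * v) = nf y1 y3 y5 y2 y4 y6 u * nf y1 y3 y5 y2 y4 y6 v := by
  symm
  simp only [nf, mul_assoc, one_mul]
  simp only [r12 h, r13 h, r14 h, r15 h, r16 h, r32 h, r42 h, r52 h, r43 h, r63 h, r54 h, r64 h, r65 h,
    r53 h, r62 h, ad h.a1, ad h.a2, ad h.a3, ad h.a4, ad h.a5, ad h.a6]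
  refine nf_congr ?_ ?_ ?_ ?_ ?_ ?_ <;>
    simp only [U.mul_a, U.mul_s, U.mul_c, U.mul_r, U.mul_b, U.mul_t, Subfield.coe_add, Subfield.coe_mul,
      SubmonoidClass.coe_pow, Tw.TF, Tw.NF, Tw.T, Tw.N, Tw.sh, Tw.cr, map_add, map_mul, τ.three, u.hs, u.ht,
      v.hs, v.ht] <;> grind

end HMx

theorem Rel.hom {y1 y3 y5 : K → G} {y2 y4 y6 : τ.F → G} (h : Rel τ y1 y3 y5 y2 y4 y6) :
    ∃ φ : U τ →* G, (∀ a, φ (U.x1 τ a) = y1 a) ∧ (∀ s, φ (U.x2 s) = y2 s) ∧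
      (∀ c, φ (U.x3 τ c) = y3 c) ∧ (∀ r, φ (U.x4 r) = y4 r) ∧ (∀ b, φ (U.x5 τ b) = y5 b) ∧
      ∀ t, φ (U.x6 t) = y6 t := by
  have z1 := HMx.zero_of h.a1
  have z2 := HMx.zero_of h.a2
  have z3 := HMx.zero_of h.a3
  have z4 := HMx.zero_of h.a4
  have z5 := HMx.zero_of h.a5
  have z6 := HMx.zero_of h.a6
  refine ⟨MonoidHom.mk' (HMx.nf y1 y3 y5 y2 y4 y6) (HMx.nf_mul h), fun p => ?_, fun p => ?_, fun p => ?_,
    fun p => ?_, fun p => ?_, fun p => ?_⟩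
  · show y2 0 * (y3 0 * (y4 0 * (y5 0 * (y6 0 * (y1 p * 1))))) = _
    simp only [z1, z2, z3, z4, z5, z6, one_mul, mul_one]
  · show y2 p * (y3 0 * (y4 0 * (y5 0 * (y6 0 * (y1 0 * 1))))) = _
    simp only [z1, z2, z3, z4, z5, z6, one_mul, mul_one]
  · show y2 0 * (y3 p * (y4 0 * (y5 0 * (y6 0 * (y1 0 * 1))))) = _
    simp only [z1, z2, z3, z4, z5, z6, one_mul, mul_one]
  · show y2 0 * (y3 0 * (y4 p * (y5 0 * (y6 0 * (y1 0 * 1))))) = _
    simp only [z1, z2, z3, z4, z5, z6, one_mul, mul_one]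
  · show y2 0 * (y3 0 * (y4 0 * (y5 p * (y6 0 * (y1 0 * 1))))) = _
    simp only [z1, z2, z3, z4, z5, z6, one_mul, mul_one]
  · show y2 0 * (y3 0 * (y4 0 * (y5 0 * (y6 p * (y1 0 * 1))))) = _
    simp only [z1, z2, z3, z4, z5, z6, one_mul, mul_one]

theorem U.inj_of (φ : U τ →* G) (h : ∀ r, φ (U.x4 r) = 1 → r = 0) : Function.Injective φ := by
  have hZ : ∀ u : U τ, φ u = 1 → u.a = 0 → u.s = 0 → u.c = 0 → u.b = 0 → u.t = 0 → u.r = 0 := by
    intro u hu h1 h2 h3 h5 h6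
    have e : u = U.x4 ⟨u.r, u.hr⟩ := by ext <;> simp [U.x4, *]
    exact congrArg Subtype.val (h _ (e ▸ hu))
  have hc : ∀ u v : U τ, φ u = 1 → φ ⁅u, v⁆ = 1 := fun u v hu => by
    rw [map_commutatorElement, hu, commutatorElement_one_left]
  have hc' : ∀ u v : U τ, φ u = 1 → φ ⁅v, u⁆ = 1 := fun u v hu => by
    rw [map_commutatorElement, hu, commutatorElement_one_right]
  -- elements of `W`
  have hW : ∀ u : U τ, φ u = 1 → u.a = 0 → u.b = 0 → u.t = 0 → u = 1 := by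
    intro u hu h1 h5 h6
    have k : ∀ x : U τ, x.a = 0 → x.t * u.s + τ.T (x.b * u.c) = 0 := fun x hx => by
      have := hZ _ (hc' u x hu) (U.comm_a _ _) (by simp [U.comm_s, Tw.T, Tw.N, Tw.sh, *])
        (by simp [U.comm_c, Tw.cr, Tw.sh, *]) (by simp [U.comm_b, *]) (U.comm_t _ _)
      rw [U.comm_rW x h1 h5 h6, hx] at this
      simpa [Tw.T] using this
    have h2 : u.s = 0 := by simpa [U.x6, Tw.T] using k (U.x6 1) rfl
    have h3 : u.c = 0 := τ.T_nd fun b => by simpa [U.x5, mul_comm] using k (U.x5 τ b) rfl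
    ext <;> simp [h1, h2, h3, h5, h6, hZ u hu h1 h2 h3 h5 h6]
  have hQ : ∀ u : U τ, φ u = 1 → u.a = 0 → u = 1 := by
    intro u hu h1
    have k : ∀ x : U τ, x.a = 0 → x.b = 0 → x.t = 0 → u.t * x.s + τ.T (u.b * x.c) = 0 :=
      fun x k1 k5 k6 => by
        have := congrArg U.r (hW _ (hc u x hu) (U.comm_a _ _) (by simp [U.comm_b, *]) (U.comm_t _ _))
        rw [U.comm_rW u k1 k5 k6, h1] at this
        simpa [Tw.T] using this
    have h6 : u.t = 0 := by simpa [U.x2, Tw.T] using k (U.x2 1) rfl rfl rfl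
    have h5 : u.b = 0 := τ.T_nd fun c => by simpa [U.x3] using k (U.x3 τ c) rfl rfl rfl
    exact hW u hu h1 h5 h6
  refine (injective_iff_map_eq_one φ).2 fun u hu => hQ u hu ?_
  have := congrArg U.b (hQ _ (hc u (U.x6 1) hu) (U.comm_a _ _))
  simpa [U.comm_b, U.x6] using this



end H27.HX
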