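import Mathlib
import Cfsg.Prelude.Def_LieTwisted
import Cfsg.Prelude.Def_CaseTheorems
import Cfsg.Agent.H27.HX1
import Cfsg.Agent.H27.HM
import Cfsg.Agent.H27.HC2
import Cfsg.Agent.H27.HC2b

set_option autoImplicit false
set_option linter.unusedVariables false
set_option linter.unusedSectionVars false
set_option linter.unusedSimpArgs false

namespace H27.HX

open Cfsg H24 H26 H26.Gold H26.LM Subgroup
open scoped commutatorElement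

universe u v

variable {G : Type u} [Group G] [Finite G] {K : Type} [Field K] [Finite K] [CharP K 2] {τ : Tw K}
  {M M' M'' : Md G τ} {A : Ap G} {H S E M0 R X X' Y L D N0 P J : Subgroup G} {𝒟 : Set G}
  {g h j k l n s t x y z : G} {a a' b c c0 e f : K} {u v w : U τ}

namespace HC5x

theorem im (hx : M.ι u ∈ X) (hy : M.ι v ∈ X) : M.ι (u⁻¹ * v) ∈ X := by
  rw [map_mul, map_inv]; exact mul_mem (inv_mem hx) hy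

theorem mm (hx : M.ι u ∈ X) (hy : M.ι v ∈ X) : M.ι (u * v) ∈ X := by
  rw [map_mul]; exact mul_mem hx hy

theorem uq1 (hA : A.S1 M) (hx : M.ι u ∈ A.R1 M) (hy : M.ι v ∈ A.R1 M) (e : u.a = v.a) : u = v :=
  inv_mul_eq_one.1 (hA.in1 _ (im hx hy) (by simp only [U.mul_a, U.inv_a, e]; grind))
theorem uq6 (hA : A.S1 M) (hx : M.ι u ∈ A.R6 M) (hy : M.ι v ∈ A.R6 M) (e : u.t = v.t) : u = v :=
  inv_mul_eq_one.1 (hA.in6 _ (im hx hy) (by simp only [U.mul_t, U.inv_t, e]; grind))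
theorem uq5 (hA : A.S1 M) (hx : M.ι u ∈ A.R5 M) (hy : M.ι v ∈ A.R5 M) (e : u.b = v.b) : u = v :=
  inv_mul_eq_one.1 (hA.in5 _ (im hx hy) (by
    simp only [U.mul_b, U.inv_b, U.inv_a, e, (M.ι_Y.1 (hA.le5 hx)).1]; grind))
theorem uq3 (hA : A.S1 M) (hx : M.ι u ∈ A.R3 M) (hy : M.ι v ∈ A.R3 M) (e : u.c = v.c) : u = v :=
  inv_mul_eq_one.1 (hA.in3 _ (im hx hy) (by
    simp only [U.mul_c, U.inv_c, U.inv_a, e, (M.ι_W.1 hx.1.1).1, Tw.cr, Tw.sh, map_zero]; grind))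
theorem uq2 (hA : A.S1 M) (hx : M.ι u ∈ A.R2 M) (hy : M.ι v ∈ A.R2 M) (e : u.s = v.s) : u = v :=
  inv_mul_eq_one.1 (hA.in2 _ (im hx hy) (by
    simp only [U.mul_s, U.inv_s, U.inv_a, e, (M.ι_V.1 (hA.le2 hx)).1, Tw.T, Tw.N, Tw.sh, map_zero, zero_mul]
    grind))

theorem x2_mem (hA : A.S2 M c0 e) (s : τ.F) : M.ι (U.x2 s) ∈ A.R2 M := by
  obtain ⟨x, hx, e⟩ := hA.on2 s s.2
  obtain ⟨a1, a2, a3, a4⟩ := M.ι_V.1 (hA.le2 hx)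
  rwa [show U.x2 s = x by ext <;> simp [U.x2, hA.sh2 x hx, *]]

theorem exβ (hg : g ∈ N[M.S]) : ∃ β : U τ →* U τ, ∀ x, g * M.ι x * g⁻¹ = M.ι (β x) := by
  choose β hβ using fun x => M.mem_S.1 ((mem_N.1 hg _).1 (M.ι_S x))
  exact ⟨MonoidHom.mk' β fun x y => M.inj (by rw [map_mul, hβ, hβ, hβ, map_mul]; group), fun x => (hβ x).symm⟩

theorem βm {β : U τ →* U τ} (hβ : ∀ x, g * M.ι x * g⁻¹ = M.ι (β x)) (hg : g ∈ N[X]) (hu : M.ι u ∈ X) :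
    M.ι (β u) ∈ X := hβ u ▸ (mem_N.1 hg _).1 hu

/-- the elements of the root subgroups -/
structure Ys (A : Ap G) (M : Md G τ) (c0 : K) (y1 y3 y5 : K → U τ) (y6 : τ.F → U τ) : Prop where
  hA : A.S2 M c0 0
  m1 : ∀ a, M.ι (y1 a) ∈ A.R1 M
  m3 : ∀ a, M.ι (y3 a) ∈ A.R3 M
  m5 : ∀ a, M.ι (y5 a) ∈ A.R5 M
  m6 : ∀ a, M.ι (y6 a) ∈ A.R6 M
  a1 : ∀ a, (y1 a).a = a
  c3 : ∀ a, (y3 a).c = a
  b5 : ∀ a, (y5 a).b = a
  t6 : ∀ a, (y6 a).t = a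

namespace Ys
variable {y1 y3 y5 : K → U τ} {y6 : τ.F → U τ} (Yk : Ys A M c0 y1 y3 y5 y6)
include Yk

theorem c1 (a : K) : (y1 a).c = 0 := (Yk.hA.sh1 _ (Yk.m1 a)).1
theorem b1 (a : K) : (y1 a).b = 0 := (Yk.hA.sh1 _ (Yk.m1 a)).2
theorem t1 (a : K) : (y1 a).t = 0 := M.ι_Q2.1 (Yk.hA.le1 (Yk.m1 a))
theorem a3 (a : K) : (y3 a).a = 0 := (M.ι_W.1 (Yk.m3 a).1.1).1
theorem b3 (a : K) : (y3 a).b = 0 := (M.ι_W.1 (Yk.m3 a).1.1).2.1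
theorem t3 (a : K) : (y3 a).t = 0 := (M.ι_W.1 (Yk.m3 a).1.1).2.2
theorem s3 (a : K) : (y3 a).s = 0 := Yk.hA.sh3 _ (Yk.m3 a)
theorem a5 (a : K) : (y5 a).a = 0 := (M.ι_Y.1 (Yk.hA.le5 (Yk.m5 a))).1
theorem t5 (a : K) : (y5 a).t = 0 := (M.ι_Y.1 (Yk.hA.le5 (Yk.m5 a))).2
theorem s5 (a : K) : (y5 a).s = τ.T (a * c0) := by rw [(Yk.hA.sh5 _ (Yk.m5 a)).1, Yk.b5]
theorem c5 (a : K) : (y5 a).c = 0 := by rw [(Yk.hA.sh5 _ (Yk.m5 a)).2]; simp [Tw.cr]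
theorem a6 (a : τ.F) : (y6 a).a = 0 := M.ι_Q1.1 (Yk.hA.le6 (Yk.m6 a))
theorem s6 (a : τ.F) : (y6 a).s = 0 := (Yk.hA.sh6 _ (Yk.m6 a)).1
theorem b6 (a : τ.F) : (y6 a).b = 0 := (Yk.hA.sh6 _ (Yk.m6 a)).2.1
theorem c6 (a : τ.F) : (y6 a).c = c0 * a := by rw [(Yk.hA.sh6 _ (Yk.m6 a)).2.2, Yk.t6]

theorem ad1 (a b : K) : y1 (a + b) = y1 a * y1 b :=
  uq1 Yk.hA.toS1 (Yk.m1 _) (mm (Yk.m1 _) (Yk.m1 _)) (by simp only [U.mul_a, Yk.a1])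
theorem ad3 (a b : K) : y3 (a + b) = y3 a * y3 b :=
  uq3 Yk.hA.toS1 (Yk.m3 _) (mm (Yk.m3 _) (Yk.m3 _)) (by simp [U.mul_c, Yk.c3, Yk.a3, Yk.t3, Tw.cr])
theorem ad5 (a b : K) : y5 (a + b) = y5 a * y5 b :=
  uq5 Yk.hA.toS1 (Yk.m5 _) (mm (Yk.m5 _) (Yk.m5 _)) (by simp [U.mul_b, Yk.b5, Yk.t5])
theorem ad6 (a b : τ.F) : y6 (a + b) = y6 a * y6 b :=
  uq6 Yk.hA.toS1 (Yk.m6 _) (mm (Yk.m6 _) (Yk.m6 _)) (by simp [U.mul_t, Yk.t6])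

end Ys

theorem uco (τ : Tw K) : type_of% (And.intro (commutatorElement_def (G := U τ)) <| And.intro (U.mul_a (τ := τ)) <|
    And.intro (U.mul_s (τ := τ)) <| And.intro (U.mul_c (τ := τ)) <| And.intro (U.mul_r (τ := τ)) <|
    And.intro (U.mul_b (τ := τ)) <| And.intro (U.mul_t (τ := τ)) <| And.intro (U.inv_a (τ := τ)) <|
    And.intro (U.inv_s (τ := τ)) <| And.intro (U.inv_c (τ := τ)) <| And.intro (U.inv_r (τ := τ)) <|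
    And.intro (U.inv_b (τ := τ)) <| And.intro (U.inv_t (τ := τ)) <| And.intro τ.three <|
    And.intro (U.hs (τ := τ)) (U.ht (τ := τ))) :=
  ⟨commutatorElement_def, U.mul_a, U.mul_s, U.mul_c, U.mul_r, U.mul_b, U.mul_t, U.inv_a, U.inv_s, U.inv_c, U.inv_r,
    U.inv_b, U.inv_t, τ.three, U.hs, U.ht⟩

theorem Ys.co {y1 y3 y5 : K → U τ} {y6 : τ.F → U τ} (Yk : Ys A M c0 y1 y3 y5 y6) :
    (∀ a, (y1 a).a = a ∧ (y1 a).c = 0 ∧ (y1 a).b = 0 ∧ (y1 a).t = 0) ∧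
    (∀ a, (y3 a).a = 0 ∧ (y3 a).s = 0 ∧ (y3 a).c = a ∧ (y3 a).b = 0 ∧ (y3 a).t = 0) ∧
    (∀ a, (y5 a).a = 0 ∧ (y5 a).s = τ.T (a * c0) ∧ (y5 a).c = 0 ∧ (y5 a).b = a ∧ (y5 a).t = 0) ∧
    (∀ a, (y6 a).a = 0 ∧ (y6 a).s = 0 ∧ (y6 a).c = c0 * a ∧ (y6 a).b = 0 ∧ (y6 a).t = a) :=
  ⟨fun a => ⟨Yk.a1 a, Yk.c1 a, Yk.b1 a, Yk.t1 a⟩, fun a => ⟨Yk.a3 a, Yk.s3 a, Yk.c3 a, Yk.b3 a, Yk.t3 a⟩,
    fun a => ⟨Yk.a5 a, Yk.s5 a, Yk.c5 a, Yk.b5 a, Yk.t5 a⟩, fun a => ⟨Yk.a6 a, Yk.s6 a, Yk.c6 a, Yk.b6 a, Yk.t6 a⟩⟩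

namespace Ys
variable {y1 y3 y5 : K → U τ} {y6 : τ.F → U τ} (Yk : Ys A M c0 y1 y3 y5 y6)
include Yk

theorem r15 (a b : K) : ⁅y1 a, y5 b⁆ = U.x2 (τ.TF (τ.sh a * b)) * y3 (τ.cr a b) *
    U.x4 (τ.TF (a * τ.sh b) + ⟨(y3 (τ.cr a b)).r, U.hr _⟩) := by
  ext <;> simp only [uco τ, Yk.co, U.x2, U.x4, Subfield.coe_add, Subfield.coe_mul, SubmonoidClass.coe_pow, Tw.TF, Tw.NF, Tw.T, Tw.N, Tw.sh, Tw.cr, map_add, map_mul, map_zero, mul_zero, zero_mul, add_zero, zero_add] <;> grind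

/-- the defect -/
def Df (c0 : K) (y1 y3 y5 : K → U τ) (a : K) (t : τ.F) : τ.F :=
  t * ⟨(y1 a).s, U.hs _⟩ + t ^ 2 * τ.TF (a * c0) + ⟨(y3 (t * τ.sh a)).r, U.hr _⟩ + ⟨(y5 (t * a)).r, U.hr _⟩

theorem r16 (a : K) (t : τ.F) : ⁅y1 a, y6 t⁆ = U.x2 (t * τ.NF a) * y3 (t * τ.sh a) *
    U.x4 (t ^ 2 * τ.NF a + Df c0 y1 y3 y5 a t) * y5 (t * a) := by
  have ht : τ.σ t = t := t.2
  ext <;> simp only [Df] <;> simp only [uco τ, Yk.co, U.x2, U.x4, Subfield.coe_add, Subfield.coe_mul, SubmonoidClass.coe_pow, Tw.TF, Tw.NF, Tw.T, Tw.N, Tw.sh, Tw.cr, map_add, map_mul, map_zero, mul_zero, zero_mul, add_zero, zero_add] <;> (try simp only [ht]) <;> grind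

theorem z15 (h6 : A.T6 M) (hF : τ.BigF) (a b : K) : (y3 (τ.cr a b)).r = 0 := by
  obtain ⟨ν, hν, h0, h1⟩ := hF
  obtain ⟨g, hg, e⟩ := h6.tor ν hν h0
  obtain ⟨β, hβ⟩ := exβ (Yk.hA.HS hg)
  have e1 : β (y1 a) = y1 (ν⁻¹ * a) := uq1 Yk.hA.toS1 (βm hβ (Yk.hA.H1 hg) (Yk.m1 _)) (Yk.m1 _) (by
    rw [(e _ _ (hβ _)).2.1, Yk.a1, Yk.a1])
  have e5 : β (y5 b) = y5 (ν * b) := uq5 Yk.hA.toS1 (βm hβ (Yk.hA.H5 hg) (Yk.m5 _)) (Yk.m5 _) (by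
    rw [((e _ _ (hβ _)).2.2 (Yk.a5 _) (Yk.t5 _)).1, Yk.b5, Yk.b5])
  have e3 : ∀ c, β (y3 c) = y3 c := fun c => uq3 Yk.hA.toS1 (βm hβ (Yk.hA.H3 hg) (Yk.m3 _)) (Yk.m3 _)
    (((e _ _ (hβ _)).2.2 (Yk.a3 _) (Yk.t3 _)).2 (Yk.b3 _)).1
  have ec : τ.cr (ν⁻¹ * a) (ν * b) = τ.cr a b := by
    rw [Tw.cr_smul hν, τ.cr_comm, Tw.cr_smul (Tw.σ_inv hν), τ.cr_comm, mul_inv_cancel_left₀ h0]
  have w : ∀ a b, ((y3 (τ.cr a b))⁻¹ * ⁅y1 a, y5 b⁆).r = τ.T (a * τ.sh b) + (y3 (τ.cr a b)).r := fun a b => by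
    simp only [uco τ, Yk.co, U.x2, U.x4, Subfield.coe_add, Subfield.coe_mul, SubmonoidClass.coe_pow, Tw.TF, Tw.NF, Tw.T, Tw.N, Tw.sh, Tw.cr, map_add, map_mul, map_zero, mul_zero, zero_mul, add_zero, zero_add]; grind
  have := ((((e _ _ (hβ ((y3 (τ.cr a b))⁻¹ * ⁅y1 a, y5 b⁆))).2.2 (by simp only [uco τ, Yk.co, U.x2, U.x4, Subfield.coe_add, Subfield.coe_mul, SubmonoidClass.coe_pow, Tw.TF, Tw.NF, Tw.T, Tw.N, Tw.sh, Tw.cr, map_add, map_mul, map_zero, mul_zero, zero_mul, add_zero, zero_add]; grind) (by simp only [uco τ, Yk.co, U.x2, U.x4, Subfield.coe_add, Subfield.coe_mul, SubmonoidClass.coe_pow, Tw.TF, Tw.NF, Tw.T, Tw.N, Tw.sh, Tw.cr, map_add, map_mul, map_zero, mul_zero, zero_mul, add_zero, zero_add])).2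
    (by simp only [uco τ, Yk.co, U.x2, U.x4, Subfield.coe_add, Subfield.coe_mul, SubmonoidClass.coe_pow, Tw.TF, Tw.NF, Tw.T, Tw.N, Tw.sh, Tw.cr, map_add, map_mul, map_zero, mul_zero, zero_mul, add_zero, zero_add]; grind)).2 (by simp only [uco τ, Yk.co, U.x2, U.x4, Subfield.coe_add, Subfield.coe_mul, SubmonoidClass.coe_pow, Tw.TF, Tw.NF, Tw.T, Tw.N, Tw.sh, Tw.cr, map_add, map_mul, map_zero, mul_zero, zero_mul, add_zero, zero_add]; grind)).2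
  rw [map_mul, map_inv, map_commutatorElement, e1, e5, e3, w, ← ec, w, ec, τ.sh_mul, Tw.sh_fix hν,
    show ν⁻¹ * a * (ν ^ 2 * τ.sh b) = ν * (a * τ.sh b) by field_simp, Tw.T_smul hν] at this
  have : (ν + 1) * (y3 (τ.cr a b)).r = 0 := by grind
  exact (mul_eq_zero.1 this).resolve_left fun e => h1 (by grind)

theorem J_eq {β : U τ →* U τ} {a a' : K} {t t' ν : τ.F} (e1 : β (y1 a) = y1 a') (e6 : β (y6 t) = y6 t')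
    (e2 : β (U.x2 (t * τ.NF a)) = U.x2 (t' * τ.NF a')) (e3 : β (y3 (t * τ.sh a)) = y3 (t' * τ.sh a'))
    (e4 : ∀ r, β (U.x4 r) = U.x4 (ν * r)) (e5 : β (y5 (t * a)) = y5 (t' * a'))
    (e : t' ^ 2 * τ.NF a' = ν * (t ^ 2 * τ.NF a)) : Df c0 y1 y3 y5 a' t' = ν * Df c0 y1 y3 y5 a t := by
  have := congrArg β (Yk.r16 a t)
  rw [map_commutatorElement, map_mul, map_mul, map_mul, e1, e6, e2, e3, e4, e5, Yk.r16, mul_left_inj,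
    mul_right_inj, e, mul_add] at this
  exact add_left_cancel (Subtype.ext (congrArg U.r this))

theorem J1 (h1 : A.T1 M c0) {l : K} (hl : l ≠ 0) (a : K) (t : τ.F) :
    Df c0 y1 y3 y5 (l ^ 2 * a) ((τ.NF l)⁻¹ * t) = Df c0 y1 y3 y5 a t := by
  obtain ⟨g, hg, hZ, e⟩ := h1.tor l hl
  obtain ⟨β, hβ⟩ := exβ (Yk.hA.HS hg)
  have hN := τ.N_ne hl
  have cN : ((τ.NF l)⁻¹ * t : τ.F) = (τ.N l)⁻¹ * (t : K) := rfl
  refine (Yk.J_eq (β := β) (ν := 1) (uq1 Yk.hA.toS1 (βm hβ (Yk.hA.H1 hg) (Yk.m1 _)) (Yk.m1 _) ?_)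
    (uq6 Yk.hA.toS1 (βm hβ (Yk.hA.H6 hg) (Yk.m6 _)) (Yk.m6 _) ?_)
    (uq2 Yk.hA.toS1 (βm hβ (Yk.hA.H2 hg) (x2_mem Yk.hA _)) (x2_mem Yk.hA _) ?_)
    (uq3 Yk.hA.toS1 (βm hβ (Yk.hA.H3 hg) (Yk.m3 _)) (Yk.m3 _) ?_) (fun r => M.inj ?_)
    (uq5 Yk.hA.toS1 (βm hβ (Yk.hA.H5 hg) (Yk.m5 _)) (Yk.m5 _) ?_) (Subtype.ext ?_)).trans (one_mul _)
  · rw [(e _ _ (hβ _)).1, Yk.a1, Yk.a1]
  · rw [((e _ _ (hβ _)).2 (Yk.a6 _)).1, Yk.t6, Yk.t6, cN]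
  · obtain ⟨-, f1, -, f2⟩ := (e _ _ (hβ (U.x2 (t * τ.NF a)))).2 rfl
    rw [f1] at f2
    simp only [U.x2, mul_zero, zero_mul, τ.T_zero, add_zero, Subfield.coe_mul, Tw.NF] at f2 ⊢
    rw [f2, τ.N_mul, sq, τ.N_mul]
    change _ = (τ.N l)⁻¹ * _ * _
    field_simp
  · obtain ⟨f1, -, f2, -⟩ := (e _ _ (hβ (y3 (t * τ.sh a)))).2 (Yk.a3 _)
    rw [f1, Yk.t3, Yk.c3] at f2
    rw [Yk.c3, cN, τ.sh_mul, sq, τ.sh_mul]
    simp only [mul_zero, add_zero] at f2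
    rw [f2, ← τ.mul_sh l] 
    have := τ.sh_ne hl
    field_simp
  · rw [← hβ, one_mul, conj_eq_of_mem_C hZ (M.ι_Z.2 ⟨rfl, rfl, rfl, rfl, rfl⟩)]
  · rw [((e _ _ (hβ _)).2 (Yk.a5 _)).2.1, Yk.b5, Yk.b5, cN]; ring
  · simp only [Subfield.coe_mul, SubmonoidClass.coe_pow, cN, one_mul, Tw.NF, τ.N_mul, sq]
    change (τ.N l)⁻¹ * _ * ((τ.N l)⁻¹ * _) * _ = _
    field_simp

theorem J6 (h6 : A.T6 M) {ν : τ.F} (h0 : ν ≠ 0) (a : K) (t : τ.F) :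
    Df c0 y1 y3 y5 ((ν : K)⁻¹ * a) (ν ^ 2 * t) = ν * Df c0 y1 y3 y5 a t := by
  have h0' : (ν : K) ≠ 0 := fun e => h0 (Subtype.ext e)
  have hν : τ.σ ν = ν := ν.2
  obtain ⟨g, hg, e⟩ := h6.tor ν hν h0'
  obtain ⟨β, hβ⟩ := exβ (Yk.hA.HS hg)
  have cN : (ν ^ 2 * t : τ.F) = (ν : K) ^ 2 * (t : K) := rfl
  refine Yk.J_eq (β := β) (uq1 Yk.hA.toS1 (βm hβ (Yk.hA.H1 hg) (Yk.m1 _)) (Yk.m1 _) ?_)
    (uq6 Yk.hA.toS1 (βm hβ (Yk.hA.H6 hg) (Yk.m6 _)) (Yk.m6 _) ?_)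
    (uq2 Yk.hA.toS1 (βm hβ (Yk.hA.H2 hg) (x2_mem Yk.hA _)) (x2_mem Yk.hA _) ?_)
    (uq3 Yk.hA.toS1 (βm hβ (Yk.hA.H3 hg) (Yk.m3 _)) (Yk.m3 _) ?_) (fun r => ?_)
    (uq5 Yk.hA.toS1 (βm hβ (Yk.hA.H5 hg) (Yk.m5 _)) (Yk.m5 _) ?_) (Subtype.ext ?_)
  · rw [(e _ _ (hβ _)).2.1, Yk.a1, Yk.a1]
  · rw [(e _ _ (hβ _)).1, Yk.t6, Yk.t6, cN]
  · rw [((((e _ _ (hβ _)).2.2 rfl rfl).2 rfl).2 rfl).1]
    simp only [U.x2, Subfield.coe_mul, SubmonoidClass.coe_pow, Tw.NF, τ.N_mul, Tw.N_fix (Tw.σ_inv hν)]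
    field_simp
  · rw [(((e _ _ (hβ _)).2.2 (Yk.a3 _) (Yk.t3 _)).2 (Yk.b3 _)).1, Yk.c3, Yk.c3, cN, τ.sh_mul, Tw.sh_fix (Tw.σ_inv hν)]
    field_simp
  · obtain ⟨f1, f2, f3⟩ := e _ _ (hβ (U.x4 r))
    obtain ⟨f4, f5⟩ := f3 rfl rfl
    obtain ⟨f6, f7⟩ := f5 rfl
    obtain ⟨f8, f9⟩ := f7 rfl
    ext <;> simp only [f1, f2, f4, f6, f8, f9] <;> simp [U.x4]
  · rw [((e _ _ (hβ _)).2.2 (Yk.a5 _) (Yk.t5 _)).1, Yk.b5, Yk.b5, cN]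
    field_simp
  · simp only [Subfield.coe_mul, SubmonoidClass.coe_pow, Tw.NF, τ.N_mul, Tw.N_fix (Tw.σ_inv hν)]
    field_simp

theorem J_val (h6 : A.T6 M) (h1 : A.T1 M c0) {a : K} (ha : a ≠ 0) {t : τ.F} (ht : t ≠ 0) :
    Df c0 y1 y3 y5 a t = t ^ 2 * τ.NF a * Df c0 y1 y3 y5 1 1 := by
  have ht' : (t : K) ≠ 0 := fun e => ht (Subtype.ext e)
  have hN := τ.N_ne ha
  have h0 : t ^ 2 * τ.NF a ≠ 0 := mul_ne_zero (pow_ne_zero _ ht) fun e => hN (congrArg Subtype.val e)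
  obtain ⟨l, hl⟩ := exists_sqrt (a * (t ^ 2 * τ.N a))
  have l0 : l ≠ 0 := by rintro rfl; exact mul_ne_zero ha (mul_ne_zero (pow_ne_zero _ ht') hN) (by rw [← hl]; ring)
  have hs : τ.σ ((t : K) ^ 2 * τ.N a) = t ^ 2 * τ.N a := τ.mem_F.1 (t ^ 2 * τ.NF a).2
  have Nl : τ.N l = t ^ 3 * τ.N a ^ 2 := by
    have := congrArg τ.N hl
    rw [sq, τ.N_mul, τ.N_mul, Tw.N_fix hs] at this
    have : (τ.N l + t ^ 3 * τ.N a ^ 2) ^ 2 = 0 := by grind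
    grind
  rw [← Yk.J6 h6 h0, ← Yk.J1 h1 l0 (_ * 1)]
  congr 1
  · rw [hl]
    change a = _ * ((t ^ 2 * τ.N a : K)⁻¹ * 1)
    field_simp
  · apply Subtype.ext
    change (t : K) = (τ.N l)⁻¹ * ((t ^ 2 * τ.N a) ^ 2 * 1)
    rw [Nl]; field_simp

theorem J_zero (h6 : A.T6 M) (h1 : A.T1 M c0) (hF : τ.BigF) (a : K) (t : τ.F) : Df c0 y1 y3 y5 a t = 0 := by
  have z1 := HMx.zero_of Yk.ad1
  have z3 := HMx.zero_of Yk.ad3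
  have z5 := HMx.zero_of Yk.ad5
  by_cases ha : a = 0
  · apply Subtype.ext; simp [Df, ha, z1, z3, z5, Tw.TF, Tw.T, Tw.sh]
  by_cases ht : t = 0
  · apply Subtype.ext; simp [Df, ht, z3, z5]
  obtain ⟨ν, hν, h0, h2⟩ := hF
  have h3 : ν + 1 ≠ 0 := fun e => h2 (by grind)
  have e : Df c0 y1 y3 y5 (ν + 1) 1 = Df c0 y1 y3 y5 ν 1 + Df c0 y1 y3 y5 1 1 := by
    apply Subtype.ext
    have : τ.sh (ν + 1) = τ.sh ν + τ.sh 1 := by simp only [Tw.sh, map_add, map_one, hν]; grind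
    simp only [Df, one_mul, one_pow, OneMemClass.coe_one, this, Yk.ad1, Yk.ad3, Yk.ad5]
    simp only [uco τ, Yk.co, U.x2, U.x4, Subfield.coe_add, Subfield.coe_mul, SubmonoidClass.coe_pow, Tw.TF, Tw.NF, Tw.T, Tw.N, Tw.sh, Tw.cr, map_add, map_mul, map_zero, mul_zero, zero_mul, add_zero, zero_add]; grind
  rw [Yk.J_val h6 h1 h3 one_ne_zero, Yk.J_val h6 h1 h0 one_ne_zero] at e
  have e2 := congrArg Subtype.val e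
  simp only [Subfield.coe_add, Subfield.coe_mul, one_pow, one_mul, Tw.NF, Tw.N_fix hν,
    Tw.N_fix (show τ.σ (ν + 1) = ν + 1 by rw [map_add, hν, map_one])] at e2
  have : ν * (ν + 1) * (Df c0 y1 y3 y5 1 1 : K) = 0 := by grind
  rw [Yk.J_val h6 h1 ha ht, show Df c0 y1 y3 y5 1 1 = 0 from
    Subtype.ext ((mul_eq_zero.1 this).resolve_left (mul_ne_zero h0 h3)), mul_zero]

theorem rel (h6 : A.T6 M) (h1 : A.T1 M c0) (hF : τ.BigF) : Rel τ y1 y3 y5 U.x2 U.x4 y6 where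
  a1 := Yk.ad1
  a2 := (U.rel τ).a2
  a3 := Yk.ad3
  a4 := (U.rel τ).a4
  a5 := Yk.ad5
  a6 := Yk.ad6
  c12 a b := show _ = _ by ext <;> simp only [uco τ, Yk.co, U.x2, U.x4, Subfield.coe_add, Subfield.coe_mul, SubmonoidClass.coe_pow, Tw.TF, Tw.NF, Tw.T, Tw.N, Tw.sh, Tw.cr, map_add, map_mul, map_zero, mul_zero, zero_mul, add_zero, zero_add] <;> grind
  c14 a b := show _ = _ by ext <;> simp only [uco τ, Yk.co, U.x2, U.x4, Subfield.coe_add, Subfield.coe_mul, SubmonoidClass.coe_pow, Tw.TF, Tw.NF, Tw.T, Tw.N, Tw.sh, Tw.cr, map_add, map_mul, map_zero, mul_zero, zero_mul, add_zero, zero_add] <;> grind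
  c23 a b := show _ = _ by ext <;> simp only [uco τ, Yk.co, U.x2, U.x4, Subfield.coe_add, Subfield.coe_mul, SubmonoidClass.coe_pow, Tw.TF, Tw.NF, Tw.T, Tw.N, Tw.sh, Tw.cr, map_add, map_mul, map_zero, mul_zero, zero_mul, add_zero, zero_add] <;> grind
  c24 := (U.rel τ).c24
  c25 a b := show _ = _ by ext <;> simp only [uco τ, Yk.co, U.x2, U.x4, Subfield.coe_add, Subfield.coe_mul, SubmonoidClass.coe_pow, Tw.TF, Tw.NF, Tw.T, Tw.N, Tw.sh, Tw.cr, map_add, map_mul, map_zero, mul_zero, zero_mul, add_zero, zero_add] <;> grind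
  c34 a b := show _ = _ by ext <;> simp only [uco τ, Yk.co, U.x2, U.x4, Subfield.coe_add, Subfield.coe_mul, SubmonoidClass.coe_pow, Tw.TF, Tw.NF, Tw.T, Tw.N, Tw.sh, Tw.cr, map_add, map_mul, map_zero, mul_zero, zero_mul, add_zero, zero_add] <;> grind
  c36 a b := show _ = _ by ext <;> simp only [uco τ, Yk.co, U.x2, U.x4, Subfield.coe_add, Subfield.coe_mul, SubmonoidClass.coe_pow, Tw.TF, Tw.NF, Tw.T, Tw.N, Tw.sh, Tw.cr, map_add, map_mul, map_zero, mul_zero, zero_mul, add_zero, zero_add] <;> grind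
  c45 a b := show _ = _ by ext <;> simp only [uco τ, Yk.co, U.x2, U.x4, Subfield.coe_add, Subfield.coe_mul, SubmonoidClass.coe_pow, Tw.TF, Tw.NF, Tw.T, Tw.N, Tw.sh, Tw.cr, map_add, map_mul, map_zero, mul_zero, zero_mul, add_zero, zero_add] <;> grind
  c46 a b := show _ = _ by ext <;> simp only [uco τ, Yk.co, U.x2, U.x4, Subfield.coe_add, Subfield.coe_mul, SubmonoidClass.coe_pow, Tw.TF, Tw.NF, Tw.T, Tw.N, Tw.sh, Tw.cr, map_add, map_mul, map_zero, mul_zero, zero_mul, add_zero, zero_add] <;> grind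
  c56 a b := show _ = _ by
    have hb : τ.σ b = b := b.2
    ext <;> simp only [uco τ, Yk.co, U.x2, U.x4, Subfield.coe_add, Subfield.coe_mul, SubmonoidClass.coe_pow, Tw.TF, Tw.NF, Tw.T, Tw.N, Tw.sh, Tw.cr, map_add, map_mul, map_zero, mul_zero, zero_mul, add_zero, zero_add] <;> (try simp only [hb]) <;> grind
  c13 a b := by ext <;> simp only [uco τ, Yk.co, U.x2, U.x4, Subfield.coe_add, Subfield.coe_mul, SubmonoidClass.coe_pow, Tw.TF, Tw.NF, Tw.T, Tw.N, Tw.sh, Tw.cr, map_add, map_mul, map_zero, mul_zero, zero_mul, add_zero, zero_add] <;> grind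
  c35 a b := by ext <;> simp only [uco τ, Yk.co, U.x2, U.x4, Subfield.coe_add, Subfield.coe_mul, SubmonoidClass.coe_pow, Tw.TF, Tw.NF, Tw.T, Tw.N, Tw.sh, Tw.cr, map_add, map_mul, map_zero, mul_zero, zero_mul, add_zero, zero_add] <;> grind
  c26 a b := by ext <;> simp only [uco τ, Yk.co, U.x2, U.x4, Subfield.coe_add, Subfield.coe_mul, SubmonoidClass.coe_pow, Tw.TF, Tw.NF, Tw.T, Tw.N, Tw.sh, Tw.cr, map_add, map_mul, map_zero, mul_zero, zero_mul, add_zero, zero_add] <;> grind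
  c15 a b := by rw [Yk.r15, show (⟨_, U.hr _⟩ : τ.F) = 0 from Subtype.ext (Yk.z15 h6 hF a b), add_zero]
  c16 a b := by rw [Yk.r16, Yk.J_zero h6 h1 hF, add_zero]

end Ys

theorem map_aut (φ : U τ ≃* U τ) (B : Subgroup (U τ)) (h : ∀ u, φ u ∈ B ↔ u ∈ B) :
    B.map (M.aut φ).ι = B.map M.ι := by
  ext g
  exact ⟨fun ⟨x, hx, e⟩ => ⟨φ x, (h x).2 hx, e⟩, fun ⟨x, hx, e⟩ =>
    ⟨φ.symm x, (h _).1 (by simpa using hx), by rw [M.aut_ι]; simpa using e⟩⟩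

end HC5x

open HC5x

/-! ### HC5 -/

/-- new coordinates in which the `R_i` are the root subgroups -/
theorem Ap.S2.exact (hA : A.S2 M c0 0) (h : M.Gd) (h6 : A.T6 M) (h1 : A.T1 M c0) (hF : τ.BigF) :
    ∃ M' : Md G τ, M.Same M' ∧ A.S2 M' 0 0 ∧ (∀ a, M'.ι (U.x1 τ a) ∈ A.R1 M') ∧
      (∀ c, M'.ι (U.x3 τ c) ∈ A.R3 M') ∧ (∀ b, M'.ι (U.x5 τ b) ∈ A.R5 M') ∧
      ∀ t, M'.ι (U.x6 t) ∈ A.R6 M' := by
  choose y1 m1 a1 using hA.on1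
  choose y3 m3 c3 using hA.on3
  choose y5 m5 b5 using hA.on5
  choose y6 m6 t6 using fun t : τ.F => hA.on6 t t.2
  have Yk : Ys A M c0 y1 y3 y5 y6 := ⟨hA, m1, m3, m5, m6, a1, c3, b5, t6⟩
  obtain ⟨φ, e1, e2, e3, e4, e5, e6⟩ := (Yk.rel h6 h1 hF).hom
  have inj : Function.Injective φ := U.inj_of φ fun r hr => Subtype.ext (congrArg U.r ((e4 r).symm.trans hr))
  let ψ : U τ ≃* U τ := MulEquiv.ofBijective φ (Finite.injective_iff_bijective.1 inj)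
  have hψ : ∀ u, ψ u = φ u := fun _ => rfl
  have co : ∀ u, (φ u).a = u.a ∧ (φ u).t = u.t ∧ (φ u).b = u.b ∧ (φ u).c = u.c + c0 * u.t ∧
      (φ u).s = u.s + τ.T (u.b * c0) + (y1 u.a).s := fun u => by
    have := congrArg φ (U.dec u)
    simp only [map_mul, e1, e2, e3, e4, e5, e6] at this
    rw [this]
    refine ⟨?_, ?_, ?_, ?_, ?_⟩ <;> simp only [uco τ, Yk.co, U.x2, U.x4, Subfield.coe_add, Subfield.coe_mul, SubmonoidClass.coe_pow, Tw.TF, Tw.NF, Tw.T, Tw.N, Tw.sh, Tw.cr, map_add, map_mul, map_zero, mul_zero, zero_mul, add_zero, zero_add]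
  have z1 : (y1 0).s = 0 := by rw [HMx.zero_of Yk.ad1]; rfl
  have e : M.Same (M.aut ψ) :=
    ⟨by simpa [Md.S, MonoidHom.range_eq_map] using map_aut (M := M) ψ ⊤ (by simp),
      map_aut ψ _ fun u => show _ = _ ↔ _ = _ by rw [hψ, (co u).1],
      map_aut ψ _ fun u => show _ = _ ↔ _ = _ by rw [hψ, (co u).2.1],
      map_aut ψ _ fun u => show _ = _ ∧ _ = _ ↔ _ = _ ∧ _ = _ by rw [hψ, (co u).1, (co u).2.1],
      map_aut ψ _ fun u => show _ = _ ∧ _ = _ ∧ _ = _ ↔ _ = _ ∧ _ = _ ∧ _ = _ by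
        rw [hψ, (co u).1, (co u).2.1, (co u).2.2.1],
      map_aut ψ _ fun u => show _ = _ ∧ _ = _ ∧ _ = _ ∧ _ = _ ↔ _ = _ ∧ _ = _ ∧ _ = _ ∧ _ = _ by
        rw [hψ, (co u).1, (co u).2.1, (co u).2.2.1, (co u).2.2.2.1]; grind,
      map_aut ψ _ fun u => show _ = _ ∧ _ = _ ∧ _ = _ ∧ _ = _ ∧ _ = _ ↔ _ = _ ∧ _ = _ ∧ _ = _ ∧ _ = _ ∧ _ = _ by
        rw [hψ, (co u).1, (co u).2.1, (co u).2.2.1, (co u).2.2.2.1, (co u).2.2.2.2]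
        constructor <;> rintro ⟨f1, f2, f3, f4, f5⟩ <;> simp [f1, f4, f5, z1, τ.T_zero] at f2 f3 ⊢ <;> exact ⟨f2, f3⟩⟩
  refine ⟨M.aut ψ, e, ⟨HC2bx.s1_same hA.toS1 h e, fun x hx => ?_, fun x hx => ?_, fun x hx => ?_, fun x hx => ?_,
    fun x hx => ?_⟩, fun a => ?_, fun a => ?_, fun a => ?_, fun a => ?_⟩
  · rw [HC2bx.R1_eq e] at hx
    rw [inj ((uq1 hA.toS1 hx (m1 _) (a1 _).symm).trans (e1 _).symm)]
    exact ⟨rfl, rfl⟩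
  · rw [HC2bx.R2_eq e] at hx
    rw [inj ((uq2 hA.toS1 hx (x2_mem hA ⟨_, U.hs _⟩) rfl).trans (e2 _).symm)]
    rfl
  · rw [HC2bx.R3_eq e] at hx
    rw [inj ((uq3 hA.toS1 hx (m3 _) (c3 _).symm).trans (e3 _).symm)]
    rfl
  · rw [HC2bx.R5_eq e] at hx
    rw [inj ((uq5 hA.toS1 hx (m5 _) (b5 _).symm).trans (e5 _).symm)]
    simp [U.x5, Tw.T, Tw.cr]
  · rw [HC2bx.R6_eq e] at hx
    rw [inj ((uq6 hA.toS1 hx (m6 ⟨_, U.ht _⟩) (t6 ⟨_, U.ht _⟩).symm).trans (e6 _).symm)]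
    simp [U.x6]
  · rw [HC2bx.R1_eq e, M.aut_ι, hψ, e1]; exact m1 a
  · rw [HC2bx.R3_eq e, M.aut_ι, hψ, e3]; exact m3 a
  · rw [HC2bx.R5_eq e, M.aut_ι, hψ, e5]; exact m5 a
  · rw [HC2bx.R6_eq e, M.aut_ι, hψ, e6]; exact m6 a

end H27.HX
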