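import Mathlib
import Cfsg.Prelude.Def_LieTwisted
import Cfsg.Prelude.Def_CaseTheorems
import Cfsg.Agent.H27.HX1
import Cfsg.Agent.H27.HB

set_option autoImplicit false
set_option linter.unusedVariables false
set_option linter.unusedSectionVars false
set_option linter.unusedSimpArgs false

namespace H27.HX

open Cfsg H24 H26 H26.Gold H26.LM Subgroup
open scoped commutatorElement

universe u v

variable {G : Type u} [Group G] [Finite G] {K : Type} [Field K] [Finite K] [CharP K 2] {τ : Tw K}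
  {M M' M'' : Md G τ} {A : Ap G} {H S E M0 R X X' Y L D N0 P J : Subgroup G} {𝒟 : Set G}
  {g h j k l n s t x y z : G} {a a' b c c0 e f : K} {u v w : U τ}

/-! ### HC5b -/

namespace HC5bx

theorem dg_mul (α : K) (θ : τ.F) (x y : U τ) : U.dg α θ (x * y) = U.dg α θ x * U.dg α θ y := by
  have := τ.mem_F.1 θ.2
  ext <;> simp only [U.dg, U.mul_a, U.mul_s, U.mul_c, U.mul_r, U.mul_b, U.mul_t, Tw.T, Tw.N, Tw.sh, Tw.cr,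
    map_add, map_mul, τ.three, this, x.hs, x.ht, y.hs, y.ht] <;> grind

theorem dg_dg (α α' : K) (θ θ' : τ.F) (x : U τ) :
    U.dg α θ (U.dg α' θ' x) = U.dg (α * α') (θ * θ') x := by
  ext <;> simp only [U.dg, τ.N_mul, τ.sh_mul, Subfield.coe_mul] <;> ring

theorem dg_one (x : U τ) : U.dg 1 1 x = x := by ext <;> simp [U.dg, Tw.N, Tw.sh]

theorem dg1 (α : K) (θ : τ.F) (p : K) : U.dg α θ (U.x1 τ p) = U.x1 τ (α * p) := by ext <;> simp [U.dg, U.x1]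
theorem dg2 (α : K) (θ p : τ.F) : U.dg α θ (U.x2 p) = U.x2 (θ * τ.NF α * p) := by
  ext <;> simp [U.dg, U.x2, Tw.NF]
theorem dg3 (α : K) (θ : τ.F) (p : K) : U.dg α θ (U.x3 τ p) = U.x3 τ (θ * τ.sh α * p) := by
  ext <;> simp [U.dg, U.x3]
theorem dg4 (α : K) (θ p : τ.F) : U.dg α θ (U.x4 p) = U.x4 (θ ^ 2 * τ.NF α * p) := by
  ext <;> simp [U.dg, U.x4, Tw.NF]
theorem dg5 (α : K) (θ : τ.F) (p : K) : U.dg α θ (U.x5 τ p) = U.x5 τ (θ * α * p) := by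
  ext <;> simp [U.dg, U.x5]
theorem dg6 (α : K) (θ p : τ.F) : U.dg α θ (U.x6 p) = U.x6 (θ * p) := by ext <;> simp [U.dg, U.x6]

/-- `g` conjugates `ι x` to `ι y` -/
def Cg (M : Md G τ) (g : G) (x y : U τ) : Prop := g * M.ι x * g⁻¹ = M.ι y

theorem Cg.mul {x y x' y' : U τ} (h : Cg M g x y) (h' : Cg M g x' y') : Cg M g (x * x') (y * y') := by
  unfold Cg at *; rw [map_mul, map_mul, ← h, ← h']; group
theorem Cg.comp {x y z : U τ} (h' : Cg M k y z) (h : Cg M g x y) : Cg M (k * g) x z := by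
  unfold Cg at *; rw [← h', ← h]; group
theorem Cg.inv {x y : U τ} (h : Cg M g x y) : Cg M g⁻¹ y x := by
  unfold Cg at *; rw [← h]; group
theorem Cg.one (g : G) : Cg M g 1 1 := by simp [Cg]
theorem Cg.of {x y y' : U τ} (h : Cg M g x y) (e : y = y') : Cg M g x y' := e ▸ h

/-- the action as a diagonal automorphism -/
def Act (M : Md G τ) (g : G) (α : K) (θ : τ.F) : Prop := ∀ x, Cg M g x (U.dg α θ x)

theorem act_of {α : K} {θ : τ.F} (h1 : ∀ p, Cg M g (U.x1 τ p) (U.x1 τ (α * p)))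
    (h2 : ∀ p, Cg M g (U.x2 p) (U.x2 (θ * τ.NF α * p))) (h3 : ∀ p, Cg M g (U.x3 τ p) (U.x3 τ (θ * τ.sh α * p)))
    (h4 : ∀ p, Cg M g (U.x4 p) (U.x4 (θ ^ 2 * τ.NF α * p))) (h5 : ∀ p, Cg M g (U.x5 τ p) (U.x5 τ (θ * α * p)))
    (h6 : ∀ p, Cg M g (U.x6 p) (U.x6 (θ * p))) : Act M g α θ := fun x => by
  rw [U.dec x]
  simp only [dg_mul, dg1, dg2, dg3, dg4, dg5, dg6]
  exact (((((h2 _).mul (h3 _)).mul (h4 _)).mul (h5 _)).mul (h6 _)).mul (h1 _)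

theorem Act.mul {α α' : K} {θ θ' : τ.F} (h : Act M g α θ) (h' : Act M k α' θ') :
    Act M (g * k) (α * α') (θ * θ') := fun x => ((h _).comp (h' x)).of (dg_dg ..)

theorem triv (hA : A.S0 M) (hg : g ∈ A.H) (hS : g ∈ M.S) : g = 1 :=
  (M.twoS.piElt hS).eq_one (hA.odd.piElt hg)

theorem eq1 (hA : A.S0 M) (h : M.Gd) (hg : g ∈ A.H) (hk : k ∈ A.H)
    (h2 : ∀ p, ∃ y, Cg M g (U.x2 p) y ∧ Cg M k (U.x2 p) y) (h3 : ∀ p, ∃ y, Cg M g (U.x3 τ p) y ∧ Cg M k (U.x3 τ p) y)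
    (h4 : ∀ p, ∃ y, Cg M g (U.x4 p) y ∧ Cg M k (U.x4 p) y) (h5 : ∀ p, ∃ y, Cg M g (U.x5 τ p) y ∧ Cg M k (U.x5 τ p) y)
    (h6 : ∀ p, ∃ y, Cg M g (U.x6 p) y ∧ Cg M k (U.x6 p) y) : g = k := by
  have f : ∀ {x}, (∃ y, Cg M g x y ∧ Cg M k x y) → Cg M (k⁻¹ * g) x x := fun ⟨y, a, b⟩ => b.inv.comp a
  refine (inv_mul_eq_one.1 (triv hA (mul_mem (inv_mem hk) hg) (M.Q1_S (h.cQ1 (mem_centralizer_iff.2 ?_))))).symm
  rintro _ ⟨x, hx : x.a = 0, rfl⟩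
  have : Cg M (k⁻¹ * g) x x := by
    rw [U.dec x, hx]
    exact (((((f (h2 _)).mul (f (h3 _))).mul (f (h4 _))).mul (f (h5 _))).mul (f (h6 _))).mul (Cg.one _)
  exact (mul_inv_eq_iff_eq_mul.1 this).symm

theorem eq2 (hA : A.S0 M) (h : M.Gd) (hg : g ∈ A.H) (hk : k ∈ A.H)
    (h1 : ∀ p, ∃ y, Cg M g (U.x1 τ p) y ∧ Cg M k (U.x1 τ p) y)
    (h2 : ∀ p, ∃ y, Cg M g (U.x2 p) y ∧ Cg M k (U.x2 p) y) (h3 : ∀ p, ∃ y, Cg M g (U.x3 τ p) y ∧ Cg M k (U.x3 τ p) y)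
    (h4 : ∀ p, ∃ y, Cg M g (U.x4 p) y ∧ Cg M k (U.x4 p) y) (h5 : ∀ p, ∃ y, Cg M g (U.x5 τ p) y ∧ Cg M k (U.x5 τ p) y) :
    g = k := by
  have f : ∀ {x}, (∃ y, Cg M g x y ∧ Cg M k x y) → Cg M (k⁻¹ * g) x x := fun ⟨y, a, b⟩ => b.inv.comp a
  refine (inv_mul_eq_one.1 (triv hA (mul_mem (inv_mem hk) hg) (M.Q2_S (h.cQ2 (mem_centralizer_iff.2 ?_))))).symm
  rintro _ ⟨x, hx : x.t = 0, rfl⟩
  have : Cg M (k⁻¹ * g) x x := by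
    have e6 : (U.x6 ⟨x.t, x.ht⟩ : U τ) = 1 := by ext <;> simp [U.x6, hx]
    rw [U.dec x, e6]
    exact (((((f (h2 _)).mul (f (h3 _))).mul (f (h4 _))).mul (f (h5 _))).mul (Cg.one _)).mul (f (h1 _))
  exact (mul_inv_eq_iff_eq_mul.1 this).symm

theorem Act.eq {α : K} {θ : τ.F} (hA : A.S0 M) (h : M.Gd) (hg : g ∈ A.H) (hk : k ∈ A.H) (a : Act M g α θ)
    (b : Act M k α θ) : g = k :=
  eq1 hA h hg hk (fun _ => ⟨_, a _, b _⟩) (fun _ => ⟨_, a _, b _⟩) (fun _ => ⟨_, a _, b _⟩)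
    (fun _ => ⟨_, a _, b _⟩) fun _ => ⟨_, a _, b _⟩

/-- the `R_i` are the root subgroups -/
structure Ex (A : Ap G) (M : Md G τ) : Prop where
  r1 : ∀ g, g ∈ A.R1 M ↔ ∃ p, g = M.ι (U.x1 τ p)
  r2 : ∀ g, g ∈ A.R2 M ↔ ∃ p, g = M.ι (U.x2 p)
  r3 : ∀ g, g ∈ A.R3 M ↔ ∃ p, g = M.ι (U.x3 τ p)
  r4 : ∀ g, g ∈ M.Z ↔ ∃ p, g = M.ι (U.x4 p)
  r5 : ∀ g, g ∈ A.R5 M ↔ ∃ p, g = M.ι (U.x5 τ p)
  r6 : ∀ g, g ∈ A.R6 M ↔ ∃ p, g = M.ι (U.x6 p)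

theorem ex (hA : A.S2 M 0 0) (e1 : ∀ a, M.ι (U.x1 τ a) ∈ A.R1 M) (e3 : ∀ c, M.ι (U.x3 τ c) ∈ A.R3 M)
    (e5 : ∀ b, M.ι (U.x5 τ b) ∈ A.R5 M) (e6 : ∀ t, M.ι (U.x6 t) ∈ A.R6 M) : Ex A M := by
  have k : ∀ {R : Subgroup G} {x y : U τ}, M.ι x ∈ R → M.ι y ∈ R → M.ι (x * y⁻¹) ∈ R := fun hx hy => by
    rw [map_mul, map_inv]; exact mul_mem hx (inv_mem hy)
  have k2 : ∀ x, M.ι x ∈ A.R2 M → x = U.x2 ⟨x.s, x.hs⟩ := fun x hx => by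
    obtain ⟨h1, h3, h5, h6⟩ := M.ι_V.1 (hA.le2 hx)
    ext <;> simp [U.x2, hA.sh2 x hx, *]
  refine ⟨fun g => ⟨fun hg => ?_, ?_⟩, fun g => ⟨fun hg => ?_, ?_⟩, fun g => ⟨fun hg => ?_, ?_⟩,
    fun g => ⟨?_, ?_⟩, fun g => ⟨fun hg => ?_, ?_⟩, fun g => ⟨fun hg => ?_, ?_⟩⟩
  · obtain ⟨x, rfl⟩ := M.Q2_S (hA.le1 hg)
    exact ⟨x.a, congrArg _ (mul_inv_eq_one.1 (hA.in1 _ (k hg (e1 x.a)) (CharTwo.add_self_eq_zero x.a)))⟩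
  · rintro ⟨p, rfl⟩; exact e1 p
  · obtain ⟨x, -, rfl⟩ := hA.le2 hg
    exact ⟨_, congrArg _ (k2 x hg)⟩
  · rintro ⟨p, rfl⟩
    obtain ⟨x, hx, e⟩ := hA.on2 p p.2
    rw [k2 x hx] at hx
    rwa [show p = ⟨x.s, x.hs⟩ from Subtype.ext e.symm]
  · obtain ⟨x, -, rfl⟩ := hg.1.1
    exact ⟨x.c, congrArg _ (mul_inv_eq_one.1 (hA.in3 _ (k hg (e3 x.c)) (by
      simp [U.mul_c, U.inv_c, U.inv_b, U.inv_t, U.x3, Tw.cr, CharTwo.add_self_eq_zero])))⟩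
  · rintro ⟨p, rfl⟩; exact e3 p
  · rintro ⟨x, ⟨h1, h2, h3, h5, h6⟩, rfl⟩
    exact ⟨⟨x.r, x.hr⟩, congrArg _ (by ext <;> simp [U.x4, *])⟩
  · rintro ⟨p, rfl⟩; exact M.ι_Z.2 ⟨rfl, rfl, rfl, rfl, rfl⟩
  · obtain ⟨x, -, rfl⟩ := hA.le5 hg
    exact ⟨x.b, congrArg _ (mul_inv_eq_one.1 (hA.in5 _ (k hg (e5 x.b)) (by
      simp [U.mul_b, U.inv_b, U.inv_t, U.x5, CharTwo.add_self_eq_zero])))⟩
  · rintro ⟨p, rfl⟩; exact e5 p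
  · obtain ⟨x, -, rfl⟩ := hA.le6 hg
    exact ⟨⟨x.t, x.ht⟩, congrArg _ (mul_inv_eq_one.1 (hA.in6 _ (k hg (e6 ⟨x.t, x.ht⟩))
      (CharTwo.add_self_eq_zero x.t)))⟩
  · rintro ⟨p, rfl⟩; exact e6 p

theorem HZ (hA : A.S0 M) : A.H ≤ N[M.Z] := by
  rw [← M.CS]; exact norm_inf hA.HS (norm_C hA.HS)

theorem mv {R R' : Subgroup G} (hh : h ∈ N[R']) (e : cj n R = R') (hx : x ∈ R) : h * n * x * (h * n)⁻¹ ∈ R' := by
  have := conj_mem hh (e ▸ conj_mem_cj n hx)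
  rwa [show h * (n * x * n⁻¹) * h⁻¹ = h * n * x * (h * n)⁻¹ by group] at this

theorem tor6 (hA : A.S2 M 0 0) (E : Ex A M) (h6 : A.T6 M) (ν : τ.F) (h0 : ν ≠ 0) :
    ∃ g ∈ A.H, Act M g (ν : K)⁻¹ (ν ^ 2) := by
  have h0' : (ν : K) ≠ 0 := fun e => h0 (Subtype.ext e)
  have hν := τ.mem_F.1 ν.2
  have hν' := Tw.σ_inv hν
  obtain ⟨g, hg, H⟩ := h6.tor ν hν h0'
  refine ⟨g, hg, act_of (fun p => ?_) (fun p => ?_) (fun p => ?_) (fun p => ?_) (fun p => ?_) fun p => ?_⟩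
  · obtain ⟨p', e⟩ := (E.r1 _).1 (conj_mem (hA.H1 hg) ((E.r1 _).2 ⟨p, rfl⟩))
    exact Cg.of e (congrArg _ (H _ _ e).2.1)
  · obtain ⟨p', e⟩ := (E.r2 _).1 (conj_mem (hA.H2 hg) ((E.r2 _).2 ⟨p, rfl⟩))
    refine Cg.of e (congrArg _ (Subtype.ext (((((H _ _ e).2.2 rfl rfl).2 rfl).2 rfl).1.trans ?_)))
    simp only [U.x2, Subfield.coe_mul, SubmonoidClass.coe_pow, Tw.NF, Tw.N_fix hν']; field_simp
  · obtain ⟨p', e⟩ := (E.r3 _).1 (conj_mem (hA.H3 hg) ((E.r3 _).2 ⟨p, rfl⟩))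
    refine Cg.of e (congrArg _ ((((H _ _ e).2.2 rfl rfl).2 rfl).1.trans ?_))
    simp only [U.x3, SubmonoidClass.coe_pow, Tw.sh_fix hν']; field_simp
  · obtain ⟨p', e⟩ := (E.r4 _).1 (conj_mem (HZ hA.toS0 hg) ((E.r4 _).2 ⟨p, rfl⟩))
    refine Cg.of e (congrArg _ (Subtype.ext (((((H _ _ e).2.2 rfl rfl).2 rfl).2 rfl).2.trans ?_)))
    simp only [U.x4, Subfield.coe_mul, SubmonoidClass.coe_pow, Tw.NF, Tw.N_fix hν']; field_simp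
  · obtain ⟨p', e⟩ := (E.r5 _).1 (conj_mem (hA.H5 hg) ((E.r5 _).2 ⟨p, rfl⟩))
    refine Cg.of e (congrArg _ (((H _ _ e).2.2 rfl rfl).1.trans ?_))
    simp only [U.x5, SubmonoidClass.coe_pow]; field_simp
  · obtain ⟨p', e⟩ := (E.r6 _).1 (conj_mem (hA.H6 hg) ((E.r6 _).2 ⟨p, rfl⟩))
    exact Cg.of e (congrArg _ (Subtype.ext (H _ _ e).1))

theorem tor1 (hA : A.S2 M 0 0) (E : Ex A M) (h1 : A.T1 M 0) (l : K) (h0 : l ≠ 0) :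
    ∃ g ∈ A.H, Act M g (l ^ 2) (τ.NF l)⁻¹ := by
  have hN := τ.N_ne h0
  have hs := τ.sh_ne h0
  have hm := τ.mul_sh l
  obtain ⟨g, hg, hZ, H⟩ := h1.tor l h0
  refine ⟨g, hg, act_of (fun p => ?_) (fun p => ?_) (fun p => ?_) (fun p => ?_) (fun p => ?_) fun p => ?_⟩
  · obtain ⟨p', e⟩ := (E.r1 _).1 (conj_mem (hA.H1 hg) ((E.r1 _).2 ⟨p, rfl⟩))
    exact Cg.of e (congrArg _ (H _ _ e).1)
  · obtain ⟨p', e⟩ := (E.r2 _).1 (conj_mem (hA.H2 hg) ((E.r2 _).2 ⟨p, rfl⟩))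
    have := ((H _ _ e).2 rfl).2.2.2
    refine Cg.of e (congrArg _ (Subtype.ext ?_))
    simp only [U.x2, mul_zero, τ.T_zero, add_zero] at this
    simp only [this, Subfield.coe_mul, Subfield.coe_inv, Tw.NF, sq, τ.N_mul]; field_simp
  · obtain ⟨p', e⟩ := (E.r3 _).1 (conj_mem (hA.H3 hg) ((E.r3 _).2 ⟨p, rfl⟩))
    have := ((H _ _ e).2 rfl).2.2.1
    refine Cg.of e (congrArg _ ?_)
    simp only [U.x3, mul_zero, add_zero] at this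
    simp only [this, Subfield.coe_inv, Tw.NF, sq, τ.sh_mul, ← hm]; field_simp
  · have := mem_centralizer_iff.1 hZ _ ((E.r4 _).2 ⟨p, rfl⟩)
    refine Cg.of (mul_inv_eq_iff_eq_mul.2 this.symm) (congrArg _ (Subtype.ext ?_))
    simp only [Subfield.coe_mul, Subfield.coe_inv, SubmonoidClass.coe_pow, Tw.NF, sq l, τ.N_mul]; field_simp
  · obtain ⟨p', e⟩ := (E.r5 _).1 (conj_mem (hA.H5 hg) ((E.r5 _).2 ⟨p, rfl⟩))
    refine Cg.of e (congrArg _ (((H _ _ e).2 rfl).2.1.trans ?_))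
    simp only [U.x5, Subfield.coe_inv, Tw.NF]; ring
  · obtain ⟨p', e⟩ := (E.r6 _).1 (conj_mem (hA.H6 hg) ((E.r6 _).2 ⟨p, rfl⟩))
    exact Cg.of e (congrArg _ (Subtype.ext ((H _ _ e).2 rfl).1))

theorem tor (hA : A.S2 M 0 0) (E : Ex A M) (h6 : A.T6 M) (h1 : A.T1 M 0) (α : K) (θ : τ.F) :
    ∃ g, α ≠ 0 → θ ≠ 0 → g ∈ A.H ∧ Act M g α θ := by
  by_cases h0 : α ≠ 0 ∧ θ ≠ 0
  swap
  · exact ⟨1, fun a b => (h0 ⟨a, b⟩).elim⟩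
  have hθ : (θ : K) ≠ 0 := fun e => h0.2 (Subtype.ext e)
  have hN := τ.N_ne h0.1
  have hν : θ ^ 2 * τ.NF α ≠ 0 := mul_ne_zero (pow_ne_zero _ h0.2) fun e => hN (congrArg Subtype.val e)
  have hν' : ((θ ^ 2 * τ.NF α : τ.F) : K) ≠ 0 := fun e => hν (Subtype.ext e)
  obtain ⟨l, hl⟩ := exists_sqrt (α * (θ ^ 2 * τ.NF α : τ.F))
  have l0 : l ≠ 0 := by rintro rfl; exact mul_ne_zero h0.1 hν' (by rw [← hl]; simp)
  obtain ⟨g, hg, a⟩ := tor1 hA E h1 l l0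
  obtain ⟨k, hk, b⟩ := tor6 hA E h6 _ hν
  refine ⟨g * k, fun _ _ => ⟨mul_mem hg hk, ?_⟩⟩
  have e1 : l ^ 2 * ((θ ^ 2 * τ.NF α : τ.F) : K)⁻¹ = α := by rw [hl]; field_simp
  have e2 : (τ.NF l)⁻¹ * (θ ^ 2 * τ.NF α) ^ 2 = θ := by
    have hl' := congrArg τ.N hl
    rw [sq l, τ.N_mul, τ.N_mul, Tw.N_fix (τ.mem_F.1 (θ ^ 2 * τ.NF α).2)] at hl'
    have hNl := τ.N_ne l0
    apply Subtype.ext
    simp only [Subfield.coe_mul, Subfield.coe_inv, SubmonoidClass.coe_pow, Tw.NF] at hl' ⊢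
    have : τ.N l = θ ^ 3 * τ.N α ^ 2 := by
      have : (τ.N l + θ ^ 3 * τ.N α ^ 2) ^ 2 = 0 := by grind
      have := pow_eq_zero_iff two_ne_zero |>.1 this
      grind
    rw [this]; field_simp
  have := a.mul b
  rwa [e1, e2] at this

theorem nH (hA : A.S0 M) (hh : h ∈ A.H) (hn : n ∈ N[A.H]) (hs : n * n ∈ A.H) :
    h * n ∈ N[A.H] ∧ h * n * (h * n) ∈ A.H :=
  ⟨mul_mem (norm_self _ hh) hn, by
    rw [show h * n * (h * n) = h * (n * h * n⁻¹) * (n * n) by group]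
    exact mul_mem (mul_mem hh (conj_mem hn hh)) hs⟩

theorem ref1 (hA : A.S2 M 0 0) (E : Ex A M) (h1 : A.T1 M 0) : ∃ n ∈ N[A.H], n * n ∈ A.H ∧
    (∀ p, Cg M n (U.x2 p) (U.x6 p)) ∧ (∀ p, Cg M n (U.x3 τ p) (U.x5 τ p)) ∧ (∀ p, Cg M n (U.x4 p) (U.x4 p)) ∧
    (∀ p, Cg M n (U.x5 τ p) (U.x3 τ p)) ∧ (∀ p, Cg M n (U.x6 p) (U.x2 p)) ∧
    (M.ι (U.x1 τ 1) * n) ^ 3 ∈ M.Q1 := by
  obtain ⟨g, hg, hZ, H, H3⟩ := h1.ref
  obtain ⟨a, b⟩ := nH hA.toS0 hg hA.n1H hA.n1s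
  refine ⟨_, a, b, fun p => ?_, fun p => ?_, fun p => ?_, fun p => ?_, fun p => ?_,
    H3 _ ((E.r1 _).2 ⟨1, rfl⟩) rfl⟩
  · obtain ⟨p', e⟩ := (E.r6 _).1 (mv (hA.H6 hg) rfl ((E.r2 _).2 ⟨p, rfl⟩))
    refine Cg.of e (congrArg _ (Subtype.ext ((H _ _ rfl e).1.trans ?_)))
    simp [U.x2, τ.T_zero]
  · obtain ⟨p', e⟩ := (E.r5 _).1 (mv (hA.H5 hg) rfl ((E.r3 _).2 ⟨p, rfl⟩))
    refine Cg.of e (congrArg _ ((H _ _ rfl e).2.1.trans ?_))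
    simp [U.x3]
  · exact mul_inv_eq_iff_eq_mul.2 (mem_centralizer_iff.1 hZ _ ((E.r4 _).2 ⟨p, rfl⟩)).symm
  · obtain ⟨p', e⟩ := (E.r3 _).1 (mv (hA.H3 hg) hA.c15 ((E.r5 _).2 ⟨p, rfl⟩))
    refine Cg.of e (congrArg _ ?_)
    simpa [U.x3, U.x5] using (H _ _ rfl e).2.2.1
  · obtain ⟨p', e⟩ := (E.r2 _).1 (mv (hA.H2 hg) hA.c16 ((E.r6 _).2 ⟨p, rfl⟩))
    refine Cg.of e (congrArg _ (Subtype.ext ?_))
    simpa [U.x2, U.x6, τ.T_zero] using (H _ _ rfl e).2.2.2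

theorem ref6 (hA : A.S2 M 0 0) (E : Ex A M) (h6 : A.T6 M) : ∃ n ∈ N[A.H], n * n ∈ A.H ∧
    (∀ p, Cg M n (U.x1 τ p) (U.x5 τ p)) ∧ (∀ p, Cg M n (U.x2 p) (U.x4 p)) ∧ (∀ p, Cg M n (U.x3 τ p) (U.x3 τ p)) ∧
    (∀ p, Cg M n (U.x4 p) (U.x2 p)) ∧ (∀ p, Cg M n (U.x5 τ p) (U.x1 τ p)) ∧
    (M.ι (U.x6 1) * n) ^ 3 ∈ M.Q2 := by
  obtain ⟨g, hg, H, H3⟩ := h6.ref
  obtain ⟨a, b⟩ := nH hA.toS0 hg hA.n6H hA.n6s
  refine ⟨_, a, b, fun p => ?_, fun p => ?_, fun p => ?_, fun p => ?_, fun p => ?_,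
    H3 _ ((E.r6 _).2 ⟨1, rfl⟩) rfl⟩
  · obtain ⟨p', e⟩ := (E.r5 _).1 (mv (hA.H5 hg) hA.c61 ((E.r1 _).2 ⟨p, rfl⟩))
    exact Cg.of e (congrArg _ (H _ _ rfl e).2.1)
  · obtain ⟨p', e⟩ := (E.r4 _).1 (mv (HZ hA.toS0 hg) hA.c62 ((E.r2 _).2 ⟨p, rfl⟩))
    exact Cg.of e (congrArg _ (Subtype.ext (((H _ _ rfl e).2.2 rfl rfl).2 rfl).2))
  · obtain ⟨p', e⟩ := (E.r3 _).1 (mv (hA.H3 hg) hA.c63 ((E.r3 _).2 ⟨p, rfl⟩))
    exact Cg.of e (congrArg _ ((H _ _ rfl e).2.2 rfl rfl).1)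
  · obtain ⟨p', e⟩ := (E.r2 _).1 (mv (hA.H2 hg) rfl ((E.r4 _).2 ⟨p, rfl⟩))
    exact Cg.of e (congrArg _ (Subtype.ext (((H _ _ rfl e).2.2 rfl rfl).2 rfl).1))
  · obtain ⟨p', e⟩ := (E.r1 _).1 (mv (hA.H1 hg) rfl ((E.r5 _).2 ⟨p, rfl⟩))
    exact Cg.of e (congrArg _ (H _ _ rfl e).1)

theorem cg_one (x : U τ) : Cg M 1 x x := by simp [Cg]

theorem fix_pow {x : U τ} (h1 : n * g * n = g) (hn : n * n = 1) (h2 : Cg M g x x) {p : U τ}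
    (hp : M.ι p = (M.ι x * n) ^ 3) : Cg M g p p := by
  have c1 : Commute g n := by
    have : g * n = n * g := by rw [← h1, mul_assoc (n * g), hn, mul_one, h1]
    exact this
  have c2 : Commute g (M.ι x) := mul_inv_eq_iff_eq_mul.1 h2
  unfold Cg
  rw [hp, ((c2.mul_right c1).pow_right 3).eq, mul_inv_cancel_right]

end HC5bx

theorem Ap.S2.dat (hA : A.S2 M 0 0) (h : M.Gd) (h6 : A.T6 M) (h1 : A.T1 M 0) (hF : τ.BigF)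
    (e1 : ∀ a, M.ι (U.x1 τ a) ∈ A.R1 M) (e3 : ∀ c, M.ι (U.x3 τ c) ∈ A.R3 M)
    (e5 : ∀ b, M.ι (U.x5 τ b) ∈ A.R5 M) (e6 : ∀ t, M.ι (U.x6 t) ∈ A.R6 M) :
    ∃ D : Dat M, D.Tor A.H := by
  have E := HC5bx.ex hA e1 e3 e5 e6
  have h0 := hA.toS0
  choose hh hhs using HC5bx.tor hA E h6 h1
  obtain ⟨n1, n1H, n1s, a2, a3, a4, a5, a6, a1⟩ := HC5bx.ref1 hA E h1
  obtain ⟨n6, n6H, n6s, b1, b2, b3, b4, b5, b6⟩ := HC5bx.ref6 hA E h6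
  have s1 : n1 * n1 = 1 := HC5bx.eq1 h0 h n1s (one_mem _) (fun p => ⟨_, (a6 p).comp (a2 p), HC5bx.cg_one _⟩)
    (fun p => ⟨_, (a5 p).comp (a3 p), HC5bx.cg_one _⟩) (fun p => ⟨_, (a4 p).comp (a4 p), HC5bx.cg_one _⟩)
    (fun p => ⟨_, (a3 p).comp (a5 p), HC5bx.cg_one _⟩) (fun p => ⟨_, (a2 p).comp (a6 p), HC5bx.cg_one _⟩)
  have s6 : n6 * n6 = 1 := HC5bx.eq2 h0 h n6s (one_mem _) (fun p => ⟨_, (b5 p).comp (b1 p), HC5bx.cg_one _⟩)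
    (fun p => ⟨_, (b4 p).comp (b2 p), HC5bx.cg_one _⟩) (fun p => ⟨_, (b3 p).comp (b3 p), HC5bx.cg_one _⟩)
    (fun p => ⟨_, (b2 p).comp (b4 p), HC5bx.cg_one _⟩) (fun p => ⟨_, (b1 p).comp (b5 p), HC5bx.cg_one _⟩)
  have i1 := inv_eq_of_mul_eq_one_right s1
  have i6 := inv_eq_of_mul_eq_one_right s6
  have cf : ∀ {θ : τ.F}, θ ≠ 0 → (θ : K) ≠ 0 := fun h e => h (Subtype.ext e)
  have n1h : ∀ α θ, α ≠ 0 → θ ≠ 0 → n1 * hh α θ * n1 = hh α⁻¹ (θ * ⟨τ.N α, τ.σ_N α⟩) := fun α θ hα hθ => by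
    obtain ⟨m, a⟩ := hhs α θ hα hθ
    have hN := τ.N_ne hα
    have hs := τ.sh_ne hα
    have hN' : τ.N α⁻¹ = (τ.N α)⁻¹ := by simp only [Tw.N, map_inv₀, mul_inv]
    have hs' : τ.sh α⁻¹ = (τ.sh α)⁻¹ := by simp [Tw.sh, mul_comm]
    obtain ⟨m', a'⟩ := hhs α⁻¹ (θ * ⟨τ.N α, τ.σ_N α⟩) (inv_ne_zero hα)
      (mul_ne_zero hθ fun e => hN (congrArg Subtype.val e))
    refine HC5bx.eq1 h0 h (by simpa only [i1] using conj_mem n1H m) m'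
      (fun p => ⟨_, ((a6 _).comp ((a _).of (HC5bx.dg6 ..))).comp (a2 p), (a' _).of ((HC5bx.dg2 ..).trans ?_)⟩)
      (fun p => ⟨_, ((a5 _).comp ((a _).of (HC5bx.dg5 ..))).comp (a3 p), (a' _).of ((HC5bx.dg3 ..).trans ?_)⟩)
      (fun p => ⟨_, ((a4 _).comp ((a _).of (HC5bx.dg4 ..))).comp (a4 p), (a' _).of ((HC5bx.dg4 ..).trans ?_)⟩)
      (fun p => ⟨_, ((a3 _).comp ((a _).of (HC5bx.dg3 ..))).comp (a5 p), (a' _).of ((HC5bx.dg5 ..).trans ?_)⟩)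
      (fun p => ⟨_, ((a2 _).comp ((a _).of (HC5bx.dg2 ..))).comp (a6 p), (a' _).of (HC5bx.dg6 ..)⟩)
    · refine congrArg _ (Subtype.ext ?_)
      simp only [Subfield.coe_mul, Tw.NF, hN']; field_simp
    · refine congrArg _ ?_
      simp only [Subfield.coe_mul, hs', ← τ.mul_sh α]; field_simp
    · refine congrArg _ (Subtype.ext ?_)
      simp only [Subfield.coe_mul, SubmonoidClass.coe_pow, Tw.NF, hN']; field_simp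
    · refine congrArg _ ?_
      simp only [Subfield.coe_mul, ← τ.mul_sh α]; field_simp
  have n6h : ∀ α θ, α ≠ 0 → θ ≠ 0 → n6 * hh α θ * n6 = hh (θ * α) θ⁻¹ := fun α θ hα hθ => by
    obtain ⟨m, a⟩ := hhs α θ hα hθ
    have hθ' := cf hθ
    have hF := τ.mem_F.1 θ.2
    obtain ⟨m', a'⟩ := hhs (θ * α) θ⁻¹ (mul_ne_zero hθ' hα) (inv_ne_zero hθ)
    refine HC5bx.eq2 h0 h (by simpa only [i6] using conj_mem n6H m) m'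
      (fun p => ⟨_, ((b5 _).comp ((a _).of (HC5bx.dg5 ..))).comp (b1 p), (a' _).of (HC5bx.dg1 ..)⟩)
      (fun p => ⟨_, ((b4 _).comp ((a _).of (HC5bx.dg4 ..))).comp (b2 p), (a' _).of ((HC5bx.dg2 ..).trans ?_)⟩)
      (fun p => ⟨_, ((b3 _).comp ((a _).of (HC5bx.dg3 ..))).comp (b3 p), (a' _).of ((HC5bx.dg3 ..).trans ?_)⟩)
      (fun p => ⟨_, ((b2 _).comp ((a _).of (HC5bx.dg2 ..))).comp (b4 p), (a' _).of ((HC5bx.dg4 ..).trans ?_)⟩)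
      (fun p => ⟨_, ((b1 _).comp ((a _).of (HC5bx.dg1 ..))).comp (b5 p), (a' _).of ((HC5bx.dg5 ..).trans ?_)⟩)
    · refine congrArg _ (Subtype.ext ?_)
      simp only [Subfield.coe_mul, Subfield.coe_inv, SubmonoidClass.coe_pow, Tw.NF, τ.N_mul, Tw.N_fix hF]
      field_simp
    · refine congrArg _ ?_
      simp only [Subfield.coe_inv, τ.sh_mul, Tw.sh_fix hF]; field_simp
    · refine congrArg _ (Subtype.ext ?_)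
      simp only [Subfield.coe_mul, Subfield.coe_inv, SubmonoidClass.coe_pow, Tw.NF, τ.N_mul, Tw.N_fix hF]
      field_simp
    · refine congrArg _ ?_
      simp only [Subfield.coe_inv]; field_simp
  obtain ⟨ω, hω, ω0, ω1⟩ := hF
  have ω0' : (⟨ω, hω⟩ : τ.F) ≠ 0 := fun e => ω0 (congrArg Subtype.val e)
  have ω1' : ω + 1 ≠ 0 := fun e => ω1 (by grind)
  have c1 : (M.ι (U.x1 τ 1) * n1) ^ 3 = 1 := by
    obtain ⟨p, hp : p.a = 0, e⟩ := a1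
    obtain ⟨m, a⟩ := hhs 1 ⟨ω, hω⟩ one_ne_zero ω0'
    have f := HC5bx.fix_pow ((n1h _ _ one_ne_zero ω0').trans (by congr 1; exacts [inv_one, Subtype.ext (by simp [Tw.N])])) s1
      ((a _).of ((HC5bx.dg1 ..).trans (by rw [one_mul]))) e
    have f' := M.inj ((a p).symm.trans f)
    have f2 := congrArg U.s f'; have f3 := congrArg U.c f'; have f4 := congrArg U.r f'
    have f5 := congrArg U.b f'; have f6 := congrArg U.t f'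
    simp only [U.dg, Tw.N, Tw.sh, map_one, mul_one] at f2 f3 f4 f5 f6
    rw [← e, show p = 1 by ext <;> simp only [U.one_a, U.one_s, U.one_c, U.one_r, U.one_b, U.one_t] <;> grind,
      map_one]
  have c6 : (M.ι (U.x6 1) * n6) ^ 3 = 1 := by
    obtain ⟨p, hp : p.t = 0, e⟩ := b6
    obtain ⟨m, a⟩ := hhs ω 1 ω0 one_ne_zero
    have f := HC5bx.fix_pow ((n6h _ _ ω0 one_ne_zero).trans (by congr 1 <;> simp)) s6
      ((a _).of ((HC5bx.dg6 ..).trans (by rw [one_mul]))) e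
    have f' := M.inj ((a p).symm.trans f)
    have f1 := congrArg U.a f'; have f3 := congrArg U.c f'; have f5 := congrArg U.b f'
    simp only [U.dg, Tw.sh_fix hω, Subfield.coe_one, one_mul] at f1 f3 f5
    have g1 : p.a = 0 := by grind
    have g3 : p.c = 0 := by grind
    have g5 : p.b = 0 := by grind
    have d : p = U.x2 ⟨p.s, p.hs⟩ * U.x4 ⟨p.r, p.hr⟩ := by
      ext <;> simp [U.mul_a, U.mul_s, U.mul_c, U.mul_r, U.mul_b, U.mul_t, U.x2, U.x4, Tw.T, Tw.N, Tw.sh, Tw.cr, *]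
    have k1 := (b2 ⟨p.s, p.hs⟩).mul (b4 ⟨p.r, p.hr⟩)
    rw [← d] at k1
    have k2 : HC5bx.Cg M (M.ι (U.x6 1)) (U.x4 ⟨p.s, p.hs⟩ * U.x2 ⟨p.r, p.hr⟩)
        (U.x6 1 * (U.x4 ⟨p.s, p.hs⟩ * U.x2 ⟨p.r, p.hr⟩) * (U.x6 1)⁻¹) := by simp only [HC5bx.Cg, map_mul, map_inv]
    have k3 : HC5bx.Cg M (M.ι (U.x6 1) * n6) p p := by
      unfold HC5bx.Cg
      rw [e, ((Commute.refl _).pow_right 3).eq, mul_inv_cancel_right]
    have k4 := M.inj ((k2.comp k1).symm.trans k3)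
    have k5 := congrArg U.s k4; have k6 := congrArg U.r k4
    simp [U.mul_a, U.mul_s, U.mul_c, U.mul_r, U.mul_b, U.mul_t, U.inv_a, U.inv_s, U.inv_c, U.inv_r, U.inv_b,
      U.inv_t, U.x2, U.x4, U.x6, Tw.T, Tw.N, Tw.sh, Tw.cr] at k5 k6
    rw [← e, show p = 1 by ext <;> simp only [U.one_a, U.one_s, U.one_c, U.one_r, U.one_b, U.one_t] <;> grind,
      map_one]
  have fl : ∀ {n : G} {x y : U τ}, n⁻¹ = n → HC5bx.Cg M n x y → n * M.ι x * n = M.ι y := fun i e => by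
    rw [← e, i]
  refine ⟨⟨n1, n6, hh, fun α θ a b => (hhs α θ a b).2, fun α θ α' θ' a b c d => ?_, ?_, s1, s6, n1h, n6h,
    fun p => fl i1 (a2 p), fun p => fl i1 (a3 p), fun p => fl i1 (a4 p), fun p => fl i6 (b1 p),
    fun p => fl i6 (b2 p), fun p => fl i6 (b3 p), c1, c6⟩, hA.HS, hA.odd, hA.prod, n1H, n6H,
    fun α θ a b => (hhs α θ a b).1, fun g hg a => (E.r1 _).1 (conj_mem (hA.H1 hg) (e1 a)),
    fun g hg a => (E.r6 _).1 (conj_mem (hA.H6 hg) (e6 a))⟩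
  · exact ((hhs α θ a b).2.mul (hhs α' θ' c d).2).eq h0 h (mul_mem (hhs α θ a b).1 (hhs α' θ' c d).1)
      (hhs _ _ (mul_ne_zero a c) (mul_ne_zero b d)).1 (hhs _ _ (mul_ne_zero a c) (mul_ne_zero b d)).2
  · exact (hhs 1 1 one_ne_zero one_ne_zero).2.eq h0 h (hhs 1 1 one_ne_zero one_ne_zero).1 (one_mem _)
      fun x => (HC5bx.cg_one x).of (HC5bx.dg_one x).symm



end H27.HX
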