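import Mathlib
import Cfsg.Prelude.Def_LieTwisted
import Cfsg.Prelude.Def_CaseTheorems
import Cfsg.Agent.H27.HX1
import Cfsg.Agent.H27.HF6
import Cfsg.Agent.S1220
import Cfsg.Agent.H22.Rank2
import Cfsg.Agent.H6.SmallSylow

set_option autoImplicit false
set_option linter.unusedVariables false
set_option linter.unusedSectionVars false
set_option linter.unusedSimpArgs false

namespace H27.HX

open Cfsg H24 H26 H26.Gold H26.LM Subgroup
open scoped commutatorElement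

universe u v

variable {G : Type u} [Group G] [Finite G] {K : Type} [Field K] [Finite K] [CharP K 2] {τ : Tw K}
  {M M' M'' : Md G τ} {A : Ap G} {H S E M0 R X X' Y L D N0 P J : Subgroup G} {𝒟 : Set G}
  {g h j k l n s t x y z : G} {a a' b c c0 e f : K} {u v w : U τ}

namespace HC6x

theorem core {Γ U H : Subgroup G} (hU : U ≤ Γ) (hH : H ≤ Γ) (sq : ∀ u ∈ U, u * u = 1)
    (odd : OddG H) (nH : H ≤ N[U])
    (cen : ∀ y ∈ U, y ≠ 1 → ∀ g ∈ Γ, g * y = y * g → ∃ u ∈ U, ∃ k ∈ H, g = u * k)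
    (tr : ∀ y ∈ U, y ≠ 1 → ∀ y' ∈ U, y' ≠ 1 → ∃ k ∈ H, k * y * k⁻¹ = y')
    {a b n n' : G} (ha : a ∈ U) (hb : b ∈ U) (a1 : a ≠ 1) (b1 : b ≠ 1) (ab : a ≠ b)
    (hn : n ∈ Γ) (hn' : n' ∈ Γ) (nN : n ∈ N[H]) (nN' : n' ∈ N[H]) (n2 : n * n = 1)
    (n2' : n' * n' = 1) (nU : n ∉ U) (nU' : n' ∉ U) (c : (a * n) ^ 3 = 1) (c' : (a * n') ^ 3 = 1) :
    n' = n := by
  have ea := ea_of_sq sq
  have UN : U ≤ N[U] := le_normalizer
  have ni : n⁻¹ = n := inv_eq_of_mul_eq_one_right n2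
  have ni' : n'⁻¹ = n' := inv_eq_of_mul_eq_one_right n2'
  have dec : ∀ g ∈ Γ, g ∈ N[U] → ∃ u ∈ U, ∃ k ∈ H, g = u * k := by
    intro g hg hN
    obtain ⟨k, hk, e⟩ := tr a ha a1 _ (conj_mem hN ha) (by simpa using a1)
    obtain ⟨u, hu, k', hk', e'⟩ := cen a ha a1 (k⁻¹ * g) (mul_mem (inv_mem (hH hk)) hg) (by
      calc k⁻¹ * g * a = k⁻¹ * (g * a * g⁻¹) * g := by group
        _ = a * (k⁻¹ * g) := by rw [← e]; group)
    refine ⟨k * u * k⁻¹, conj_mem (nH hk) hu, k * k', mul_mem hk hk', ?_⟩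
    calc g = k * (k⁻¹ * g) := by group
      _ = _ := by rw [e']; group
  have inv : ∀ g ∈ Γ, g ∈ N[U] → g * g = 1 → g ∈ U := by
    intro g hg hN h2
    obtain ⟨u, hu, k, hk, rfl⟩ := dec g hg hN
    have h3 : k * k ∈ U := by
      have : k * k = (u * (k * u * k⁻¹))⁻¹ := by
        rw [eq_inv_iff_mul_eq_one]
        calc _ = (k * k) * (u * k * (u * k)) * (k * k)⁻¹ * (k * k * k⁻¹ * k⁻¹) := by group
          _ = 1 := by rw [h2]; group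
      rw [this]
      exact inv_mem (mul_mem hu (conj_mem (nH hk) hu))
    have h4 := eq_one_of_odd_sq (odd.piElt hk)
      (eq_one_of_odd_sq (odd.piElt (mul_mem hk hk)) (sq _ h3))
    rwa [h4, mul_one]
  have ti : ∀ g ∈ Γ, ∀ j ∈ U, j ≠ 1 → g * j * g⁻¹ ∈ U → g ∈ N[U] := by
    intro g hg j hj j1 hj'
    refine mem_N_of_finite fun x hx => ?_
    have hx' : g * x * g⁻¹ ∈ Γ := mul_mem (mul_mem hg (hU hx)) (inv_mem hg)
    obtain ⟨u, hu, k, hk, e⟩ := cen _ hj' (by simpa using j1) _ hx' (by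
      calc _ = g * (x * j) * g⁻¹ := by group
        _ = _ := by rw [ea.comm hx hj]; group)
    refine inv _ hx' (e ▸ mul_mem (UN hu) (nH hk)) ?_
    calc _ = g * (x * x) * g⁻¹ := by group
      _ = 1 := by rw [sq x hx]; group
  have nU1 : n ∉ N[U] := fun e => nU (inv n hn e n2)
  have nU1' : n' ∉ N[U] := fun e => nU' (inv n' hn' e n2')
  have opp : ∀ v ∈ U, n * v * n ∈ N[U] → v = 1 := by
    intro v hv h1
    by_contra v1
    refine nU1 (ti n hn v hv v1 ?_)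
    rw [ni]
    refine inv _ (mul_mem (mul_mem hn (hU hv)) hn) h1 ?_
    calc _ = n * v * (n * n) * v * n := by group
      _ = n * (v * v) * n := by rw [n2]; group
      _ = 1 := by rw [sq v hv, mul_one, n2]
  have se : IsStronglyEmbedded ((N[U]).subgroupOf Γ) := by
    refine ⟨fun e => nU1 (show (⟨n, hn⟩ : Γ) ∈ (N[U]).subgroupOf Γ from e ▸ mem_top _), ?_,
      fun g hg => ?_⟩
    · have h1 : orderOf (⟨a, hU ha⟩ : Γ) = 2 := by
        rw [← orderOf_coe]; exact H6.orderOf_eq_two_of (sq a ha) a1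
      exact even_iff_two_dvd.2 (h1 ▸ orderOf_dvd_card'
        (show (⟨a, hU ha⟩ : Γ) ∈ (N[U]).subgroupOf Γ from UN ha))
    · by_contra h1
      rw [Nat.not_odd_iff_even, even_iff_two_dvd] at h1
      obtain ⟨j, ⟨h2, j', h3, rfl⟩, h4⟩ := exists_orderOf_eq Nat.prime_two h1
      have h5 : orderOf j' = 2 := by
        rwa [MulEquiv.coe_toMonoidHom, MulEquiv.orderOf_eq] at h4
      have h6 : (j' : G) * j' = 1 := congrArg Subtype.val (H6.mul_self_of_orderOf_two h5)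
      refine hg (ti g g.2 j' (inv _ j'.2 h3 h6)
        (fun e => H6.ne_one_of_orderOf_two h5 (Subtype.ext e)) ?_)
      exact inv _ ((MulAut.conj g).toMonoidHom j').2 h2
        (congrArg Subtype.val (H6.mul_self_of_orderOf_two h4))
  rcases Cfsg.Agent.S1220.result _ se with h1 | ⟨h1, -⟩
  swap
  · exfalso
    have hp : IsPGroup 2 (U.subgroupOf Γ) := fun g => ⟨1, Subtype.ext (Subtype.ext (by
      simpa [pow_two] using sq _ g.2))⟩
    obtain ⟨P, hP⟩ := hp.exists_le_sylow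
    have haP : (⟨a, hU ha⟩ : Γ) ∈ (P : Subgroup Γ) := hP ha
    have hbP : (⟨b, hU hb⟩ : Γ) ∈ (P : Subgroup Γ) := hP hb
    rcases h1 P with h2 | ⟨m, -, ⟨e⟩⟩
    · refine ab (congrArg Subtype.val (H6.eq_of_isCyclic_of_orderOf_two h2 haP hbP ?_ ?_))
      · rw [← orderOf_coe]; exact H6.orderOf_eq_two_of (sq a ha) a1
      · rw [← orderOf_coe]; exact H6.orderOf_eq_two_of (sq b hb) b1
    · have := H22.quaternion_unique_invol e (x := ⟨_, haP⟩) (y := ⟨_, hbP⟩)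
        (Subtype.ext (Subtype.ext (sq a ha))) (Subtype.ext (Subtype.ext (sq b hb)))
        (fun e => a1 (congrArg (fun x => x.1.1) e)) (fun e => b1 (congrArg (fun x => x.1.1) e))
      exact ab (congrArg (fun x => x.1.1) this)
  obtain ⟨β, hβ, h2⟩ := h1 ⟨n, hn⟩ ⟨n', hn'⟩ nU1 nU1'
  obtain ⟨u, hu, k, hk, e⟩ := dec β β.2 hβ
  have h3 : n'⁻¹ * (β * n) ∈ N[U] := h2
  rw [e] at h3
  have h4 : n'⁻¹ * u * n ∈ N[U] := by
    have := mul_mem h3 (inv_mem (nH (conj_mem' nN hk)))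
    rwa [show n'⁻¹ * (u * k * n) * (n⁻¹ * k * n)⁻¹ = n'⁻¹ * u * n by group] at this
  have h5 : ∀ k ∈ H, k * u * k⁻¹ = u := by
    intro k hk
    have h6 := mul_mem (inv_mem h4) (mul_mem (mul_mem (nH (conj_mem' nN' hk)) h4)
      (inv_mem (nH (conj_mem' nN hk))))
    rw [show (n'⁻¹ * u * n)⁻¹ * (n'⁻¹ * k * n' * (n'⁻¹ * u * n) * (n⁻¹ * k * n)⁻¹) =
      n⁻¹ * (u⁻¹ * (k * u * k⁻¹)) * n by group, ni] at h6
    exact (inv_mul_eq_one.1 (opp _ (mul_mem (inv_mem hu) (conj_mem (nH hk) hu)) h6)).symm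
  have u1 : u = 1 := by
    by_contra u1
    obtain ⟨k1, hk1, e1⟩ := tr u hu u1 a ha a1
    obtain ⟨k2, hk2, e2⟩ := tr u hu u1 b hb b1
    exact ab (by rw [← e1, ← e2, h5 _ hk1, h5 _ hk2])
  rw [u1, mul_one] at h4
  have a2 := sq a ha
  have ai : a⁻¹ = a := inv_eq_of_mul_eq_one_right a2
  obtain ⟨w, hw⟩ : ∃ w, w = (n'⁻¹ * n)⁻¹ * a * (n'⁻¹ * n) := ⟨_, rfl⟩
  have hwU : w ∈ U := hw ▸ conj_mem' h4 ha
  have e1 : n' * a * n' = n * w * n := by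
    rw [hw]
    calc _ = (n * n⁻¹) * n' * a * n' * (n * n) := by rw [n2]; group
      _ = n * (n⁻¹ * n' * a * n' * n) * n := by group
      _ = _ := by rw [mul_inv_rev, inv_inv, ni']; group
  have e2 : n' = n' * a * n' * a * (n' * a * n') := by
    calc n' = n' * (a * n') ^ 3 := by rw [c', mul_one]
      _ = _ := by simp only [pow_succ, pow_zero, one_mul, mul_assoc]
  have e3 : n * a * n = a * n * a := by
    calc n * a * n = a⁻¹ * (a * n) ^ 3 * n⁻¹ * a⁻¹ := by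
          simp only [pow_succ, pow_zero, one_mul]; group
      _ = _ := by rw [c, ai, ni, mul_one]
  have e4 : n'⁻¹ * n = n * (w * a) * n * (a * w) := by
    rw [ni', e2, e1]
    calc _ = n * w * (n * a * n) * w * (n * n) := by group
      _ = _ := by rw [e3, n2]; group
  have h7 : n * (w * a) * n ∈ N[U] := by
    rw [e4] at h4
    exact (mul_mem_cancel_right (UN (mul_mem ha hwU))).1 h4
  have h8 : w = a := by
    rw [← ai]; exact eq_inv_of_mul_eq_one_left (opp _ (mul_mem hwU ha) h7)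
  rw [e2, e1, h8]
  calc _ = n * (a * n) ^ 3 := by simp only [pow_succ, pow_zero, one_mul, mul_assoc]
    _ = n := by rw [c, mul_one]

theorem x3_sq (c : K) : U.x3 τ c * U.x3 τ c = 1 := by
  ext <;> simp [U.mul_a, U.mul_s, U.mul_c, U.mul_r, U.mul_b, U.mul_t, U.x3, Tw.T, Tw.N, Tw.sh, Tw.cr,
    CharTwo.add_self_eq_zero]

theorem x6_zero : U.x6 (τ := τ) ⟨0, map_zero _⟩ = 1 := rfl

theorem conj_x2 (w : U τ) (r : τ.F) :
    (w * U.x2 r * w⁻¹).s = r ∧ (w * U.x2 r * w⁻¹).r = w.t * r ∧ (w.t = 0 → w * U.x2 r * w⁻¹ = U.x2 r) := by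
  have hr := τ.mem_F.1 r.2
  refine ⟨?_, ?_, fun h => ?_⟩
  · simp only [U.mul_a, U.mul_s, U.mul_c, U.mul_r, U.mul_b, U.mul_t, U.inv_a, U.inv_s, U.inv_c, U.inv_r,
      U.inv_b, U.inv_t, U.x2, Tw.T, Tw.N, Tw.sh, Tw.cr, map_add, map_mul, map_zero, τ.three, w.hs, w.ht]
    grind
  · simp only [U.mul_a, U.mul_s, U.mul_c, U.mul_r, U.mul_b, U.mul_t, U.inv_a, U.inv_s, U.inv_c, U.inv_r,
      U.inv_b, U.inv_t, U.x2, Tw.T, Tw.N, Tw.sh, Tw.cr, map_add, map_mul, map_zero, τ.three, w.hs, w.ht]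
    grind
  · ext <;> simp only [U.mul_a, U.mul_s, U.mul_c, U.mul_r, U.mul_b, U.mul_t, U.inv_a, U.inv_s, U.inv_c,
      U.inv_r, U.inv_b, U.inv_t, U.x2, Tw.T, Tw.N, Tw.sh, Tw.cr, map_add, map_mul, map_zero, τ.three,
      w.hs, h] <;> grind

theorem sw {n x y : G} (n2 : n * n = 1) (e : n * x * n = y) : n * y * n = x := by
  rw [← e]
  calc _ = (n * n) * x * (n * n) := by group
    _ = x := by rw [n2]; group

theorem n6_Q2 (D : Dat M) : D.n6 ∈ N[M.Q2] := by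
  have ni : D.n6⁻¹ = D.n6 := inv_eq_of_mul_eq_one_right D.s6
  refine mem_N_of_finite ?_
  rintro _ ⟨x, hx : x.t = 0, rfl⟩
  have key : ∀ y y' : U τ, D.n6 * M.ι y * D.n6 = M.ι y' → y'.t = 0 →
      M.ι y ∈ M.Q2.comap (MulAut.conj D.n6).toMonoidHom := fun y y' e h => by
    change D.n6 * M.ι y * D.n6⁻¹ ∈ M.Q2
    rw [ni, e]; exact M.ι_Q2.2 h
  change M.ι x ∈ M.Q2.comap (MulAut.conj D.n6).toMonoidHom
  rw [U.dec x]
  have e6 : U.x6 (τ := τ) ⟨x.t, x.ht⟩ = 1 := by ext <;> simp [U.x6, hx]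
  rw [e6, mul_one, map_mul, map_mul, map_mul, map_mul]
  exact mul_mem (mul_mem (mul_mem (mul_mem (key _ _ (D.n62 _) rfl) (key _ _ (D.n63 _) rfl))
    (key _ _ (sw D.s6 (D.n62 _)) rfl)) (key _ _ (sw D.s6 (D.n61 _)) rfl)) (key _ _ (D.n61 _) rfl)

theorem mem_n6Z (D : Dat M) {x : G} : x ∈ cj D.n6 M.Z ↔ ∃ r, x = M.ι (U.x2 r) := by
  have ni : D.n6⁻¹ = D.n6 := inv_eq_of_mul_eq_one_right D.s6
  rw [mem_cj, ni]
  constructor
  · rintro ⟨y, ⟨h1, h2, h3, h4, h5⟩, e⟩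
    have : y = U.x4 ⟨y.r, y.hr⟩ := by ext <;> simp [U.x4, *]
    rw [this, ← D.n62] at e
    exact ⟨_, (mul_left_cancel (mul_right_cancel e)).symm⟩
  · rintro ⟨r, rfl⟩
    rw [D.n62]
    exact M.ι_Z.2 ⟨rfl, rfl, rfl, rfl, rfl⟩

theorem n6_Z (D : Dat M) : D.n6 ∉ N[M.Z] := fun h => by
  have := (mem_n6Z D).2 ⟨1, rfl⟩
  rw [cj_of_mem_N h, M.ι_Z] at this
  exact one_ne_zero (α := K) this.2.1

end HC6x

/-! ### HC6 -/

theorem Dat.braid (D : Dat M) (hD : D.Tor H) (h : M.Gd) (hF : τ.BigF) :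
    (D.n1 * D.n6) ^ 6 = 1 := by
  obtain ⟨ω, hω, ω0, ω1⟩ := hF
  have hωi := Tw.σ_inv hω
  obtain ⟨o, ho⟩ : ∃ o : τ.F, (o : K) = ω := ⟨⟨ω, hω⟩, rfl⟩
  have o0 : o ≠ 0 := fun e => ω0 (by rw [← ho, e]; rfl)
  have ωi : ω⁻¹ ≠ 0 := inv_ne_zero ω0
  have ω2 : ω ^ 2 ≠ 1 := fun e => ω1 (by
    have : (ω + 1) ^ 2 = 0 := by rw [add_pow_char, e]; simp [CharTwo.add_self_eq_zero]
    exact (CharTwo.add_eq_zero).1 (pow_eq_zero_iff (two_ne_zero) |>.1 this))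
  have n1i : D.n1⁻¹ = D.n1 := inv_eq_of_mul_eq_one_right D.s1
  have n6i : D.n6⁻¹ = D.n6 := inv_eq_of_mul_eq_one_right D.s6
  obtain ⟨h0, hh0⟩ : ∃ h0, h0 = D.h ω⁻¹ (o ^ 2) := ⟨_, rfl⟩
  have h0H : h0 ∈ H := hh0 ▸ hD.hH _ _ ωi (pow_ne_zero 2 o0)
  have act : ∀ x : U τ, ∃ y : U τ, h0 * M.ι x * h0⁻¹ = M.ι y ∧ y.a = ω⁻¹ * x.a ∧ y.s = ω⁻¹ * x.s ∧
      y.c = x.c ∧ y.r = ω * x.r ∧ y.b = ω * x.b ∧ y.t = ω ^ 2 * x.t := fun x => by
    refine ⟨_, hh0 ▸ D.hx _ _ ωi (pow_ne_zero 2 o0) x, rfl, ?_, ?_, ?_, ?_, ?_⟩ <;>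
      simp only [U.dg, Tw.N_fix hωi, Tw.sh_fix hωi, SubmonoidClass.coe_pow, ho] <;> field_simp
  have memU : ∀ g, g ∈ M.S ⊓ C{h0} ↔ ∃ c, g = M.ι (U.x3 τ c) := fun g => by
    constructor
    · rintro ⟨⟨x, rfl⟩, h2⟩
      obtain ⟨y, e, k1, k2, k3, k4, k5, k6⟩ := act x
      have : y = x := M.inj (by rw [← e, ← mem_C1.1 h2]; group)
      subst this
      have z : ∀ {l p : K}, l ≠ 1 → p = l * p → p = 0 := fun {l p} hl e => by
        have : (l - 1) * p = 0 := by linear_combination -e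
        exact (mul_eq_zero.1 this).resolve_left (sub_ne_zero.2 hl)
      have ωi1 : ω⁻¹ ≠ 1 := fun e => ω1 (inv_eq_one.1 e)
      refine ⟨y.c, congrArg M.ι ?_⟩
      ext
      exacts [z ωi1 k1, z ωi1 k2, rfl, z ω1 k4, z ω1 k5, z ω2 k6]
    · rintro ⟨c, rfl⟩
      refine ⟨M.ι_S _, mem_C1.2 ?_⟩
      obtain ⟨y, e, k1, k2, k3, k4, k5, k6⟩ := act (U.x3 τ c)
      have : y = U.x3 τ c := by ext <;> simp [U.x3, *]
      rw [this] at e
      rw [← mul_inv_eq_iff_eq_mul.1 e]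
  have SH : ∀ g ∈ M.S, g ∈ H → g = 1 := fun g h1 h2 =>
    mem_bot.1 (M.twoS.inf_eq_bot hD.odd ▸ (⟨h1, h2⟩ : g ∈ M.S ⊓ H))
  have red : ∀ s ∈ M.S, ∀ k ∈ H, ∀ k' ∈ H, s * k * s⁻¹ = k' → k = k' := fun s hs k hk k' hk' e => by
    have := SH (s * (k * s⁻¹ * k⁻¹)) (mul_mem hs (conj_mem (hD.HS hk) (inv_mem hs)))
      (by rw [show s * (k * s⁻¹ * k⁻¹) = s * k * s⁻¹ * k⁻¹ by group, e]; exact mul_mem hk' (inv_mem hk))
    rw [show s * (k * s⁻¹ * k⁻¹) = s * k * s⁻¹ * k⁻¹ by group, e] at this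
    exact (mul_inv_eq_one.1 this).symm
  have e6 : D.n6 * h0 * D.n6 = h0⁻¹ := by
    rw [eq_inv_iff_mul_eq_one, hh0, D.n6h _ _ ωi (pow_ne_zero 2 o0), D.hm _ _ _ _
      (mul_ne_zero (by simpa [ho] using ω0) ωi) (inv_ne_zero (pow_ne_zero 2 o0)) ωi (pow_ne_zero 2 o0),
      inv_mul_cancel₀ (pow_ne_zero 2 o0), ← D.h1]
    congr 1
    rw [SubmonoidClass.coe_pow, ho]; field_simp
  have key : ∀ g ∈ C{h0}, g ∈ N[M.Q2] → ∃ u ∈ M.S ⊓ C{h0}, ∃ k ∈ H ⊓ C{h0}, g = u * k := by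
    intro g hg hQ
    have hg' := mem_C1.1 hg
    by_cases hZ : g ∈ N[M.Z]
    · obtain ⟨s, hs, k, hk, rfl⟩ := hD.prod g (h.nS2 ⟨hQ, hZ⟩)
      have h1 := red s hs (k * h0 * k⁻¹) (mul_mem (mul_mem hk h0H) (inv_mem hk)) h0 h0H (by
        calc _ = s * k * h0 * (s * k)⁻¹ := by group
          _ = h0 := by rw [hg']; group)
      have h2 : k ∈ C{h0} := mem_C1.2 (mul_inv_eq_iff_eq_mul.1 h1)
      exact ⟨s, ⟨hs, (mul_mem_cancel_right h2).1 hg⟩, k, ⟨hk, h2⟩, rfl⟩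
    · exfalso
      obtain ⟨_, ⟨w, rfl⟩, e⟩ := M.two2 (HC6x.n6_Q2 D) (HC6x.n6_Z D) hQ hZ
      have mem : ∀ x, x ∈ cj g M.Z ↔ ∃ r, x = M.ι (w * U.x2 r * w⁻¹) := fun x => by
        rw [e, mem_cj']
        constructor
        · rintro ⟨y, hy, rfl⟩
          obtain ⟨r, rfl⟩ := (HC6x.mem_n6Z D).1 hy
          exact ⟨r, by rw [map_mul, map_mul, map_inv]⟩
        · rintro ⟨r, rfl⟩
          exact ⟨_, (HC6x.mem_n6Z D).2 ⟨r, rfl⟩, by rw [map_mul, map_mul, map_inv]⟩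
      have hN : h0 ∈ N[cj g M.Z] := mem_N_of_finite fun x hx => by
        obtain ⟨z, hz, rfl⟩ := mem_cj'.1 hx
        have : h0 * (g * z * g⁻¹) * h0⁻¹ = g * (h0 * z * h0⁻¹) * g⁻¹ := by
          calc _ = (h0 * g) * z * (h0 * g)⁻¹ := by group
            _ = _ := by rw [← hg']; group
        rw [this]
        exact conj_mem_cj g (conj_mem (M.nS_Z (hD.HS h0H)) hz)
      obtain ⟨y, e1, -, k2, -, k4, -⟩ := act (w * U.x2 1 * w⁻¹)
      obtain ⟨r, e2⟩ := (mem _).1 (conj_mem hN ((mem _).2 ⟨1, rfl⟩))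
      rw [e1] at e2
      rw [M.inj e2, (HC6x.conj_x2 w r).1, (HC6x.conj_x2 w 1).1] at k2
      rw [M.inj e2, (HC6x.conj_x2 w r).2.1, (HC6x.conj_x2 w 1).2.1, k2] at k4
      have wt : w.t = 0 := by
        have : (ω ^ 2 - 1) * w.t = 0 := by
          simp only [OneMemClass.coe_one, mul_one] at k4
          field_simp at k4
          linear_combination -k4
        exact (mul_eq_zero.1 this).resolve_left (sub_ne_zero.2 ω2)
      have e3 : cj g M.Z = cj D.n6 M.Z := by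
        ext x
        rw [mem, HC6x.mem_n6Z]
        simp only [(HC6x.conj_x2 w _).2.2 wt]
      obtain ⟨s, hs, k, hk, e4⟩ := hD.prod _
        (h.nS2 (mem_inf.2 ⟨mul_mem (inv_mem (HC6x.n6_Q2 D)) hQ, cj_eq_cj_iff.1 e3⟩))
      have h1 := red s hs (k * h0 * k⁻¹) (mul_mem (mul_mem hk h0H) (inv_mem hk)) h0⁻¹ (inv_mem h0H) (by
        calc _ = s * k * h0 * (s * k)⁻¹ := by group
          _ = D.n6⁻¹ * (g * h0) * g⁻¹ * D.n6 := by rw [← e4]; group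
          _ = D.n6⁻¹ * h0 * D.n6 := by rw [hg']; group
          _ = _ := by rw [n6i, e6])
      have h2 : k * k ∈ C{h0} := mem_C1_iff_conj.2 (by
        calc _ = k * (k * h0 * k⁻¹) * k⁻¹ := by group
          _ = k * h0⁻¹ * k⁻¹ := by rw [h1]
          _ = (k * h0 * k⁻¹)⁻¹ := by group
          _ = h0 := by rw [h1, inv_inv])
      have h3 : k ∈ C{h0} := by
        obtain ⟨i, hi⟩ := oddE_iff.1 (hD.odd.piElt hk)
        have h4 : k * (k * k) ^ i = 1 := by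
          rw [← pow_two, ← pow_mul, ← pow_succ', ← hi, pow_orderOf_eq_one]
        rw [eq_inv_of_mul_eq_one_left h4]
        exact inv_mem (pow_mem h2 i)
      rw [mem_C1_iff_conj.1 h3] at h1
      have h5 := eq_one_of_odd_sq (hD.odd.piElt h0H) (mul_eq_one_iff_eq_inv.2 h1)
      obtain ⟨y, e1, k1, -⟩ := act (U.x1 τ 1)
      rw [h5, one_mul, inv_one, mul_one] at e1
      rw [← M.inj e1] at k1
      exact ω1 (inv_eq_one.1 (by simpa [U.x1] using k1.symm))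
  have x3ne : ∀ c, M.ι (U.x3 τ c) ≠ 1 ↔ c ≠ 0 := fun c => not_congr
    ⟨fun e => congrArg U.c (M.inj (e.trans (map_one _).symm)), fun e => by rw [e]; exact map_one _⟩
  have e1 : D.n1 * h0 * D.n1 = D.h ω o⁻¹ := by
    rw [hh0, D.n1h _ _ ωi (pow_ne_zero 2 o0), inv_inv]
    congr 1
    ext
    simp only [MulMemClass.coe_mul, SubmonoidClass.coe_pow, Subfield.coe_inv, ho, Tw.N_fix hωi]
    field_simp
  have e2 : D.n6 * D.h ω o⁻¹ * D.n6 = D.h 1 o := by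
    rw [D.n6h _ _ ω0 (inv_ne_zero o0), inv_inv, Subfield.coe_inv, ho, inv_mul_cancel₀ ω0]
  have e3 : D.n1 * D.h 1 o * D.n1 = D.h 1 o := by
    rw [D.n1h _ _ one_ne_zero o0, inv_one]
    congr 1
    ext
    simp [Tw.N]
  obtain ⟨n, hn⟩ : ∃ n, n = D.n1 * D.n6 * D.n1 * D.n6 * D.n1 := ⟨_, rfl⟩
  have hn' : n = D.n1 * D.n6 * D.n1 * (D.n1 * D.n6)⁻¹ := by
    rw [mul_inv_rev, n1i, n6i, hn]; group
  have n2 : n * n = 1 := by
    rw [hn']
    calc _ = D.n1 * D.n6 * (D.n1 * D.n1) * (D.n1 * D.n6)⁻¹ := by group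
      _ = 1 := by rw [D.s1]; group
  have ni : n⁻¹ = n := inv_eq_of_mul_eq_one_right n2
  have nΓ : n ∈ C{h0} := mem_C1_iff_conj.2 (by
    rw [ni, hn]
    calc _ = D.n1 * (D.n6 * (D.n1 * (D.n6 * (D.n1 * h0 * D.n1) * D.n6) * D.n1) * D.n6) * D.n1 := by group
      _ = h0 := by rw [e1, e2, e3, HC6x.sw D.s6 e2, HC6x.sw D.s1 e1])
  have nΓ' : D.n6 * n * D.n6 ∈ C{h0} := mem_C1_iff_conj.2 (by
    rw [mul_inv_rev, mul_inv_rev, ni, n6i]
    calc _ = D.n6 * (n * (D.n6 * h0 * D.n6) * n) * D.n6 := by group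
      _ = D.n6 * (n * h0 * n⁻¹)⁻¹ * D.n6 := by rw [e6, mul_inv_rev, mul_inv_rev, inv_inv, ni]; group
      _ = h0 := by rw [mem_C1_iff_conj.1 nΓ, HC6x.sw D.s6 e6])
  have nH : n ∈ N[H] := hn ▸ mul_mem (mul_mem (mul_mem (mul_mem hD.n1H hD.n6H) hD.n1H) hD.n6H) hD.n1H
  have nrm : ∀ X : Subgroup G, ∀ g ∈ N[X], g ∈ C{h0} → g ∈ N[X ⊓ C{h0}] := fun X g h1 h2 =>
    mem_N_of_finite fun x hx => mem_inf.2 ⟨conj_mem h1 hx.1, mul_mem (mul_mem h2 (mem_inf.1 hx).2) (inv_mem h2)⟩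
  have x13 : ∀ c, D.n1 * D.n6 * M.ι (U.x1 τ c) * (D.n1 * D.n6)⁻¹ = M.ι (U.x3 τ c) := fun c => by
    rw [mul_inv_rev, n1i, n6i, ← HC6x.sw D.s1 (D.n13 c), ← D.n61]; group
  have nU : n ∉ M.S ⊓ C{h0} := fun e => by
    obtain ⟨c, e⟩ := (memU _).1 e
    rw [hn', ← x13] at e
    have e4 := D.n12 1
    rw [mul_left_cancel (mul_right_cancel e), ← map_mul, ← map_mul] at e4
    have := congrArg U.t (M.inj e4)
    simp [U.mul_t, U.x1, U.x2, U.x6] at this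
  have c : (M.ι (U.x3 τ 1) * n) ^ 3 = 1 := by
    have : M.ι (U.x3 τ 1) * n = D.n1 * D.n6 * (M.ι (U.x1 τ 1) * D.n1) * (D.n1 * D.n6)⁻¹ := by
      rw [← x13, hn']; group
    rw [this, conj_pow, D.c1]; group
  have fin : D.n6 * n * D.n6 = n := by
    refine HC6x.core (Γ := C{h0}) (U := M.S ⊓ C{h0}) (H := H ⊓ C{h0}) (a := M.ι (U.x3 τ 1))
      (b := M.ι (U.x3 τ ω)) inf_le_right inf_le_right (fun u hu => ?_) (hD.odd.of_le inf_le_left)
      (fun k hk => nrm _ k (hD.HS hk.1) hk.2) (fun y hy y1 g hg e => ?_) (fun y hy y1 y' hy' y1' => ?_)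
      ((memU _).2 ⟨_, rfl⟩) ((memU _).2 ⟨_, rfl⟩) ((x3ne _).2 one_ne_zero) ((x3ne _).2 ω0)
      (fun e => ω1 (congrArg U.c (M.inj e)).symm) nΓ nΓ' (nrm _ _ nH nΓ)
      (nrm _ _ (mul_mem (mul_mem hD.n6H nH) hD.n6H) nΓ') n2 ?_ nU (fun e => nU ?_) c ?_
    · obtain ⟨c, rfl⟩ := (memU _).1 hu
      rw [← map_mul, HC6x.x3_sq, map_one]
    · obtain ⟨c, rfl⟩ := (memU _).1 hy
      exact key g hg (h.cy _ (M.ι_W.2 ⟨rfl, rfl, rfl⟩)
        (fun e => (x3ne c).1 y1 (M.ι_V.1 e).2.1) (mem_C1.2 e))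
    · obtain ⟨c, rfl⟩ := (memU _).1 hy
      obtain ⟨c', rfl⟩ := (memU _).1 hy'
      have c0 := (x3ne c).1 y1
      obtain ⟨α, hα⟩ := τ.sh_surj (c' / c)
      have α0 : α ≠ 0 := fun e => by
        rw [e] at hα
        simp only [Tw.sh, map_zero, mul_zero] at hα
        exact div_ne_zero ((x3ne c').1 y1') c0 hα.symm
      refine ⟨D.h α 1, ⟨hD.hH _ _ α0 one_ne_zero, mem_C1.2 ?_⟩, ?_⟩
      · rw [hh0, D.hm _ _ _ _ α0 one_ne_zero ωi (pow_ne_zero 2 o0),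
          D.hm _ _ _ _ ωi (pow_ne_zero 2 o0) α0 one_ne_zero, mul_comm α, mul_comm 1]
      · rw [D.hx _ _ α0 one_ne_zero]
        congr 1
        ext <;> simp [U.dg, U.x3, hα, c0]
    · calc _ = D.n6 * (n * (D.n6 * D.n6) * n) * D.n6 := by group
        _ = 1 := by rw [D.s6, mul_one, n2, mul_one, D.s6]
    · obtain ⟨c, e⟩ := (memU _).1 e
      rw [← HC6x.sw D.s6 e, D.n63]
      exact (memU _).2 ⟨c, rfl⟩
    · have : M.ι (U.x3 τ 1) * (D.n6 * n * D.n6) = D.n6 * (M.ι (U.x3 τ 1) * n) * D.n6⁻¹ := by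
        rw [n6i]
        calc _ = D.n6 * M.ι (U.x3 τ 1) * D.n6 * (D.n6 * n * D.n6) := by rw [D.n63]
          _ = D.n6 * M.ι (U.x3 τ 1) * (D.n6 * D.n6) * n * D.n6 := by group
          _ = _ := by rw [D.s6]; group
      rw [this, conj_pow, c]; group
  calc (D.n1 * D.n6) ^ 6 = n * (D.n6 * n * D.n6) := by
        rw [hn]; simp only [pow_succ, pow_zero, one_mul, mul_assoc]
    _ = 1 := by rw [fin, n2]


end H27.HX
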