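import Mathlib
import Cfsg.Prelude.Def_LieTwisted
import Cfsg.Prelude.Def_CaseTheorems
import Cfsg.Agent.H27.HX1
import Cfsg.Agent.H27.HF6

set_option autoImplicit false
set_option linter.unusedVariables false
set_option linter.unusedSectionVars false
set_option linter.unusedSimpArgs false

namespace H27.HX

open Cfsg H24 H26 H26.Gold H26.LM Subgroup
open scoped commutatorElement

universe u v

variable {G : Type u} [Group G] [Finite G] {K : Type} [Field K] [Finite K] [CharP K 2] {τ : Tw K}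
  {M M' M'' : Md G τ} {A : Ap G} {H S E M0 R X X' Y L D N0 P J : Subgroup G} {𝒟 : Set G}
  {g h j k l n s t x y z : G} {a a' b c c0 e f : K} {u v w : U τ}

namespace HC7x

theorem x6z : U.x6 (0 : τ.F) = (1 : U τ) := rfl
theorem x1z : U.x1 τ 0 = (1 : U τ) := rfl

theorem cjm (n : G) (hn : n * n = 1) (x y : G) : n * (x * y) * n = n * x * n * (n * y * n) := by
  calc n * (x * y) * n = n * x * (n * n) * y * n := by rw [hn]; group
    _ = _ := by group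

theorem n1i (D : Dat M) : D.n1⁻¹ = D.n1 := inv_eq_of_mul_eq_one_right D.s1
theorem n6i (D : Dat M) : D.n6⁻¹ = D.n6 := inv_eq_of_mul_eq_one_right D.s6

theorem n1Q (D : Dat M) : D.n1 ∈ N[M.Q1] := mem_N_of_finite fun x hx => by
  obtain ⟨u, hu, rfl⟩ := M.mem_Q1.1 hx
  have e5 : ∀ c, D.n1 * M.ι (U.x5 τ c) * D.n1 = M.ι (U.x3 τ c) := fun c => by
    rw [← D.n13]; simp only [← mul_assoc, D.s1, one_mul]; rw [mul_assoc, D.s1, mul_one]
  have e6 : ∀ c, D.n1 * M.ι (U.x6 c) * D.n1 = M.ι (U.x2 c) := fun c => by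
    rw [← D.n12]; simp only [← mul_assoc, D.s1, one_mul]; rw [mul_assoc, D.s1, mul_one]
  rw [U.dec u, hu, x1z, mul_one, n1i]
  simp only [map_mul, cjm _ D.s1, D.n12, D.n13, D.n14, e5, e6]
  refine mul_mem (mul_mem (mul_mem (mul_mem ?_ ?_) ?_) ?_) ?_ <;> exact M.ι_Q1.2 rfl

theorem n6Q (D : Dat M) : D.n6 ∈ N[M.Q2] := mem_N_of_finite fun x hx => by
  obtain ⟨u, hu, rfl⟩ := M.mem_Q2.1 hx
  have e5 : ∀ c, D.n6 * M.ι (U.x5 τ c) * D.n6 = M.ι (U.x1 τ c) := fun c => by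
    rw [← D.n61]; simp only [← mul_assoc, D.s6, one_mul]; rw [mul_assoc, D.s6, mul_one]
  have e4 : ∀ c, D.n6 * M.ι (U.x4 c) * D.n6 = M.ι (U.x2 c) := fun c => by
    rw [← D.n62]; simp only [← mul_assoc, D.s6, one_mul]; rw [mul_assoc, D.s6, mul_one]
  rw [U.dec u, show (⟨u.t, u.ht⟩ : τ.F) = 0 from Subtype.ext hu, x6z, mul_one, n6i]
  simp only [map_mul, cjm _ D.s6, D.n61, D.n62, D.n63, e5, e4]
  refine mul_mem (mul_mem (mul_mem (mul_mem ?_ ?_) ?_) ?_) ?_ <;> exact M.ι_Q2.2 rfl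

theorem n1V (D : Dat M) : D.n1 ∉ N[M.V] := fun h => by
  have := (mem_N.1 h _).1 (M.ι_V.2 (show _ ∧ _ from ⟨rfl, rfl, rfl, rfl⟩) : M.ι (U.x2 1) ∈ _)
  rw [n1i, D.n12] at this
  exact one_ne_zero (M.ι_V.1 this).2.2.2

theorem n6Z (D : Dat M) : D.n6 ∉ N[M.Z] := fun h => by
  have := (mem_N.1 (inv_mem h) _).1 (M.ι_Z.2 (show _ ∧ _ from ⟨rfl, rfl, rfl, rfl, rfl⟩) : M.ι (U.x4 1) ∈ _)
  rw [← D.n62, inv_inv, show D.n6⁻¹ * (D.n6 * M.ι (U.x2 1) * D.n6) * D.n6 = M.ι (U.x2 1) * (D.n6 * D.n6) by group,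
    D.s6, mul_one] at this
  exact one_ne_zero (M.ι_Z.1 this).2.1

theorem mem_of_cube (hn : n * n = 1) (hx : x ∈ S) (h : (x * n) ^ 3 = 1) : n ∈ S ⊔ cj n S := by
  have i : n⁻¹ = n := inv_eq_of_mul_eq_one_right hn
  have e : n = (x * (n * x * n⁻¹) * x)⁻¹ := by
    rw [eq_inv_iff_mul_eq_one, mul_eq_one_comm, ← h, i, pow_succ, pow_two]; simp only [mul_assoc]
  rw [e]
  exact inv_mem (mul_mem (mul_mem (mem_sup_left hx) (mem_sup_right (e ▸ mem_cj'.2 ⟨x, hx, rfl⟩))) (mem_sup_left hx))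

end HC7x

open HC7x

/-! ### HC7 -/

theorem Dat.gen [IsSimpleGroup G] (D : Dat M) (hD : D.Tor H) (h : M.Gd) :
    M.S ⊔ closure {D.n1, D.n6} = ⊤ := by
  set G0 := (M.S ⊔ cj D.n1 M.S) ⊔ (M.S ⊔ cj D.n6 M.S) with hG0
  have m1 : D.n1 ∈ G0 := mem_sup_left (mem_of_cube D.s1 (M.ι_S _) D.c1)
  have m6 : D.n6 ∈ G0 := mem_sup_right (mem_of_cube D.s6 (M.ι_S _) D.c6)
  have mS : M.S ≤ G0 := le_sup_left.trans le_sup_left
  have hH : ∀ n ∈ N[H], ∀ g ∈ H, cj g (cj n M.S) = cj n M.S := fun n hn g hg => by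
    rw [← cj_mul, cj_eq_cj_iff]
    have := (mem_N.1 (inv_mem hn) g).1 hg
    rw [inv_inv, mul_assoc] at this
    exact hD.HS this
  have nS : N[M.S] ≤ N[G0] := fun g hg => by
    obtain ⟨s, hs, k, hk, rfl⟩ := hD.prod g hg
    refine mul_mem (norm_self _ (mS hs)) (mem_N_iff_cj.2 ?_)
    rw [hG0, cj_sup, cj_sup, cj_sup, hH _ hD.n1H k hk, hH _ hD.n6H k hk, cj_of_mem_N (hD.HS hk)]
  have top : ⊤ ≤ N[G0] := by
    rw [← h.gen]
    refine sup_le (fun g hg => ?_) fun g hg => ?_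
    · by_cases hv : g ∈ N[M.V]
      · exact nS (h.nS1 ⟨hg, hv⟩)
      obtain ⟨s, hs, e⟩ := M.two1 h.big (n1Q D) (n1V D) hg hv
      rw [← cj_mul, cj_eq_cj_iff] at e
      have k : (s * D.n1)⁻¹ * g ∈ N[M.Q1] := mul_mem (inv_mem (mul_mem (M.S_N.2.2.2.2.1 hs) (n1Q D))) hg
      have := mul_mem (norm_self _ (mul_mem (mS hs) m1)) (nS (h.nS1 ⟨k, e⟩))
      rwa [mul_inv_cancel_left] at this
    · by_cases hv : g ∈ N[M.Z]
      · exact nS (h.nS2 ⟨hg, hv⟩)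
      obtain ⟨s, hs, e⟩ := M.two2 (n6Q D) (n6Z D) hg hv
      rw [← cj_mul, cj_eq_cj_iff] at e
      have k : (s * D.n6)⁻¹ * g ∈ N[M.Q2] := mul_mem (inv_mem (mul_mem (M.S_N.2.2.2.2.2 hs) (n6Q D))) hg
      have := mul_mem (norm_self _ (mul_mem (mS hs) m6)) (nS (h.nS2 ⟨k, e⟩))
      rwa [mul_inv_cancel_left] at this
  have hn : G0.Normal := normalizer_eq_top_iff.1 (top_le_iff.1 top)
  have h1 : D.n1 ∈ M.S ⊔ closure {D.n1, D.n6} := mem_sup_right (subset_closure (by simp))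
  have h6 : D.n6 ∈ M.S ⊔ closure {D.n1, D.n6} := mem_sup_right (subset_closure (by simp))
  rw [eq_top_iff, ← hn.eq_bot_or_eq_top.resolve_left fun e => n1V D (by
    rw [e, mem_bot] at m1; rw [m1]; exact one_mem _)]
  exact sup_le (sup_le le_sup_left (cj_le_of_mem le_sup_left h1)) (sup_le le_sup_left (cj_le_of_mem le_sup_left h6))

end H27.HX
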