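import Mathlib
import Cfsg.Prelude.Def_LieTwisted
import Cfsg.Prelude.Def_CaseTheorems
import Cfsg.Agent.H27.HX1
import Cfsg.Agent.H27.HB

set_option autoImplicit false
set_option linter.unusedVariables false
set_option linter.unusedSectionVars false
set_option linter.unusedSimpArgs false

namespace H27.HX

open Cfsg H24 H26 H26.Gold H26.LM Subgroup
open scoped commutatorElement

universe u v

variable {G : Type u} [Group G] [Finite G] {K : Type} [Field K] [Finite K] [CharP K 2] {τ : Tw K}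
  {M M' M'' : Md G τ} {A : Ap G} {H S E M0 R X X' Y L D N0 P J : Subgroup G} {𝒟 : Set G}
  {g h j k l n s t x y z : G} {a a' b c c0 e f : K} {u v w : U τ}

/-! ### HC8 -/

namespace HC8x
section
variable {Γ : Type*} [Group Γ]

/-- alternating words -/
def alt : Γ → Γ → ℕ → Γ
  | _, _, 0 => 1
  | p, q, k + 1 => p * alt q p k

/-- the dihedral group of order twelve -/
def WW (p q w : Γ) : Prop := ∃ k ≤ 6, w = alt p q k ∨ w = alt q p k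

theorem WW.symm {p q w : Γ} (h : WW p q w) : WW q p w := let ⟨k, hk, e⟩ := h; ⟨k, hk, e.symm⟩

/-- `x ^ w ∈ U` -/
def PP (U₀ : Subgroup Γ) (x w : Γ) : Prop := w⁻¹ * x * w ∈ U₀

theorem chain0 {U₀ : Subgroup Γ} {x p q : Γ} (hx : x ∈ U₀) : ∀ k ≤ 0, PP U₀ x (alt p q k) := by
  intro k hk
  obtain rfl : k = 0 := by omega
  simpa [PP, alt] using hx

theorem chain {U₀ : Subgroup Γ} {x y p q : Γ} {m : ℕ} (hx : x ∈ U₀) (hp : p * p = 1) (e : p * x * p = y)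
    (ih : ∀ k ≤ m, PP U₀ y (alt q p k)) : ∀ k ≤ m + 1, PP U₀ x (alt p q k) := by
  intro k hk
  rcases k with _ | k
  · simpa [PP, alt] using hx
  · have := ih k (by omega)
    rw [PP, ← e] at this
    rw [PP, alt, mul_inv_rev, inv_eq_of_mul_eq_one_right hp]
    simpa only [mul_assoc] using this

theorem braid {p q : Γ} (hp : p * p = 1) (hq : q * q = 1) (h : (p * q) ^ 6 = 1) : alt q p 6 = alt p q 6 := by
  have hp' : ∀ g, p * (p * g) = g := fun g => by rw [← mul_assoc, hp, one_mul]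
  have hq' : ∀ g, q * (q * g) = g := fun g => by rw [← mul_assoc, hq, one_mul]
  have h1 : alt q p 6 * alt p q 6 = 1 := by simp only [alt, mul_assoc, mul_one, hp', hq', hq]
  have h2 : alt p q 6 * alt p q 6 = 1 := by
    rw [← h]; simp only [alt, pow_succ, pow_zero, mul_assoc, mul_one, one_mul]
  exact mul_right_cancel (h1.trans h2.symm)

/-- the data attached to one reflection -/
structure Rf (U₀ T A : Subgroup Γ) (p q : Γ) : Prop where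
  sq : p * p = 1
  le : A ≤ U₀
  tA : ∀ t ∈ T, ∀ x ∈ A, t * x * t⁻¹ ∈ A
  nT : ∀ t ∈ T, p * t * p ∈ T
  dec : ∀ u ∈ U₀, ∃ x ∈ A, p * (u * x⁻¹) * p ∈ U₀
  base : ∃ x0 ∈ A, p * x0 * p = x0 * p * x0 ∧ ∀ x ∈ A, x = 1 ∨ ∃ t ∈ T, x = t * x0 * t⁻¹
  nU : p ∉ U₀
  pp : ∀ x ∈ A, ∀ k ≤ 5, PP U₀ x (alt q p k)
  br : alt q p 6 = alt p q 6

/-- `B W U` -/
def XX (U₀ T : Subgroup Γ) (p q g : Γ) : Prop :=
  ∃ u ∈ U₀, ∃ t ∈ T, ∃ w, WW p q w ∧ ∃ v ∈ U₀, g = u * t * w * v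

theorem XX.symm {U₀ T : Subgroup Γ} {p q g : Γ} (h : XX U₀ T p q g) : XX U₀ T q p g :=
  let ⟨u, hu, t, ht, w, hw, r⟩ := h; ⟨u, hu, t, ht, w, hw.symm, r⟩

variable {U₀ T A : Subgroup Γ} {p q : Γ}

theorem Rf.cases (h : Rf U₀ T A p q) {w : Γ} (hw : WW p q w) :
    (∃ k ≤ 5, w = alt q p k) ∨ ∃ k ≤ 5, w = p * alt q p k := by
  obtain ⟨k, hk, rfl | rfl⟩ := hw
  · rcases k with _ | k
    · exact Or.inl ⟨0, by omega, rfl⟩
    · exact Or.inr ⟨k, by omega, rfl⟩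
  · rcases Nat.lt_or_ge k 6 with h6 | h6
    · exact Or.inl ⟨k, by omega, rfl⟩
    · obtain rfl : k = 6 := by omega
      exact Or.inr ⟨5, le_rfl, h.br⟩

theorem Rf.step (h : Rf U₀ T A p q) (tU : ∀ t ∈ T, ∀ x ∈ U₀, t * x * t⁻¹ ∈ U₀) {g : Γ}
    (hg : XX U₀ T p q g) : XX U₀ T p q (p * g) := by
  obtain ⟨u, hu, t, ht, w, hw, v, hv, rfl⟩ := hg
  obtain ⟨x, hx, hq⟩ := h.dec u hu
  have pi : p⁻¹ = p := inv_eq_of_mul_eq_one_right h.sq
  have hp' : ∀ g, p * (p * g) = g := fun g => by rw [← mul_assoc, h.sq, one_mul]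
  have hx' : t⁻¹ * x * t⁻¹⁻¹ ∈ A := h.tA _ (inv_mem ht) x hx
  have ht' := h.nT t ht
  generalize ex : t⁻¹ * x * t⁻¹⁻¹ = x' at hx'
  generalize eq : p * (u * x⁻¹) * p = q' at hq
  generalize et : p * t * p = t' at ht'
  have e : p * (u * t * w * v) = q' * t' * (p * x' * w) * v := by
    rw [← ex, ← eq, ← et]; simp only [mul_assoc, hp', inv_inv, mul_inv_cancel_left, inv_mul_cancel_left]
  rw [e]
  rcases h.cases hw with ⟨k, hk, rfl⟩ | ⟨k, hk, rfl⟩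
  · exact ⟨q', hq, t', ht', p * alt q p k, ⟨k + 1, by omega, Or.inl rfl⟩, _, mul_mem (h.pp x' hx' k hk) hv,
      by group⟩
  · obtain ⟨x0, h0, e0, hb⟩ := h.base
    rcases hb x' hx' with rfl | ⟨s, hs, rfl⟩
    · exact ⟨q', hq, t', ht', alt q p k, ⟨k, by omega, Or.inr rfl⟩, v, hv, by
        simp only [mul_one, mul_assoc, hp']⟩
    · have hs' := h.nT s hs
      have hy := h.tA _ hs' x0 h0
      have e1 : p * (s * x0 * s⁻¹) * p = (p * s * p) * x0 * (p * s * p)⁻¹ * ((p * s * p) * s⁻¹) * p *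
          ((p * s * p) * x0 * (p * s * p)⁻¹) := by
        have : p * (s * x0 * s⁻¹) * p = (p * s * p) * (p * x0 * p) * (p * s * p)⁻¹ := by
          simp only [mul_inv_rev, pi, mul_assoc, hp']
        rw [this, e0]
        simp only [mul_inv_rev, pi, mul_assoc, hp', mul_inv_cancel_left, inv_mul_cancel_left]
      generalize p * s * p = s' at hs' hy e1
      generalize s' * x0 * s'⁻¹ = y at hy e1
      refine ⟨q' * (t' * y * t'⁻¹), mul_mem hq (tU _ ht' _ (h.le hy)), t' * (s' * s⁻¹),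
        mul_mem ht' (mul_mem hs' (inv_mem hs)), p * alt q p k, ⟨k + 1, by omega, Or.inl rfl⟩, _,
        mul_mem (h.pp y hy k hk) hv, ?_⟩
      rw [← mul_assoc (p * _) p, e1]; group

theorem Rf.not_norm (h : Rf U₀ T A p q) {k : ℕ} (hk : k ≤ 5)
    (hn : ∀ x ∈ U₀, p * alt q p k * x * (p * alt q p k)⁻¹ ∈ U₀) : False := by
  obtain ⟨x0, h0, e0, -⟩ := h.base
  have := hn _ (h.pp x0 h0 k hk)
  rw [show p * alt q p k * ((alt q p k)⁻¹ * x0 * alt q p k) * (p * alt q p k)⁻¹ = p * x0 * p⁻¹ by group,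
    inv_eq_of_mul_eq_one_right h.sq, e0] at this
  exact h.nU ((mul_mem_cancel_left (h.le h0)).1 ((mul_mem_cancel_right (h.le h0)).1 this))

theorem bruhat {A' : Subgroup Γ} (h : Rf U₀ T A p q) (h' : Rf U₀ T A' q p)
    (tU : ∀ t ∈ T, ∀ x ∈ U₀, t * x * t⁻¹ ∈ U₀) {g : Γ} (hg : g ∈ U₀ ⊔ closure {p, q})
    (hn : ∀ x ∈ U₀, g * x * g⁻¹ ∈ U₀) : ∃ u ∈ U₀, ∃ t ∈ T, g = u * t := by
  have key : ∀ x ∈ (U₀ : Set Γ) ∪ {p, q}, ∀ y, XX U₀ T p q y → XX U₀ T p q (x * y) ∧ XX U₀ T p q (x⁻¹ * y) := by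
    rintro x (hx | rfl | rfl) y hy
    · obtain ⟨u, hu, t, ht, w, hw, v, hv, rfl⟩ := hy
      exact ⟨⟨x * u, mul_mem hx hu, t, ht, w, hw, v, hv, by group⟩,
        ⟨x⁻¹ * u, mul_mem (inv_mem hx) hu, t, ht, w, hw, v, hv, by group⟩⟩
    · rw [inv_eq_of_mul_eq_one_right h.sq]; exact ⟨h.step tU hy, h.step tU hy⟩
    · rw [inv_eq_of_mul_eq_one_right h'.sq]; exact ⟨(h'.step tU hy.symm).symm, (h'.step tU hy.symm).symm⟩
  have hX : XX U₀ T p q g := by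
    rw [← closure_eq U₀, ← Subgroup.closure_union] at hg
    clear hn
    induction hg using closure_induction_left with
    | one => exact ⟨1, one_mem _, 1, one_mem _, 1, ⟨0, by omega, Or.inl rfl⟩, 1, one_mem _, by simp⟩
    | mul_left x hx y _ ih => exact (key x hx y ih).1
    | inv_mul_cancel x hx y _ ih => exact (key x hx y ih).2
  obtain ⟨u, hu, t, ht, w, ⟨k, hk, hw⟩, v, hv, rfl⟩ := hX
  have hw' : ∀ x ∈ U₀, w * x * w⁻¹ ∈ U₀ := fun x hx => by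
    have h1 := hn _ (mul_mem (mul_mem (inv_mem hv) hx) hv)
    have h2 := tU _ (inv_mem ht) _ (mul_mem (mul_mem (inv_mem hu) h1) hu)
    convert h2 using 1; group
  rcases k with _ | k
  · obtain rfl : w = 1 := by rcases hw with rfl | rfl <;> rfl
    exact ⟨u * (t * v * t⁻¹), mul_mem hu (tU _ ht _ hv), t, ht, by group⟩
  · rcases hw with rfl | rfl
    · exact (h.not_norm (by omega) hw').elim
    · exact (h'.not_norm (by omega) hw').elim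

/-- the relations, without the Sylow condition -/
structure Dt (ι : U τ →* Γ) where
  n1 : Γ
  n6 : Γ
  h : K → τ.F → Γ
  inj : Function.Injective ι
  hx : ∀ α θ, α ≠ 0 → θ ≠ 0 → ∀ x, h α θ * ι x * (h α θ)⁻¹ = ι (U.dg α θ x)
  hm : ∀ α θ α' θ', α ≠ 0 → θ ≠ 0 → α' ≠ 0 → θ' ≠ 0 → h α θ * h α' θ' = h (α * α') (θ * θ')
  h1 : h 1 1 = 1
  s1 : n1 * n1 = 1
  s6 : n6 * n6 = 1
  n1h : ∀ α θ, α ≠ 0 → θ ≠ 0 → n1 * h α θ * n1 = h α⁻¹ (θ * ⟨τ.N α, τ.σ_N α⟩)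
  n6h : ∀ α θ, α ≠ 0 → θ ≠ 0 → n6 * h α θ * n6 = h (θ * α) θ⁻¹
  n12 : ∀ s, n1 * ι (U.x2 s) * n1 = ι (U.x6 s)
  n13 : ∀ c, n1 * ι (U.x3 τ c) * n1 = ι (U.x5 τ c)
  n14 : ∀ r, n1 * ι (U.x4 r) * n1 = ι (U.x4 r)
  n61 : ∀ a, n6 * ι (U.x1 τ a) * n6 = ι (U.x5 τ a)
  n62 : ∀ s, n6 * ι (U.x2 s) * n6 = ι (U.x4 s)
  n63 : ∀ c, n6 * ι (U.x3 τ c) * n6 = ι (U.x3 τ c)
  c1 : (ι (U.x1 τ 1) * n1) ^ 3 = 1
  c6 : (ι (U.x6 1) * n6) ^ 3 = 1
  hb : (n1 * n6) ^ 6 = 1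

theorem flip {p x y : Γ} (hp : p * p = 1) (e : p * x * p = y) : p * y * p = x := by
  rw [← e, ← mul_assoc, ← mul_assoc, hp, one_mul, mul_assoc, hp, mul_one]

theorem cube {p x : Γ} (hp : p * p = 1) (hx : x * x = 1) (e : (x * p) ^ 3 = 1) : p * x * p = x * p * x := by
  have hp' : ∀ g, p * (p * g) = g := fun g => by rw [← mul_assoc, hp, one_mul]
  have hx' : ∀ g, x * (x * g) = g := fun g => by rw [← mul_assoc, hx, one_mul]
  have h1 : (x * p * x) * (p * x * p) = 1 := by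
    rw [← e]; simp only [pow_succ, pow_zero, mul_assoc, one_mul]
  have h2 : (x * p * x) * (x * p * x) = 1 := by simp only [mul_assoc, hp', hx', hx]
  exact mul_left_cancel (h1.trans h2.symm)

theorem cj_mul {p x y : Γ} {U₀ : Subgroup Γ} (hp : p * p = 1) (hx : p * x * p ∈ U₀) (hy : p * y * p ∈ U₀) :
    p * (x * y) * p ∈ U₀ := by
  have hp' : ∀ g, p * (p * g) = g := fun g => by rw [← mul_assoc, hp, one_mul]
  simpa only [mul_assoc, hp'] using mul_mem hx hy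

/-- the root homomorphisms -/
def r1 (τ : Tw K) : Multiplicative K →* U τ := MonoidHom.mk' (fun a => U.x1 τ a.toAdd) fun a b => (U.rel τ).a1 _ _
def r6 (τ : Tw K) : Multiplicative τ.F →* U τ := MonoidHom.mk' (fun a => U.x6 a.toAdd) fun a b => (U.rel τ).a6 _ _

variable {ι : U τ →* Γ} (D : Dt ι)

/-- the torus -/
def Dt.To : Subgroup Γ where
  carrier := {g | ∃ α θ, α ≠ 0 ∧ θ ≠ 0 ∧ g = D.h α θ}
  one_mem' := ⟨1, 1, one_ne_zero, one_ne_zero, D.h1.symm⟩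
  mul_mem' := by
    rintro _ _ ⟨α, θ, h1, h2, rfl⟩ ⟨α', θ', h3, h4, rfl⟩
    exact ⟨_, _, mul_ne_zero h1 h3, mul_ne_zero h2 h4, D.hm _ _ _ _ h1 h2 h3 h4⟩
  inv_mem' := by
    rintro _ ⟨α, θ, h1, h2, rfl⟩
    refine ⟨_, _, inv_ne_zero h1, inv_ne_zero h2, inv_eq_of_mul_eq_one_right ?_⟩
    rw [D.hm _ _ _ _ h1 h2 (inv_ne_zero h1) (inv_ne_zero h2), mul_inv_cancel₀ h1, mul_inv_cancel₀ h2, D.h1]

theorem Dt.tU : ∀ t ∈ D.To, ∀ x ∈ ι.range, t * x * t⁻¹ ∈ ι.range := by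
  rintro _ ⟨α, θ, h1, h2, rfl⟩ _ ⟨x, rfl⟩
  exact ⟨_, (D.hx α θ h1 h2 x).symm⟩

theorem Dt.rf1 : Rf ι.range D.To (ι.comp (r1 τ)).range D.n1 D.n6 where
  sq := D.s1
  le := by rintro _ ⟨a, rfl⟩; exact ⟨_, rfl⟩
  tA := by
    rintro _ ⟨α, θ, h1, h2, rfl⟩ _ ⟨a, rfl⟩
    refine ⟨Multiplicative.ofAdd (α * a.toAdd), Eq.trans (congrArg ι ?_) (D.hx α θ h1 h2 _).symm⟩
    ext <;> simp [r1, U.x1, U.dg]
  nT := by
    rintro _ ⟨α, θ, h1, h2, rfl⟩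
    exact ⟨_, _, inv_ne_zero h1, mul_ne_zero h2 fun e => τ.N_ne h1 (congrArg Subtype.val e), D.n1h α θ h1 h2⟩
  dec := by
    rintro _ ⟨u, rfl⟩
    refine ⟨ι (U.x1 τ u.a), ⟨Multiplicative.ofAdd u.a, rfl⟩, ?_⟩
    have e := congrArg ι (U.dec u)
    simp only [map_mul] at e
    rw [e, mul_inv_cancel_right]
    refine cj_mul D.s1 (cj_mul D.s1 (cj_mul D.s1 (cj_mul D.s1 ?_ ?_) ?_) ?_) ?_
    · exact ⟨_, (D.n12 _).symm⟩
    · exact ⟨_, (D.n13 _).symm⟩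
    · exact ⟨_, (D.n14 _).symm⟩
    · exact ⟨_, (flip D.s1 (D.n13 _)).symm⟩
    · exact ⟨_, (flip D.s1 (D.n12 _)).symm⟩
  base := by
    refine ⟨ι (U.x1 τ 1), ⟨Multiplicative.ofAdd 1, rfl⟩, cube D.s1 ?_ D.c1, ?_⟩
    · rw [← map_mul, ← (U.rel τ).a1, CharTwo.add_self_eq_zero]; exact map_one ι
    · rintro _ ⟨a, rfl⟩
      by_cases ha : a.toAdd = 0
      · left
        show ι (U.x1 τ a.toAdd) = 1
        rw [ha]; exact map_one ι
      · refine Or.inr ⟨_, ⟨_, 1, ha, one_ne_zero, rfl⟩, Eq.trans (congrArg ι ?_) (D.hx _ 1 ha one_ne_zero _).symm⟩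
        ext <;> simp [r1, U.x1, U.dg]
  nU := by
    rintro ⟨u, hu⟩
    have := D.n12 1
    rw [← hu, ← map_mul, ← map_mul] at this
    have := congrArg U.t (D.inj this)
    simp [U.mul_t, U.x2, U.x6, CharTwo.add_self_eq_zero] at this
  pp := by
    rintro _ ⟨a, rfl⟩
    exact chain ⟨_, rfl⟩ D.s6 (D.n61 _) (chain ⟨_, rfl⟩ D.s1 (flip D.s1 (D.n13 _)) (chain ⟨_, rfl⟩ D.s6 (D.n63 _)
      (chain ⟨_, rfl⟩ D.s1 (D.n13 _) (chain ⟨_, rfl⟩ D.s6 (flip D.s6 (D.n61 _)) (chain0 ⟨_, rfl⟩)))))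
  br := braid D.s1 D.s6 D.hb

theorem Dt.rf6 : Rf ι.range D.To (ι.comp (r6 τ)).range D.n6 D.n1 where
  sq := D.s6
  le := by rintro _ ⟨a, rfl⟩; exact ⟨_, rfl⟩
  tA := by
    rintro _ ⟨α, θ, h1, h2, rfl⟩ _ ⟨a, rfl⟩
    refine ⟨Multiplicative.ofAdd (θ * a.toAdd), Eq.trans (congrArg ι ?_) (D.hx α θ h1 h2 _).symm⟩
    ext <;> simp [r6, U.x6, U.dg]
  nT := by
    rintro _ ⟨α, θ, h1, h2, rfl⟩
    exact ⟨_, _, mul_ne_zero (fun e => h2 (Subtype.ext e)) h1, inv_ne_zero h2, D.n6h α θ h1 h2⟩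
  dec := by
    rintro _ ⟨u, rfl⟩
    refine ⟨ι (U.x6 ⟨u.t, u.ht⟩), ⟨Multiplicative.ofAdd _, rfl⟩, ?_⟩
    rw [← map_inv, ← map_mul]
    have ht : (u * (U.x6 ⟨u.t, u.ht⟩)⁻¹).t = 0 := CharTwo.add_self_eq_zero u.t
    generalize u * (U.x6 ⟨u.t, u.ht⟩)⁻¹ = v at ht
    have e := congrArg ι (U.dec v)
    have e6 : (U.x6 ⟨v.t, v.ht⟩ : U τ) = 1 := by ext <;> simp [U.x6, ht]
    simp only [map_mul, e6, mul_one] at e
    rw [e]
    refine cj_mul D.s6 (cj_mul D.s6 (cj_mul D.s6 (cj_mul D.s6 ?_ ?_) ?_) ?_) ?_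
    · exact ⟨_, (D.n62 _).symm⟩
    · exact ⟨_, (D.n63 _).symm⟩
    · exact ⟨_, (flip D.s6 (D.n62 _)).symm⟩
    · exact ⟨_, (flip D.s6 (D.n61 _)).symm⟩
    · exact ⟨_, (D.n61 _).symm⟩
  base := by
    refine ⟨ι (U.x6 1), ⟨Multiplicative.ofAdd 1, rfl⟩, cube D.s6 ?_ D.c6, ?_⟩
    · rw [← map_mul, ← (U.rel τ).a6, show (1 + 1 : τ.F) = 0 from Subtype.ext (CharTwo.add_self_eq_zero (1 : K))]
      exact map_one ι
    · rintro _ ⟨a, rfl⟩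
      by_cases ha : a.toAdd = 0
      · left
        show ι (U.x6 a.toAdd) = 1
        rw [ha]; exact map_one ι
      · refine Or.inr ⟨_, ⟨1, _, one_ne_zero, ha, rfl⟩, Eq.trans (congrArg ι ?_) (D.hx 1 _ one_ne_zero ha _).symm⟩
        ext <;> simp [r6, U.x6, U.dg]
  nU := by
    rintro ⟨u, hu⟩
    have := D.n61 1
    rw [← hu, ← map_mul, ← map_mul] at this
    have := congrArg U.a (D.inj this)
    simp [U.mul_a, U.x1, U.x5, add_right_comm u.a, CharTwo.add_self_eq_zero] at this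
  pp := by
    rintro _ ⟨a, rfl⟩
    exact chain ⟨_, rfl⟩ D.s1 (flip D.s1 (D.n12 _)) (chain ⟨_, rfl⟩ D.s6 (D.n62 _) (chain ⟨_, rfl⟩ D.s1 (D.n14 _)
      (chain ⟨_, rfl⟩ D.s6 (flip D.s6 (D.n62 _)) (chain ⟨_, rfl⟩ D.s1 (D.n12 _) (chain0 ⟨_, rfl⟩)))))
  br := (braid D.s1 D.s6 D.hb).symm

theorem Dt.key {g : Γ} (hg : g ∈ ι.range ⊔ closure {D.n1, D.n6}) (hc : ∀ x, g * ι x * g⁻¹ = ι x) :
    g ∈ ι.range := by
  obtain ⟨_, ⟨u, rfl⟩, _, ⟨α, θ, h1, h2, rfl⟩, rfl⟩ := bruhat D.rf1 D.rf6 D.tU hg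
    (by rintro _ ⟨x, rfl⟩; exact ⟨x, (hc x).symm⟩)
  have e : ∀ x, u * U.dg α θ x * u⁻¹ = x := fun x => D.inj (by
    rw [map_mul, map_mul, map_inv, ← D.hx α θ h1 h2]; refine Eq.trans ?_ (hc x); group)
  have e1 := congrArg U.a (e (U.x1 τ 1))
  have e6 := congrArg U.t (e (U.x6 1))
  simp only [U.mul_a, U.inv_a, U.dg, U.x1] at e1
  simp only [U.mul_t, U.inv_t, U.dg, U.x6, Subfield.coe_one] at e6
  have f1 : α = 1 := by grind
  have f6 : θ = 1 := Subtype.ext (by rw [Subfield.coe_one]; grind)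
  rw [f1, f6, D.h1, mul_one]; exact ⟨u, rfl⟩

end

/-- the diagonal data -/
def prod {G' : Type v} [Group G'] {M₀ : Md G' τ} (D : Dat M) (D' : Dat M₀) (hb : (D.n1 * D.n6) ^ 6 = 1)
    (hb' : (D'.n1 * D'.n6) ^ 6 = 1) : Dt (M.ι.prod M₀.ι) where
  n1 := (D.n1, D'.n1)
  n6 := (D.n6, D'.n6)
  h α θ := (D.h α θ, D'.h α θ)
  inj _ _ e := M.inj (congrArg Prod.fst e)
  hx α θ h1 h2 x := Prod.ext (D.hx α θ h1 h2 x) (D'.hx α θ h1 h2 x)
  hm α θ α' θ' h1 h2 h3 h4 := Prod.ext (D.hm α θ α' θ' h1 h2 h3 h4) (D'.hm α θ α' θ' h1 h2 h3 h4)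
  h1 := Prod.ext D.h1 D'.h1
  s1 := Prod.ext D.s1 D'.s1
  s6 := Prod.ext D.s6 D'.s6
  n1h α θ h1 h2 := Prod.ext (D.n1h α θ h1 h2) (D'.n1h α θ h1 h2)
  n6h α θ h1 h2 := Prod.ext (D.n6h α θ h1 h2) (D'.n6h α θ h1 h2)
  n12 s := Prod.ext (D.n12 s) (D'.n12 s)
  n13 s := Prod.ext (D.n13 s) (D'.n13 s)
  n14 s := Prod.ext (D.n14 s) (D'.n14 s)
  n61 s := Prod.ext (D.n61 s) (D'.n61 s)
  n62 s := Prod.ext (D.n62 s) (D'.n62 s)
  n63 s := Prod.ext (D.n63 s) (D'.n63 s)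
  c1 := Prod.ext D.c1 D'.c1
  c6 := Prod.ext D.c6 D'.c6
  hb := Prod.ext hb hb'

theorem z_comm (x : U τ) : U.x4 1 * x * (U.x4 1)⁻¹ = x := by
  rw [mul_inv_eq_iff_eq_mul]
  ext <;> simp [U.mul_a, U.mul_s, U.mul_c, U.mul_r, U.mul_b, U.mul_t, U.x4, Tw.T, Tw.N, Tw.sh, Tw.cr, add_comm]

theorem z_ne : (U.x4 1 : U τ) ≠ 1 := fun e => by simpa [U.x4] using congrArg U.r e

end HC8x

theorem Dat.iso [IsSimpleGroup G] {G' : Type v} [Group G'] [Finite G'] [IsSimpleGroup G']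
    {M₀ : Md G' τ} (D : Dat M) (D' : Dat M₀) (hb : (D.n1 * D.n6) ^ 6 = 1)
    (hb' : (D'.n1 * D'.n6) ^ 6 = 1) (hg : M.S ⊔ closure {D.n1, D.n6} = ⊤)
    (hg' : M₀.S ⊔ closure {D'.n1, D'.n6} = ⊤) : Nonempty (G ≃* G') := by
  let E := HC8x.prod D D' hb hb'
  let I : Subgroup (G × G') := (M.ι.prod M₀.ι).range ⊔ closure {E.n1, E.n6}
  have h1 : Function.Surjective (Prod.fst ∘ I.subtype) := fun g => by
    have : I.map (MonoidHom.fst G G') = ⊤ := by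
      rw [Subgroup.map_sup, MonoidHom.map_range, MonoidHom.map_closure, Set.image_pair, ← hg]; rfl
    obtain ⟨x, hx, e⟩ : g ∈ I.map (MonoidHom.fst G G') := this ▸ mem_top g
    exact ⟨⟨x, hx⟩, e⟩
  have h2 : Function.Surjective (Prod.snd ∘ I.subtype) := fun g => by
    have : I.map (MonoidHom.snd G G') = ⊤ := by
      rw [Subgroup.map_sup, MonoidHom.map_range, MonoidHom.map_closure, Set.image_pair, ← hg']; rfl
    obtain ⟨x, hx, e⟩ : g ∈ I.map (MonoidHom.snd G G') := this ▸ mem_top g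
    exact ⟨⟨x, hx⟩, e⟩
  have n1 := normal_goursatFst h1
  have n2 := normal_goursatSnd h2
  have b1 : I.goursatFst = ⊥ := n1.eq_bot_or_eq_top.resolve_right fun e => by
    obtain ⟨u, hu⟩ := E.key (mem_goursatFst.1 (e ▸ mem_top (M.ι (U.x4 1)))) fun x => Prod.ext
      (by show M.ι _ * M.ι x * (M.ι _)⁻¹ = M.ι x; rw [← map_inv, ← map_mul, ← map_mul, HC8x.z_comm])
      (by show 1 * M₀.ι x * 1⁻¹ = M₀.ι x; simp)
    obtain rfl : u = 1 := M₀.inj ((congrArg Prod.snd hu).trans (map_one _).symm)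
    exact HC8x.z_ne (M.inj (congrArg Prod.fst hu)).symm
  have b2 : I.goursatSnd = ⊥ := n2.eq_bot_or_eq_top.resolve_right fun e => by
    obtain ⟨u, hu⟩ := E.key (mem_goursatSnd.1 (e ▸ mem_top (M₀.ι (U.x4 1)))) fun x => Prod.ext
      (by show 1 * M.ι x * 1⁻¹ = M.ι x; simp)
      (by show M₀.ι _ * M₀.ι x * (M₀.ι _)⁻¹ = M₀.ι x; rw [← map_inv, ← map_mul, ← map_mul, HC8x.z_comm])
    obtain rfl : u = 1 := M.inj ((congrArg Prod.fst hu).trans (map_one _).symm)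
    exact HC8x.z_ne (M₀.inj (congrArg Prod.snd hu)).symm
  obtain ⟨e, -⟩ := goursat_surjective h1 h2
  exact ⟨((QuotientGroup.quotientBot.symm.trans (QuotientGroup.quotientMulEquivOfEq b1.symm)).trans e).trans
    ((QuotientGroup.quotientMulEquivOfEq b2).trans QuotientGroup.quotientBot)⟩




end H27.HX
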