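import Mathlib
import Cfsg.Prelude.Def_LieTwisted
import Cfsg.Prelude.Def_CaseTheorems
import Cfsg.Agent.H27.HX1
import Cfsg.Agent.H27.HM
import Cfsg.Agent.H14.HM2
import Cfsg.Agent.H10.ChevCongr

set_option autoImplicit false
set_option linter.unusedVariables false
set_option linter.unusedSectionVars false
set_option linter.unusedSimpArgs false

namespace H27.HX

open Cfsg H24 H26 H26.Gold H26.LM Subgroup
open scoped commutatorElement

universe u v

variable {G : Type u} [Group G] [Finite G] {K : Type} [Field K] [Finite K] [CharP K 2] {τ : Tw K}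
  {M M' M'' : Md G τ} {A : Ap G} {H S E M0 R X X' Y L D N0 P J : Subgroup G} {𝒟 : Set G}
  {g h j k l n s t x y z : G} {a a' b c c0 e f : K} {u v w : U τ}

/-! ### HD -/

theorem modD4 (K : Type) [Field K] [Fintype K] [CharP K 2] {r : ℕ} (hr : 1 ≤ r)
    (hK : Fintype.card K = 8 ^ r) :
    ∃ τ : Tw K, τ.q = 2 ^ r ∧ Nonempty (Md (Cfsg.Lie.twistedD4 K (2 ^ r)) τ) := by
  have hK' : Fintype.card K = (2 ^ r) ^ 3 := by rw [hK, ← pow_mul, mul_comm, pow_mul]; norm_num
  obtain ⟨τ, h⟩ := H14.HM.exists_tw hr hK'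
  exact ⟨τ, H14.HM.q_eq Nat.one_le_two_pow hK' τ h, H14.HM.mdD4 hr hK' τ h⟩

namespace HDx
open Cfsg.Lie
theorem x_map (D : ChevalleyDatum) {F K : Type*} [Field F] [Field K] (f : F →+* K) (r : ℕ) (t : F) :
    (D.x F r t).map f = D.x K r (f t) := by
  unfold ChevalleyDatum.x
  split_ifs
  · exact H10.xMat_map D f _ t
  · exact Matrix.map_one _ (map_zero f) (map_one f)

theorem word_map (D : ChevalleyDatum) {F K : Type*} [Field F] [Field K] (f : F →+* K) (w : List (ℕ × F)) :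
    (D.wordMat F w).map f = D.wordMat K (w.map fun p => (p.1, f p.2)) := by
  induction w with
  | nil => exact Matrix.map_one _ (map_zero f) (map_one f)
  | cons p w ih =>
    simp only [ChevalleyDatum.wordMat, List.map_cons, List.prod_cons] at ih ⊢
    rw [Matrix.map_mul, ih, x_map]

theorem words {F K : Type*} [Field F] [Field K] (f : F →+* K) (q : ℕ) {w : List (ℕ × F)}
    (hw : w ∈ d4Words F q) : (w.map fun p => (p.1, f p.2)) ∈ d4Words K q := by
  rcases hw with ⟨t, ht, r, hr, rfl⟩ | ⟨t, rs, hr, rfl⟩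
  · exact Or.inl ⟨f t, by rw [← map_pow, ht], r, hr, rfl⟩
  · exact Or.inr ⟨f t, rs, hr, by simp⟩
end HDx

theorem d4_congr {K K' : Type} [Field K] [Field K'] (φ : K ≃+* K') (q : ℕ) :
    Nonempty (Cfsg.Lie.twistedD4 K q ≃* Cfsg.Lie.twistedD4 K' q) := by
  let ψ : GL Lie.chevD4.Idx K ≃* GL Lie.chevD4.Idx K' :=
    Units.mapEquiv (φ.mapMatrix (m := Lie.chevD4.Idx)).toMulEquiv
  refine ⟨(ψ.subgroupMap (Lie.twistedD4 K q)).trans (MulEquiv.subgroupCongr ?_)⟩
  rw [Lie.twistedD4, Lie.ChevalleyDatum.genSubgroup, MonoidHom.map_closure, Lie.twistedD4,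
    Lie.ChevalleyDatum.genSubgroup]
  congr 1
  ext g
  constructor
  · rintro ⟨x, ⟨w, hw, h⟩, rfl⟩
    exact ⟨_, HDx.words (φ : K →+* K') q hw, Eq.trans (by rw [← h]; rfl) (HDx.word_map _ (φ : K →+* K') w)⟩
  · rintro ⟨w, hw, h⟩
    exact ⟨ψ.symm g, ⟨_, HDx.words (φ.symm : K' →+* K) q hw, Eq.trans (by rw [← h]; rfl)
      (HDx.word_map _ (φ.symm : K' →+* K) w)⟩, by simp⟩



end H27.HX
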