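import Mathlib
import Cfsg.Prelude.Def_LieTwisted
import Cfsg.Prelude.Def_CaseTheorems
import Cfsg.Agent.H27.HX1
import Cfsg.Agent.H27.HF6

set_option autoImplicit false
set_option linter.unusedVariables false
set_option linter.unusedSectionVars false
set_option linter.unusedSimpArgs false

namespace H27.HX

open Cfsg H24 H26 H26.Gold H26.LM Subgroup
open scoped commutatorElement

universe u v

variable {G : Type u} [Group G] [Finite G] {K : Type} [Field K] [Finite K] [CharP K 2] {τ : Tw K}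
  {M M' M'' : Md G τ} {A : Ap G} {H S E M0 R X X' Y L D N0 P J : Subgroup G} {𝒟 : Set G}
  {g h j k l n s t x y z : G} {a a' b c c0 e f : K} {u v w : U τ}

namespace HF7x

theorem cjc (hx : x ∈ cj h X) (g : G) : g * x * g⁻¹ ∈ cj (g * h) X := by
  rw [cj_mul]; exact conj_mem_cj g hx

theorem Y_Q2 (M : Md G τ) : M.Y ≤ M.Q2 := M.Y_eq ▸ inf_le_right

theorem memY (h1 : y ∈ M.Q1) (h2 : y ∈ M.Q2) : y ∈ M.Y := M.Y_eq ▸ mem_inf.2 ⟨h1, h2⟩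

theorem ZV (hk : k ∈ N[M.Q2]) (hl : l ∈ cj k M.Z) : l ∈ M.V :=
  cj_le_of_mem_N M.Z_V (M.nQ2_V hk) hl

theorem toQ1 (h : M.Cf) (hy : y ∈ M.Q1) (r : M.Rho l y) :
    l ∈ M.Z ∨ ∃ k ∈ N[M.Q1], l ∈ cj k M.V ∧ y ∈ cj k M.W := by
  rcases r with r | ⟨k, hk, h1, h2⟩ | r
  · exact Or.inl r.1
  · by_cases hZ : k ∈ N[M.Z]
    · exact Or.inl (cj_of_mem_N hZ ▸ h1)
    · refine Or.inr ⟨1, one_mem _, by rw [cj_one]; exact ZV hk h1, ?_⟩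
      rw [cj_one]
      exact h.gamma hk hZ ⟨memY hy (cj_le_of_mem_N (Y_Q2 M) hk h2), h2⟩
  · exact Or.inr r

theorem toQ2 (h : M.Cf) (hl : l ∈ M.Q2) (hy : y ∈ M.Q2) (r : M.Rho l y) :
    ∃ k ∈ N[M.Q2], l ∈ cj k M.Z ∧ y ∈ cj k M.Y := by
  rcases r with r | r | ⟨k, hk, h1, h2⟩
  · exact ⟨1, one_mem _, by rw [cj_one]; exact r.1, by rw [cj_one]; exact memY r.2 hy⟩
  · exact r
  · by_cases hV : k ∈ N[M.V]
    · rw [cj_of_mem_N hV] at h1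
      rw [cj_of_mem_N (h.eps ⟨hk, hV⟩)] at h2
      obtain ⟨j, hj, h3⟩ := h.coverV h1
      exact ⟨j, hj, h3, cj_mono j M.W_Y (by rwa [cj_of_mem_N (h.hW hj)])⟩
    · refine ⟨1, one_mem _, ?_, ?_⟩ <;> rw [cj_one]
      · exact M.beta h.big hk hV ⟨h1, memY (HF5x.cj_Q1 hk (HF5x.V_Q1 M) h1) hl⟩
      · exact memY (HF5x.cj_Q1 hk (HF5x.W_Q1 M) h2) hy

theorem ess (h : M.Cf) (hE : E = M.S ∨ E = M.Q1 ∨ E = M.Q2) (hg : g ∈ N[E]) (hl : l ∈ E) (hy : y ∈ E)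
    (r : M.Rho l y) : M.Rho (g * l * g⁻¹) (g * y * g⁻¹) := by
  rcases hE with rfl | rfl | rfl
  · rcases r with r | ⟨k, hk, h1, h2⟩ | ⟨k, hk, h1, h2⟩
    · exact Or.inl ⟨conj_mem (M.nS_Z hg) r.1, conj_mem (h.nS_Q1 hg) r.2⟩
    · exact Or.inr (Or.inl ⟨g * k, mul_mem (M.nS_Q2 h.big hg) hk, cjc h1 g, cjc h2 g⟩)
    · exact Or.inr (Or.inr ⟨g * k, mul_mem (h.nS_Q1 hg) hk, cjc h1 g, cjc h2 g⟩)
  · rcases toQ1 h hy r with r | ⟨k, hk, h1, h2⟩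
    · exact Or.inl ⟨conj_mem (M.nQ1_Z hg) r, conj_mem hg hy⟩
    · exact Or.inr (Or.inr ⟨g * k, mul_mem hg hk, cjc h1 g, cjc h2 g⟩)
  · obtain ⟨k, hk, h1, h2⟩ := toQ2 h hl hy r
    exact Or.inr (Or.inl ⟨g * k, mul_mem hg hk, cjc h1 g, cjc h2 g⟩)

theorem cc (g x : G) : g⁻¹ * (g * x * g⁻¹) * g⁻¹⁻¹ = x := by group

theorem rho_Q1 (r : M.Rho l y) : l ∈ M.Q1 := by
  rcases r with r | ⟨k, hk, h1, h2⟩ | ⟨k, hk, h1, h2⟩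
  · exact HF5x.V_Q1 M (M.Z_V r.1)
  · exact HF5x.V_Q1 M (ZV hk h1)
  · exact HF5x.cj_Q1 hk (HF5x.V_Q1 M) h1

theorem rhoVW (hl : l ∈ M.V) (hy : y ∈ M.W) : M.Rho l y :=
  Or.inr (Or.inr ⟨1, one_mem _, by rwa [cj_one], by rwa [cj_one]⟩)

theorem card_comm (h1 : ∀ s ∈ S, ⁅s, y⁆ ∈ X) (h2 : ∀ v ∈ X, ∃ s ∈ S, ⁅s, y⁆ = v) :
    Nat.card S = Nat.card X * Nat.card ↥(S ⊓ C{y}) := by
  choose! σ hσ hσ' using h2
  have key : ∀ a c : G, c ∈ C{y} → ⁅a * c, y⁆ = ⁅a, y⁆ := fun a c hc => by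
    simp only [commutatorElement_def]
    calc _ = a * (c * y * c⁻¹) * a⁻¹ * y⁻¹ := by group
      _ = _ := by rw [mem_C1_iff_conj.1 hc]
  rw [← Nat.card_prod]
  refine (Nat.card_eq_of_bijective (fun p : X × ↥(S ⊓ C{y}) =>
    (⟨σ p.1 * p.2, mul_mem (hσ _ p.1.2) p.2.2.1⟩ : S)) ⟨?_, ?_⟩).symm
  · rintro ⟨v, c⟩ ⟨v', c'⟩ e
    have e1 : σ v * c = σ v' * c' := congrArg Subtype.val e
    have e2 : v = v' := Subtype.ext (by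
      rw [← hσ' _ v.2, ← hσ' _ v'.2, ← key _ _ c.2.2, e1, key _ _ c'.2.2])
    subst e2
    rw [Subtype.ext (mul_left_cancel e1)]
  · rintro ⟨s, hs⟩
    refine ⟨(⟨_, h1 s hs⟩, ⟨(σ ⁅s, y⁆)⁻¹ * s, mem_inf.2 ⟨mul_mem (inv_mem (hσ _ (h1 s hs))) hs,
      mem_C1_iff_conj.2 ?_⟩⟩), Subtype.ext (by simp)⟩
    have := hσ' _ (h1 s hs)
    generalize σ ⁅s, y⁆ = a at this
    simp only [commutatorElement_def] at this
    calc _ = a⁻¹ * (s * y * s⁻¹ * y⁻¹) * y * a := by group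
      _ = y := by rw [← this]; group

theorem card_C (hy : y ∈ M.W) (hV : y ∉ M.V) :
    Nat.card M.S = Nat.card M.V * Nat.card ↥(M.S ⊓ C{y}) := by
  refine card_comm (fun s hs => M.cSW hs hy) ?_
  obtain ⟨u, ⟨ua, ub, ut⟩, rfl⟩ := hy
  have uc : u.c ≠ 0 := fun e => hV (M.ι_V.2 ⟨ua, e, ub, ut⟩)
  rintro _ ⟨v, ⟨va, vc, vb, vt⟩, rfl⟩
  obtain ⟨a, ha⟩ := τ.T_surj uc v.hs
  obtain ⟨b, hb⟩ := τ.T_surj uc v.hr
  refine ⟨M.ι ⟨a, 0, 0, 0, b, 0, map_zero _, map_zero _, map_zero _⟩, M.ι_S _, ?_⟩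
  rw [← map_commutatorElement]
  congr 1
  ext
  · rw [U.comm_a, va]
  · rw [U.comm_s, ← ha]; simp [ua, ub, ut, Tw.T, Tw.sh, Tw.N, mul_comm]
  · rw [U.comm_c, vc]; simp [ua, ub, ut, Tw.cr]
  · rw [U.comm_rW _ ua ub ut, ← hb]; simp [mul_comm]
  · rw [U.comm_b, vb]; simp [ua, ut]
  · rw [U.comm_t, vt]

end HF7x

/-! ### HF7 -/

theorem Md.Cf.rho_conj (h : M.Cf) (hl : l ∈ M.S) (hy : y ∈ M.S) (hl' : g * l * g⁻¹ ∈ M.S)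
    (hy' : g * y * g⁻¹ ∈ M.S) (r : M.Rho l y) : M.Rho (g * l * g⁻¹) (g * y * g⁻¹) := by
  refine (alp M.sylS (fun D g => ∀ l ∈ D, ∀ y ∈ D, M.Rho l y ↔ M.Rho (g * l * g⁻¹) (g * y * g⁻¹))
    ?_ ?_ ?_ ?_ ?_ (zpowers l ⊔ zpowers y) g (sup_le (zpowers_le.2 hl) (zpowers_le.2 hy)) (mem_top g)
    (by rw [cj_sup, cj_zpowers, cj_zpowers]; exact sup_le (zpowers_le.2 hl') (zpowers_le.2 hy'))
    l (mem_sup_left (mem_zpowers l)) y (mem_sup_right (mem_zpowers y))).1 r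
  · intro D c _ hc l hl y hy
    rw [conj_eq_of_mem_C hc.2 hl, conj_eq_of_mem_C hc.2 hy]
  · intro D g k h1 h2 l hl y hy
    rw [h1 l hl y hy, h2 _ (conj_mem_cj k hl) _ (conj_mem_cj k hy),
      show g * (k * l * k⁻¹) * g⁻¹ = g * k * l * (g * k)⁻¹ by group,
      show g * (k * y * k⁻¹) * g⁻¹ = g * k * y * (g * k)⁻¹ by group]
  · rintro D g h1 _ ⟨l, hl, rfl⟩ _ ⟨y, hy, rfl⟩
    change M.Rho (g * l * g⁻¹) (g * y * g⁻¹) ↔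
      M.Rho (g⁻¹ * (g * l * g⁻¹) * g⁻¹⁻¹) (g⁻¹ * (g * y * g⁻¹) * g⁻¹⁻¹)
    rw [HF7x.cc, HF7x.cc, h1 l hl y hy]
  · exact fun D D' g h1 h2 l hl y hy => h2 l (h1 hl) y (h1 hy)
  · intro E hE g hg l hl y hy
    refine ⟨HF7x.ess h (afam hE) hg.2 hl hy, fun r => ?_⟩
    have := HF7x.ess h (afam hE) (InvMemClass.inv_mem (mem_inf.1 hg).2) (conj_mem hg.2 hl) (conj_mem hg.2 hy) r
    rwa [HF7x.cc, HF7x.cc] at this
theorem Md.Cf.rho_V (h : M.Cf) (hy : y ∈ M.W) (hV : y ∉ M.V) (r : M.Rho l y) : l ∈ M.V := by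
  rcases r with r | ⟨k, hk, h1, h2⟩ | ⟨k, hk, h1, h2⟩
  · exact M.Z_V r.1
  · exact HF7x.ZV hk h1
  · by_cases hN : k ∈ N[M.V]
    · rwa [cj_of_mem_N hN] at h1
    · exact absurd (M.Z_V (h.delta hk hN ⟨hy, h2⟩)) hV
theorem Md.Cf.notz (h : M.Cf) (hy : y ∈ M.W) (hV : y ∉ M.V) (g : G) : g * y * g⁻¹ ∉ M.Z := fun hz => by
  have h1 := HF5x.V_Q1 M (M.Z_V hz)
  have hS := M.Q1_S (HF5x.W_Q1 M hy)
  have := h.rho_conj (g := g⁻¹) (M.Q1_S h1) (M.Q1_S h1) (by rwa [HF7x.cc]) (by rwa [HF7x.cc])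
    (Or.inl ⟨hz, h1⟩)
  rw [HF7x.cc] at this
  exact hV (h.rho_V hy hV this)
theorem Md.Cf.scV (h : M.Cf) (hy : y ∈ M.W) (hV : y ∉ M.V) : StC C{y} (M.S ⊓ C{y}) M.V := by
  intro x hx g hg hx'
  have hS := M.Q1_S (HF5x.W_Q1 M hy)
  have e := mem_C1_iff_conj.1 hg
  have := h.rho_conj (g := g) (M.Q1_S (HF5x.V_Q1 M hx)) hS hx'.1 (by rwa [e]) (HF7x.rhoVW hx hy)
  rw [e] at this
  exact h.rho_V hy hV this
theorem Md.Cf.sylY (h : M.Cf) (hy : y ∈ M.W) (hV : y ∉ M.V) : Syl 2 C{y} (M.S ⊓ C{y}) := by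
  have hS := M.Q1_S (HF5x.W_Q1 M hy)
  have hVS : M.V ≤ M.S := (HF5x.V_Q1 M).trans M.Q1_S
  refine syl_of_max Nat.prime_two (M.twoS.of_le inf_le_left) inf_le_right fun T hT h1 h2 => ?_
  have hyT : y ∈ T := h1 (mem_inf.2 ⟨hS, mem_C1.2 rfl⟩)
  have fin : ∀ g : G, cj g T ≤ M.S → g * y * g⁻¹ ∈ M.W → g * y * g⁻¹ ∉ M.V → T ≤ M.S ⊓ C{y} := by
    intro g h3 h4 h5
    have h6 : cj g T ≤ M.S ⊓ C{g * y * g⁻¹} := le_inf h3 (by rw [← cj_C1]; exact cj_mono g h2)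
    have h7 := card_le_of_le h6
    rw [card_cj, Nat.eq_of_mul_eq_mul_left Nat.card_pos
      ((HF7x.card_C h4 h5).symm.trans (HF7x.card_C hy hV))] at h7
    exact (eq_of_le_of_card_ge h1 h7).ge
  obtain ⟨g, -, hg⟩ := Sylow_Jsub Nat.prime_two M.sylS hT le_top
  have ht : g * y * g⁻¹ ∈ M.S := hg (conj_mem_cj g hyT)
  have hVT : M.V ≤ T := fun v hv => h1 (mem_inf.2 ⟨hVS hv, mem_C1.2 (M.eaW.comm (M.V_W hv) hy)⟩)
  have rho : ∀ l ∈ cj g M.V, M.Rho l (g * y * g⁻¹) := by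
    rintro _ ⟨v, hv, rfl⟩
    exact h.rho_conj (hVS hv) hS (hg (conj_mem_cj g (hVT hv))) ht (HF7x.rhoVW hv hy)
  have t2 : g * y * g⁻¹ * (g * y * g⁻¹) = 1 := by
    calc _ = g * (y * y) * g⁻¹ := by group
      _ = 1 := by rw [M.eaW.sq hy]; group
  by_cases h3 : g * y * g⁻¹ ∈ M.Q1
  swap
  · exfalso
    have two : ∀ l, M.Rho l (g * y * g⁻¹) → ∃ k ∈ N[M.Q2], l ∈ cj k M.Z ∧ g * y * g⁻¹ ∈ cj k M.Y := by
      rintro l (r | r | ⟨k, hk, -, h4⟩)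
      · exact absurd r.2 h3
      · exact r
      · exact absurd (HF5x.cj_Q1 hk (HF5x.W_Q1 M) h4) h3
    obtain ⟨k, hk, -, h4⟩ := two 1 (rho 1 (one_mem _))
    have h5 : cj g M.V ≤ cj k M.Z := fun l hl => by
      obtain ⟨k', hk', h6, h7⟩ := two l (rho l hl)
      by_cases hZ : k⁻¹ * k' ∈ N[M.Z]
      · rwa [cj_eq_cj_iff.2 hZ] at h6
      · refine absurd (HF5x.W_Q1 M ?_) h3
        have := conj_mem (h.hW hk) (h.gamma (mul_mem (InvMemClass.inv_mem hk) hk') hZ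
          (mem_inf.2 ⟨by simpa using mem_cj.1 h4, HF7x.cjc h7 k⁻¹⟩))
        rwa [show k * (k⁻¹ * (g * y * g⁻¹) * k⁻¹⁻¹) * k⁻¹ = g * y * g⁻¹ by group] at this
    have h6 := card_le_of_le h5
    rw [card_cj, card_cj, M.card_V, M.card_Z] at h6
    have := τ.two_le_q
    nlinarith
  obtain ⟨k, hk, h4⟩ := h.spread h3 t2
  have h5 : k⁻¹ * (g * y * g⁻¹) * k⁻¹⁻¹ ∈ M.W := by simpa using mem_cj.1 h4
  have e : k⁻¹ * (g * y * g⁻¹) * k⁻¹⁻¹ = k⁻¹ * g * y * (k⁻¹ * g)⁻¹ := by group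
  have h6 : k⁻¹ * (g * y * g⁻¹) * k⁻¹⁻¹ ∉ M.V := fun h6 => by
    obtain ⟨j, -, h7⟩ := h.coverV h6
    refine h.notz hy hV (j⁻¹ * (k⁻¹ * g)) ?_
    have := mem_cj.1 h7
    rwa [show j⁻¹ * (k⁻¹ * (g * y * g⁻¹) * k⁻¹⁻¹) * j = j⁻¹ * (k⁻¹ * g) * y * (j⁻¹ * (k⁻¹ * g))⁻¹ by
      group] at this
  by_cases hN : k ∈ N[M.V]
  · have hW := h.eps ⟨hk, hN⟩
    refine fin g hg (by rwa [cj_of_mem_N hW] at h4) fun h7 => h6 (conj_mem (InvMemClass.inv_mem hN) h7)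
  have back : ∀ l, M.Rho l (g * y * g⁻¹) → l ∈ cj k M.V := fun l r => by
    have h7 := HF7x.rho_Q1 r
    have := h.rho_V h5 h6 (h.rho_conj (M.Q1_S h7) ht (M.Q1_S (conj_mem (InvMemClass.inv_mem hk) h7))
      (M.Q1_S (HF5x.W_Q1 M h5)) r)
    exact mem_cj.2 (by simpa using this)
  have h7 : cj g M.V = cj k M.V :=
    eq_of_le_of_card_ge (fun l hl => back l (rho l hl)) (by rw [card_cj, card_cj])
  have h8 : cj g T ≤ M.Q1 := fun s hs => M.nV1 h.big hk hN (mem_inf.2 ⟨hg hs, mem_N_of_finite fun l hl => by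
    have r := rho l (h7 ▸ hl)
    have hc : s * (g * y * g⁻¹) * s⁻¹ = g * y * g⁻¹ :=
      mem_C1_iff_conj.1 (by rw [← cj_C1]; exact cj_mono g h2 hs)
    have hl' := M.Q1_S (HF7x.rho_Q1 r)
    have := h.rho_conj (g := s) hl' ht (mul_mem (mul_mem (hg hs) hl') (InvMemClass.inv_mem (hg hs)))
      (by rwa [hc]) r
    rw [hc] at this
    exact back _ this⟩)
  refine fin (k⁻¹ * g) ?_ (e ▸ h5) (e ▸ h6)
  rw [cj_mul]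
  exact (cj_le_of_mem_N h8 (InvMemClass.inv_mem hk)).trans M.Q1_S
theorem Md.Cf.long1 (h : M.Cf) (hl : l ∈ M.Q1) (hg : g * l * g⁻¹ ∈ M.Z) :
    ∃ k ∈ N[M.Q1], l ∈ cj k M.V := by
  have h1 := HF5x.V_Q1 M (M.Z_V hg)
  have hS := M.Q1_S hl
  have := h.rho_conj (g := g⁻¹) (M.Q1_S h1) (M.Q1_S h1) (by rwa [HF7x.cc]) (by rwa [HF7x.cc])
    (Or.inl ⟨hg, h1⟩)
  rw [HF7x.cc] at this
  rcases HF7x.toQ1 h hl this with r | ⟨k, hk, r, -⟩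
  · exact ⟨1, one_mem _, by rw [cj_one]; exact M.Z_V r⟩
  · exact ⟨k, hk, r⟩
theorem Md.Cf.scZ (h : M.Cf) (hz : z ∈ M.Z) (h1 : z ≠ 1) : StC C{z} M.S M.Z := by
  have hS : M.S ≤ C{z} := fun s hs => mem_C1.2 (mem_C.1 (M.S_CZ hs) z hz).symm
  have nz : ∀ g ∈ C{z} ⊓ N[M.Q2], g ∈ N[M.Z] := fun g hg => by
    by_contra hZ
    have := conj_mem_cj g hz
    rw [mem_C1_iff_conj.1 hg.1] at this
    exact h1 (mem_bot.1 (M.alpha hg.2 hZ ▸ mem_inf.2 ⟨hz, this⟩))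
  refine alp_sc (M.syl_of hS) (fun E hE g hg x hx _ => ?_)
    (M.Z_V.trans ((HF5x.V_Q1 M).trans M.Q1_S))
  rcases afam hE with rfl | rfl | rfl
  · exact conj_mem (M.nS_Z hg.2) hx
  · exact conj_mem (M.nQ1_Z hg.2) hx
  · exact conj_mem (nz g hg) hx
theorem Md.Cf.scQ1 (h : M.Cf) (hz : z ∈ M.Z) (h1 : z ≠ 1) : StC C{z} M.S M.Q1 := by
  have hS : M.S ≤ C{z} := fun s hs => mem_C1.2 (mem_C.1 (M.S_CZ hs) z hz).symm
  have nz : ∀ g ∈ C{z} ⊓ N[M.Q2], g ∈ N[M.Z] := fun g hg => by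
    by_contra hZ
    have := conj_mem_cj g hz
    rw [mem_C1_iff_conj.1 hg.1] at this
    exact h1 (mem_bot.1 (M.alpha hg.2 hZ ▸ mem_inf.2 ⟨hz, this⟩))
  refine alp_sc (M.syl_of hS) (fun E hE g hg x hx hx' => ?_) M.Q1_S
  rcases afam hE with rfl | rfl | rfl
  · exact conj_mem (h.nS_Q1 hg.2) hx
  · exact conj_mem hg.2 hx
  · exact HF5x.Y_Q1 M (conj_mem (h.nY2 (mem_inf.2 ⟨hg.2, nz g hg⟩)) (HF7x.memY hx hx'))


end H27.HX
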