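import Mathlib
import Cfsg.Prelude.Def_LieTwisted
import Cfsg.Prelude.Def_CaseTheorems
import Cfsg.Agent.H27.HX1
import Cfsg.Agent.H27.HM
import Cfsg.Agent.H14.HM2

set_option autoImplicit false
set_option linter.unusedVariables false
set_option linter.unusedSectionVars false
set_option linter.unusedSimpArgs false

namespace H27.HX

open Cfsg H24 H26 H26.Gold H26.LM Subgroup
open scoped commutatorElement

universe u v

variable {G : Type u} [Group G] [Finite G] {K : Type} [Field K] [Finite K] [CharP K 2] {τ : Tw K}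
  {M M' M'' : Md G τ} {A : Ap G} {H S E M0 R X X' Y L D N0 P J : Subgroup G} {𝒟 : Set G}
  {g h j k l n s t x y z : G} {a a' b c c0 e f : K} {u v w : U τ}

/-! ### HG -/

theorem modG2 (F : Type) [Field F] [Fintype F] [CharP F 2] :
    Nonempty (Md (Cfsg.Lie.chevG2.group F) (Tw.id F)) := by
  obtain ⟨r, -, hr⟩ := FiniteField.card F 2
  exact H14.HM.mdG2 r.2 hr _ fun _ => rfl



end H27.HX
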