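import Mathlib
import Cfsg.Prelude.Def_LieTwisted
import Cfsg.Prelude.Def_CaseTheorems
import Cfsg.Agent.H27.HX1
import Cfsg.Agent.H8.PC1
import Cfsg.Agent.S1301

set_option autoImplicit false
set_option linter.unusedVariables false
set_option linter.unusedSectionVars false
set_option linter.unusedSimpArgs false

namespace H27.HX

open Cfsg H24 H26 H26.Gold H26.LM Subgroup
open scoped commutatorElement

universe u v

variable {G : Type u} [Group G] [Finite G] {K : Type} [Field K] [Finite K] [CharP K 2] {τ : Tw K}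
  {M M' M'' : Md G τ} {A : Ap G} {H S E M0 R X X' Y L D N0 P J : Subgroup G} {𝒟 : Set G}
  {g h j k l n s t x y z : G} {a a' b c c0 e f : K} {u v w : U τ}

/-! ### HN0 -/
namespace HN0x

theorem hc_iff : HC H ↔ H23.play 2 H ≠ ⊥ := by
  rw [Ne, map_eq_bot_iff_of_injective _ H.subtype_injective, H23.pLayer_eq_bot_iff, H23.layer_eq_bot_iff,
    not_forall]
  exact exists_congr fun _ => not_not.symm

theorem hc_of (h : H23.IsPCompOf 2 J H) : HC H := hc_iff.2 fun e => by
  have := h.dvd_card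
  rw [le_bot_iff.1 (h.le_play.trans e.le), card_bot] at this
  omega

theorem hc_ex (h : HC H) : ∃ J, H23.IsPCompOf 2 J H := by
  by_contra e
  exact hc_iff.1 h (le_bot_iff.1 (H23.play_le_of fun K hK => absurd ⟨K, hK⟩ e))

theorem not_sol (h : H23.IsPCompOf 2 J H) : ¬ Sol J := fun hs => by
  have := h.dvd_card
  rw [perfect_eq_bot h.perfect hs, card_bot] at this
  omega

theorem quo' (H : Subgroup G) : H8.PC.Quo (H23.piO 2 H) Od[H] := by
  refine ⟨QuotientGroup.mk'_surjective _, ?_⟩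
  rw [pcore_compl_singleton Nat.prime_two, pre, MonoidHom.comap_bot, H23.ker_piO]

end HN0x
open HN0x

theorem hc_cent (h : HC H) (hN : N0 ⊴ H) (hs : Sol N0) (hR : R ≤ N0) (h2 : TwoG R) :
    HC (H ⊓ C[R]) := by
  obtain ⟨J, hJ⟩ := hc_ex h
  exact hc_of (H25.LB.pcomp_centralizer hJ (hR.trans hN.le) (h2.isPGroup Nat.prime_two) ((comm_mono_right hR).trans
    ((H25.LB.pcomp_le_or_comm_le hJ hN.le hN.sbn.2).resolve_left fun e => not_sol hJ (hs.of_le e)))).1

theorem hc_qs (hK : QS J) (hL : J ⊴ L) (hH : L ⊴ H) (hR : R ≤ H ⊓ Ck J) (h2 : TwoG R) :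
    HC (H ⊓ C[R]) := by
  have hs : Sbn J H := hL.sbn.nml_trans hH
  have hf := quo' H
  have hO : Od[J] ≤ Od[H] := hs.pcore_le _
  have RH : R ≤ H := hR.trans inf_le_left
  obtain ⟨J0, h1, e⟩ := H23.exists_isPComponent (p := 2) (Kb := img (H23.piO 2 H) J)
    ⟨sbn_top_iff.1 (hf.img_top ▸ hs.img _), H23.isQuasisimple_subgroup_iff.2
      ⟨by rw [← img_comm _ hs.le hs.le, hK.perf],
        fun e => hK.not_sol ((Od_sol H).of_le ((hf.eq_bot hs.le).1 e)), fun N h1 h2 => by
        have e : img (H23.piO 2 H) (J ⊓ pre (H23.piO 2 H) N) = N := by rw [img_inf_pre, inf_eq_right.2 h1]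
        refine (hK.nml (J ⊓ pre (H23.piO 2 H) N) ⟨inf_le_left, norm_inf (norm_self J) (norm_pre hs.le h2)⟩).imp
          (fun k => by rw [← e, k]) fun k => ?_
        rw [← e]
        exact comm_eq_bot.2 ((hf.comm_le (inf_le_left.trans hs.le) hs.le).1 ((le_Ck.1 k).trans hO))⟩⟩
  refine hc_of (H25.LB.pcomp_centralizer (H23.isPCompOf_map_subtype h1) RH (h2.isPGroup Nat.prime_two) ?_).1
  rw [H23.opp, ← pcore_compl_singleton Nat.prime_two, hf.comm_le (map_subtype_le _) RH, img_map_subtype, e,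
    ← hf.comm_le hs.le RH, commC]
  exact (le_Ck.1 (hR.trans inf_le_right)).trans hO

theorem hc_bal (hR : R ≤ H) (h2 : TwoG R) (h : HC (H ⊓ C[R])) : HC H :=
  hc_iff.2 fun e => hc_iff.1 h (le_bot_iff.1 (e ▸ H25.LB.l_balance_rel hR (h2.isPGroup Nat.prime_two)))

theorem hc_sol (h : HC H) : ¬ Sol H := fun hs => by
  obtain ⟨J, hJ⟩ := hc_ex h
  exact not_sol hJ (hs.of_le hJ.1)

theorem hc_pre {X₀ : Type u} [Group X₀] [Finite X₀] {π : H →* X₀} (hπ : H8.PC.Quo π Od[H])
    (hR : R ≤ H) (h2 : TwoG R) (h : HC (C[img π R])) : HC (H ⊓ C[R]) := by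
  have e : img π (H ⊓ C[R]) = C[img π R] := by
    refine le_antisymm (img_cent π inf_le_right) fun y hy => ?_
    obtain ⟨g, hg, rfl⟩ := hπ.exists_ap y
    obtain ⟨v, hv, hc⟩ := coprime_lift_cent (hR.trans hπ.nml.norm) (cop (Od_odd H) h2) (.inl (Od_sol H)) (g := g)
      fun a ha => (hπ.comm_le hR (zpowers_le.2 hg)).2 (by
        rw [img_zpowers π hg]
        exact cents_symm (zpowers_le.2 hy)) (commutator_mem_commutator ha (mem_zpowers g))
    have := ap_mem_img π (A := H ⊓ C[R]) ⟨mul_mem (hπ.le hv) hg, hc⟩ (mul_mem (hπ.le hv) hg)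
    rwa [ap_mul π (hπ.le hv) hg, hπ.ap_ker hv, one_mul] at this
  have k : (Nat.card π.ker).Coprime 2 := by
    have := (piNat_compl_iff_coprime Nat.prime_two).1 (Od_odd H)
    rwa [← hπ.ker, pre, MonoidHom.comap_bot, card_map_of_injective H.subtype_injective, Nat.coprime_comm] at this
  refine hc_iff.2 fun e1 => hc_iff.1 h ?_
  have e2 := H23.map_play_of_cop_ker (p := 2) ((H ⊓ C[R]).subgroupOf H) (f := H.subtype) (by simp)
  rw [map_subgroupOf_eq_of_le inf_le_left, e1, map_eq_bot_iff_of_injective _ H.subtype_injective] at e2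
  rw [← e, img, ← H23.map_play_of_cop_ker _ k, e2, Subgroup.map_bot]

end H27.HX
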