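import Mathlib
import Cfsg.Prelude.Def_LieTwisted
import Cfsg.Prelude.Def_CaseTheorems
import Cfsg.Agent.H27.HX1
import Cfsg.Agent.H27.HF7
import Cfsg.Agent.H2.CT3
import Cfsg.Agent.H26.CG1a

set_option autoImplicit false
set_option linter.unusedVariables false
set_option linter.unusedSectionVars false
set_option linter.unusedSimpArgs false

namespace H27.HX

open Cfsg H24 H26 H26.Gold H26.LM Subgroup
open scoped commutatorElement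

universe u v

variable {G : Type u} [Group G] [Finite G] {K : Type} [Field K] [Finite K] [CharP K 2] {τ : Tw K}
  {M M' M'' : Md G τ} {A : Ap G} {H S E M0 R X X' Y L D N0 P J : Subgroup G} {𝒟 : Set G}
  {g h j k l n s t x y z : G} {a a' b c c0 e f : K} {u v w : U τ}

/-! ### HN1 -/

namespace HN1x
open H2.C2 H26.CG

theorem abs {V Z : Subgroup G} (hO : Od[(⊤ : Subgroup G)] = ⊥) (hS : Syl 2 ⊤ S) (hZ : EA Z)
    (sZ : SCl ⊤ Z) (hZS : Z ≤ S) (hc : S ≤ C[Z]) (hV : EA V) (hVS : V ≤ S) (hNV : N[S] ≤ N[V])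
    (key : ∀ n ∈ N[S], ⁅V, zpowers n⁆ ≤ Z → n ∈ C[Z]) : ⊤ ≤ N[Z] := by
  have cZ := ctx_of_scl hS hZ sZ hZS
  refine nml_of_no_piece hO cZ fun J hK => ?_
  have hL := piece_comp hO cZ.sc hK
  have hCk := comp_Ck hO hL
  have hSK : S ≤ N[J] := (le_inf le_top hc).trans (cZ.norm_of_cent hK)
  have hT : Syl 2 J (S ⊓ J) := hS.inf_norm le_top hSK
  have hSZ : S ≤ N[Z] := hc.trans (C_le_N _)
  have hNZ : N[S] ≤ N[Z] := fun m hm => mem_N_of_finite fun x hx =>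
    sZ.max S hS.pi hZS le_top x hx m (mem_top m) (conj_mem hm (hZS hx))
  obtain ⟨Q, _, _, π, hπ⟩ := exists_hat J
  obtain ⟨T1, h1, d1⟩ := cZ.exists_hd hK hπ hT.pi hT.le (inf_le_left.trans hSZ)
  obtain rfl := hT.eq_of_le d1.syl.pi h1 d1.syl.le
  have hKN := norm_self J
  have hVZ : V ⊓ J ≤ Z ⊔ C[J] := fun x hx => by
    rw [← hCk, ← hπ.mem_iff (hKN hx.2) d1.AK, d1.tz.memZ]
    refine ⟨ap_mem_img π ⟨hVS hx.1, hx.2⟩ (hKN hx.2), ?_⟩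
    rw [← ap_mul π (hKN hx.2) (hKN hx.2), hV.sq hx.1, ap_one]
  have c1 : J ⊓ N[S] ≤ C[Z] := fun k hk => by
    rw [← constt_mul_constt {2} k]
    refine mul_mem (hc (hS.le_of_norm (piElt_constt _ k).isPi le_top
      (zpowers_le.2 (constt_mem _ hk.2)) (mem_zpowers _))) ?_
    set w := constt ({2}ᶜ : Set ℕ) k
    have hwK : w ∈ J := constt_mem _ hk.1
    have hwS : w ∈ N[S] := constt_mem _ hk.2
    have hwV : zpowers w ≤ N[V] := zpowers_le.2 (hNV hwS)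
    refine key w hwS ?_
    have e1 : ⁅V, zpowers w⁆ ≤ V ⊓ J := le_inf (comm_le_left hwV)
      ((comm_mono_right (zpowers_le.2 hwK)).trans (comm_le_right (hVS.trans hSK)))
    rw [← coprime_commGid hwV (hV.two.coprime (piElt_constt _ k).isPi) hV.abl.sol]
    refine (comm_mono_left (e1.trans hVZ)).trans ?_
    rw [(isProd_sup' (norm_C d1.AK)).comm_left_of_cent (C_anti (zpowers_le.2 hwK))]
    exact comm_le_left (zpowers_le.2 (hNZ hwS))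
  have c2 : J ⊓ N[Z] ≤ C[Z] := fun k hk => by
    have hn : (J ⊔ S) ⊓ N[Z] ⊓ C[Z] ⊴ (J ⊔ S) ⊓ N[Z] :=
      ⟨inf_le_left, norm_inf (norm_self _) (inf_le_right.trans (norm_C le_rfl))⟩
    have hs : Syl 2 ((J ⊔ S) ⊓ N[Z] ⊓ C[Z]) S :=
      hS.of_le (le_inf (le_inf le_sup_right hSZ) hc) le_top
    obtain ⟨c, hc', n, hn', rfl⟩ := (Frattini_arg Nat.prime_two hn hs).mul k
      ⟨mem_sup_left hk.1, hk.2⟩
    obtain ⟨k', hk', s, hs', rfl⟩ := (isProd_sup hSK).mul n hn'.1.1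
    refine mul_mem hc'.2 (mul_mem (c1 ⟨hk', ?_⟩) (hc hs'))
    exact (mul_mem_cancel_right (norm_self S hs')).1 hn'.2
  obtain ⟨x, hx, hx1, -⟩ := d1.tz.exists_ne 1
  obtain ⟨y, hy, hy1, hyx⟩ := d1.tz.exists_ne x
  obtain ⟨k, hk, hkN, e⟩ := d1.tz.trans x hx hx1 y hy hy1
  obtain ⟨k, hkK, rfl⟩ := (mem_img_of_le hKN).1 hk
  have hkT : k ∈ N[S ⊓ J] := by
    refine mem_N_of_cj_le ?_
    have h3 : cj k (S ⊓ J) ≤ J := cj_le_of_mem hT.le hkK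
    have h4 : cj k (S ⊓ J) ≤ (S ⊓ J) ⊔ Ck J := by
      rw [← hπ.le_iff (h3.trans hKN) d1.TN, img_cj π (hKN hkK), cj_of_mem_N hkN]
    rw [hCk] at h4
    have h5 := le_inf h4 h3
    rw [← group_modl' (norm_C d1.TN) hT.le] at h5
    exact h5.trans (sup_le le_rfl
      (inf_comm J C[J] ▸ hT.nml_le (comp_center_two hO hL) (center_nml J)))
  have hkZ : k ∈ N[Z] := norm_of_normT sZ hS.pi hZS (hCk ▸ cZ.le_sup hK) hkK hkT
  refine hyx ?_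
  rw [e]
  exact conj_eq_of_mem_C (ap_mem_C π (c2 ⟨hkK, hkZ⟩) (hKN hkK)) hx

theorem lift {X₀ : Type u} [Group X₀] [Finite X₀] {π : H →* X₀} (hf : H8.PC.Quo π R)
    (hS : Syl 2 H S) {ν : X₀} (hn : ν ∈ N[img π S]) : ∃ m ∈ H ⊓ N[S], ap π m = ν := by
  obtain ⟨m, hm, rfl⟩ := hf.exists_ap ν
  have h1 : m ∈ N[S ⊔ R] := by
    rw [← hf.pre_img hS.le]
    exact norm_pre (zpowers_le.2 hm) (by rw [img_zpowers π hm]; exact zpowers_le.2 hn)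
      (mem_zpowers m)
  have hle : S ⊔ R ≤ H := sup_le hS.le hf.le
  have hn : S ⊔ R ⊴ H ⊓ N[S ⊔ R] := ⟨le_inf hle (norm_self _), inf_le_right⟩
  obtain ⟨a, ha, b, hb, rfl⟩ :=
    (Frattini_arg Nat.prime_two hn (hS.of_le le_sup_left hle)).mul m ⟨hm, h1⟩
  obtain ⟨s, hs, o, ho, rfl⟩ := (isProd_sup' (hS.le.trans hf.nml.norm)).mul a ha
  refine ⟨s * b, ⟨mul_mem (hS.le hs) hb.1.1, mul_mem (norm_self S hs) hb.2⟩, ?_⟩
  rw [ap_mul π (hle ha) hb.1.1, ap_mul π (hS.le hs) (hf.le ho), hf.ap_ker ho, mul_one,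
    ap_mul π (hS.le hs) hb.1.1]

theorem cx (p : U τ) (σ : τ.F) : ⁅p, U.x2 σ⁆ = U.x4 (⟨p.t, p.ht⟩ * σ) := by
  ext
  · rw [U.comm_a]; rfl
  · rw [U.comm_s]; simp [U.x2, U.x4, Tw.T, Tw.N, Tw.sh]
  · rw [U.comm_c]; simp [U.x2, U.x4, Tw.cr, Tw.sh]
  · rw [U.comm_rW p rfl rfl rfl]; simp [U.x2, U.x4, Tw.T]
  · rw [U.comm_b]; simp [U.x2, U.x4]
  · rw [U.comm_t]; rfl

theorem of_Z (hx : x ∈ M.Z) : ∃ r : τ.F, x = M.ι (U.x4 r) := by
  obtain ⟨p, ⟨h1, h2, h3, h4, h5⟩, rfl⟩ := M.mem_Z.1 hx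
  refine ⟨⟨p.r, p.hr⟩, congrArg _ ?_⟩
  ext <;> simp [U.x4, *]

theorem cent (hz : z ∈ M.Z) (h1 : z ≠ 1) (hn : n ∈ C{z} ⊓ N[M.S])
    (hc : ⁅M.V, zpowers n⁆ ≤ M.Z) : n ∈ C[M.Z] := by
  obtain ⟨p, hp⟩ := conj_mem hn.2 (M.ι_S (U.x6 1))
  have act : ∀ r : τ.F, n * M.ι (U.x4 r) * n⁻¹ = M.ι (U.x4 (⟨p.t, p.ht⟩ * r)) := fun r => by
    have hv : M.ι (U.x2 r) ∈ M.V := M.ι_V.2 ⟨rfl, rfl, rfl, rfl⟩
    have h2 : ⁅n, M.ι (U.x2 r)⁆ ∈ M.Z := by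
      rw [commC] at hc
      exact hc (commutator_mem_commutator (mem_zpowers n) hv)
    have h3 : U.x4 r = ⁅U.x6 (1 : τ.F), U.x2 r⁆ := by
      rw [cx]; congr 1; exact (one_mul r).symm
    have h4 := conj_eq_of_mem_C (M.S_CZ (M.ι_S p)) h2
    have h5 := conj_eq_of_mem_C (M.S_CZ (M.ι_S ⁅p, U.x2 r⁆)) h2
    rw [← cx, h3, map_commutatorElement, map_commutatorElement] at *
    set ζ := ⁅n, M.ι (U.x2 r)⁆ with hζ
    have h6 : n * M.ι (U.x2 r) * n⁻¹ = ζ * M.ι (U.x2 r) := by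
      rw [hζ, commutatorElement_def]; group
    calc n * ⁅M.ι (U.x6 1), M.ι (U.x2 r)⁆ * n⁻¹
        = ⁅n * M.ι (U.x6 1) * n⁻¹, n * M.ι (U.x2 r) * n⁻¹⁆ := by
          simp only [commutatorElement_def]; group
      _ = ⁅M.ι p, ζ * M.ι (U.x2 r)⁆ := by rw [← hp, h6]
      _ = (M.ι p * ζ * (M.ι p)⁻¹) * ⁅M.ι p, M.ι (U.x2 r)⁆ *
          (M.ι (U.x2 r) * (M.ι (U.x2 r))⁻¹) * ζ⁻¹ := by
          simp only [commutatorElement_def]; group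
      _ = (⁅M.ι p, M.ι (U.x2 r)⁆ * ζ * ⁅M.ι p, M.ι (U.x2 r)⁆⁻¹) *
          ⁅M.ι p, M.ι (U.x2 r)⁆ * ζ⁻¹ * 1 := by rw [h4, h5]; group
      _ = _ := by group
  obtain ⟨r, rfl⟩ := of_Z hz
  have hr : r ≠ 0 := by
    rintro rfl
    exact h1 (by rw [show U.x4 (0 : τ.F) = 1 from rfl, map_one])
  have h2 := act r
  rw [mem_C1_iff_conj.1 hn.1] at h2
  have h3 : (r : K) = p.t * r := congrArg U.r (M.inj h2)
  have h4 : (⟨p.t, p.ht⟩ : τ.F) = 1 := Subtype.ext (by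
    have : (r : K) ≠ 0 := fun e => hr (Subtype.ext e)
    exact mul_right_cancel₀ this (h3.symm.trans (one_mul _).symm))
  refine mem_C'.2 fun y hy => ?_
  obtain ⟨r', rfl⟩ := of_Z hy
  have := act r'
  rw [h4, one_mul] at this
  exact mul_inv_eq_iff_eq_mul.1 this

end HN1x

theorem Md.Cf.n1a (h : M.Cf) (hz : z ∈ M.Z) (h1 : z ≠ 1) : C{z} ≤ N[M.Z ⊔ Od[C{z}]] := by
  have hSH : M.S ≤ C{z} := M.S_CZ.trans (C_le_C1 hz)
  have hWS : M.W ≤ M.S := (M.W_Y.trans (M.Y_eq.le.trans inf_le_left)).trans M.Q1_S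
  have hVS : M.V ≤ M.S := M.V_W.trans hWS
  have hZS : M.Z ≤ M.S := M.Z_V.trans hVS
  have hS := M.syl_of hSH
  obtain ⟨Q, _, _, f, hf⟩ := H8.PC.exists_quo (pcore_nml ({2}ᶜ : Set ℕ) C{z})
  have hS' : Syl 2 ⊤ (img f M.S) := hf.img_top ▸ hS.img f le_rfl
  have back : ∀ A B : Subgroup G, A ≤ M.S → B ≤ M.S → img f A ≤ img f B → A ≤ B :=
    fun A B hA hB e => by
      have h1 := le_inf ((hf.le_iff (hA.trans hSH) (hB.trans hSH)).1 e) hA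
      rwa [← group_modl' ((hB.trans hSH).trans hf.nml.norm) hB,
        (Od_odd _).inf_eq_bot' hS.pi, sup_bot_eq] at h1
  have hea : ∀ A : Subgroup G, A ≤ M.W → EA (img f A) := fun A hA =>
    ea_of_sq fun y hy => by
      have hA' := (hA.trans hWS).trans hSH
      obtain ⟨a, ha, rfl⟩ := (mem_img_of_le hA').1 hy
      rw [← ap_mul f (hA' ha) (hA' ha), M.eaW.sq (hA ha), ap_one]
  have sZ := (H2.C2.SCl.of_syl hS hZS (h.scZ hz h1)).quo hf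
  have main : ⊤ ≤ N[img f M.Z] := by
    refine HN1x.abs hf.Od_eq_bot hS' (hea _ (M.Z_V.trans M.V_W)) sZ (img_mono f hZS)
      (img_cent f M.S_CZ) (hea _ M.V_W) (img_mono f hVS) (fun ν hν => ?_) fun ν hν hc => ?_
    · obtain ⟨m, hm, rfl⟩ := HN1x.lift hf hS hν
      exact ap_mem_N f (M.nS_V h.big hm.2) hm.1
    · obtain ⟨m, hm, rfl⟩ := HN1x.lift hf hS hν
      refine ap_mem_C f (HN1x.cent hz h1 hm (back _ _
        ((comm_le_left (zpowers_le.2 (M.nS_V h.big hm.2))).trans hVS) hZS ?_)) hm.1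
      rwa [img_comm f (hVS.trans hSH) (zpowers_le.2 hm.1), img_zpowers f hm.1]
  rw [← hf.pre_img (hZS.trans hSH)]
  exact (hf.pre_nml_top main).norm


end H27.HX
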