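import Mathlib
import Cfsg.Prelude.Def_LieTwisted
import Cfsg.Prelude.Def_CaseTheorems
import Cfsg.Agent.H27.HX1
import Cfsg.Agent.H27.HW
import Cfsg.Agent.H2.CT3

set_option autoImplicit false
set_option linter.unusedVariables false
set_option linter.unusedSectionVars false
set_option linter.unusedSimpArgs false

namespace H27.HX

open Cfsg H24 H26 H26.Gold H26.LM Subgroup
open scoped commutatorElement

universe u v

variable {G : Type u} [Group G] [Finite G] {K : Type} [Field K] [Finite K] [CharP K 2] {τ : Tw K}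
  {M M' M'' : Md G τ} {A : Ap G} {H S E M0 R X X' Y L D N0 P J : Subgroup G} {𝒟 : Set G}
  {g h j k l n s t x y z : G} {a a' b c c0 e f : K} {u v w : U τ}

/-! ### HN1b -/

namespace HN1bx

theorem third {B Q : Subgroup G} (h : 3 ≤ B.relIndex Q) (hy : y ∈ Q) :
    ∃ x ∈ Q, x ∉ B ∧ x * y ∉ B := by
  classical
  have := Fintype.ofFinite (Q ⧸ B.subgroupOf Q)
  obtain ⟨q, -, hq⟩ := Finset.exists_mem_notMem_of_card_lt_card
    (s := ({((1 : Q) : Q ⧸ B.subgroupOf Q), ((⟨y, hy⟩ : Q) : Q ⧸ B.subgroupOf Q)} : Finset _))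
    (t := Finset.univ) (lt_of_le_of_lt Finset.card_le_two (by
      rw [Finset.card_univ, ← Nat.card_eq_fintype_card]; exact h))
  obtain ⟨x, rfl⟩ := QuotientGroup.mk_surjective q
  simp only [Finset.mem_insert, Finset.mem_singleton, not_or, QuotientGroup.eq, mem_subgroupOf,
    mul_one] at hq
  exact ⟨x⁻¹, inv_mem x.2, hq.1, hq.2⟩

theorem mem_Z {x : U τ} : x ∈ U.Z τ ↔ x.a = 0 ∧ x.s = 0 ∧ x.c = 0 ∧ x.b = 0 ∧ x.t = 0 := Iff.rfl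

theorem sq_r {x : U τ} (h : x.a = 0) : (x * x).r = x.s * x.t + τ.T (x.b * x.c) := by
  simp only [U.mul_r, h, Tw.T, Tw.N, Tw.sh, Tw.cr, map_add, map_mul, map_zero]; grind

theorem core (hK : Big K) (P : Subgroup (U τ)) (ha : ∀ x ∈ P, x.a = 0)
    (h1 : ∀ x ∈ P, x ∉ U.Z τ → ∀ y ∈ P, y ∉ U.Z τ → x * x = y * y)
    (h2 : ∀ x ∈ P, x ∉ U.Z τ → x * x ≠ 1) (hv : v ∈ P) (hw : w ∈ P) (vZ : v ∉ U.Z τ)
    (wZ : w ∉ U.Z τ) (hvw : v * w ∉ U.Z τ)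
    (h4 : ∀ a, (∀ x ∈ P, ⁅U.x1 τ a, x⁆ ∈ P) ∨
      ∀ x ∈ P, ∀ y ∈ P, ⁅U.x1 τ a * x * (U.x1 τ a)⁻¹, y⁆ = 1) : False := by
  have hW : ∀ x ∈ P, x.b = 0 → x.t = 0 → x.s = 0 ∧ x.c = 0 := fun x hx hb ht => by
    by_contra hn
    refine h2 x hx (fun e => hn ⟨e.2.1, e.2.2.1⟩) ((U.inv_iff x).2 (Or.inl ⟨ha x hx, ?_⟩))
    rw [hb, ht, mul_zero, zero_mul, τ.T_zero, add_zero]
  have cr : ∀ a, ∀ x ∈ P, ∀ y ∈ P, ⁅U.x1 τ a * x * (U.x1 τ a)⁻¹, y⁆.r =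
      x.t * y.s + y.t * (x.s + τ.T (a * x.c) + τ.T (τ.sh a * x.b) + x.t * τ.N a) +
        τ.T ((x.b + x.t * a) * y.c) + τ.T (y.b * (x.c + τ.cr a x.b + x.t * τ.sh a)) := by
    intro a x hx y hy
    have e := ha x hx
    rw [U.comm_r1 (by simp only [U.mul_a, U.inv_a, U.x1, e]; grind) (ha y hy)]
    simp only [U.mul_a, U.mul_s, U.mul_c, U.mul_b, U.mul_t, U.inv_a, U.inv_s, U.inv_c, U.inv_b,
      U.inv_t, U.x1, e, Tw.T, Tw.N, Tw.sh, Tw.cr, map_add, map_mul, map_zero, τ.three, x.hs, x.ht]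
    grind
  by_cases ht : ∃ x ∈ P, x.t ≠ 0
  · obtain ⟨x, hx, ht⟩ := ht
    have hn : ∀ a, a ≠ 0 → ∀ x ∈ P, ⁅U.x1 τ a, x⁆ ∈ P := fun a a0 =>
      (h4 a).resolve_right fun e => by
        have e1 := cr a x hx x hx
        rw [e x hx x hx, U.one_r] at e1
        have e2 := τ.T_cr_self x.b a
        refine mul_ne_zero (pow_ne_zero 2 ht) (τ.N_ne a0) ?_
        simp only [Tw.T, Tw.N, Tw.sh, Tw.cr, map_add, map_mul, τ.three, x.hs, x.ht] at e1 e2 ⊢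
        grind
    obtain ⟨ω, ω0, ω1⟩ := hK
    have k1 := hn 1 one_ne_zero x hx
    obtain ⟨k2, k3⟩ := hW _ (hn ω ω0 _ k1) (by
      rw [U.comm_b, U.comm_t, U.comm_a]; simp) (U.comm_t _ _)
    rw [U.comm_c, U.comm_t, U.comm_a, U.comm_b] at k3
    rw [U.comm_s, U.comm_t, U.comm_a, U.comm_b, U.comm_c] at k2
    simp only [U.x1, ha x hx, Tw.T, Tw.N, Tw.sh, Tw.cr, map_add, map_mul, map_zero, map_one,
      τ.three, x.hs, x.ht] at k2 k3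
    have k4 : τ.σ (τ.σ ω) = τ.σ ω := mul_left_cancel₀ ht (by grind)
    have k5 : τ.σ ω = ω := τ.σ.injective k4
    simp only [k5] at k2
    have : x.t * ω * (ω + 1) = 0 := by grind
    simp only [mul_eq_zero, ht, ω0, false_or] at this
    exact ω1 (by grind)
  push Not at ht
  have hb : ∀ x ∈ P, x ∉ U.Z τ → x.b ≠ 0 := fun x hx h e =>
    h ⟨ha x hx, (hW x hx e (ht x hx)).1, (hW x hx e (ht x hx)).2, e, ht x hx⟩
  have hq : ∀ x ∈ P, x ∉ U.Z τ → τ.T (x.b * x.c) ≠ 0 := fun x hx h e =>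
    h2 x hx h ((U.inv_iff x).2 (Or.inl ⟨ha x hx, by rw [ht x hx, e]; simp⟩))
  have hq' : ∀ x ∈ P, x ∉ U.Z τ → ∀ y ∈ P, y ∉ U.Z τ → τ.T (x.b * x.c) = τ.T (y.b * y.c) :=
    fun x hx h y hy h' => by
      have := congrArg U.r (h1 x hx h y hy h')
      rwa [sq_r (ha x hx), sq_r (ha y hy), ht x hx, ht y hy, mul_zero, mul_zero, zero_add,
        zero_add] at this
  have vwb : (v * w).b = v.b + w.b := by rw [U.mul_b, ha v hv]; ring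
  have vwc : (v * w).c = v.c + w.c := by
    rw [U.mul_c, ha v hv, ht w hw, τ.cr_comm, τ.cr_zero]; ring
  have e0 := hq' _ (mul_mem hv hw) hvw v hv vZ
  have e1 := hq' v hv vZ w hw wZ
  have e2 := hq v hv vZ
  rw [vwb, vwc] at e0
  have key : ∀ x ∈ P, ∀ y ∈ P, τ.T (x.b * y.c) + τ.T (y.b * x.c) ≠ 0 →
      τ.cr y.b x.b = 0 ∧ τ.T (y.b * x.c) + τ.T (τ.sh y.b * x.b) = 0 := fun x hx y hy hne => by
    have k1 := (h4 y.b).resolve_right (fun e => by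
      have e1 := cr y.b x hx y hy
      rw [e x hx y hy, U.one_r, ht x hx, ht y hy] at e1
      have e2 := τ.T_cr_self y.b x.b
      refine hne ?_
      simp only [Tw.T, Tw.N, Tw.sh, Tw.cr, map_add, map_mul, map_zero, τ.three] at e1 e2 ⊢
      grind) x hx
    obtain ⟨k2, k3⟩ := hW _ k1 (by rw [U.comm_b, ht x hx, ha x hx]; simp) (U.comm_t _ _)
    rw [U.comm_c] at k3
    rw [U.comm_s] at k2
    simp only [U.x1, ha x hx, ht x hx, Tw.T, Tw.N, Tw.sh, Tw.cr, map_add, map_mul, map_zero,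
      τ.three] at k2 k3 ⊢
    constructor <;> grind
  have ne : τ.T (v.b * w.c) + τ.T (w.b * v.c) ≠ 0 := fun e => e2 (by
    simp only [Tw.T, map_add, map_mul] at e e0 e1 ⊢; grind)
  obtain ⟨k1, k2⟩ := key w hw v hv (by rwa [add_comm])
  obtain ⟨-, k3⟩ := key v hv w hw ne
  obtain ⟨l, hl, e⟩ := τ.cr_eq_zero (hb v hv vZ) k1
  have l0 : l ≠ 0 := fun e' => hb w hw wZ (by rw [e, e', zero_mul])
  have n0 := τ.N_ne (hb v hv vZ)
  have l1 : l = 1 := by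
    rw [e] at k2 k3 e1
    have k4 : l ^ 2 * τ.N v.b * (l + 1) = 0 := by
      simp only [Tw.T, Tw.N, Tw.sh, map_add, map_mul, τ.three, hl] at k2 k3 e1 ⊢; grind
    simp only [mul_eq_zero, pow_eq_zero_iff two_ne_zero, l0, n0, false_or] at k4
    grind
  refine hb _ (mul_mem hv hw) hvw ?_
  rw [vwb, e, l1]; grind

theorem aux {u x b c z : G} (h1 : x * b * x⁻¹ = c * b) (h2 : u * b * u⁻¹ = z * b)
    (h3 : u * c * u⁻¹ = c) (h4 : c * x = x * c) (h5 : c * (u * x * u⁻¹) = u * x * u⁻¹ * c)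
    (h6 : z * (u * x * u⁻¹) = u * x * u⁻¹ * z) (h7 : z * c = c * z) :
    b * (u * x * u⁻¹ * x⁻¹) = u * x * u⁻¹ * x⁻¹ * b := by
  have e1 : u * x * u⁻¹ * (z * b) * (u * x * u⁻¹)⁻¹ = c * (z * b) := by
    rw [← h2]
    calc _ = u * (x * b * x⁻¹) * u⁻¹ := by group
      _ = u * c * u⁻¹ * (u * b * u⁻¹) := by rw [h1]; group
      _ = _ := by rw [h3]
  generalize u * x * u⁻¹ = y at *
  have e2 : y * b = c * b * y := by
    refine mul_left_cancel (a := z) ?_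
    rw [← mul_assoc, h6, ← mul_assoc, ← mul_assoc, h7, mul_assoc c, ← e1]; group
  refine mul_left_cancel (a := c) ?_
  calc c * (b * (y * x⁻¹)) = c * b * y * x⁻¹ := by group
    _ = y * x⁻¹ * (x * b * x⁻¹) := by rw [← e2]; group
    _ = y * x⁻¹ * (c * x) * x⁻¹ * b := by rw [h1]; group
    _ = _ := by rw [h4, ← mul_assoc, ← mul_assoc c, ← mul_assoc c, h5]; group

theorem mid {Q Z B K' : Subgroup G} (ZB : Z ≤ B) (BQ : B ≤ Q) (ZK : Z ≤ K')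
    (hc : ∀ x ∈ Q, ∀ y ∈ Q, ⁅x, y⁆ ∈ Z) (hs : ∀ x ∈ Q, x * x ∈ Z) (QZ : Q ≤ C[Z])
    (hZ : Q ⊓ C[Q] ≤ Z) (z2 : ∀ z ∈ Z, z * z = 1) (QK : Q ≤ N[K']) (h3 : 3 ≤ B.relIndex Q)
    (tr : ∀ x ∈ Q, x ∉ B → ∀ y ∈ Q, y ∉ B → ∃ u ∈ K', u ∈ N[Q] ∧ u ∈ C[Z] ∧
      (∀ b ∈ B, u * b * u⁻¹ * b⁻¹ ∈ Z) ∧ u * x * u⁻¹ * y ∈ B) :
    (∀ x ∈ Q ⊓ C[B] ⊓ K', x ∉ Z → ∀ y ∈ Q ⊓ C[B] ⊓ K', y ∉ Z → x * x = y * y) ∧
    (∀ x ∈ Q ⊓ C[B] ⊓ K', x ∉ Z → x * x ≠ 1) ∧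
    ∃ v ∈ Q ⊓ C[B] ⊓ K', ∃ w ∈ Q ⊓ C[B] ⊓ K', v ∉ Z ∧ w ∉ Z ∧ v * w ∉ Z := by
  set P := Q ⊓ C[B] ⊓ K' with hP
  have cz : ∀ x ∈ Q, ∀ z ∈ Z, z * x = x * z := fun x hx z hz => mem_C.1 (QZ hx) z hz
  have ZP : Z ≤ P := le_inf (le_inf (ZB.trans BQ) (cents_symm (BQ.trans QZ))) ZK
  -- commutators `[u, x]` lie in `P`
  have cm : ∀ u ∈ K', u ∈ N[Q] → u ∈ C[Z] → (∀ b ∈ B, u * b * u⁻¹ * b⁻¹ ∈ Z) → ∀ x ∈ Q,
      u * x * u⁻¹ * x⁻¹ ∈ P := fun u uK uQ uZ uB x hx => by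
    refine mem_inf.2 ⟨mem_inf.2 ⟨mul_mem (conj_mem uQ hx) (inv_mem hx), mem_C.2 fun b hb => ?_⟩, ?_⟩
    · have e := hc x hx b (BQ hb)
      exact aux (c := ⁅x, b⁆) (z := u * b * u⁻¹ * b⁻¹) (by rw [commutatorElement_def]; group)
        (by group) (conj_eq_of_mem_C uZ e) (cz _ hx _ e) (cz _ (conj_mem uQ hx) _ e)
        (cz _ (conj_mem uQ hx) _ (uB b hb)) (cz _ (BQ (ZB e)) _ (uB b hb))
    · have : u * x * u⁻¹ * x⁻¹ = u * (x * u⁻¹ * x⁻¹) := by group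
      rw [this]; exact mul_mem uK (conj_mem (QK hx) (inv_mem uK))
  have dec : ∀ y ∈ Q, ∃ p ∈ P, ∃ b ∈ B, y = p * b := fun y hy => by
    by_cases yB : y ∈ B
    · exact ⟨1, one_mem _, y, yB, (one_mul y).symm⟩
    obtain ⟨x, hx, xB, h⟩ := third h3 hy
    obtain ⟨u, uK, uQ, uZ, uB, e⟩ := tr x hx xB _ (mul_mem hx hy) h
    refine ⟨(x * x)⁻¹ * (u * x * u⁻¹ * x⁻¹)⁻¹, mul_mem (inv_mem (ZP (hs x hx)))
      (inv_mem (cm u uK uQ uZ uB x hx)), _, e, by group⟩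
  have cen : ∀ x ∈ Q, x ∈ C[P] → x ∈ C[B] → x ∈ Z := fun x hx h1 h2 => hZ ⟨hx, mem_C.2 fun y hy => by
    obtain ⟨p, hp, b, hb, rfl⟩ := dec y hy
    rw [mul_assoc, mem_C.1 h2 b hb, ← mul_assoc, mem_C.1 h1 p hp, mul_assoc]⟩
  have PB : ∀ x ∈ P, x ∈ B → x ∈ Z := fun x hx hb =>
    cen x hx.1.1 (mem_C.2 fun p hp => (mem_C.1 hp.1.2 x hb).symm) hx.1.2
  have k1 : ∀ x ∈ P, x ∉ Z → ∀ y ∈ P, y ∉ Z → x * x = y * y := fun x hx xZ y hy yZ => by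
    obtain ⟨u, uK, uQ, uZ, uB, e⟩ := tr x hx.1.1 (fun e => xZ (PB x hx e)) y hy.1.1
      (fun e => yZ (PB y hy e))
    have e1 : u * x * u⁻¹ * y ∈ Z := PB _ (by
      have := mul_mem (mul_mem (cm u uK uQ uZ uB x hx.1.1) hx) hy
      rwa [inv_mul_cancel_right] at this) e
    set z := u * x * u⁻¹ * y with hz
    have e2 : u * x * u⁻¹ = z * y⁻¹ := by rw [hz]; group
    calc x * x = u * (x * x) * u⁻¹ := (conj_eq_of_mem_C uZ (hs x hx.1.1)).symm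
      _ = (u * x * u⁻¹) * (u * x * u⁻¹) := by group
      _ = z * (z * y⁻¹) * y⁻¹ := by
        rw [e2]; nth_rewrite 3 [cz _ (inv_mem hy.1.1) z e1]; group
      _ = (y * y)⁻¹ := by rw [← mul_assoc, z2 z e1]; group
      _ = y * y := inv_eq_of_mul_eq_one_right (z2 _ (hs y hy.1.1))
  obtain ⟨y, hy, yB, -⟩ := third h3 (one_mem Q)
  obtain ⟨x, hx, xB, h⟩ := third h3 hy
  obtain ⟨p, hp, b, hb, rfl⟩ := dec y hy
  obtain ⟨p', hp', b', hb', rfl⟩ := dec x hx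
  have pZ : p ∉ Z := fun e => yB (mul_mem (ZB e) hb)
  refine ⟨k1, fun x hx xZ e => pZ (cen p hp.1.1 (mem_C.2 fun y hy => ?_) hp.1.2), p', hp', p, hp,
    fun e => xB (mul_mem (ZB e) hb'), pZ, fun e => h ?_⟩
  · have : EA P := ea_of_sq fun a ha => by
      by_cases aZ : a ∈ Z
      · exact z2 a aZ
      · rw [k1 a ha aZ x hx xZ, e]
    exact this.comm hy hp
  · rw [mul_assoc, ← mul_assoc b', mem_C.1 hp.1.2 b' hb', mul_assoc, ← mul_assoc]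
    exact mul_mem (ZB e) (mul_mem hb' hb)

end HN1bx

open HN1bx H2.C2 in
theorem Md.n1b (M : Md G τ) (hK : Big K) (hL : L ≤ N[M.Z]) (hS : M.S ≤ L) (h : StC L M.S M.Q1) :
    ∃ N0, N0 ⊴ L ∧ Sol N0 ∧ M.Q1 ≤ N0 := by
  have ZQ : M.Z ≤ M.Q1 := M.CQ1.ge.trans (M.Z_V.trans (M.V_W.trans (M.W_Y.trans
    (M.Y_eq.le.trans inf_le_left))) |> fun e => M.CQ1.le.trans e)
  have QL : M.Q1 ≤ L := M.Q1_S.trans hS
  have z2 : ∀ z ∈ M.Z, z * z = 1 := fun z hz => M.eaW.sq (M.V_W (M.Z_V hz))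
  obtain ⟨X₀, _, _, f, hf⟩ := H8.PC.exists_quo (⟨ZQ.trans QL, hL⟩ : M.Z ⊴ L)
  have hSy : Syl 2 ⊤ (img f M.S) := hf.img_top ▸ (M.syl_of hS).img f le_rfl
  have sA : SCl ⊤ (img f M.Q1) := (SCl.of_syl (M.syl_of hS) M.Q1_S h).quo hf
  have hea : EA (img f M.Q1) := ea_of_sq fun y hy => by
    obtain ⟨a, ha, rfl⟩ := (mem_img_of_le QL).1 hy
    rw [← ap_mul f (QL ha) (QL ha), hf.ap_ker (M.sq1 ha)]
  have sc := sA.sc hSy.pi (img_mono f M.Q1_S)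
  have cA : Ctx (DC (img f M.Q1)) ⊤ (img f M.Q1) := ctx_all (sc_DC hSy hea sc) (maxD_DC hSy hea sc)
  have hO := cA.sc.Og_nml ⊤
  by_cases hp : ∃ J, Piece (DC (img f M.Q1)) ⊤ J
  swap
  · refine ⟨pre f (Og (DC (img f M.Q1)) ⊤), hf.pre_nml_top hO.norm, sol_of_img (f := f) (pre_le _ _) ?_ ?_,
      (img_le_iff QL).1 cA.max.le_Og⟩
    · rw [hf.ker]
      exact ((M.twoS.of_le (ZQ.trans M.Q1_S)).sol Nat.prime_two).of_le inf_le_left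
    · rw [hf.img_pre]
      refine Sol.of_le (((Od_odd _).sol).sup (cA.two.sol Nat.prime_two)
        (cA.max.le_Og.trans (pcore_nml _ _).norm)) (cA.struct.trans (sup_le le_rfl
          (sSup_le fun J hJ => (hp ⟨J, hJ⟩).elim)))
  obtain ⟨J, hJ⟩ := hp
  exfalso
  have tr := cA.trs hJ
  have JC : J ≤ img f (L ⊓ C[M.Z]) := hJ.le.trans (Og_le_iff.2 (by
    rintro _ ⟨a, ha, -, g, rfl⟩ -
    exact conj_mem ((hf.img_top ▸ img_norm f (norm_inf (norm_self L) (norm_C hL))) (mem_top g))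
      (img_mono f (le_inf QL (M.Q1_S.trans M.S_CZ)) ha)))
  obtain ⟨k1, k2, v, hv, w, hw, vZ, wZ, hvw⟩ := mid (Q := M.Q1) (Z := M.Z)
    (B := M.Q1 ⊓ pre f (Ck J)) (K' := pre f J) (le_inf ZQ (hf.le_pre _)) inf_le_left (hf.le_pre _)
    (fun x hx y hy => M.c11 hx hy) (fun x hx => M.sq1 hx) (M.Q1_S.trans M.S_CZ)
    ((inf_le_inf_right _ M.Q1_S).trans M.CQ1.le) z2 (norm_pre QL (hJ.normA cA.max))
    (by rw [inf_relIndex_left, relIndex_pre f _ QL]; exact le_trans (by decide) (cA.four hJ))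
    fun x hx xB y hy yB => by
      obtain ⟨u, hu, -, e⟩ := tr.trans _ (ap_mem_img f hx (QL hx))
        (fun e => xB ⟨hx, mem_pre.2 ⟨QL hx, e.2⟩⟩) _ (ap_mem_img f hy (QL hy))
        (fun e => yB ⟨hy, mem_pre.2 ⟨QL hy, e.2⟩⟩)
      obtain ⟨u, uL, rfl⟩ := (mem_img_of_le inf_le_left).1 (JC hu.1)
      have uQ : u ∈ N[M.Q1] := norm_of_img (f := f) (zpowers_le.2 uL.1) QL (hf.ker.le.trans ZQ)
        (by rw [img_zpowers f uL.1]; exact zpowers_le.2 hu.2) (mem_zpowers u)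
      refine ⟨u, mem_pre.2 ⟨uL.1, hu.1⟩, uQ, uL.2, fun b hb => ?_, mul_mem (conj_mem uQ hx) hy,
        mem_pre.2 ⟨QL (mul_mem (conj_mem uQ hx) hy), ?_⟩⟩
      · rw [← hf.eq_one (QL (mul_mem (conj_mem uQ hb.1) (InvMemClass.inv_mem hb.1))),
          ap_mul f (QL (conj_mem uQ hb.1)) (QL (InvMemClass.inv_mem hb.1)), ap_conj f uL.1 (QL hb.1),
          ap_inv f (QL hb.1), conj_eq_of_mem_C (tr.cent hu)
            ⟨ap_mem_img f hb.1 (QL hb.1), (mem_pre.1 hb.2).2⟩, mul_inv_cancel]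
      · rw [ap_mul f (QL (conj_mem uQ hx)) (QL hy), ap_conj f uL.1 (QL hx)]; exact e.2
  obtain ⟨v, -, rfl⟩ := M.mem_Q1.1 hv.1.1
  obtain ⟨w, -, rfl⟩ := M.mem_Q1.1 hw.1.1
  have iZ : ∀ x : U τ, M.ι x ∈ M.Z ↔ x ∈ U.Z τ := fun x => M.ι_Z
  refine core hK ((M.Q1 ⊓ C[M.Q1 ⊓ pre f (Ck J)] ⊓ pre f J).comap M.ι)
    (fun x hx => M.ι_Q1.1 hx.1.1)
    (fun x hx xZ y hy yZ => M.inj (by
      rw [map_mul, map_mul]; exact k1 _ hx (by rwa [iZ]) _ hy (by rwa [iZ])))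
    (fun x hx xZ e => k2 _ hx (by rwa [iZ]) (by rw [← map_mul, e, map_one]))
    hv hw (by rwa [← iZ]) (by rwa [← iZ]) (by rwa [← iZ, map_mul]) fun a => ?_
  have sS := M.ι_S (U.x1 τ a)
  have sQ := M.S_N.2.2.2.2.1 sS
  by_cases e : cj (ap f (M.ι (U.x1 τ a))) J = J
  · have n1 : zpowers (M.ι (U.x1 τ a)) ≤ N[M.Q1] := zpowers_le.2 sQ
    have n2 : img f (zpowers (M.ι (U.x1 τ a))) ≤ N[J] := by
      rw [img_zpowers f (hS sS)]; exact zpowers_le.2 (mem_N_iff_cj.2 e)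
    have n3 := zpowers_le.2 (hS sS)
    refine Or.inl fun x hx => ?_
    rw [mem_comap, commutatorElement_def, map_mul, map_mul, map_mul, map_inv, map_inv]
    exact mul_mem (conj_mem (norm_inf (norm_inf n1 (norm_C (norm_inf n1 (norm_pre n3 (norm_Ck n2)))))
      (norm_pre n3 n2) (mem_zpowers _)) hx) (InvMemClass.inv_mem hx)
  · have hJ' : Piece (DC (img f M.Q1)) ⊤ (cj (ap f (M.ι (U.x1 τ a))) J) := by
      simpa using hJ.cj cA.sc (ap f (M.ι (U.x1 τ a)))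
    refine Or.inr fun x hx y hy => M.inj ?_
    rw [map_commutatorElement, map_one, commutatorElement_eq_one_iff_mul_comm, map_mul, map_mul,
      map_inv]
    refine mem_C.1 hy.1.2 _ ⟨conj_mem sQ hx.1.1, pre_mono f (hJ.le_Ck_of_ne hJ' e) ?_⟩
    rw [pre_cj f (hS sS)]
    exact conj_mem_cj _ hx.2

end H27.HX
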