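import Mathlib
import Cfsg.Prelude.Def_LieTwisted
import Cfsg.Prelude.Def_CaseTheorems
import Cfsg.Agent.H27.HX1
import Cfsg.Agent.H27.HF7
import Cfsg.Agent.H27.HN0
import Cfsg.Agent.H2.CT3
import Cfsg.Agent.H26.CG1a

set_option autoImplicit false
set_option linter.unusedVariables false
set_option linter.unusedSectionVars false
set_option linter.unusedSimpArgs false

namespace H27.HX

open Cfsg H24 H26 H26.Gold H26.LM Subgroup
open scoped commutatorElement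

universe u v

variable {G : Type u} [Group G] [Finite G] {K : Type} [Field K] [Finite K] [CharP K 2] {τ : Tw K}
  {M M' M'' : Md G τ} {A : Ap G} {H S E M0 R X X' Y L D N0 P J : Subgroup G} {𝒟 : Set G}
  {g h j k l n s t x y z : G} {a a' b c c0 e f : K} {u v w : U τ}

/-! ### HN2a -/

namespace HN2ax

open H2.C2 H26.CG

/-- the group theoretic core -/
theorem core {T B Z : Subgroup G} (hO : Od[(⊤ : Subgroup G)] = ⊥) (hT : Syl 2 ⊤ T) (hB : EA B)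
    (sB : SCl ⊤ B) (hBT : B ≤ T) (hZ : Z ≤ B) (hTZ : T ≤ C[Z])
    (h1 : ∀ x ∈ T, x ∈ C[B] ∨ ((∀ z ∈ Z, ∃ v ∈ B, ⁅x, v⁆ = z) ∧ B ⊓ C{x} ≤ Z))
    (hE : E ≤ T) (hEa : EA E) (h4 : 4 ≤ ♯E) (hEC : E ⊓ C[B] = ⊥) :
    ⊤ ≤ N[B] ∨ ∃ J, Piece (DC B) ⊤ J ∧ Z ≤ Ck J := by
  by_contra hc
  push Not at hc
  obtain ⟨hn, hZK⟩ := hc
  have cB := ctx_of_scl hT hB sB hBT
  have hD := cB.sc
  refine hn (nml_of_no_piece hO cB fun J hJ => ?_)
  have hcj : ∀ J, Piece (DC B) ⊤ J → ∀ g, Piece (DC B) ⊤ (cj g J) := fun J hJ g => by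
    simpa using hJ.cj hD g
  have hTB : T ≤ N[B] := sB.le_norm hT.pi hBT le_top
  -- `2`-elements of `J ∩ N(B)` centralise `B`
  have c1 : ∀ u ∈ J ⊓ N[B], TwoE u → u ∈ C[B] := fun u hu h2 => by
    obtain ⟨g, -, hg⟩ := Sylow_Jsub Nat.prime_two hT
      (hB.two.sup h2.isPi (zpowers_le.2 hu.2)) le_top
    have hgB : g ∈ N[B] := sB.eq_of_le (mem_top g) fun x hx => by
      obtain ⟨b, hb, rfl⟩ := mem_cj'.1 hx
      exact sB.max T hT.pi hBT le_top b hb g (mem_top g)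
        (hg (conj_mem_cj g (mem_sup_left hb)))
    have hu' : g * u * g⁻¹ ∈ T := hg (conj_mem_cj g (mem_sup_right (mem_zpowers u)))
    rcases h1 _ hu' with e | ⟨e, -⟩
    · rwa [← cj_of_mem_N hgB, ← cj_C, conj_mem_cj_iff] at e
    · refine (hZK _ (hcj J hJ g) fun z hz => ?_).elim
      obtain ⟨v, hv, rfl⟩ := e z hz
      have h3 := (cB.trs (hcj J hJ g)).two (g * u * g⁻¹) ⟨conj_mem_cj g hu.1, hTB hu'⟩ (h2.conj g)
      rw [commC] at h3
      exact (h3 (commutator_mem_commutator (mem_zpowers _) hv)).2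
  -- `J ∩ N(B)` normalises `Z`
  have c2 : J ⊓ N[B] ≤ N[Z] := by
    obtain ⟨Q, _, _, φ, hφ⟩ := H8.PC.exists_quo (show C[B] ⊴ N[B] from ⟨C_le_N B, norm_C le_rfl⟩)
    have o1 : OddG (img φ (J ⊓ N[B])) := isPi_iff_piElt.2 fun y hy => by
      obtain ⟨x, hx, rfl⟩ := (mem_img_of_le inf_le_right).1 hy
      rw [← constt_eq_one_iff (π := {2}), ← constt_ap φ _ hx.2]
      exact hφ.ap_ker (c1 _ (constt_mem _ hx) (piElt_constt _ _))
    have n1 : J ⊓ N[B] ⊴ Og (DC B) ⊤ ⊓ N[B] :=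
      ⟨inf_le_inf_right _ hJ.le, norm_inf (inf_le_left.trans hJ.norm)
        (norm_of_le inf_le_right)⟩
    have n2 : Og (DC B) ⊤ ⊓ N[B] ⊴ N[B] :=
      ⟨inf_le_right, norm_inf (le_top.trans (hD.Og_nml ⊤).norm) (norm_self _)⟩
    have o2 : img φ (J ⊓ N[B]) ≤ Od[img φ N[B]] :=
      (pcore_max o1 (n1.img φ)).trans ((n2.img φ).pcore_le _)
    have hEN : E ≤ N[B] := hE.trans hTB
    have hc : ♯(img φ E) = ♯E := card_img_of_inf φ hEN (by rw [hφ.ker, inf_comm, hEC])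
    have ea : EA (img φ E) := ea_of_sq fun y hy => by
      obtain ⟨a, ha, rfl⟩ := (mem_img_of_le hEN).1 hy
      rw [← ap_mul φ (hEN ha) (hEN ha), hEa.sq ha, ap_one]
    have o3 : Od[img φ N[B]] ≤ img φ (N[B] ⊓ N[Z]) := by
      refine coprime_abelian_gen_cent1 ea.abl (ea.not_cyc (hc ▸ h4))
        (norm_pcore _ (norm_of_le (img_mono φ hEN))) (cop (Od_odd _) ea.two) fun a ha a1 y hy => ?_
      obtain ⟨a, haE, rfl⟩ := (mem_img_of_le hEN).1 ha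
      obtain ⟨n, hn, rfl⟩ := hφ.exists_ap y
      refine ap_mem_img φ ⟨hn, mem_N_of_finite fun z hz => ?_⟩ hn
      have haC : a ∉ C[B] := fun e => a1 (hφ.ap_ker e)
      have hzB : n * z * n⁻¹ ∈ B := conj_mem hn (hZ hz)
      refine ((h1 a (hE haE)).resolve_left haC).2 ⟨hzB, ?_⟩
      have h5 : a⁻¹ * (n * a * n⁻¹) ∈ C[B] := by
        rw [← hφ.eq_iff (hEN haE) (mul_mem (mul_mem hn (hEN haE)) (inv_mem hn)),
          ap_conj φ hn (hEN haE)]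
        exact (mem_C1_iff_conj.1 hy.2).symm
      have h6 := C_le_C1 hzB h5
      have h7 := mem_C.1 (hTZ (hE haE)) z hz
      have h8 : n * a * n⁻¹ ∈ C{n * z * n⁻¹} := mem_C1.2 (by
        calc _ = n * (a * z) * n⁻¹ := by group
          _ = n * (z * a) * n⁻¹ := by rw [h7]
          _ = _ := by group)
      have h9 := mul_mem h8 (inv_mem h6)
      rw [show n * a * n⁻¹ * (a⁻¹ * (n * a * n⁻¹))⁻¹ = a by group] at h9
      exact mem_C1_comm.1 h9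
    have := (hφ.le_iff inf_le_right inf_le_left).1 (o2.trans o3)
    exact this.trans (sup_le inf_le_right ((C_anti hZ).trans (C_le_N Z)))
  have tr := cB.trs hJ
  obtain ⟨z0, hz0, hz0C⟩ := SetLike.not_le_iff_exists.1 (hZK J hJ)
  have hz0B : z0 ∉ B ⊓ Ck J := fun e => hz0C e.2
  obtain ⟨e, he, e1, -⟩ := hEa.two.exists_inv (fun e => by rw [e, card_bot] at h4; omega)
  have heC : e ∉ C[B] := fun h => e1 (mem_bot.1 (hEC ▸ (⟨he, h⟩ : e ∈ E ⊓ C[B])))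
  by_cases hN : e ∈ N[J]
  · refine hZK J hJ fun z hz => ?_
    obtain ⟨v, hv, rfl⟩ := ((h1 e (hE he)).resolve_left heC).1 z hz
    have hnC : e ∈ N[Ck J] := norm_Ck (zpowers_le.2 hN) (mem_zpowers e)
    have key : ∀ b ∈ Ck J, ⁅e, b⁆ ∈ Ck J := fun b hb => by
      rw [commutatorElement_def]
      exact mul_mem (conj_mem hnC hb) (inv_mem hb)
    by_cases hvB : v ∈ B ⊓ Ck J
    · exact key v hvB.2
    · obtain ⟨u, hu, -, h3⟩ := tr.trans z0 (hZ hz0) hz0B v hv hvB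
      have h4 : u * z0 * u⁻¹ ∈ Z := conj_mem (c2 hu) hz0
      have h5 := key _ h3.2
      generalize u * z0 * u⁻¹ = w at h3 h4 h5
      have h6 := mem_C.1 (hTZ (hE he)) w h4
      have h7 : ⁅e, w * v⁆ = w * ⁅e, v⁆ * w⁻¹ := by
        simp only [commutatorElement_def]
        calc _ = (e * w) * v * e⁻¹ * v⁻¹ * w⁻¹ := by group
          _ = _ := by rw [← h6]; group
      rwa [h7, conj_eq_of_mem_C (hB.le_C (hZ h4)) (hZ hz)] at h5
  · have hle := hJ.le_Ck_of_ne (hcj J hJ e) fun h => hN (mem_N_iff_cj.2 h)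
    have hx : ∃ x ∈ B, x ∉ B ⊓ Ck J ∧ z0 * x ∉ B ⊓ Ck J := by
      by_contra hx
      push Not at hx
      have := (show Cocyc (B ⊓ Ck J) B from ⟨inf_le_left, z0, hZ hz0, fun x hxB => by
        by_cases h : x ∈ B ⊓ Ck J
        · exact mem_sup_left h
        · have h2 := mul_mem (inv_mem (mem_sup_right (S := B ⊓ Ck J) (mem_zpowers z0)))
            (mem_sup_left (hx x hxB h))
          simpa using h2⟩).relIndex_le hB le_rfl
      have := tr.four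
      omega
    obtain ⟨x, hxB, hx1, hx2⟩ := hx
    obtain ⟨u, hu, -, h3⟩ := tr.trans z0 (hZ hz0) hz0B x hxB hx1
    have h4 : u * z0 * u⁻¹ * z0⁻¹ ∈ Z := mul_mem (conj_mem (c2 hu) hz0) (inv_mem hz0)
    have h5 : u * z0 * u⁻¹ * z0⁻¹ ∈ J := by
      have := mul_mem hu.1 (conj_mem (hJ.normA cB.max (hZ hz0)) (inv_mem hu.1))
      simpa [mul_assoc] using this
    have h6 := hle (conj_mem_cj e h5)
    rw [conj_eq_of_mem_C (hTZ (hE he)) h4] at h6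
    refine hx2 ?_
    have := mul_mem (inv_mem (show _ ∈ B ⊓ Ck J from ⟨hZ h4, h6⟩)) h3
    simpa [mul_assoc] using this

/-- the elements `x₅(tβ) x₆(t)` -/
def E6 (τ : Tw K) (β : K) : Subgroup (U τ) where
  carrier := {x | x.a = 0 ∧ x.s = 0 ∧ x.c = 0 ∧ x.r = 0 ∧ x.b = x.t * β}
  one_mem' := ⟨rfl, rfl, rfl, rfl, by simp⟩
  mul_mem' := fun {x y} hx hy => by
    obtain ⟨h1, h2, h3, h4, h5⟩ := hx; obtain ⟨k1, k2, k3, k4, k5⟩ := hy
    simp [U.mul_a, U.mul_b, U.mul_c, U.mul_s, U.mul_r, U.mul_t, Tw.cr, Tw.T, Tw.sh, Tw.N, add_mul, *]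
  inv_mem' := fun {x} hx => by
    obtain ⟨h1, h2, h3, h4, h5⟩ := hx
    simp [U.inv_a, U.inv_b, U.inv_c, U.inv_s, U.inv_r, U.inv_t, Tw.cr, Tw.T, Tw.sh, Tw.N, *]

/-- an element of `E6` -/
def e6 (β : K) (t : K) (ht : τ.σ t = t) : E6 τ β :=
  ⟨⟨0, 0, 0, 0, t * β, t, map_zero _, map_zero _, ht⟩, rfl, rfl, rfl, rfl, rfl⟩

theorem card_E6 (hF : τ.BigF) (β : K) : 2 < Nat.card (E6 τ β) := by
  obtain ⟨ω, h0, h1, h2⟩ := hF
  classical
  haveI := Fintype.ofFinite (E6 τ β)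
  rw [Nat.card_eq_fintype_card, Fintype.two_lt_card_iff]
  refine ⟨e6 β 0 (map_zero _), e6 β 1 (map_one _), e6 β ω h0, fun e => ?_, fun e => ?_, fun e => ?_⟩
  · exact zero_ne_one (congrArg (fun x : E6 τ β => x.1.t) e)
  · exact h1 (congrArg (fun x : E6 τ β => x.1.t) e).symm
  · exact h2 (congrArg (fun x : E6 τ β => x.1.t) e).symm

theorem exists_E (M : Md G τ) (hF : τ.BigF) (hy : y ∈ M.W) (hV : y ∉ M.V) :
    ∃ E ≤ M.S ⊓ C{y}, EA E ∧ 4 ≤ ♯E ∧ E ⊓ M.Q2 = ⊥ := by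
  obtain ⟨u, ⟨ha, hb, ht⟩, rfl⟩ := hy
  have hc : u.c ≠ 0 := fun e => hV (M.ι_V.2 ⟨ha, e, hb, ht⟩)
  obtain ⟨β, hβ⟩ := τ.T_surj hc u.hs
  have ea : EA ((E6 τ β).map M.ι) := ea_of_sq (by
    rintro _ ⟨x, ⟨h1, h2, h3, h4, h5⟩, rfl⟩
    rw [← map_mul, (U.inv_iff x).2 (Or.inl ⟨h1, by simp [h2, h3, τ.T_zero]⟩), map_one])
  refine ⟨(E6 τ β).map M.ι, ?_, ea, ?_, ?_⟩
  · rintro _ ⟨x, ⟨h1, h2, h3, h4, h5⟩, rfl⟩
    refine ⟨M.ι_S x, mem_C1.2 ?_⟩
    rw [← map_mul, ← map_mul, (U.comm_iff x u).2]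
    refine ⟨?_, ?_, ?_, ?_⟩
    · simp [U.comm_s, Tw.T, Tw.sh, Tw.N, h1, ha]
    · simp [U.comm_c, Tw.cr, Tw.sh, h1, ha]
    · rw [U.comm_rW x ha hb ht, h1, h5, mul_assoc, Tw.T_smul x.ht, mul_comm β, hβ, zero_mul,
        τ.T_zero, mul_zero, add_zero, CharTwo.add_self_eq_zero]
    · simp [U.comm_b, h1, ha]
  · obtain ⟨k, hk⟩ := ea.two.card_eq_pow Nat.prime_two
    have h3 := card_E6 hF β
    rw [← Subgroup.card_map_of_injective M.inj, hk] at h3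
    rw [hk]
    match k, h3 with
    | 0, h3 => simp at h3
    | 1, h3 => simp at h3
    | k + 2, _ => rw [pow_add]; have := Nat.one_le_two_pow (n := k); omega
  · refine eq_bot_iff.2 ?_
    rintro _ ⟨⟨x, ⟨h1, h2, h3, h4, h5⟩, rfl⟩, h6⟩
    have h7 := M.ι_Q2.1 h6
    rw [show x = 1 from U.ext h1 h2 h3 h4 (by rw [h5, h7, zero_mul]; rfl) h7, map_one]
    exact one_mem _

end HN2ax

open H2.C2 in
theorem Md.Cf.n2a (h : M.Cf) (hF : τ.BigF) (hy : y ∈ M.W) (hV : y ∉ M.V) :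
    C{y} ≤ N[M.V ⊔ Od[C{y}]] ∨ HC (C{y} ⊓ C[M.Z]) := by
  have eV : EA M.V := M.eaW.of_le M.V_W
  have hVH : M.V ≤ C{y} := mem_C_iff_le_C1.1 (C_anti M.V_W (M.eaW.le_C hy))
  have hQ : M.V ≤ M.Q2 := M.V_W.trans (M.W_Y.trans (M.Y_eq.le.trans inf_le_right))
  have hVT : M.V ≤ M.S ⊓ C{y} := le_inf (hQ.trans M.Q2_S) hVH
  have hS := h.sylY hy hV
  obtain ⟨E, hE, hEa, h4, hEQ⟩ := HN2ax.exists_E M hF hy hV
  have hZV := M.Z_V
  have hCV := M.CV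
  have hZo := fun x hx h z hz => M.Z_of (x := x) (z := z) hx h hz
  have hCv := fun v hv h => M.Cv (y := v) hv h
  have hSZ := M.S_CZ
  have sV := SCl.of_syl hS hVT (h.scV hy hV)
  generalize C{y} = H at *
  obtain ⟨Q, _, _, f, hf⟩ := H8.PC.exists_quo (pcore_nml ({2}ᶜ : Set ℕ) H)
  have hO := hf.Od_eq_bot
  have hTH : M.S ⊓ H ≤ H := inf_le_right
  have hS' : Syl 2 ⊤ (img f (M.S ⊓ H)) := hf.img_top ▸ hS.img f le_rfl
  have inj : ∀ x ∈ M.S ⊓ H, ap f x = 1 → x = 1 := fun x hx e =>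
    ((Od_odd H).piElt ((hf.eq_one hx.2).1 e)).eq_one (by simpa using hS.pi.piElt hx)
  have cent : ∀ x ∈ M.S ⊓ H, ∀ v ∈ M.S ⊓ H, ap f x * ap f v = ap f v * ap f x → x * v = v * x :=
    fun x hx v hv e => by
      rw [← commutatorElement_eq_one_iff_mul_comm] at e ⊢
      rw [← ap_commutator f hx.2 hv.2] at e
      exact inj _ (by
        rw [commutatorElement_def]
        exact mul_mem (mul_mem (mul_mem hx hv) (Subgroup.inv_mem _ hx)) (Subgroup.inv_mem _ hv)) e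
  have hea : ∀ A : Subgroup G, A ≤ H → EA A → EA (img f A) := fun A hA he =>
    ea_of_sq fun y hy => by
      obtain ⟨a, ha, rfl⟩ := (mem_img_of_le hA).1 hy
      rw [← ap_mul f (hA ha) (hA ha), he.sq ha, ap_one]
  refine (HN2ax.core (Z := img f M.Z) (E := img f E) hO hS' (hea _ hVH eV) (sV.quo hf)
    (img_mono f hVT) (img_mono f hZV) (img_cent f (inf_le_left.trans hSZ)) (fun x hx => ?_)
    (img_mono f hE) (hea _ (hE.trans hTH) hEa) ?_ ?_).elim (fun main => ?_) fun ⟨J, hJ, hZ⟩ => ?_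
  rotate_left 3
  · left
    rw [← hf.pre_img hVH]
    exact (hf.pre_nml_top main).norm
  · right
    refine hc_pre hf (hZV.trans hVH) (eV.two.of_le hZV) ?_
    have := hc_qs hJ.qs ⟨hJ.le, hJ.norm⟩
      ((H26.CG.ctx_of_scl hS' (hea _ hVH eV) (sV.quo hf) (img_mono f hVT)).sc.Og_nml ⊤)
      (le_inf le_top hZ) ((eV.two.of_le hZV).img f)
    rwa [top_inf_eq] at this
  · obtain ⟨x, hx', rfl⟩ := (mem_img_of_le hTH).1 hx
    by_cases h2 : x ∈ M.Q2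
    · exact Or.inl (ap_mem_C f (hCV.ge h2).2 hx'.2)
    · refine Or.inr ⟨fun z hz => ?_, fun v hv => ?_⟩
      · obtain ⟨z, hz', rfl⟩ := (mem_img_of_le (hZV.trans hVH)).1 hz
        obtain ⟨v, hv, rfl⟩ := hZo x hx'.1 h2 z hz'
        exact ⟨_, ap_mem_img f hv (hVH hv), (ap_commutator f hx'.2 (hVH hv)).symm⟩
      · obtain ⟨v, hv', rfl⟩ := (mem_img_of_le hVH).1 hv.1
        refine ap_mem_img f ?_ (hVH hv')
        by_contra hvZ
        exact h2 ((hCv v hv' hvZ).le ⟨hx'.1, mem_C1.2 (cent x hx' v (hVT hv') (mem_C1.1 hv.2).symm)⟩)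
  · rwa [card_img_of_inf f (hE.trans hTH) (by
      rw [hf.ker]; exact (Od_odd H).inf_eq_bot' hEa.two)]
  · refine eq_bot_iff.2 fun x hx => ?_
    obtain ⟨x, hx', rfl⟩ := (mem_img_of_le (hE.trans hTH)).1 hx.1
    have : x ∈ E ⊓ M.Q2 := ⟨hx', hCV.le ⟨(hE hx').1, mem_C'.2 fun v hv =>
      cent x (hE hx') v (hVT hv) (mem_C'.1 hx.2 _ (ap_mem_img f hv (hVH hv)))⟩⟩
    rw [hEQ, mem_bot] at this
    rw [this, ap_one]; exact one_mem _

end H27.HX
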