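import Mathlib
import Cfsg.Prelude.Def_LieTwisted
import Cfsg.Prelude.Def_CaseTheorems
import Cfsg.Agent.H27.HX1
import Cfsg.Agent.H27.HF7
import Cfsg.Agent.H2.CT3
import Cfsg.Agent.H26.CG1a

set_option autoImplicit false
set_option linter.unusedVariables false
set_option linter.unusedSectionVars false
set_option linter.unusedSimpArgs false

namespace H27.HX

open Cfsg H24 H26 H26.Gold H26.LM Subgroup
open scoped commutatorElement

universe u v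

variable {G : Type u} [Group G] [Finite G] {K : Type} [Field K] [Finite K] [CharP K 2] {τ : Tw K}
  {M M' M'' : Md G τ} {A : Ap G} {H S E M0 R X X' Y L D N0 P J : Subgroup G} {𝒟 : Set G}
  {g h j k l n s t x y z : G} {a a' b c c0 e f : K} {u v w : U τ}

/-! ### HN2b -/

namespace HN2bx

open H2.C2 H26.CG

theorem bin (hF : ¬ τ.BigF) (hf : τ.σ f = f) : f = 0 ∨ f = 1 := by
  by_contra hc
  push Not at hc
  exact hF ⟨f, hf, hc.1, hc.2⟩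

theorem ntriv (hK : Big K) (hF : ¬ τ.BigF) : ¬ ∀ x, τ.σ x = x := fun h => by
  obtain ⟨ω, h0, h1⟩ := hK
  exact hF ⟨ω, h ω, h0, h1⟩

theorem card_perp (hK : Big K) (hF : ¬ τ.BigF) (hc : c ≠ 0) :
    ∃ P : AddSubgroup K, (∀ a, a ∈ P ↔ τ.T (a * c) = 0) ∧ Nat.card P = 4 := by
  have hq : τ.q = 2 := by_contra fun e => hF (τ.bigF_iff.2 e)
  have h8 : Nat.card K = 8 := by
    rcases τ.card_K with ⟨h, -⟩ | ⟨-, h⟩
    · exact (ntriv hK hF h).elim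
    · rw [h, hq]; rfl
  let φ : K →+ K := AddMonoidHom.mk' (fun a => τ.T (a * c)) fun a b => by
    simp only [add_mul, τ.T_add]
  have h1 : φ.range = τ.F.toSubring.toAddSubgroup := by
    ext x
    refine ⟨?_, fun hx => ?_⟩
    · rintro ⟨a, rfl⟩; exact τ.σ_T _
    · obtain ⟨a, ha⟩ := τ.T_surj hc (show τ.σ x = x from hx)
      exact ⟨a, by rw [← ha, mul_comm]; rfl⟩
  have h2 := φ.ker.card_mul_index
  rw [AddSubgroup.index_ker, h1, h8, show Nat.card τ.F.toSubring.toAddSubgroup = 2 from hq] at h2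
  exact ⟨φ.ker, fun a => Iff.rfl, by omega⟩

/-- the count `10 ≡ 1 (mod 5)` -/
theorem count {Ω : Type*} [Finite Ω] (h4 : Nat.card Ω = 4) (o : Ω) (ρ : Ω × Ω → Ω × Ω)
    (h5 : ∀ p, ρ^[5] p = p) (hf : ∀ p, ρ p = p → p = (o, o))
    (hn : ∀ p : Ω × Ω, p.1 ≠ o ∧ p.2 ≠ o ∧ p.1 ≠ p.2 → (ρ p).1 ≠ o ∧ (ρ p).2 ≠ o ∧ (ρ p).1 ≠ (ρ p).2) :
    False := by
  classical
  haveI := Fintype.ofFinite Ω
  let α := {p : Ω × Ω // p.1 ≠ o ∧ p.2 ≠ o ∧ p.1 ≠ p.2}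
  let φ : Function.End α := fun p => ⟨ρ p.1, hn p.1 p.2⟩
  have h1 : ∀ n (p : α), ((φ ^ n) p).1 = ρ^[n] p.1 := fun n => by
    induction n with
    | zero => intro p; rfl
    | succ n ih => intro p; rw [pow_succ, Function.iterate_succ_apply]; exact ih (φ p)
  haveI : Fact (Nat.Prime 5) := ⟨by norm_num⟩
  have h2 := Equiv.Perm.card_fixedPoints_modEq (f := φ) (p := 5) (n := 1)
    (funext fun p => Subtype.ext (by rw [h1, pow_one, h5]; rfl))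
  have h3 : Fintype.card (Function.fixedPoints φ) = 0 := Fintype.card_eq_zero_iff.2
    ⟨fun p => p.1.2.1 (congrArg Prod.fst (hf p.1.1 (congrArg Subtype.val p.2)))⟩
  have h6 : Fintype.card α = 6 := by
    rw [Fintype.card_subtype]
    have : (Finset.univ.filter fun p : Ω × Ω => p.1 ≠ o ∧ p.2 ≠ o ∧ p.1 ≠ p.2) =
        (Finset.univ.erase o).offDiag := by
      ext p; simp [Finset.mem_offDiag]
    rw [this, Finset.offDiag_card, Finset.card_erase_of_mem (Finset.mem_univ o), Finset.card_univ,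
      ← Nat.card_eq_fintype_card, h4]
  rw [h3, h6] at h2
  exact absurd h2 (by decide)

theorem sq_V (M : Md G τ) (hF : ¬ τ.BigF) (ht : u.t = 0) :
    M.ι u * M.ι u ∉ M.V ↔ u.a ≠ 0 ∧ u.b ≠ 0 ∧ u.a ≠ u.b := by
  have h1 : M.ι u * M.ι u ∈ M.V ↔ τ.cr u.a u.b = 0 := by
    rw [← map_mul, M.ι_V, U.mul_a, U.mul_c, U.mul_b, U.mul_t, ht]
    simp [CharTwo.add_self_eq_zero]
  rw [h1]
  refine ⟨fun h => ⟨fun e => h ?_, fun e => h ?_, fun e => h ?_⟩, fun ⟨h1, h2, h3⟩ e => ?_⟩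
  · rw [e, τ.cr_comm, τ.cr_zero]
  · rw [e, τ.cr_zero]
  · rw [e, τ.cr_self]
  · obtain ⟨f, hf, e⟩ := τ.cr_eq_zero h1 e
    rcases bin hF hf with rfl | rfl
    · exact h2 (by rw [e, zero_mul])
    · exact h3 (by rw [e, one_mul])

theorem fin (M : Md G τ) (hK : Big K) (hF : ¬ τ.BigF) (hc : c ≠ 0) {T : Subgroup G}
    (hT : ∀ x ∈ T, ∃ u : U τ, M.ι u = x ∧ u.t = 0 ∧ τ.T (u.a * c) = 0 ∧ τ.T (u.b * c) = 0)
    (hi : D.relIndex T = 16) (hW : ∀ x ∈ T, x * x = 1 → x ∈ D) (hg : g ∈ N[T]) (hgD : g ∈ N[D])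
    (hgV : g ∈ N[M.V]) (h5 : ∀ x ∈ T, g ^ 5 * x * (g ^ 5)⁻¹ * x⁻¹ ∈ D)
    (hf : ∀ x ∈ T, g * x * g⁻¹ * x⁻¹ ∈ D → x ∈ D) : False := by
  obtain ⟨P, hP, h4⟩ := card_perp hK hF hc
  choose u hu ht ha hb using fun x : T => hT x.1 x.2
  have um : ∀ x y, u (x * y) = u x * u y := fun x y => M.inj (by rw [map_mul, hu, hu, hu]; rfl)
  let γ : T →* Multiplicative (P × P) := MonoidHom.mk' (fun x => Multiplicative.ofAdd
    (⟨(u x).a, (hP _).2 (ha x)⟩, ⟨(u x).b, (hP _).2 (hb x)⟩)) fun x y => by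
      rw [← ofAdd_add]; congr 1; ext <;> simp [um, U.mul_a, U.mul_b, ht]
  have γa : ∀ x, ((γ x).toAdd.1 : K) = (u x).a := fun x => rfl
  have γb : ∀ x, ((γ x).toAdd.2 : K) = (u x).b := fun x => rfl
  have k1 : γ.ker ≤ D.subgroupOf T := fun x hx => hW x x.2 (by
    have e : γ x = 1 := hx
    refine M.eaW.sq ?_
    rw [← hu, M.ι_W, ← γa, ← γb, e]
    exact ⟨rfl, rfl, ht x⟩)
  have c16 : Nat.card (Multiplicative (P × P)) = 16 := by
    rw [Nat.card_congr Multiplicative.toAdd, Nat.card_prod, h4]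
  have k2 : γ.ker.relIndex (D.subgroupOf T) * 16 = Nat.card γ.range := by
    rw [← index_ker, ← relIndex_mul_index k1, ← hi]; rfl
  have k2' : Nat.card γ.range ≤ 16 := c16 ▸ card_le_card_group _
  have k2'' : 0 < Nat.card γ.range := Nat.card_pos
  have k3 : ∀ x : T, γ x = 1 ↔ x.1 ∈ D := fun x =>
    ⟨fun e => k1 e, fun e => (relIndex_eq_one.1 (by omega) : D.subgroupOf T ≤ γ.ker) e⟩
  have k4 : Function.Surjective γ := MonoidHom.range_eq_top.1 (eq_top_of_card_eq _ (by omega))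
  choose sec hsec using k4
  let κ : T → T := fun x => ⟨g * x * g⁻¹, conj_mem hg x.2⟩
  have k5 : ∀ x x' : T, γ x = γ x' ↔ x.1 * x'.1⁻¹ ∈ D := fun x x' => by
    rw [← mul_inv_eq_one, ← map_inv, ← map_mul, k3]; rfl
  let ρ : P × P → P × P := fun p => (γ (κ (sec (Multiplicative.ofAdd p)))).toAdd
  have k6 : ∀ x, ρ (γ x).toAdd = (γ (κ x)).toAdd := fun x => by
    refine congrArg Multiplicative.toAdd ((k5 _ _).2 ?_)
    have := conj_mem hgD ((k5 _ _).1 (hsec (γ x)))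
    simpa [κ, mul_assoc] using this
  have k7 : ∀ n x, ρ^[n] (γ x).toAdd = (γ (κ^[n] x)).toAdd := fun n => by
    induction n with
    | zero => intro x; rfl
    | succ n ih => intro x; rw [Function.iterate_succ_apply, Function.iterate_succ_apply, k6, ih]
  have k8 : ∀ n x, (κ^[n] x).1 = g ^ n * x * (g ^ n)⁻¹ := fun n => by
    induction n with
    | zero => intro x; simp
    | succ n ih => intro x; rw [Function.iterate_succ_apply, ih, pow_succ]; simp [κ, mul_assoc]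
  have k9 : ∀ p : P × P, ∃ x, p = (γ x).toAdd := fun p =>
    ⟨sec (Multiplicative.ofAdd p), by rw [hsec]; rfl⟩
  have k10 : ∀ x : T, ((γ x).toAdd.1 ≠ 0 ∧ (γ x).toAdd.2 ≠ 0 ∧ (γ x).toAdd.1 ≠ (γ x).toAdd.2) ↔
      x.1 * x.1 ∉ M.V := fun x => by
    rw [← hu, sq_V M hF (ht x), ← γa, ← γb]
    simp only [ne_eq, Subtype.ext_iff, ZeroMemClass.coe_zero]
  refine count h4 0 ρ (fun p => ?_) (fun p e => ?_) fun p hp => ?_
  · obtain ⟨x, rfl⟩ := k9 p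
    rw [k7, (k5 _ x).2 (by rw [k8]; exact h5 x x.2)]
  · obtain ⟨x, rfl⟩ := k9 p
    rw [k6] at e
    rw [(k3 x).2 (hf x x.2 ((k5 _ _).1 (Multiplicative.toAdd.injective e)))]
    rfl
  · obtain ⟨x, rfl⟩ := k9 p
    rw [k6, k10]
    rw [k10] at hp
    refine fun e => hp ?_
    have := conj_mem (Subgroup.inv_mem _ hgV) e
    simpa [κ, mul_assoc] using this

/-- the group theoretic core -/
theorem core {T0 B : Subgroup G} (hO : Od[(⊤ : Subgroup G)] = ⊥) (hS : Syl 2 ⊤ T0) (hB : EA B)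
    (sB : SCl ⊤ B) (hBT : B ≤ T0) (h4 : ♯B = 4) (hc : B ⊓ ⁅T0 ⊓ C[B], T0 ⊓ C[B]⁆ ≠ ⊥) :
    ⊤ ≤ N[B] ∨ ∃ T D : Subgroup G, ∃ g ∈ N[T] ⊓ N[D], B ≤ T ∧ T ≤ T0 ⊓ C[B] ∧ D.relIndex T = 16 ∧
      (∀ x ∈ T, x * x = 1 → x ∈ D) ∧ (∀ x ∈ T, g ^ 5 * x * (g ^ 5)⁻¹ * x⁻¹ ∈ D) ∧
      ∀ x ∈ T, g * x * g⁻¹ * x⁻¹ ∈ D → x ∈ D := by
  have cB := ctx_of_scl hS hB sB hBT
  by_cases hn : ∀ J, ¬ Piece (DC B) ⊤ J
  · exact Or.inl (nml_of_no_piece hO cB hn)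
  push Not at hn
  obtain ⟨J, hJ⟩ := hn
  have h0 := cB.inf_Ck4 h4 hJ
  have hBJ := cB.le_piece hJ h0
  have hN := cB.norm_piece hJ h0
  have hL := piece_comp hO cB.sc hJ
  have hCk := comp_Ck hO hL
  have hTB : T0 ≤ N[B] := sB.le_norm hS.pi hBT le_top
  by_cases hf : Flat B J
  · refine (hc (eq_bot_of_le h0 (inf_le_inf_left B ?_))).elim
    have h1 := hf _ (hS.pi.inf_left C[B]) (inf_le_inf_right _ (le_top.trans hN))
    refine (comm_mono_left h1).trans ?_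
    rw [sup_comm, (isProd_sup (norm_Ck (le_top.trans hN))).comm_left_of_cent
      (cents_symm inf_le_right)]
    exact comm_le_left (norm_Ck (le_top.trans hN))
  obtain ⟨T, hT, hTN, h1, h2, -, h3, g, hg, h5, h6⟩ := cB.u34 hJ (by
    rw [← relIndex_inf_self, h0, relIndex_bot_left, h4]) hf
  have hTC : T ≤ C[B] := fun t ht => by
    have := (cB.trs hJ).two t ⟨hT.le ht, hTN ht⟩ (hT.pi.piElt ht)
    rw [h0, le_bot_iff] at this
    exact comm_eq_bot'.1 this (mem_zpowers t)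
  have e : (T ⊔ Ck J) ⊓ J = T := by
    rw [hCk, ← group_modl' (norm_C (le_top.trans hN)) hT.le]
    exact sup_eq_left.2 (inf_comm J C[J] ▸ hT.nml_le (comp_center_two hO hL) (center_nml J))
  have hCT : C[B] ≤ N[T] := e ▸ norm_inf ((le_inf (le_top.trans hN) le_rfl).trans h1) (le_top.trans hN)
  refine Or.inr ⟨T, B ⊔ Ck J, g, ⟨hCT hg.2, norm_sup (zpowers_le.2 (C_le_N B hg.2))
    (norm_Ck (le_top.trans hN)) (mem_zpowers g)⟩, hT.le_of_norm hB.two hBJ (hB.le_C.trans hCT),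
    (hS.inf_norm le_top (norm_C hTB)).nml_le hT.pi ⟨hTC, hCT⟩, h2,
    fun x hx e => h3 x hx (e ▸ one_mem _), h5, h6⟩

theorem cent_y (M : Md G τ) (ha : u.a = 0) (hb : u.b = 0) (ht : u.t = 0) (hv : v.t = 0) :
    M.ι v ∈ C{M.ι u} ↔ τ.T (v.a * u.c) = 0 ∧ τ.T (v.b * u.c) = 0 := by
  rw [mem_C1, ← map_mul, ← map_mul, M.inj.eq_iff, U.comm_iff, U.comm_rW v ha hb ht, U.comm_s,
    U.comm_c, U.comm_b]
  simp [ha, hb, ht, hv, τ.T_zero, τ.cr_zero, Tw.cr, Tw.sh]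

end HN2bx

open H2.C2 in
theorem Md.Cf.n2b (h : M.Cf) (hF : ¬ τ.BigF) (hy : y ∈ M.W) (hV : y ∉ M.V) :
    C{y} ≤ N[M.V ⊔ Od[C{y}]] := by
  have eV : EA M.V := M.eaW.of_le M.V_W
  have hVH : M.V ≤ C{y} := mem_C_iff_le_C1.1 (C_anti M.V_W (M.eaW.le_C hy))
  have hQ : M.V ≤ M.Q2 := M.V_W.trans (M.W_Y.trans (M.Y_eq.le.trans inf_le_right))
  have hVT : M.V ≤ M.S ⊓ C{y} := le_inf (hQ.trans M.Q2_S) hVH
  have hS := h.sylY hy hV
  have hCV := M.CV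
  have sV0 := h.scV hy hV
  have sV := SCl.of_syl hS hVT sV0
  have hq : τ.q = 2 := by_contra fun e => hF (τ.bigF_iff.2 e)
  obtain ⟨u, ⟨ha, hb, ht⟩, rfl⟩ := hy
  have hc : u.c ≠ 0 := fun e => hV (M.ι_V.2 ⟨ha, e, hb, ht⟩)
  have cy := fun v hv => HN2bx.cent_y M ha hb ht (v := v) hv
  have ex : ∃ x ∈ M.S ⊓ C{M.ι u} ⊓ C[M.V], ∃ x' ∈ M.S ⊓ C{M.ι u} ⊓ C[M.V],
      ⁅x, x'⁆ ∈ M.V ∧ ⁅x, x'⁆ ≠ 1 := by
    obtain ⟨a, h1, h2⟩ : ∃ a, τ.T (u.c * a) = 0 ∧ a ≠ 0 := by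
      by_contra hn
      push Not at hn
      exact HN2bx.ntriv h.big hF (τ.triv_of_perp hn)
    obtain ⟨c, h3⟩ := τ.T_surj h2 (map_one τ.σ)
    refine ⟨M.ι (U.x1 τ a), ⟨⟨M.ι_S _, (cy _ rfl).2 ⟨by rw [mul_comm]; exact h1, ?_⟩⟩,
      (hCV.ge (M.ι_Q2.2 rfl)).2⟩, M.ι (U.x3 τ c), ⟨⟨M.ι_S _, (cy _ rfl).2 ⟨?_, ?_⟩⟩,
      (hCV.ge (M.ι_Q2.2 rfl)).2⟩, ?_, fun e => ?_⟩
    · simp [U.x1, τ.T_zero]
    · simp [U.x3, τ.T_zero]
    · simp [U.x3, τ.T_zero]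
    · rw [← map_commutatorElement, (U.rel τ).c13]
      exact M.ι_V.2 ⟨rfl, rfl, rfl, rfl⟩
    · rw [← map_commutatorElement, (U.rel τ).c13, ← map_one M.ι, M.inj.eq_iff] at e
      exact one_ne_zero (h3.symm.trans (congrArg U.s e))
  generalize C{M.ι u} = H at *
  obtain ⟨Q, _, _, f, hf⟩ := H8.PC.exists_quo (pcore_nml ({2}ᶜ : Set ℕ) H)
  have hO := hf.Od_eq_bot
  have hTH : M.S ⊓ H ≤ H := inf_le_right
  have hS' : Syl 2 ⊤ (img f (M.S ⊓ H)) := hf.img_top ▸ hS.img f le_rfl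
  have inj : ∀ x ∈ M.S ⊓ H, ap f x = 1 → x = 1 := fun x hx e =>
    ((Od_odd H).piElt ((hf.eq_one hx.2).1 e)).eq_one (by simpa using hS.pi.piElt hx)
  have cent : ∀ x ∈ M.S ⊓ H, ∀ v ∈ M.S ⊓ H, ap f x * ap f v = ap f v * ap f x → x * v = v * x :=
    fun x hx v hv e => by
      rw [← commutatorElement_eq_one_iff_mul_comm] at e ⊢
      rw [← ap_commutator f hx.2 hv.2] at e
      exact inj _ (by
        rw [commutatorElement_def]
        exact mul_mem (mul_mem (mul_mem hx hv) (Subgroup.inv_mem _ hx)) (Subgroup.inv_mem _ hv)) e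
  have hea : EA (img f M.V) := ea_of_sq fun y hy => by
    obtain ⟨a, ha, rfl⟩ := (mem_img_of_le hVH).1 hy
    rw [← ap_mul f (hVH ha) (hVH ha), eV.sq ha, ap_one]
  refine (HN2bx.core hO hS' hea (sV.quo hf) (img_mono f hVT) ?_ fun e => ?_).elim (fun main => ?_)
    fun ⟨T, D, γ, hγ, h1, h2, h3, h4, h5, h6⟩ => ?_
  · rw [card_img_of_inf f hVH (by rw [hf.ker]; exact (Od_odd H).inf_eq_bot' eV.two), M.card_V, hq]
    rfl
  · obtain ⟨x, hx, x', hx', h1, h2⟩ := ex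
    refine h2 (inj _ (hVT h1) (mem_bot.1 (e ▸ (⟨ap_mem_img f h1 (hVH h1), ?_⟩ : ap f ⁅x, x'⁆ ∈
      img f M.V ⊓ ⁅img f (M.S ⊓ H) ⊓ C[img f M.V], img f (M.S ⊓ H) ⊓ C[img f M.V]⁆))))
    rw [ap_commutator f hx.1.2 hx'.1.2]
    exact commutator_mem_commutator ⟨ap_mem_img f hx.1 hx.1.2, ap_mem_C f hx.2 hx.1.2⟩
      ⟨ap_mem_img f hx'.1 hx'.1.2, ap_mem_C f hx'.2 hx'.1.2⟩
  · rw [← hf.pre_img hVH]
    exact (hf.pre_nml_top main).norm
  · exfalso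
    have e : img f (M.S ⊓ H ⊓ pre f T) = T := by
      rw [img_inf_pre, inf_eq_right.2 (h2.trans inf_le_left)]
    have hle : M.S ⊓ H ⊓ pre f T ≤ H := inf_le_left.trans hTH
    have h2' : TwoG (M.S ⊓ H ⊓ pre f T) := hS.pi.inf_left _
    obtain ⟨g, hg, rfl, h7⟩ := conj_lift hf (Od_odd H) h2' h2' hle hle (γ := γ)
      (by rw [e, cj_of_mem_N hγ.1])
    have hm : ∀ x ∈ M.S ⊓ H ⊓ pre f T, ap f x ∈ T := fun x hx => (mem_pre.1 hx.2).2
    refine HN2bx.fin (D := pre f D) M h.big hF hc (T := M.S ⊓ H ⊓ pre f T) (fun x hx => ?_) ?_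
      (fun x hx e2 => mem_pre.2 ⟨hle hx, h4 _ (hm x hx) ?_⟩) (mem_N_of_cj_le h7) ?_ ?_
      (fun x hx => ?_) fun x hx e2 => mem_pre.2 ⟨hle hx, h6 _ (hm x hx) ?_⟩
    · obtain ⟨v, rfl⟩ := hx.1.1
      have hv : v.t = 0 := M.ι_Q2.1 (hCV.le ⟨hx.1.1, mem_C'.2 fun w hw =>
        cent _ hx.1 w (hVT hw) (mem_C'.1 (h2 (hm _ hx)).2 _ (ap_mem_img f hw (hVH hw)))⟩)
      exact ⟨v, rfl, hv, (cy v hv).1 hx.1.2⟩
    · rw [relIndex_pre f D hle, e, h3]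
    · rw [← ap_mul f (hle hx) (hle hx), e2, ap_one]
    · exact pre_norm f (zpowers_le.2 hγ.2) (mem_pre.2 ⟨hg, mem_zpowers _⟩)
    · exact mem_N_of_finite fun w hw => sV0 w hw g hg (h7 (conj_mem_cj g
        ⟨hVT hw, mem_pre.2 ⟨hVH hw, h1 (ap_mem_img f hw (hVH hw))⟩⟩)).1
    · have h8 := pow_mem hg 5
      have h9 := mul_mem (mul_mem h8 (hle hx)) (Subgroup.inv_mem _ h8)
      refine mem_pre.2 ⟨mul_mem h9 (Subgroup.inv_mem _ (hle hx)), ?_⟩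
      rw [ap_mul f h9 (Subgroup.inv_mem _ (hle hx)), ap_conj f h8 (hle hx), ap_pow f hg,
        ap_inv f (hle hx)]
      exact h5 _ (hm x hx)
    · have h9 := mul_mem (mul_mem hg (hle hx)) (Subgroup.inv_mem _ hg)
      have := (mem_pre.1 e2).2
      rwa [ap_mul f h9 (Subgroup.inv_mem _ (hle hx)), ap_conj f hg (hle hx),
        ap_inv f (hle hx)] at this

end H27.HX
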