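import Mathlib
import Cfsg.Prelude.Def_LieTwisted
import Cfsg.Prelude.Def_CaseTheorems
import Cfsg.Agent.H27.HX1
import Cfsg.Agent.H27.HN0
import Cfsg.Agent.H27.HN1
import Cfsg.Agent.H27.HN1b
import Cfsg.Agent.H27.HN2a
import Cfsg.Agent.H27.HN2b
import Cfsg.Agent.H25.Dich

set_option autoImplicit false
set_option linter.unusedVariables false
set_option linter.unusedSectionVars false
set_option linter.unusedSimpArgs false

namespace H27.HX

open Cfsg H24 H26 H26.Gold H26.LM Subgroup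
open scoped commutatorElement

universe u v

variable {G : Type u} [Group G] [Finite G] {K : Type} [Field K] [Finite K] [CharP K 2] {τ : Tw K}
  {M M' M'' : Md G τ} {A : Ap G} {H S E M0 R X X' Y L D N0 P J : Subgroup G} {𝒟 : Set G}
  {g h j k l n s t x y z : G} {a a' b c c0 e f : K} {u v w : U τ}

/-! ### HN3 -/

namespace HN3x
theorem hc_cj (g : G) (h : HC H) : HC (cj g H) := HN0x.hc_iff.2 fun e => HN0x.hc_iff.1 h (by
  have := H23.map_play_of_cop_ker (p := 2) H (f := (MulAut.conj g).toMonoidHom) (by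
    rw [(MonoidHom.ker_eq_bot_iff _).2 (conj_injective' g)]; simp)
  rwa [← cj_def, ← cj_def, e, cj_eq_bot] at this)
theorem sol_of_syl (h : Syl 2 X P) (hn : X ≤ N[P]) : Sol X :=
  sol_of_quo hn (h.pi.sol Nat.prime_two)
    (OddG.sol ((h.quo hn).isPi_compl_of_eq_bot (quo_self P)))
end HN3x
open HN3x

theorem Md.Cf.nc1 (h : M.Cf) (hz : z ∈ M.Z) (h1 : z ≠ 1) : ¬ HC C{z} := by
  intro hc
  have ZS : M.Z ≤ M.S := map_le_range _ _
  have SH : M.S ≤ C{z} := M.S_CZ.trans (C_le_C1 hz)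
  have On : Od[C{z}] ⊴ C{z} := pcore_nml _ _
  have n : M.Z ⊔ Od[C{z}] ⊴ C{z} := ⟨sup_le (ZS.trans SH) On.le, h.n1a hz h1⟩
  have sy : Syl 2 (M.Z ⊔ Od[C{z}]) M.Z :=
    (isProd_sup' ((ZS.trans SH).trans On.norm)).hall_left (M.twoS.of_le ZS) (Od_odd _)
  have fr := (Frattini_arg Nat.prime_two n sy).sup_eq
  have SL : M.S ≤ C{z} ⊓ N[M.Z] := le_inf SH M.S_N.1
  obtain ⟨N0, hN, hs, hQ⟩ := M.n1b h.big inf_le_right SL
    fun x hx g hg hy => h.scQ1 hz h1 x hx g hg.1 hy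
  have n2 : Od[C{z}] ⊔ N0 ⊴ C{z} := by
    refine ⟨sup_le On.le (hN.le.trans inf_le_left), fr.ge.trans (sup_le (sup_le ?_ ?_) ?_)⟩
    · exact norm_sup ((ZS.trans SH).trans On.norm) ((ZS.trans SL).trans hN.norm)
    · exact norm_of_le le_sup_left
    · exact norm_sup (inf_le_left.trans On.norm) hN.norm
  have k := hc_cent hc n2 ((Od_sol _).sup hs ((hN.le.trans inf_le_left).trans On.norm))
    (hQ.trans le_sup_right) (M.twoS.of_le M.Q1_S)
  refine hc_sol k (sol_of_syl (P := M.Z) ?_ (norm_of_cent (inf_le_right.trans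
    (C_anti ((M.Z_V.trans M.V_W).trans (M.W_Y.trans (M.Y_eq.le.trans inf_le_left)))))))
  have sy2 : Syl 2 (C{z} ⊓ N[M.Q1]) M.S := M.syl_of (le_inf SH M.S_N.2.2.2.2.1)
  have := sy2.inf_nml (K := C{z} ⊓ C[M.Q1]) ⟨inf_le_inf_left _ (C_le_N _),
    norm_inf (norm_of_le inf_le_left) (norm_C inf_le_right)⟩
  rwa [← inf_assoc, inf_eq_left.2 SH, M.CQ1] at this

theorem Md.Cf.nc2 (h : M.Cf) (hy : y ∈ M.W) (hV : y ∉ M.V) : ¬ HC C{y} := by
  intro hc
  have WS : M.W ≤ M.S := map_le_range _ _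
  have ZW := M.Z_V.trans M.V_W
  have WC : M.W ≤ C{y} := M.eaW.le_C.trans (C_le_C1 hy)
  have On : Od[C{y}] ⊴ C{y} := pcore_nml _ _
  have k : C{y} ≤ N[M.V ⊔ Od[C{y}]] → HC (C{y} ⊓ C[M.Z]) := fun hn =>
    hc_cent hc ⟨sup_le (M.V_W.trans WC) On.le, hn⟩
      (by rw [sup_comm]; exact (Od_sol _).sup (M.eaW.abl.sol.of_le M.V_W) ((M.V_W.trans WC).trans On.norm))
      (M.Z_V.trans le_sup_left) (M.twoS.of_le (ZW.trans WS))
  have k2 : HC (C{y} ⊓ C[M.Z]) := by
    by_cases hF : τ.BigF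
    · exact (h.n2a hF hy hV).elim k id
    · exact k (h.n2b hF hy hV)
  obtain ⟨z, hz, h1⟩ := exists_ne_one M.Z_ne
  have RW : zpowers y ⊔ M.Z ≤ M.W := sup_le (zpowers_le.2 hy) ZW
  refine h.nc1 hz h1 (hc_bal (RW.trans (WS.trans (M.S_CZ.trans (C_le_C1 hz))))
    (M.twoS.of_le (RW.trans WS)) ?_)
  rwa [C_sup, C_zpowers, inf_eq_right.2 (inf_le_right.trans (C_le_C1 hz))]

theorem Md.Cf.char2 [IsSimpleGroup G] (h : M.Cf) : IsCharacteristicTwoType G := by
  have hW : 8 ≤ ♯M.W := by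
    rw [M.card_W]
    have h1 := τ.two_le_q
    have h2 : 2 ≤ Nat.card K := Finite.one_lt_card
    nlinarith
  have hW1 : M.W ≠ ⊥ := fun e => by rw [e, card_bot] at hW; omega
  have h2 : 2 ∣ ♯M.W := M.eaW.two.dvd_card hW1
  refine ((H25.Sg.dichotomy (even_iff_two_dvd.2 (h2.trans (card_subgroup_dvd_card M.W)))
    (fun N hN e => ?_) ?_).resolve_left fun e => ?_).resolve_left ?_
  · rcases hN.eq_bot_or_eq_top with rfl | rfl
    · rw [index_bot] at e
      have := card_le_card_group M.W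
      omega
    · simp at e
  · rw [show oddCore G = Od[(⊤ : Subgroup G)] by
      rw [pcore_compl_singleton Nat.prime_two]
      exact (H2.map_pPrimeCore_equiv 2 Subgroup.topEquiv).symm]
    refine (nml_top_iff.1 (pcore_nml _ ⊤)).eq_bot_or_eq_top.resolve_right fun e => hW1 ?_
    exact M.eaW.two.eq_bot ((Od_odd ⊤).of_le (le_top.trans e.ge))
  · have := e M.W M.eaW.abl fun a ha => by rw [pow_two, M.eaW.sq ha]
    omega
  · rintro ⟨t, ht, hc⟩
    have t2 : t * t = 1 := by rw [← sq, ← ht, pow_orderOf_eq_one]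
    have t1 : t ≠ 1 := fun e => by simp [e] at ht
    obtain ⟨g, -, hg⟩ := Sylow_Jsub Nat.prime_two M.sylS (twoE_of_sq t2).isPi le_top
    obtain ⟨k, -, hk⟩ := h.classes (hg (conj_mem_cj g (mem_zpowers t)))
      (by rw [conj_mul, t2]; simp)
    have hc' := hc_cj k (hc_cj g (H := C{t}) hc)
    rw [cj_C1, cj_C1] at hc'
    rcases hk with hk | hk
    · exact h.nc1 hk (by simpa using t1) hc'
    · exact h.nc2 hk.1 hk.2 hc'

end H27.HX
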