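import Mathlib
import Cfsg.Prelude.Def_LieTwisted
import Cfsg.Prelude.Def_CaseTheorems
import Cfsg.Agent.H27.HX1
import Cfsg.Agent.H27.HF7
import Cfsg.Agent.H2.CT3
import Cfsg.Agent.S1174

set_option autoImplicit false
set_option linter.unusedVariables false
set_option linter.unusedSectionVars false
set_option linter.unusedSimpArgs false

namespace H27.HX

open Cfsg H24 H26 H26.Gold H26.LM Subgroup
open scoped commutatorElement

universe u v

variable {G : Type u} [Group G] [Finite G] {K : Type} [Field K] [Finite K] [CharP K 2] {τ : Tw K}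
  {M M' M'' : Md G τ} {A : Ap G} {H S E M0 R X X' Y L D N0 P J : Subgroup G} {𝒟 : Set G}
  {g h j k l n s t x y z : G} {a a' b c c0 e f : K} {u v w : U τ}

/-! ### HN4 -/

namespace HN4x
theorem c2_rel (h : IsCharacteristicTwoType G) (hT : TwoG P) (h1 : P ≠ ⊥) :
    N[P] ⊓ C[O[{2}, N[P]]] ≤ O[{2}, N[P]] := by
  intro x hx
  have h2 := h.2 P (hT.isPGroup Nat.prime_two) h1
  rw [pcore_singleton Nat.prime_two] at hx ⊢
  refine ⟨⟨x, hx.1⟩, h2 (mem_centralizer_iff.2 fun y hy => Subtype.ext ?_), rfl⟩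
  exact mem_C.1 hx.2 y ⟨y, hy, rfl⟩
theorem N_zp (h2 : z * z = 1) (h1 : z ≠ 1) : N[zpowers z] = C{z} := by
  refine le_antisymm (fun g hg => mem_C1_iff_conj.2 ?_) (norm_zpowers_of_cent le_rfl)
  obtain ⟨n, hn⟩ := conj_mem hg (mem_zpowers z)
  rcases Int.even_or_odd' n with ⟨m, rfl | rfl⟩
  · simp only [zpow_mul, zpow_two, h2, one_zpow] at hn
    exact absurd (conj_eq_one_iff'.1 hn.symm) h1
  · simp only [zpow_add, zpow_mul, zpow_two, h2, one_zpow, one_mul, zpow_one] at hn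
    exact hn.symm
/-- the stabiliser of a normal chain is a normal `2`-subgroup -/
theorem chain (C : ℕ → Subgroup G) (m : ℕ) (h0 : C 0 = ⊥) (h2 : ∀ i ≤ m, TwoG (C i))
    (hm : ∀ i < m, C i ≤ C (i + 1)) (hN : ∀ i ≤ m, H ≤ N[C i]) (hc : H ⊓ C[C m] ≤ R) (hR : TwoG R)
    (hX : X ≤ H) (h : ∀ i < m, ∀ x ∈ X, ∀ y ∈ C (i + 1), ⁅x, y⁆ ∈ C i) : X ≤ O[{2}, H] := by
  let P : Subgroup G := subOfMul {x | x ∈ H ∧ ∀ i < m, ∀ y ∈ C (i + 1), ⁅x, y⁆ ∈ C i}
    ⟨one_mem _, fun i _ y _ => by simp⟩ fun a ha b hb => ⟨mul_mem ha.1 hb.1, fun i hi y hy => by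
      have : ⁅a * b, y⁆ = a * ⁅b, y⁆ * a⁻¹ * ⁅a, y⁆ := by simp only [commutatorElement_def]; group
      rw [this]
      exact mul_mem (conj_mem (hN i hi.le ha.1) (hb.2 i hi y hy)) (ha.2 i hi y hy)⟩
  have hP : P ⊴ H := ⟨fun x hx => hx.1, le_N_iff.2 fun g hg x hx =>
    ⟨mul_mem (mul_mem hg hx.1) (inv_mem hg), fun i hi y hy => by
      have : ⁅g * x * g⁻¹, y⁆ = g * ⁅x, g⁻¹ * y * g⁆ * g⁻¹ := by
        simp only [commutatorElement_def]; group
      rw [this]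
      exact conj_mem (hN i hi.le hg) (hx.2 i hi _ (conj_mem' (hN _ hi hg) hy))⟩⟩
  have tw : TwoG P := fun p hp hd => by
    by_contra e
    obtain ⟨x, hx, ho⟩ := exists_orderOf_eq hp hd
    have hx' : OddE x := (piElt_of_orderOf_prime hp ho).of_mem e
    have := (hR.piElt (hc ⟨hx.1, cent_of_chain C m h0 h2 hx' hm hx.2⟩)).eq_one hx'
    rw [this, orderOf_one] at ho
    exact hp.one_lt.ne ho
  exact le_trans (show X ≤ P from fun x hx => ⟨hX hx, fun i hi => h i hi x hx⟩) (pcore_max tw hP)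
theorem cQ (h : Es ⊤ S E M0) (hS : Syl 2 ⊤ S) (hn : S ≤ N[E]) (h2 : IsCharacteristicTwoType G)
    (h1 : E ≠ ⊥) : C[E] ≤ E := by
  have n : O[{2}, N[E]] ⊴ N[E] := pcore_nml _ _
  have k : O[{2}, N[E]] ≤ E := (le_inf le_rfl ((hS.of_le hn le_top).nml_le (pcore_pi _ _) n)).trans
    (es_stab h (by rwa [top_inf_eq]) fun x hx ho => by
      rw [((pcore_pi _ _).piElt hx).eq_one ho]; exact one_mem _)
  exact ((le_inf (C_le_N E) (C_anti k)).trans (c2_rel h2 (h.two.of_le h.lt.le) h1)).trans k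
theorem nS (M : Md G τ) (hQ : M.Y ≤ E) (hE : E ≤ M.S) (hc : C[E] ≤ E) (hS : M.S ≤ H)
    (h1 : H ≤ N[M.Z]) (h2 : H ≤ N[M.V]) (h3 : H ≤ N[M.W]) (h4 : H ≤ N[M.Y]) (h5 : H ≤ N[E]) :
    H ≤ N[M.S] := by
  have YS := hQ.trans hE
  have k : M.S ≤ O[{2}, H] := chain (fun i => match i with
      | 0 => ⊥ | 1 => M.Z | 2 => M.V | 3 => M.W | 4 => M.Y | _ => E) 5 rfl
    (fun i hi => by
      interval_cases i
      exacts [isPi_bot _, M.twoS.of_le (map_le_range _ _), M.twoS.of_le (map_le_range _ _),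
        M.twoS.of_le (map_le_range _ _), M.twoS.of_le YS, M.twoS.of_le hE])
    (fun i hi => by
      interval_cases i
      exacts [bot_le, M.Z_V, M.V_W, M.W_Y, hQ])
    (fun i hi => by
      interval_cases i
      exacts [N_bot.ge.trans' le_top, h1, h2, h3, h4, h5])
    (inf_le_right.trans hc) (M.twoS.of_le hE) hS fun i hi x hx y hy => by
      interval_cases i
      exacts [mem_bot.2 (commutatorElement_eq_one_iff_mul_comm.2 (mem_C'.1 (M.S_CZ hx) y hy)),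
        M.cSV hx hy, M.cSW hx hy, M.cSY hx hy, M.cSS hx (hE hy)]
  have := (M.syl_of hS).eq_of_le (pcore_pi _ _) k (pcore_nml _ _).le
  exact this ▸ (pcore_nml _ _).norm
theorem loc (M : Md G τ) (hS : M.S ≤ H) (hc : H ⊓ C[O[{2}, H]] ≤ O[{2}, H]) (h0 : N[M.S] ≤ M0)
    (h1 : H ⊓ N[M.Q1] ≤ M0) (h2 : H ⊓ N[M.Q2] ≤ M0) : H ≤ M0 := fun g hg => by
  have n : O[{2}, H] ⊴ H := pcore_nml _ _
  have k : O[{2}, H] ≤ M.S := (M.syl_of hS).nml_le (pcore_pi _ _) n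
  obtain ⟨n, hn, c, hc', rfl⟩ := alp_sub (M.syl_of hS) (M0 := M0) (fun E hE => by
    rcases afam hE with rfl | rfl | rfl
    exacts [inf_le_right.trans h0, h1, h2]) k hg ((cj_of_mem_N (n.norm hg)).le.trans k)
  exact mul_mem hn (h0 (norm_self _ (k (hc hc'))))
end HN4x
open HN4x

theorem Md.Cf.gd [IsSimpleGroup G] (h : M.Cf) (h2 : IsCharacteristicTwoType G) : M.Gd := by
  obtain ⟨nZ, nV, nW, nY, n1, n2⟩ := M.S_N
  have Y1 : M.Y ≤ M.Q1 := M.Y_eq.le.trans inf_le_left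
  have Y2 : M.Y ≤ M.Q2 := M.Y_eq.le.trans inf_le_right
  have ZW := M.Z_V.trans M.V_W
  have WS : M.W ≤ M.S := map_le_range _ _
  have c1 := cQ (M.es1 le_top (by rw [top_inf_eq]; exact h.ex1)) M.sylS n1 h2
    (ne_bot_of_le M.Z_ne ((ZW.trans M.W_Y).trans Y1))
  have c2 := cQ (M.es2 le_top (by rw [top_inf_eq]; exact h.ex2)) M.sylS n2 h2
    (ne_bot_of_le M.Z_ne ((ZW.trans M.W_Y).trans Y2))
  have s1 : N[M.Q1] ⊓ N[M.V] ≤ N[M.S] := nS M Y1 M.Q1_S c1 (le_inf n1 nV)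
    (inf_le_left.trans M.nQ1_Z) inf_le_right h.eps M.nY1 inf_le_left
  have s2 : N[M.Q2] ⊓ N[M.Z] ≤ N[M.S] := nS M Y2 M.Q2_S c2 (le_inf n2 nZ) inf_le_right
    (inf_le_left.trans M.nQ2_V) (inf_le_left.trans h.hW) h.nY2 inf_le_left
  have cz : ∀ z ∈ M.Z, z ≠ 1 → C{z} ≤ N[M.Q1] := fun z hz h1 => by
    have z2 := M.eaW.sq (ZW hz)
    refine loc M (M.S_CZ.trans (C_le_C1 hz)) ?_ h.nS_Q1 inf_le_right fun g hg => ?_
    · exact N_zp z2 h1 ▸ c2_rel h2 (twoE_of_sq z2).isPi (ne_bot_of_mem (mem_zpowers z) h1)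
    · refine h.nS_Q1 (s2 ⟨hg.2, by_contra fun e => h1 (mem_bot.1 ((M.alpha hg.2 e).le ⟨hz, ?_⟩))⟩)
      rw [← mem_C1_iff_conj.1 hg.1]
      exact conj_mem_cj g hz
  have nv : N[M.V] ≤ N[M.Q2] := loc M nV
    (c2_rel h2 (M.twoS.of_le (M.V_W.trans WS)) (ne_bot_of_le M.Z_ne M.Z_V)) (M.nS_Q2 h.big)
    ((inf_comm _ _).le.trans (s1.trans (M.nS_Q2 h.big))) inf_le_right
  have cy : ∀ y ∈ M.W, y ∉ M.V → C{y} ≤ N[M.Q2] := fun y hy hV => by
    have y2 := M.eaW.sq hy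
    have y1 : y ≠ 1 := fun e => hV (e ▸ one_mem _)
    have hc : C{y} ⊓ C[O[{2}, C{y}]] ≤ O[{2}, C{y}] :=
      N_zp y2 y1 ▸ c2_rel h2 (twoE_of_sq y2).isPi (ne_bot_of_mem (mem_zpowers y) y1)
    have n : O[{2}, C{y}] ⊴ C{y} := pcore_nml _ _
    have RT : O[{2}, C{y}] ≤ M.S ⊓ C{y} := (h.sylY hy hV).nml_le (pcore_pi _ _) n
    have VC : M.V ≤ C{y} := M.V_W.trans (M.eaW.le_C.trans (C_le_C1 hy))
    have nn : C{y} ≤ N[M.V ⊓ O[{2}, C{y}]] := le_N_iff.2 fun g hg x hx =>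
      ⟨h.scV hy hV x hx.1 g hg (RT (n.conj_mem hg hx.2)), n.conj_mem hg hx.2⟩
    have k : M.V ≤ O[{2}, C{y}] := chain (fun i => match i with
        | 0 => ⊥ | 1 => M.V ⊓ O[{2}, C{y}] | _ => O[{2}, C{y}]) 2 rfl
      (fun i hi => by
        interval_cases i
        exacts [isPi_bot _, (pcore_pi _ _).of_le inf_le_right, pcore_pi _ _])
      (fun i hi => by
        interval_cases i
        exacts [bot_le, inf_le_right])
      (fun i hi => by
        interval_cases i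
        exacts [N_bot.ge.trans' le_top, nn, n.norm])
      hc (pcore_pi _ _) VC fun i hi x hx y hy => by
        interval_cases i
        · exact mem_bot.2 (commutatorElement_eq_one_iff_mul_comm.2
            (M.eaW.comm (M.V_W hx) (M.V_W hy.1)))
        · exact ⟨comm_le_left ((RT.trans inf_le_left).trans nV) (commutator_mem_commutator hx hy),
            comm_le_right (VC.trans n.norm) (commutator_mem_commutator hx hy)⟩
    rw [inf_eq_left.2 k] at nn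
    exact nn.trans nv
  refine ⟨h, c1, c2, s1, s2, cz, cy, by_contra fun hM => ?_⟩
  obtain ⟨t, ht, t2, hc⟩ := M.exists_nc
  obtain ⟨M1, hM1⟩ := (H2.C2.scl_syl M.sylS).bender (ne_bot_of_le M.Z_ne (ZW.trans WS)) hM
    fun t ht h1 t2 => by
      obtain ⟨g, hg, k⟩ := h.classes ht t2
      have : C{g * t * g⁻¹} ≤ N[M.Q1] ⊔ N[M.Q2] := by
        rcases k with k | k
        · exact (cz _ k (by simpa using h1)).trans le_sup_left
        · exact (cy _ k.1 k.2).trans le_sup_right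
      rw [← cj_C1, cj_le_iff, cj_of_mem (Subgroup.inv_mem _ hg)] at this
      exact this
  exact hc (H2.C2.se_central hM1 M.twoS ht t2)

end H27.HX
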