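import Mathlib
import Cfsg.Agent.H29.HS100
import Cfsg.Agent.H15.KM3

/-!
# A computing engine for `2.HS.2`: tables, word problem, centralisers by backtracking
-/

set_option autoImplicit false
set_option linter.unusedSectionVars false

namespace H27.HN

open H29 H15.KM H24 Subgroup

abbrev K : Type := HK.K
abbrev A : Type := HS100.Γ ≃g HS100.Γ
noncomputable abbrev ψ : K →* A := HS100.ψ

/-- The action on the vertices `0..99` and the shifted action on `100..1507`. -/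
noncomputable def act (g : K) (i : ℕ) : ℕ :=
  if h : i < 100 then (ψ g ⟨i, h⟩ : ℕ) else 100 + HK.ρ g (i - 100)

theorem act_lt (g : K) {i : ℕ} (h : i < 100) : act g i = ψ g ⟨i, h⟩ := dif_pos h
theorem act_add (g : K) (i : ℕ) : act g (100 + i) = 100 + HK.ρ g i := by
  rw [act, dif_neg (by omega), Nat.add_sub_cancel_left]

noncomputable def actE : K →* Function.End ℕ where
  toFun := act
  map_one' := funext fun i => by
    by_cases h : i < 100
    · rw [act_lt _ h, map_one]; rfl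
    · obtain ⟨j, rfl⟩ := Nat.exists_eq_add_of_le (not_lt.1 h)
      rw [act_add, map_one]; rfl
  map_mul' a b := funext fun i => by
    change _ = act a (act b i)
    by_cases h : i < 100
    · rw [act_lt _ h, act_lt _ h, act_lt _ (Fin.is_lt _), map_mul]; rfl
    · obtain ⟨j, rfl⟩ := Nat.exists_eq_add_of_le (not_lt.1 h)
      rw [act_add, act_add, act_add, map_mul]; rfl

noncomputable def ρ : K →* Equiv.Perm ℕ := actE.toHomPerm

theorem ρ_apply (g : K) (i : ℕ) : ρ g i = act g i := rfl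
theorem ρ_lt (g : K) {i : ℕ} (h : i < 100) : ρ g i = ψ g ⟨i, h⟩ := act_lt g h
theorem ρ_lt100 (g : K) {i : ℕ} (h : i < 100) : ρ g i < 100 := by
  rw [ρ_lt g h]; exact Fin.is_lt _

theorem ρK_lt (g : K) {i : ℕ} (h : i < 1408) : HK.ρ g i < 1408 := by
  refine lt_of_fix (fun j hj => ?_) h
  obtain ⟨w, -, rfl⟩ := exists_word HK.hiv (l := HK.L5) (by decide +kernel)
    (HK.top5 ▸ mem_top g)
  rw [map_ev]
  exact ev_sg_fix HKM.hn w hj

theorem ρ_lt1508 (g : K) (i : ℕ) (h : i < 1508) : ρ g i < 1508 := by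
  by_cases h1 : i < 100
  · exact (ρ_lt100 g h1).trans (by omega)
  · obtain ⟨j, rfl⟩ := Nat.exists_eq_add_of_le (not_lt.1 h1)
    rw [ρ_apply, act_add]
    have := ρK_lt g (i := j) (by omega)
    omega

/-- The central involution. -/
noncomputable def fK : K := HK.σ 0 * HK.σ 0

theorem ker_cases {g : K} (h : ψ g = 1) : g = 1 ∨ g = fK := by
  by_contra h1
  push Not at h1
  have := (Nat.card_eq_two_iff' (⟨1, one_mem _⟩ : ψ.ker)).1 HS100.card_ker
  obtain ⟨y, -, h2⟩ := this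
  have a1 := h2 ⟨g, h⟩ fun e => h1.1 (congrArg Subtype.val e)
  have a2 := h2 ⟨fK, HS100.ψ_sq⟩ fun e => HS100.sq_ne (congrArg Subtype.val e)
  exact h1.2 (congrArg Subtype.val (a1.trans a2.symm))

theorem ψ_eq_one {g : K} (h : ∀ i < 100, ρ g i = i) : ψ g = 1 :=
  RelIso.ext fun i => Fin.ext ((ρ_lt g i.2).symm.trans (h i i.2))

theorem ρ_of_ψ {g g' : K} (h : ψ g = ψ g') {i : ℕ} (hi : i < 100) : ρ g i = ρ g' i := by
  rw [ρ_lt _ hi, ρ_lt _ hi, h]

noncomputable def adjb (i j : ℕ) : Bool := bitL (HS100.adj i) j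

theorem adjb_ρ (g : K) {i j : ℕ} (hi : i < 100) (hj : j < 100) :
    adjb (ρ g i) (ρ g j) = adjb i j := by
  rw [Bool.eq_iff_iff, adjb, adjb, bitL_true, bitL_true, ρ_lt g hi, ρ_lt g hj,
    ← HS100.rowsOK.adj_iff, ← HS100.rowsOK.adj_iff ⟨i, hi⟩ ⟨j, hj⟩]
  exact (ψ g).map_rel_iff

noncomputable def beqB (a b : Bool) : Bool := Bool.rec (not1 b) b a
@[simp] theorem beqB_true {a b : Bool} : beqB a b = true ↔ a = b := by
  cases a <;> cases b <;> simp [beqB, not1]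

/-! ### Backtracking -/

section Solver

variable (tabs : ℕ → ℕ)

/-- The pair `(p, q)` is compatible with the known pairs. -/
noncomputable def okL (Kl : List (ℕ × ℕ)) (p q : ℕ) : Bool :=
  seqN (HS100.adj p) fun rp => seqN (HS100.adj q) fun rq =>
    allL Kl fun x => and2 (beqB (bitL rp x.1) (bitL rq x.2)) (beqB (Nat.beq p x.1) (Nat.beq q x.2))

noncomputable def ext (Ws : List (List ℕ)) (a b : ℕ) (k : List (ℕ × ℕ) → Bool) :
    List (ℕ × ℕ) → Bool :=
  List.rec (motive := fun _ => List (ℕ × ℕ) → Bool) k (fun w _ ih Kl =>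
    lit (run1 tabs w a) fun p => lit (run1 tabs w b) fun q =>
      Bool.rec true (ih ((p, q) :: Kl)) (okL Kl p q)) Ws

noncomputable def wOK (U : List ℕ) (a : ℕ) (Ws : List (List ℕ)) : Bool :=
  and2 (Nat.ble (Nat.succ a) 100) (allL Ws fun w => allL w fun c => memL c U)

noncomputable def ref (pts : List (ℕ × List (List ℕ))) : List (ℕ × ℕ) → Bool :=
  List.rec (motive := fun _ => List (ℕ × ℕ) → Bool) (fun _ => false) (fun a _ ih Kl =>
    allN 100 fun b => lit b fun b => ext tabs a.2 a.1 b ih Kl) pts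

/-- A level: the point with its words, the transversal, the points for refutations. -/
abbrev Lev : Type := (ℕ × List (List ℕ)) × List (ℕ × List ℕ) × List (ℕ × List (List ℕ))

noncomputable def lev (U L fin : List ℕ) (ls : List Lev) : List ℕ → List (ℕ × ℕ) → Bool :=
  List.rec (motive := fun _ => List ℕ → List (ℕ × ℕ) → Bool)
    (fun _ Kl => allL fin fun p => anyL Kl fun x => and2 (Nat.beq x.1 p) (Nat.beq x.2 p))
    (fun l _ ih fx Kl => and2 (and2 (wOK U l.1.1 l.1.2) (allL l.2.2 fun a => wOK U a.1 a.2))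
      (and2 (allN 100 fun b => lit b fun b => or2 (Nat.beq b l.1.1)
        (or2 (anyL l.2.1 fun t => and2 (Nat.beq t.1 b) (and2 (allL t.2 fun c => memL c L)
          (and2 (Nat.beq (run1 tabs t.2 b) l.1.1) (allL fx fun p => Nat.beq (run1 tabs t.2 p) p))))
          (ext tabs l.1.2 l.1.1 b (ref tabs l.2.2) Kl)))
        (ext tabs l.1.2 l.1.1 l.1.1 (ih (l.1.1 :: fx)) Kl))) ls

def Good (g : K) (Kl : List (ℕ × ℕ)) : Prop := ∀ x ∈ Kl, x.1 < 100 ∧ ρ g x.1 = x.2

/-- The elements commuting with the letters `U` modulo the centre. -/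
noncomputable def XU (m : ℕ → K) (U : List ℕ) : Subgroup K := (C[gen (fun c => ψ (m c)) U]).comap ψ

theorem mem_XU {m : ℕ → K} {U : List ℕ} {g : K} :
    g ∈ XU m U ↔ ∀ c ∈ U, ψ g * ψ (m c) = ψ (m c) * ψ g := by
  rw [XU, mem_comap]
  refine ⟨fun h c hc => (h _ (mem_gen hc)).symm, fun h => ?_⟩
  have : gen (fun c => ψ (m c)) U ≤ C{ψ g} := gen_le.2 fun c hc => mem_C1.2 (h c hc).symm
  exact fun y hy => mem_C1.1 (this hy)

variable {tabs} {m : ℕ → K} (ht : ∀ c, TabOK ρ 1508 (m c) (tabs c)) {U L fin : List ℕ}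

theorem okL_of {g : K} {Kl : List (ℕ × ℕ)} (h : Good g Kl) {p : ℕ} (hp : p < 100) :
    okL Kl p (ρ g p) = true := by
  simp only [okL, seqN_eq, allL_true, and2_true, beqB_true]
  intro x hx
  obtain ⟨h1, h2⟩ := h x hx
  refine ⟨?_, ?_⟩
  · rw [← h2]; exact (adjb_ρ g hp h1).symm
  · rw [← h2, Bool.eq_iff_iff, H29.beq_true, H29.beq_true, (ρ g).injective.eq_iff]

include ht

theorem run1_eq (w : List ℕ) {i : ℕ} (hi : i < 1508) : run1 tabs w i = ρ (ev m w)⁻¹ i :=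
  run1_spec ρ_lt1508 (fun c _ => ht c) i hi

theorem ext_sound {a b : ℕ} (ha : a < 100) {k : List (ℕ × ℕ) → Bool} (S : K → Prop)
    (hS : ∀ g, S g → g ∈ XU m U ∧ ρ g a = b) (hne : ∃ g, S g) :
    ∀ (Ws : List (List ℕ)) (Kl : List (ℕ × ℕ)), (∀ w ∈ Ws, ∀ c ∈ w, c ∈ U) →
      (∀ g, S g → Good g Kl) → ext tabs Ws a b k Kl = true →
      ∃ Kl', (∀ g, S g → Good g Kl') ∧ k Kl' = true
  | [], Kl, _, h1, h2 => ⟨Kl, h1, h2⟩
  | w :: Ws, Kl, h0, h1, h2 => by
    have hp : run1 tabs w a < 100 := by rw [run1_eq ht w (by omega)]; exact ρ_lt100 _ ha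
    have key : ∀ g, S g → ρ g (run1 tabs w a) = run1 tabs w b := fun g hg => by
      obtain ⟨a1, a2⟩ := hS g hg
      have a3 : ψ (g * (ev m w)⁻¹) = ψ ((ev m w)⁻¹ * g) := by
        have : ψ (ev m w) ∈ gen (fun c => ψ (m c)) U := by
          rw [map_ev]; exact ev_mem_gen (h0 w List.mem_cons_self)
        have := a1 _ (inv_mem this)
        simpa using this.symm
      have a4 := ρ_of_ψ a3 ha
      rw [← a2, run1_eq ht w (by omega), run1_eq ht w (ρ_lt1508 _ _ (by omega))]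
      simpa using a4
    rw [show ext tabs (w :: Ws) a b k Kl = Bool.rec true
      (ext tabs Ws a b k ((run1 tabs w a, run1 tabs w b) :: Kl))
      (okL Kl (run1 tabs w a) (run1 tabs w b)) from rfl] at h2
    obtain ⟨g, hg⟩ := hne
    rw [← key g hg, okL_of (h1 g hg) hp, key g hg] at h2
    refine ext_sound ha S hS ⟨g, hg⟩ Ws _ (fun v hv => h0 v (List.mem_cons_of_mem _ hv))
      (fun g' hg' x hx => ?_) h2
    rcases List.mem_cons.1 hx with rfl | hx
    · exact ⟨hp, key g' hg'⟩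
    · exact h1 g' hg' x hx

omit ht in
theorem wOK_true {a : ℕ} {Ws : List (List ℕ)} (h : wOK U a Ws = true) :
    a < 100 ∧ ∀ w ∈ Ws, ∀ c ∈ w, c ∈ U := by
  simp only [wOK, and2_true, ble_true, allL_true, memL_true] at h
  exact h

theorem ref_sound {g : K} (hg : g ∈ XU m U) : ∀ (pts : List (ℕ × List (List ℕ)))
    (Kl : List (ℕ × ℕ)), (∀ a ∈ pts, wOK U a.1 a.2 = true) → Good g Kl →
      ref tabs pts Kl = true → False
  | [], _, _, _, h => Bool.false_ne_true h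
  | a :: pts, Kl, h0, h1, h2 => by
    obtain ⟨a1, a2⟩ := wOK_true (h0 a List.mem_cons_self)
    rw [show ref tabs (a :: pts) Kl = allN 100 fun b => ext tabs a.2 a.1 b (ref tabs pts) Kl
      from rfl] at h2
    have h3 := allN_true.1 h2 (ρ g a.1) (ρ_lt100 g a1)
    obtain ⟨Kl', b1, b2⟩ := ext_sound ht a1 (· = g) (by rintro _ rfl; exact ⟨hg, rfl⟩) ⟨g, rfl⟩ a.2 Kl
      a2 (by rintro _ rfl; exact h1) h3
    exact ref_sound hg pts Kl' (fun b hb => h0 b (List.mem_cons_of_mem _ hb)) (b1 g rfl) b2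

theorem lev_sound {P : Subgroup K} (hP : gen m L ≤ P) (hL : gen m L ≤ XU m U)
    (hfin : ∀ g, (∀ p ∈ fin, ρ g p = p) → g ∈ P) : ∀ (ls : List Lev) (fx : List ℕ)
      (Kl : List (ℕ × ℕ)), (∀ p ∈ fx, p < 100) →
      (∀ g, (g ∈ XU m U ∧ ∀ p ∈ fx, ρ g p = p) → Good g Kl) → lev tabs U L fin ls fx Kl = true →
      ∀ g, g ∈ XU m U → (∀ p ∈ fx, ρ g p = p) → g ∈ P
  | [], fx, Kl, _, h1, h2, g, a1, a2 => hfin g fun p hp => by
    obtain ⟨x, b1, b2⟩ := anyL_true.1 (allL_true.1 h2 p hp)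
    simp only [and2_true, H29.beq_true] at b2
    have := (h1 g ⟨a1, a2⟩ x b1).2
    rwa [b2.1, b2.2] at this
  | l :: ls, fx, Kl, h0, h1, h2, g, a1, a2 => by
    obtain ⟨⟨c1, c2⟩, c3, c4⟩ : (wOK U l.1.1 l.1.2 = true ∧ (allL l.2.2 fun a => wOK U a.1 a.2) = true)
        ∧ (allN 100 fun b => or2 (Nat.beq b l.1.1)
        (or2 (anyL l.2.1 fun t => and2 (Nat.beq t.1 b) (and2 (allL t.2 fun c => memL c L)
          (and2 (Nat.beq (run1 tabs t.2 b) l.1.1) (allL fx fun p => Nat.beq (run1 tabs t.2 p) p))))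
          (ext tabs l.1.2 l.1.1 b (ref tabs l.2.2) Kl))) = true ∧
        ext tabs l.1.2 l.1.1 l.1.1 (lev tabs U L fin ls (l.1.1 :: fx)) Kl = true := by
      rw [← and2_true, ← and2_true, ← and2_true]; exact h2
    obtain ⟨d1, d2⟩ := wOK_true c1
    obtain ⟨Kl', e1, e2⟩ := ext_sound ht d1 (fun g => g ∈ XU m U ∧ ∀ p ∈ l.1.1 :: fx, ρ g p = p)
      (fun g hg => ⟨hg.1, hg.2 _ List.mem_cons_self⟩) ⟨1, one_mem _, by simp⟩ _ Kl d2
      (fun g hg => h1 g ⟨hg.1, fun p hp => hg.2 p (List.mem_cons_of_mem _ hp)⟩) c4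
    have ih := lev_sound hP hL hfin ls _ Kl' (List.forall_mem_cons.2 ⟨d1, h0⟩) e1 e2
    have c5 := allN_true.1 c3 (ρ g l.1.1) (ρ_lt100 g d1)
    simp only [or2_true, anyL_true, and2_true, H29.beq_true, allL_true, memL_true] at c5
    rcases c5 with c5 | ⟨t, -, -, f1, f2, f3⟩ | c5
    · exact ih g a1 (List.forall_mem_cons.2 ⟨c5, a2⟩)
    · have f4 := ev_mem_gen (e := m) f1
      have := ih ((ev m t.2)⁻¹ * g) (mul_mem (inv_mem (hL f4)) a1) (List.forall_mem_cons.2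
        ⟨by rw [map_mul, Equiv.Perm.mul_apply, ← run1_eq ht _ (ρ_lt1508 _ _ (by omega)), f2], fun p hp => by
          have := f3 p hp
          rw [run1_eq ht _ ((h0 p hp).trans (by omega))] at this
          rw [map_mul, Equiv.Perm.mul_apply, a2 p hp, this]⟩)
      simpa using P.mul_mem (hP f4) this
    · obtain ⟨Kl', b1, b2⟩ := ext_sound ht d1 (· = g) (by rintro _ rfl; exact ⟨a1, rfl⟩) ⟨g, rfl⟩ _ Kl
        d2 (by rintro _ rfl; exact h1 _ ⟨a1, a2⟩) c5
      exact (ref_sound ht a1 _ Kl' (allL_true.1 c2) (b1 g rfl) b2).elim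

noncomputable def run5 (tabs : ℕ → ℕ) (w : List ℕ) : ℕ → ℕ → ℕ → ℕ → ℕ → ℕ :=
  List.rec (motive := fun _ => ℕ → ℕ → ℕ → ℕ → ℕ → ℕ)
    (fun a b c d e => Nat.add a (Nat.mul 128 (Nat.add b (Nat.mul 128 (Nat.add c (Nat.mul 128
      (Nat.add d (Nat.mul 128 e))))))))
    (fun y _ ih a b c d e => lit (tabs y) fun T => lit (look T a) fun a => lit (look T b) fun b =>
      lit (look T c) fun c => lit (look T d) fun d => lit (look T e) fun e => ih a b c d e) w

omit ht in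
theorem run5_eq (tabs : ℕ → ℕ) : ∀ (w : List ℕ) (a b c d e : ℕ), run5 tabs w a b c d e =
    run1 tabs w a + 128 * (run1 tabs w b + 128 * (run1 tabs w c + 128 * (run1 tabs w d +
      128 * run1 tabs w e)))
  | [], _, _, _, _, _ => rfl
  | _ :: w, _, _, _, _, _ => run5_eq tabs w _ _ _ _ _

theorem iso_run5 {a b c d e : ℕ} (ha : a < 100) (hb : b < 100) (hc : c < 100) (hd : d < 100)
    (he : e < 100)
    (hf : ∀ g, ρ g a = a → ρ g b = b → ρ g c = c → ρ g d = d → ρ g e = e → ψ g = 1) (u v : List ℕ) :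
    run5 tabs u a b c d e = run5 tabs v a b c d e ↔ ψ (ev m u) = ψ (ev m v) := by
  rw [run5_eq, run5_eq]
  simp only [run1_eq ht _ (ha.trans (by omega : 100 < 1508)),
    run1_eq ht _ (hb.trans (by omega : 100 < 1508)), run1_eq ht _ (hc.trans (by omega : 100 < 1508)),
    run1_eq ht _ (hd.trans (by omega : 100 < 1508)), run1_eq ht _ (he.trans (by omega : 100 < 1508))]
  refine ⟨fun h1 => ?_, fun h1 => ?_⟩
  · have k : ∀ {i}, ρ (ev m u)⁻¹ i = ρ (ev m v)⁻¹ i → ρ (ev m v * (ev m u)⁻¹) i = i := fun h2 => by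
      rw [map_mul, Equiv.Perm.mul_apply, h2, ← Equiv.Perm.mul_apply, ← map_mul]; simp
    have := ρ_lt100 (ev m u)⁻¹ ha
    have := ρ_lt100 (ev m v)⁻¹ ha
    have := ρ_lt100 (ev m u)⁻¹ hb
    have := ρ_lt100 (ev m v)⁻¹ hb
    have := ρ_lt100 (ev m u)⁻¹ hc
    have := ρ_lt100 (ev m v)⁻¹ hc
    have := ρ_lt100 (ev m u)⁻¹ hd
    have := ρ_lt100 (ev m v)⁻¹ hd
    have := hf _ (k (by omega)) (k (by omega)) (k (by omega)) (k (by omega)) (k (by omega))
    rw [map_mul, map_inv, mul_inv_eq_one] at this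
    exact this.symm
  · have h2 : ψ (ev m u)⁻¹ = ψ (ev m v)⁻¹ := by rw [map_inv, map_inv, h1]
    rw [ρ_of_ψ h2 ha, ρ_of_ψ h2 hb, ρ_of_ψ h2 hc, ρ_of_ψ h2 hd, ρ_of_ψ h2 he]

end Solver

end H27.HN
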