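import Mathlib
import Cfsg.Prelude.Def_LieTwisted
import Cfsg.Prelude.Def_CaseTheorems
import Cfsg.Agent.H27.HX1
import Cfsg.Agent.S1763

set_option autoImplicit false
set_option linter.unusedVariables false
set_option linter.unusedSectionVars false
set_option linter.unusedSimpArgs false

namespace H27.HX.HQ1x

open H6.XS H15 H15.XP Module

variable {V : Type*} [AddCommGroup V] [Module (ZMod 2) V] [Finite V] {q : QuadraticForm (ZMod 2) V}
  {S : Set V}

theorem ts_false (ho : ∀ u ∈ S, ∀ v ∈ S, pol q u v = 0 → u = v) {A : Submodule (ZMod 2) V}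
    (h1 : TS q A) (h2 : finrank (ZMod 2) A = 4) (h3 : ∀ u ∈ A, u ≠ 0 → u ∈ S) : False := by
  obtain ⟨u, hu, hu0⟩ := Submodule.exists_mem_ne_zero_of_ne_bot (p := A)
    (by rintro rfl; rw [finrank_bot] at h2; omega)
  have : ¬ A ≤ Submodule.span (ZMod 2) {u} := fun hle => by
    have := Submodule.finrank_mono hle
    rw [finrank_span_singleton hu0] at this
    omega
  obtain ⟨v, hv, hvu⟩ := SetLike.not_le_iff_exists.1 this
  refine hvu ?_
  rw [← ho u (h3 u hu hu0) v (h3 v hv fun e => hvu (e ▸ zero_mem _)) ?_]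
  · exact Submodule.mem_span_singleton_self u
  · rw [pol_eq, QuadraticMap.polar, h1 _ (add_mem hu hv), h1 u hu, h1 v hv]; simp

theorem one_false (ho : ∀ u ∈ S, ∀ v ∈ S, pol q u v = 0 → u = v)
    {H : Subgroup (ofQuad q).Isom} {E : V → Submodule (ZMod 2) V}
    {R : V → Subgroup (ofQuad q).Isom} (hv : VD H S E R 4) (h : OneV S E R) : False := by
  obtain ⟨v, m⟩ := hv.nonempty
  obtain ⟨x, hx⟩ := hv.exists_x m
  have d1 := (ofQuad q).finrank_inf_perp_singleton ⊤ v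
  have d2 := (ofQuad q).finrank_inf_perp_singleton
    (⊤ ⊓ (ofQuad q).perp (Submodule.span (ZMod 2) {v})) x
  rw [finrank_top, hv.dim] at d1
  obtain ⟨u, hu, u0, uq⟩ := exists_singular q (U := ⊤ ⊓ (ofQuad q).perp (Submodule.span (ZMod 2) {v}) ⊓
    (ofQuad q).perp (Submodule.span (ZMod 2) {x})) (by omega)
  have e1 : pol q v u = 0 := (ofQuad q).mem_perp_singleton.1 hu.1.2
  have e2 : pol q x u = 0 := (ofQuad q).mem_perp_singleton.1 hu.2
  rw [← ho v m u (h.memS u u0 uq) e1, pol_comm, hx] at e2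
  exact one_ne_zero e2

theorem cs_false (ho : ∀ u ∈ S, ∀ v ∈ S, pol q u v = 0 → u = v) {E : V → Submodule (ZMod 2) V}
    {R : V → Subgroup (ofQuad q).Isom} {c : ℕ → V} {d : H6.XS.Dat} (h : Cs c S E R d) (b : ℕ)
    (k : 1 ∈ d.S ∧ b ∈ d.S ∧ 1 ≠ b ∧ polN 1 b = 0) : False := by
  obtain ⟨h1, h2, h3, h4⟩ := k
  have l1 := h.ltS 1 h1
  have l2 := h.ltS b h2
  exact h3 ((h.cd.eq_iff l1 l2).1 (ho _ ((h.memS 1 l1).2 h1) _ ((h.memS b l2).2 h2)
    ((h.cd.pol0 l1 l2).2 h4)))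

end H27.HX.HQ1x

namespace H27.HX

open Cfsg H24 H26 H26.Gold H26.LM Subgroup
open scoped commutatorElement

universe u v

variable {G : Type u} [Group G] [Finite G] {K : Type} [Field K] [Finite K] [CharP K 2] {τ : Tw K}
  {M M' M'' : Md G τ} {A : Ap G} {H S E M0 R X X' Y L D N0 P J : Subgroup G} {𝒟 : Set G}
  {g h j k l n s t x y z : G} {a a' b c c0 e f : K} {u v w : U τ}

/-! ### HQ1 -/

theorem fin9 [IsSimpleGroup G] (hz : orderOf z = 2) {Q : Subgroup G}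
    (hQ : Q = (generalizedFittingSubgroup ↥C{z}).map (C{z}).subtype)
    (hE : IsExtraspecial 2 ↥(generalizedFittingSubgroup ↥C{z}))
    (hc : Nat.card ↥(generalizedFittingSubgroup ↥C{z}) = 2 ^ 9)
    (hS : Syl 2 ⊤ S) (h12 : Nat.card S = 2 ^ 12)
    (hk : ∃ d, IsConj z d ∧ d ∈ Q ∧ d ≠ z)
    (ho : ∀ d d', IsConj z d → IsConj z d' → d ∈ Q → d' ∈ Q → d ≠ z → d' ≠ z → d * d' = d' * d →
      d' = d ∨ d' = d * z) :
    ∃ (K : Type) (_ : Field K) (_ : Fintype K), Fintype.card K = 8 ∧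
      Nonempty (G ≃* Cfsg.Lie.twistedD4 K 2) := by
  subst hQ
  have h := H6.XS.sit_of (w := 4) hz hE (by omega) hc
  have zD : z ∈ conjugatesOf z := IsConj.refl z
  have k : ∃ d ∈ conjugatesOf z, d ∈ H25.Bd.fs C{z} ∧ d ≠ z := hk
  obtain ⟨V, _, _, _, -, ⟨F⟩⟩ := h.exists_fr zD
  obtain ⟨E, R, hv, hl⟩ := h.exists_vd (by omega) zD F k
  have o : ∀ u ∈ F.VV (conjugatesOf z), ∀ v ∈ F.VV (conjugatesOf z), H15.pol F.q u v = 0 → u = v := by
    rintro _ ⟨d, h1, h2, h3, rfl⟩ _ ⟨d', k1, k2, k3, rfl⟩ e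
    have zQ : z ∈ H25.Bd.fs C{z} := h.mem zD
    rcases ho d d' h1 k1 h2 k2 h3 k3 ((F.pol_π d h2 d' k2).1 e) with e | e
    · rw [e]
    · rw [e, F.π_mul d h2 z zQ, (F.π_eq_zero z zQ).2 (.inr rfl), add_zero]
  by_cases hr : H6.XS.Irr z (H25.Bd.fs C{z})
  swap
  · obtain ⟨A, A', hg⟩ := h.good zD hv hl hr
    exact (HQ1x.ts_false o hg.tsA' hg.dimA' hg.memS).elim
  have hi := (F.irrV_iff h zD).2 hr
  by_cases he : H6.XS.Eich (F.VV (conjugatesOf z)) R
  · rcases hv.eich4 hi he with ho | ⟨A, A', hs⟩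
    · exact (HQ1x.one_false o hv ho).elim
    · exact (h.not_swap4 zD hl hs).elim
  obtain ⟨c, e | e | e | e | e | e⟩ := hv.free4 hi he (h.ax zD hl)
  · exact (HQ1x.cs_false o e 4 (by decide)).elim
  · exact (HQ1x.cs_false o e 2 (by decide)).elim
  · exact (HQ1x.cs_false o e 8 (by decide)).elim
  · exact H6.XS.FC.iso9 ⟨h, zD, hv, hl, e⟩
  · exact (HQ1x.cs_false o e 14 (by decide)).elim
  · exact (HQ1x.cs_false o e 2 (by decide)).elim

end H27.HX
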