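import Mathlib
import Cfsg.Prelude.Def_LieTwisted
import Cfsg.Prelude.Def_CaseTheorems
import Cfsg.Agent.H27.HX1
import Cfsg.Agent.H27.HQ1
import Cfsg.Agent.H27.HF7

set_option autoImplicit false
set_option linter.unusedVariables false
set_option linter.unusedSectionVars false
set_option linter.unusedSimpArgs false

namespace H27.HX

open Cfsg H24 H26 H26.Gold H26.LM Subgroup
open scoped commutatorElement

universe u v

variable {G : Type u} [Group G] [Finite G] {K : Type} [Field K] [Finite K] [CharP K 2] {τ : Tw K}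
  {M M' M'' : Md G τ} {A : Ap G} {H S E M0 R X X' Y L D N0 P J : Subgroup G} {𝒟 : Set G}
  {g h j k l n s t x y z : G} {a a' b c c0 e f : K} {u v w : U τ}

/-! ### HQ2 -/

namespace HQ2x

theorem fs_eq (h : M.Gd) (hz : z ∈ M.Z) (h1 : z ≠ 1) (hN : N[M.Q1] ≤ C{z}) :
    (generalizedFittingSubgroup ↥C{z}).map (C{z}).subtype = M.Q1 := by
  have := Fact.mk Nat.prime_two
  have hS : M.S ≤ C{z} := M.S_CZ.trans (C_le_C1 hz)
  have l1 : M.Q1 ≤ O[{2}, C{z}] :=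
    pcore_max' (M.twoS.of_le M.Q1_S) (M.Q1_S.trans hS) (h.cz z hz h1)
  have l2 : O[{2}, C{z}] ≤ M.S := pcore_le_Hall (M.syl_of hS)
  have l3 : O[{2}, C{z}] ≤ M.Q1 := fun y hy => by
    obtain ⟨g, g1, g2⟩ := SetLike.not_le_iff_exists.1 h.ex1
    obtain ⟨u, rfl⟩ := l2 hy
    obtain ⟨v, e⟩ := l2 (conj_mem ((pcore_nml {2} C{z}).norm (hN g1)) hy)
    by_contra hn
    exact g2 (M.dv g1 e.symm fun e' => hn (M.ι_Q1.2 e')).2.1
  have e : (pCore 2 ↥C{z}).map (C{z}).subtype = M.Q1 := by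
    rw [← pcore_singleton Nat.prime_two]; exact le_antisymm l3 l1
  rw [(H23.fstar_eq_pCore_iff (p := 2)).2, e]
  intro x hx
  rw [← mem_map_iff_mem (C{z}).subtype_injective, e]
  refine h.cQ1 (mem_C.2 fun y hy => ?_)
  rw [← e] at hy
  obtain ⟨y, hy, rfl⟩ := hy
  exact congrArg Subtype.val (hx y hy)

theorem two_pts (hF : ¬ τ.BigF) (hx : x ∈ M.V) (hy : y ∈ M.V) (h1 : x ∉ M.Z) (h2 : y ∉ M.Z) :
    x⁻¹ * y ∈ M.Z := by
  obtain ⟨u, ⟨a1, a2, a3, a4⟩, rfl⟩ := M.mem_V.1 hx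
  obtain ⟨v, ⟨b1, b2, b3, b4⟩, rfl⟩ := M.mem_V.1 hy
  have k : ∀ w : U τ, w.s ≠ 0 → w.s = 1 := fun w hw => by
    by_contra hn; exact hF ⟨w.s, w.hs, hw, hn⟩
  have s1 := k u fun e => h1 (M.ι_Z.2 ⟨a1, e, a2, a3, a4⟩)
  have s2 := k v fun e => h2 (M.ι_Z.2 ⟨b1, e, b2, b3, b4⟩)
  rw [← map_inv, ← map_mul, M.ι_Z]
  simp [U.mul_a, U.mul_s, U.mul_c, U.mul_b, U.mul_t, U.inv_a, U.inv_s, U.inv_c, U.inv_b, U.inv_t,
    Tw.T, Tw.N, Tw.sh, Tw.cr, CharTwo.add_self_eq_zero, *]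

end HQ2x

theorem Md.Gd.fin2 [IsSimpleGroup G] (h : M.Gd) (hF : ¬ τ.BigF) :
    ∃ (K : Type) (_ : Field K) (_ : Fintype K), Fintype.card K = 8 ∧
      Nonempty (G ≃* Cfsg.Lie.twistedD4 K 2) := by
  have := Fact.mk Nat.prime_two
  have hq : τ.q = 2 := not_not.1 (mt τ.bigF_iff.2 hF)
  have hK : Nat.card K = 8 := by
    rcases τ.card_K with ⟨h1, -⟩ | ⟨-, h2⟩
    · obtain ⟨ω, w0, w1⟩ := h.big
      exact (hF ⟨ω, h1 ω, w0, w1⟩).elim
    · rw [h2, hq]; rfl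
  obtain ⟨z, ho, hz⟩ := H3.exists_generator_of_card_prime (p := 2) (M.card_Z.trans hq)
  have zZ : z ∈ M.Z := hz ▸ mem_zpowers z
  have z1 : z ≠ 1 := by rintro rfl; simp at ho
  have mZ : ∀ x, x ∈ M.Z → x = 1 ∨ x = z := fun x hx => by
    classical
    rw [← hz, mem_zpowers_iff_mem_range_orderOf, ho] at hx
    obtain ⟨i, hi, rfl⟩ := Finset.mem_image.1 hx
    have : i = 0 ∨ i = 1 := by have := Finset.mem_range.1 hi; omega
    rcases this with rfl | rfl <;> simp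
  have cz : ∀ g, g ∈ N[M.Z] → g * z * g⁻¹ = z := fun g hg =>
    (mZ _ (conj_mem hg zZ)).resolve_left fun e => z1 (by simpa using e)
  have hN : N[M.Q1] ≤ C{z} := fun g hg => mem_C1_iff_conj.2 (cz g (M.nQ1_Z hg))
  have e := HQ2x.fs_eq h zZ z1 hN
  have YQ : M.Y ≤ M.Q1 := M.Y_eq ▸ inf_le_left
  have VQ : M.V ≤ M.Q1 := M.V_W.trans (M.W_Y.trans YQ)
  have m : ∀ x : ↥C{z}, x ∈ generalizedFittingSubgroup ↥C{z} ↔ (x : G) ∈ M.Q1 := fun x => by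
    rw [← e]; exact (mem_map_iff_mem (C{z}).subtype_injective).symm
  have zp : ∀ x : ↥C{z}, (x : G) ∈ M.Z → x ∈ zpowers (⟨z, self_mem_C1 z⟩ : ↥C{z}) := fun x hx => by
    rcases mZ x hx with e | e
    · rw [show x = 1 from Subtype.ext e]; exact one_mem _
    · rw [show x = ⟨z, self_mem_C1 z⟩ from Subtype.ext e]; exact mem_zpowers _
  have hc : Nat.card ↥(generalizedFittingSubgroup ↥C{z}) = 2 ^ 9 := by
    rw [← card_subtype, e, M.card_Q1, hq, hK]; rfl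
  have xs : H3.XS 2 (⟨z, self_mem_C1 z⟩ : ↥C{z}) (generalizedFittingSubgroup ↥C{z}) :=
    ⟨by rw [← Subgroup.orderOf_coe]; exact ho, (m _).2 (VQ (M.Z_V zZ)),
      fun x _ => Subtype.ext (mem_C1.1 x.2).symm,
      fun x hx y hy => zp _ (M.c11 ((m x).1 hx) ((m y).1 hy)),
      fun x hx => zp _ (by rw [sq]; exact M.sq1 ((m x).1 hx)),
      fun x hx hy => zp _ (M.CQ1 ▸ ⟨M.Q1_S ((m x).1 hx), mem_C'.2 fun y k =>
        congrArg Subtype.val (hy ⟨y, hN (norm_self _ k)⟩ ((m _).2 k))⟩)⟩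
  refine fin9 ho e.symm (xs.isExtraspecial fun k => ?_) hc M.sylS (by rw [M.card_S, hq, hK]; rfl) ?_ ?_
  · rw [← k, Nat.card_zpowers, xs.ord] at hc; omega
  · have : ¬ M.V ≤ M.Z := fun k => by
      have := card_le_of_le k
      rw [M.card_V, M.card_Z, hq] at this; omega
    obtain ⟨d, h1, h2⟩ := SetLike.not_le_iff_exists.1 this
    obtain ⟨g, -, hg⟩ := h.toCf.coverV h1
    obtain ⟨y, hy, rfl⟩ := mem_cj'.1 hg
    rcases mZ y hy with rfl | rfl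
    · exact (h2 (by simp)).elim
    · exact ⟨_, isConj_iff.2 ⟨g, rfl⟩, VQ h1, fun k => h2 (by rw [k]; exact zZ)⟩
  · intro d d' c1 c2 h1 h2 n1 n2 hc
    have lg : ∀ d, IsConj z d → d ∈ M.Q1 → d ≠ z → (∃ k ∈ N[M.Q1], d ∈ cj k M.V) ∧
        ∀ k ∈ N[M.Q1], k⁻¹ * d * k ∉ M.Z := fun d c h1 n1 => by
      obtain ⟨g, hg⟩ := isConj_iff.1 c.symm
      refine ⟨h.toCf.long1 h1 (g := g) (hg ▸ zZ), fun k hk hd => ?_⟩
      rcases mZ _ hd with e | e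
      · exact z1 (by rw [← hg, show d = k * (k⁻¹ * d * k) * k⁻¹ by group, e]; group)
      · exact n1 (by rw [show d = k * (k⁻¹ * d * k) * k⁻¹ by group, e, cz k (M.nQ1_Z hk)])
    obtain ⟨⟨k, hk, v1⟩, p1⟩ := lg d c1 h1 n1
    obtain ⟨⟨l, hl, v2⟩, p2⟩ := lg d' c2 h2 n2
    rw [mem_cj] at v1
    have q2 : k⁻¹ * d' * k ∈ M.Q1 := conj_mem' hk h2
    have y2 : k⁻¹ * d' * k ∈ M.Y := by
      rw [M.Y_eq, ← M.Cv v1 (p1 k hk)]
      refine ⟨q2, M.Q1_S q2, mem_C1.2 ?_⟩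
      rw [show k⁻¹ * d' * k * (k⁻¹ * d * k) = k⁻¹ * (d' * d) * k by group, ← hc]; group
    have w2 : k⁻¹ * d' * k ∈ cj (k⁻¹ * l) M.V := by
      rw [mem_cj] at v2 ⊢; simpa [mul_assoc] using v2
    have v3 : k⁻¹ * d' * k ∈ M.V := by
      by_cases hV : k⁻¹ * l ∈ N[M.V]
      · rwa [cj_of_mem_N hV] at w2
      · exact M.Z_V (M.beta h.big (mul_mem (Subgroup.inv_mem _ hk) hl) hV ⟨w2, y2⟩)
    have := conj_mem (M.nQ1_Z hk) (HQ2x.two_pts hF v1 v3 (p1 k hk) (p2 k hk))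
    rw [show k * ((k⁻¹ * d * k)⁻¹ * (k⁻¹ * d' * k)) * k⁻¹ = d⁻¹ * d' by group] at this
    rcases mZ _ this with e | e
    · exact .inl (inv_mul_eq_one.1 e).symm
    · exact .inr (by rw [← e]; group)

end H27.HX
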