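import Mathlib
import Cfsg.Agent.H27.HN3
import Cfsg.Agent.H27.HN4
import Cfsg.Agent.H27.HQ2
import Cfsg.Agent.H27.HC1
import Cfsg.Agent.H27.HC2b
import Cfsg.Agent.H27.HC3
import Cfsg.Agent.H27.HC4
import Cfsg.Agent.H27.HC5
import Cfsg.Agent.H27.HC5b
import Cfsg.Agent.H27.HC6
import Cfsg.Agent.H27.HC7
import Cfsg.Agent.H27.HC8
import Cfsg.Agent.H27.HD

set_option autoImplicit false
set_option linter.unusedVariables false
set_option linter.unusedSectionVars false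

namespace H27.HX

open Cfsg H24 H26 H26.Gold H26.LM Subgroup

universe u v

variable {G : Type u} [Group G] [Finite G] {K : Type} [Field K] [Finite K] [CharP K 2] {τ : Tw K}

theorem Md.exists_gd [IsSimpleGroup G] (M : Md G τ) (hK : Big K) : ∃ M' : Md G τ, M'.Gd := by
  obtain ⟨M', -, hW⟩ := M.exists_W hK
  have h := Md.cf hK hW
  exact ⟨M', h.gd h.char2⟩

theorem Md.Gd.exists_dat [IsSimpleGroup G] {M : Md G τ} (h : M.Gd) (hF : τ.BigF) :
    ∃ (M' : Md G τ) (D : Dat M'), (D.n1 * D.n6) ^ 6 = 1 ∧ M'.S ⊔ closure {D.n1, D.n6} = ⊤ := by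
  obtain ⟨A, hA⟩ := h.exists_S0 hF
  obtain ⟨M₁, c0, e, e₁, h₂⟩ := (hA.s1 h).s2 h
  have g₁ := h.same e₁
  have h6 := h₂.t6 g₁
  have h₃ := h₂.kill h6 hF
  obtain ⟨M₂, e₂, h₄, x1, x3, x5, x6⟩ := h₃.exact g₁ h6 (h₃.t1 g₁) hF
  have g₂ := g₁.same e₂
  obtain ⟨D, hD⟩ := h₄.dat g₂ (h₄.t6 g₂) (h₄.t1 g₂) hF x1 x3 x5 x6
  exact ⟨M₂, D, D.braid hD g₂ hF, D.gen hD g₂⟩

theorem Md.iso [IsSimpleGroup G] {G' : Type v} [Group G'] [Finite G'] [IsSimpleGroup G']
    (M : Md G τ) (M₀ : Md G' τ) (hF : τ.BigF) : Nonempty (G ≃* G') := by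
  obtain ⟨M₁, h₁⟩ := M.exists_gd hF.big
  obtain ⟨M₂, h₂⟩ := M₀.exists_gd hF.big
  obtain ⟨M₃, D, a, b⟩ := h₁.exists_dat hF
  obtain ⟨M₄, D', a', b'⟩ := h₂.exists_dat hF
  exact D.iso D' a a' b b'

theorem charP_of_card (F : Type) [Field F] [Fintype F] {n : ℕ} (hn : 1 ≤ n)
    (h : Fintype.card F = 2 ^ n) : CharP F 2 := by
  have h2 : (2 : F) = 0 := by
    have := FiniteField.cast_card_eq_zero F
    rw [h, Nat.cast_pow, pow_eq_zero_iff (by omega)] at this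
    exact_mod_cast this
  exact CharTwo.of_one_ne_zero_of_two_eq_zero one_ne_zero h2

theorem big_of_card (F : Type) [Field F] [Fintype F] (h : 2 < Fintype.card F) : Big F := by
  classical
  by_contra hn
  have : (Finset.univ : Finset F) ⊆ {0, 1} := fun x _ => by
    by_contra hx
    simp only [Finset.mem_insert, Finset.mem_singleton, not_or] at hx
    exact hn ⟨x, hx⟩
  have := (Finset.card_le_card this).trans Finset.card_le_two
  rw [Finset.card_univ] at this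
  omega

end H27.HX
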