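import Mathlib
import Cfsg.Agent.H27.Arith
import Cfsg.Agent.H27.PF12

/-!
# Peterfalvi §13, first part: (13.2), (13.3), (13.5)–(13.8)
-/

set_option autoImplicit false
set_option linter.unusedSectionVars false
set_option linter.unusedVariables false

namespace H27

open Cfsg H24 H25
open scoped ComplexConjugate

universe u v

variable {G : Type u} [Group G] [Finite G] [FT G] {S U W W₁ W₂ : Subgroup G}

namespace TypeP
variable (h : TypeP S U W W₁ W₂) (hS : IsCoatom S)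
include h hS

/-- (13.2)(a). -/
theorem facts_a : (IsOfTypeII S ∨ IsOfTypeIII S) ∧ (Nat.card W₁ < Nat.card W₂ → IsOfTypeII S) ∧
    Frob (U ⊔ W₁) U W₁ ∧ Abl U := by
  have h23 : IsOfTypeII S ∨ IsOfTypeIII S := by
    by_cases h2 : IsOfTypeII S
    · exact Or.inl h2
    · exact Or.inr (h.type34_structure hS h2).2.2.1
  refine ⟨h23, fun hlt => ?_, h.compl_Frobenius hS (FTtype5_exclusion hS), ?_⟩
  · by_contra h2
    exact absurd (h.type34_structure hS h2).2.1 (not_lt.mpr hlt.le)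
  · rcases h23 with h2 | h3
    · exact (h.of_II hS h2).2.1
    · exact (h.of_III hS h3).2.1

/-- (13.2)(b). -/
theorem facts_b : IsElementaryAbelian (Nat.card W₂) (Fc S) ∧
    Nat.card (Fc S) = Nat.card W₂ ^ Nat.card W₁ := by
  by_cases h2 : IsOfTypeII S
  · exact ⟨(h.typeII_prime_facts hS h2).1, (h.typeII_prime_facts hS h2).2.1⟩
  · exact ⟨(h.type34_Fcore_kernel_trivial hS h2).1, (h.type34_Fcore_kernel_trivial hS h2).2.1⟩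

theorem pP_eq : pP S U = Nat.card W₂ :=
  h.def_factor_prime hS (FTtype5_exclusion hS) (h.primes hS).2

theorem pK_eq_bot : pK S U = ⊥ := by
  have h5 := FTtype5_exclusion hS
  have h1 := card_mul_relIndex (h.Fcore_kernel_exists hS h5).1.lt.le
  rw [(h.Fcore_factor_facts hS h5).2.2, h.pP_eq hS, ← (h.facts_b hS).2] at h1
  exact card_eq_one'.mp (Nat.eq_of_mul_eq_mul_right (card_pos _) (h1.trans (one_mul _).symm))

theorem pC_eq : pC S U = U ⊓ C[Fc S] := by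
  have h5 := FTtype5_exclusion hS
  refine le_antisymm (le_inf (h.pC_le hS h5) ?_) (h.cent_le_pC hS h5)
  have := h.pC_cent hS h5
  rw [h.pK_eq_bot hS, le_bot_iff] at this
  exact comm_eq_bot.mp this

theorem pU_eq : pU S U = (U ⊓ C[Fc S]).relIndex U := by rw [pU, h.pC_eq hS]

theorem nonGal_dvd {H₁ : Subgroup G} {a : ℕ} (h1 : NonGalH1 S U W₁ H₁ a) :
    (U ⊓ C[Fc S]).relIndex U ∣ a ^ (Nat.card W₁ - 1) := by
  obtain ⟨f, hf⟩ := h1.emb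
  have e : (pC S U).subgroupOf U = f.ker := by
    ext x; rw [Subgroup.mem_subgroupOf, MonoidHom.mem_ker, hf]
  have ha : NeZero a := ⟨by have := h1.one_lt; omega⟩
  rw [← h.pC_eq hS, Subgroup.relIndex, e, Subgroup.index_ker]
  have := Subgroup.card_subgroup_dvd_card f.range
  simpa [Nat.card_eq_fintype_card (α := Fin _ → ZMod a)] using this

/-- (13.2)(c). -/
theorem facts_c : (U ⊓ C[Fc S]).relIndex U ≤ (Nat.card W₂ ^ Nat.card W₁ - 1) / (Nat.card W₂ - 1) := by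
  have h5 := FTtype5_exclusion hS
  have hp := (h.primes hS).2
  have hq := (h.primes hS).1
  have hN := Nat.geomSum_eq hp.two_le (Nat.card W₁)
  have hle : Nat.card W₂ ^ (Nat.card W₁ - 1) ≤
      (Nat.card W₂ ^ Nat.card W₁ - 1) / (Nat.card W₂ - 1) := by
    rw [← hN]
    exact Finset.single_le_sum (f := fun i => Nat.card W₂ ^ i) (fun _ _ => Nat.zero_le _)
      (Finset.mem_range.mpr (Nat.sub_lt hq.pos one_pos))
  by_cases hg : TypePGalois S U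
  · have := (h.Galois_P hS h5 hg).2.2.2
    rw [h.pU_eq hS, h.pP_eq hS] at this
    exact Nat.le_of_dvd (lt_of_lt_of_le (pow_pos hp.pos _) hle) this
  · obtain ⟨H₁, a, h1⟩ := h.Galois_Pn hS h5 hg
    have h2 := h1.dvd
    rw [h.pP_eq hS] at h2
    have h3 : a ≤ Nat.card W₂ :=
      (Nat.le_of_dvd (by have := hp.two_le; omega) h2).trans (Nat.sub_le _ _)
    exact (Nat.le_of_dvd (pow_pos (by have := h1.one_lt; omega) _) (h.nonGal_dvd hS h1)).trans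
      ((Nat.pow_le_pow_left h3 _).trans hle)

theorem two_u_le : 2 * (U ⊓ C[Fc S]).relIndex U + 1 ≤ Nat.card (Fc S) := by
  have h1 := h.facts_c hS
  have h2 := h.cTI.two_lt2
  rw [← (h.facts_b hS).2, Nat.le_div_iff_mul_le (by omega)] at h1
  have h3 := card_pos (Fc S)
  have h4 : (U ⊓ C[Fc S]).relIndex U * 2 ≤ (U ⊓ C[Fc S]).relIndex U * (Nat.card W₂ - 1) :=
    Nat.mul_le_mul_left _ (by omega)
  omega

theorem pKC_eq_bot : pK S U ⊔ ⁅pC S U, pC S U⁆ = ⊥ := by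
  rw [h.pK_eq_bot hS, der1_eq_bot.mpr
    ((h.facts_a hS).2.2.2.of_le (h.pC_le hS (FTtype5_exclusion hS))), bot_sup_eq]

/-- (13.2)(d). -/
theorem facts_d : Coherent S ⊤ (pS S ⊥) (tau0 S) := by
  have := h.core_coherence hS (FTtype5_exclusion hS)
  rwa [h.pKC_eq_bot hS] at this

theorem cent_le_of_typeA0 {a : G} (ha : a ∈ typeA0 S) : C{a} ≤ S := by
  by_contra hC
  obtain ⟨-, L, hL, -, -, -, -, h1, h2, h3, h4⟩ := FTsupport_facts hS ha hC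
  rcases h3 with h3 | h3
  · rw [FTsupp_Frobenius hL.coatom (FTtype1_Frobenius hL.coatom h3)] at h1
    rw [typeA1_eq, typeCore_of_I h3] at h2
    exact h2 h1
  · exact h.not_typeI (FT_Frobenius_type1 hS (h4 h3))

/-- (13.2)(e). -/
theorem facts_e : NormedTI (typeA0 S) S ∧ ∀ α ∈ CFon S (typeA0 S), tau0 S α = cfInd ⊤ S α := by
  have hti : NormedTI (typeA0 S) S := by
    refine ⟨?_, (norm_FTsupp0 hS).ge, fun a ha g hg => ?_⟩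
    · obtain ⟨x, hx, h1⟩ := exists_ne_one h.Fc_ne
      exact ⟨x, Fc_sub_typeA0 hS ⟨hx, h1⟩⟩
    · obtain ⟨m, hm, e⟩ := FTsupp0_fusion hS ha hg
      have : m⁻¹ * g ∈ C{a} := by
        rw [mem_C1_iff_conj, mul_inv_rev, inv_inv]
        calc m⁻¹ * g * a * (g⁻¹ * m) = m⁻¹ * (g * a * g⁻¹) * m := by group
          _ = a := by rw [← e]; group
      simpa using S.mul_mem hm (h.cent_le_of_typeA0 hS ha this)
  exact ⟨hti, fun α hα => Dade_Ind (FT_Dade0_hyp hS) subset_rfl (nti_of_normedTI hti) hα⟩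

theorem seqInd_TIred {j : G → ℂ} (hj : j ∈ irrK W W₁) (h1 : j ≠ cfOne W) :
    prRed S W W₁ W₂ j ∈ pS S ⊥ := (h.prDadeF hS).red_mem hj h1

theorem Fitting_abelian : Abl F[S] :=
  h.dpF.cp.abl (h.facts_b hS).1.1 ((h.facts_a hS).2.2.2.of_le inf_le_left)

theorem F_le_S : F[S] ≤ S := h.F_le.trans (der1_le S)

theorem card_F_mul : Nat.card F[S] * (U ⊓ C[Fc S]).relIndex U = Nat.card ↥⁅S, S⁆ := by
  rw [h.dpF.card, h.sdHU.card, mul_assoc, card_mul_relIndex inf_le_left]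

theorem relIndex_F : F[S].relIndex S = (U ⊓ C[Fc S]).relIndex U * Nat.card W₁ := by
  refine Nat.eq_of_mul_eq_mul_left (card_pos F[S]) ?_
  rw [card_mul_relIndex (h.F_le_S hS), ← mul_assoc, h.card_F_mul hS, h.sdM.card]

theorem Ind_Fitting_1 {φ : G → ℂ} (hφ : φ ∈ seqIndT F[S] S) :
    φ 1 = ((U ⊓ C[Fc S]).relIndex U * Nat.card W₁ : ℕ) := by
  obtain ⟨θ, hθ, rfl⟩ := mem_seqIndT.mp hφ
  rw [cfInd_one (h.F_le_S hS), (irr_lin_of_abl (h.Fitting_abelian hS) hθ).one, mul_one,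
    h.relIndex_F hS]

theorem Fc_sup_pC : Fc S ⊔ pC S U = F[S] := by rw [h.pC_eq hS, h.dpF.sup]

/-- (13.3)(a). -/
theorem TIred_Ind_Fitting {j : G → ℂ} (hj : j ∈ irrK W W₁) (h1 : j ≠ cfOne W) :
    prRed S W W₁ W₂ j ∈ seqIndT F[S] S := by
  obtain ⟨ξ, hξ, e⟩ := ((h.reducible_core_Ind hS (FTtype5_exclusion hS)).2.2.2 _
    (mem_redPart.mpr ⟨by rw [h.pK_eq_bot hS]; exact h.seqInd_TIred hS hj h1,
      h.prTI.red_not_irr hj⟩)).ind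
  rw [h.Fc_sup_pC hS] at hξ e
  exact mem_seqIndT.mpr ⟨ξ, hξ.irr, e⟩

theorem TIred1 {j : G → ℂ} (hj : j ∈ irrK W W₁) (h1 : j ≠ cfOne W) :
    prRed S W W₁ W₂ j 1 = ((U ⊓ C[Fc S]).relIndex U * Nat.card W₁ : ℕ) :=
  h.Ind_Fitting_1 hS (h.TIred_Ind_Fitting hS hj h1)

theorem q_dvd_u_sub_one : Nat.card W₁ ∣ (U ⊓ C[Fc S]).relIndex U - 1 := by
  have h5 := FTtype5_exclusion hS
  have hn := h.pC_nml hS h5
  have := (h.frobUW1c hS h5).dvd_pred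
  rwa [card_quo (le_sup_left.trans hn.norm), card_quo_of_inf (le_sup_right.trans hn.norm)
    (eq_bot_of_le (h.compl_Frobenius hS h5).sd.inf (inf_le_inf_right _ (h.pC_le hS h5))),
    h.pC_eq hS] at this

theorem TImu1 {i j : G → ℂ} (hi : i ∈ irrK W W₂) (hj : j ∈ irrK W W₁) (h1 : j ≠ cfOne W) :
    prMu S W W₁ W₂ (i * j) 1 = ((U ⊓ C[Fc S]).relIndex U : ℕ) := by
  have := h.prTI.red_apply_one hi hj
  rw [h.TIred1 hS hj h1, Nat.cast_mul, mul_comm] at this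
  exact (mul_left_cancel₀ (cardC_ne_zero W₁) this).symm

/-- (13.3)(c), first assertion. -/
theorem TIsign {ω : G → ℂ} (hω : ω ∈ Irr W) : prSign S W W₁ W₂ ω = 1 := by
  obtain ⟨i, hi, j, hj, rfl⟩ := h.cTI.exists_ij hω
  rw [h.prTI.sign_mul hi hj]
  by_cases h1 : j = cfOne W
  · rw [h1, h.prTI.sign_one]
  rcases prSign_cases S W W₁ W₂ j with e | e
  · exact e
  have h2 := h.prTI.mu_one_mod hi hj
  rw [deg_eq_of (h.TImu1 hS hi hj h1), e] at h2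
  have h3 := Int.natCast_dvd_natCast.mpr (h.q_dvd_u_sub_one hS)
  rw [Nat.cast_sub (relIndex_pos _ _)] at h3
  have h4 : (Nat.card W₁ : ℤ) ∣ (2 : ℕ) := by
    have := dvd_sub h2 h3
    rwa [show ((U ⊓ C[Fc S]).relIndex U : ℤ) - -1 - (((U ⊓ C[Fc S]).relIndex U : ℤ) - (1 : ℕ)) = (2 : ℕ)
      by push_cast; ring] at this
  have := Nat.le_of_dvd two_pos (Int.natCast_dvd_natCast.mp h4)
  have := h.cTI.two_lt1
  omega

/-- (13.3)(b). -/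
theorem no_Ind_Fitting_facts (hn : ∀ φ ∈ pS S ⊥, ¬ IrrIndF S φ) :
    TypePGalois S U ∧ U ⊓ C[Fc S] = ⊥ ∧
      Nat.card U = (Nat.card W₂ ^ Nat.card W₁ - 1) / (Nat.card W₂ - 1) := by
  have h5 := FTtype5_exclusion hS
  rcases h.reducible_core_cases hS h5 with ⟨χ, hi, hχ, -, ξ, hξ, e⟩ | ⟨hg, hF, -, hU, -⟩
  · rw [h.pKC_eq_bot hS] at hχ
    rw [h.Fc_sup_pC hS] at hξ e
    exact absurd ⟨hi, mem_seqIndT.mpr ⟨ξ, hξ.irr, e⟩⟩ (hn χ hχ)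
  · rw [h.pP_eq hS] at hU
    refine ⟨hg, ?_, hU⟩
    rw [h.pK_eq_bot hS] at hF
    have hN : ∀ X : Subgroup G, X ≤ N[(⊥ : Subgroup G)] := fun X => by rw [N_bot]; exact le_top
    by_contra hne
    have h1 := hF.reg.inf_C (quo_mono ⊥ (inf_le_left : U ⊓ C[Fc S] ≤ U))
      (fun e => hne (le_bot_iff.mp ((quo_eq_bot (hN _)).mp e)))
    rw [inf_of_le_left (quo_cent ⊥ (cents_symm inf_le_right))] at h1
    exact hF.ker_ne h1

theorem calP_conjSub : ConjSub (pS S ⊥) (seqIndD ⁅S, S⁆ S (Fc S) ⊥) :=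
  seqIndD_conjSub _ _ le_rfl le_rfl

theorem calP_nreal : ∀ χ ∈ pS S ⊥, conjC χ ≠ χ := fun _ hχ =>
  seqInd_conjC_ne h.prTI.nml (mFT_odd S) h.Fc_le hχ

theorem calP_cases {φ : G → ℂ} (hφ : φ ∈ pS S ⊥) :
    (∃ j ∈ irrK W W₁, j ≠ cfOne W ∧ φ = prRed S W W₁ W₂ j) ∨ φ ∈ Irr S := by
  rcases h.prTI.seqIndT_cases (seqIndD_subT _ _ _ _ hφ) with ⟨j, hj, rfl⟩ | h1
  · refine Or.inl ⟨j, hj, ?_, rfl⟩
    rintro rfl
    rw [h.prTI.red_one] at hφ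
    exact Ind1_not_mem_seqIndD h.prTI.nml h.Fc_le _ hφ
  · exact Or.inr h1.1

theorem coh_sub_red {τ₁ : (G → ℂ) →ₗ[ℂ] (G → ℂ)} (hc : CohWith S ⊤ (pS S ⊥) (tau0 S) τ₁)
    {j k : G → ℂ} (hj : j ∈ irrK W W₁) (hj1 : j ≠ cfOne W) (hk : k ∈ irrK W W₁)
    (hk1 : k ≠ cfOne W) : τ₁ (prRed S W W₁ W₂ j) = τ₁ (prRed S W W₁ W₂ k) +
      (∑ i ∈ irrK W W₂, eta W W₁ W₂ (i * j) - ∑ i ∈ irrK W W₂, eta W W₁ W₂ (i * k)) := by
  have hd : prRed S W W₁ W₂ j 1 = prRed S W W₁ W₂ k 1 := by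
    rw [h.TIred1 hS hj hj1, h.TIred1 hS hk hk1]
  have h1 := hc.ext _ (sub_mem_zsp0 (mem_zsp_of_mem (h.seqInd_TIred hS hj hj1))
    (mem_zsp_of_mem (h.seqInd_TIred hS hk hk1)) hd)
  rw [(h.prDadeF hS).sub_red hj hk hj1 hk1 hd, h.TIsign hS (irrK_sub _ _ hj), map_sub,
    Int.cast_one, one_smul] at h1
  rw [← h1]; abel

theorem conjC_J {j : G → ℂ} (hj : j ∈ irrK W W₁) (h1 : j ≠ cfOne W) :
    conjC j ∈ irrK W W₁ ∧ conjC j ≠ cfOne W := by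
  refine ⟨aut_mem_irrK hj _, fun e => h1 ?_⟩
  rw [← conjC_conjC j, e]
  exact (odd_conjC_eq_iff (mFT_odd W) (cfOne_mem_Irr W)).mpr rfl

/-- (13.3)(c) with (13.2)(d). -/
theorem coherence : ∃ τ₁, CohWith S ⊤ (pS S ⊥) (tau0 S) τ₁ ∧ (TIredCoh S W W₁ W₂ τ₁ ∨
    ∀ j ∈ irrK W W₁, j ≠ cfOne W →
      τ₁ (prRed S W W₁ W₂ (conjC j)) = -∑ i ∈ irrK W W₂, eta W W₁ W₂ (i * j)) := by
  obtain ⟨k, hk, hk1⟩ := h.cTI.exists_J_ne
  have hs := h.TIsign hS (irrK_sub _ _ hk)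
  by_cases hirr : ∃ χ ∈ pS S ⊥, χ ∈ Irr S
  · obtain ⟨χ, hχ, hi⟩ := hirr
    obtain ⟨τ₁, hc⟩ := h.facts_d hS
    refine ⟨τ₁, hc, ?_⟩
    rcases (h.prDadeF hS).coherent_TIred (h.calP_conjSub hS) (h.calP_nreal hS) hχ hi hk
      (h.seqInd_TIred hS hk hk1) hc with e | ⟨e, hl⟩
    · rw [hs, Int.cast_one, one_smul] at e
      refine Or.inl fun j hj hj1 => ?_
      rw [h.coh_sub_red hS hc hj hj1 hk hk1, e]; abel
    · rw [hs, Int.cast_one, one_smul] at e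
      refine Or.inr fun j hj hj1 => ?_
      rcases hl j hj (h.seqInd_TIred hS hj hj1)
        (by rw [h.TIred1 hS hj hj1, h.TIred1 hS hk hk1]) with rfl | rfl
      · rw [h.coh_sub_red hS hc (h.conjC_J hS hj hj1).1 (h.conjC_J hS hj hj1).2 hk hk1, e]; abel
      · rw [conjC_conjC, e]
  · obtain ⟨τ₁, hc, e⟩ := (h.prDadeF hS).uniform_coherent hk hk1
    refine ⟨τ₁, hc.mono fun φ hφ => ?_, Or.inl fun j hj _ => ?_⟩
    · rcases h.calP_cases hS hφ with ⟨j, hj, hj1, rfl⟩ | hi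
      · exact mem_prUnif.mpr ⟨j, hj, hj1, by rw [h.TIred1 hS hj hj1, h.TIred1 hS hk hk1], rfl⟩
      · exact absurd ⟨φ, hφ, hi⟩ hirr
    · rw [e j hj, hs, Int.cast_one, one_smul]

theorem coherence' : ∃ τ₁, CohWith S ⊤ (pS S ⊥) (tau0 S) τ₁ ∧
    ∃ (s : (G → ℂ) → (G → ℂ)) (ε : ℤ), (ε = 1 ∨ ε = -1) ∧ (∀ j, s (s j) = j) ∧
      ∀ j ∈ irrK W W₁, j ≠ cfOne W → s j ∈ irrK W W₁ ∧ s j ≠ cfOne W ∧
        τ₁ (prRed S W W₁ W₂ (s j)) = (ε : ℂ) • ∑ i ∈ irrK W W₂, eta W W₁ W₂ (i * j) := by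
  obtain ⟨τ₁, hc, e | e⟩ := h.coherence hS
  · exact ⟨τ₁, hc, id, 1, Or.inl rfl, fun _ => rfl, fun j hj h1 =>
      ⟨hj, h1, by rw [id, e j hj h1, Int.cast_one, one_smul]⟩⟩
  · exact ⟨τ₁, hc, conjC, -1, Or.inr rfl, conjC_conjC, fun j hj h1 =>
      ⟨(h.conjC_J hS hj h1).1, (h.conjC_J hS hj h1).2, by rw [e j hj h1]; simp⟩⟩

/-! ## the set `S₁` and (13.5) -/

theorem F_nml_S : F[S] ⊴ S := Fitting_nml S

theorem shpF_sub : shp F[S] ⊆ typeA0 S := (Fit_sub_typeA hS).trans (typeA_sub0 S)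

theorem S1_zsp {ζ : G → ℂ} (hζ : ζ ∈ seqIndD F[S] S (Fc S) ⊥) : ζ ∈ zsp (pS S ⊥) := by
  obtain ⟨θ, hθ, -, hk, rfl⟩ := mem_seqIndD.mp hζ
  have hF : F[S] ⊴ ⁅S, S⁆ := (h.F_nml_S hS).of_le h.F_le (der1_le S)
  obtain ⟨n, hn, e⟩ := ((irr_char hθ).ind h.F_le).eq_sum_nat
  rw [← cfInd_cfInd h.F_le (der1_le S), e, map_sum]
  refine Submodule.sum_mem _ fun χ hχ => ?_
  rw [map_smul]
  by_cases h0 : n χ = 0
  · simp [h0]
  refine natCast_smul_mem _ (mem_zsp_of_mem (mem_seqIndD.mpr ⟨χ, hχ, bot_le, fun hP => hk ?_, rfl⟩))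
  refine (le_cfker_constt_res_iff hF h.sdHU.nml (Fc_le_Fit S) hχ hθ fun e0 => h0 ?_).mpr hP
  have := hn χ hχ
  rw [cfdot_cfInd_left h.F_le _ (irr_CF hχ), cfdot_symm_zero e0] at this
  exact_mod_cast this.symm

theorem S1_mu {j : G → ℂ} (hj : j ∈ irrK W W₁) (h1 : j ≠ cfOne W) :
    prRed S W W₁ W₂ j ∈ seqIndD F[S] S (Fc S) ⊥ :=
  (mem_seqIndD_iff_ker (h.F_le_S hS) (Fc_nml S) (Nml.bot S)).mpr
    ⟨h.TIred_Ind_Fitting hS hj h1, ((mem_seqIndD_iff_ker (der1_le S) (Fc_nml S) (Nml.bot S)).mp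
      (h.seqInd_TIred hS hj h1)).2⟩

theorem S1_of_irr {lam : G → ℂ} (h1 : IrrIndF S lam) (h2 : lam ∈ pS S ⊥) :
    lam ∈ seqIndD F[S] S (Fc S) ⊥ :=
  (mem_seqIndD_iff_ker (h.F_le_S hS) (Fc_nml S) (Nml.bot S)).mpr
    ⟨h1.2, ((mem_seqIndD_iff_ker (der1_le S) (Fc_nml S) (Nml.bot S)).mp h2).2⟩

section tau1
variable {τ₁ : (G → ℂ) →ₗ[ℂ] (G → ℂ)} (hc : CohWith S ⊤ (pS S ⊥) (tau0 S) τ₁)
include hc

theorem irr_ortho_eta {φ ω : G → ℂ} (hφ : φ ∈ pS S ⊥) (hi : φ ∈ Irr S) (hω : ω ∈ Irr W) :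
    cfdot ⊤ (τ₁ φ) (eta W W₁ W₂ ω) = 0 :=
  (h.prDadeF hS).coherent_ortho_eta (h.calP_conjSub hS) (h.calP_nreal hS) hc hφ hi hω

theorem S1_ortho_eta {ζ ω : G → ℂ} (hζ : ζ ∈ seqIndD F[S] S (Fc S) ⊥)
    (hn : ∀ j ∈ irrK W W₁, j ≠ cfOne W → ζ ≠ prRed S W W₁ W₂ j) (hω : ω ∈ Irr W) :
    cfdot ⊤ (τ₁ ζ) (eta W W₁ W₂ ω) = 0 := by
  have h0 : ∀ χ ∈ pS S ⊥, cfdot S χ χ ≠ 0 := fun χ hχ => by
    rw [cfdot_self]
    exact_mod_cast (seqInd_norm_pos (der1_le S) (seqIndD_subT _ _ _ _ hχ)).ne'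
  rw [(seqIndD_orth h.prTI.nml _ _).eq_sum h0 (h.S1_zsp hS hζ), map_sum, cfdot_sum_left]
  refine Finset.sum_eq_zero fun φ hφ => ?_
  rw [map_smul, cfdot_smul_left]
  rcases h.calP_cases hS hφ with ⟨j, hj, hj1, rfl⟩ | hi
  · rw [seqIndD_orth (h.F_nml_S hS) _ _ _ hζ _ (h.S1_mu hS hj hj1) (hn j hj hj1)]; simp
  · rw [h.irr_ortho_eta hS hc hφ hi hω, mul_zero]

theorem tau1_sub {ζ ξ : G → ℂ} (hζ : ζ ∈ seqIndD F[S] S (Fc S) ⊥)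
    (hξ : ξ ∈ seqIndD F[S] S (Fc S) ⊥) :
    ζ - ξ ∈ CFon S (shp F[S]) ∧ τ₁ ζ - τ₁ ξ = cfInd ⊤ S (ζ - ξ) := by
  have hd : ζ 1 = ξ 1 := by
    rw [h.Ind_Fitting_1 hS (seqIndD_subT _ _ _ _ hζ), h.Ind_Fitting_1 hS (seqIndD_subT _ _ _ _ hξ)]
  have h1 : ζ - ξ ∈ CFon S (shp F[S]) := zsp0_seqInd_on (h.F_nml_S hS) (seqIndD_subT _ _ _ _)
    (sub_mem_zsp0 (mem_zsp_of_mem hζ) (mem_zsp_of_mem hξ) hd)
  refine ⟨h1, ?_⟩
  rw [← map_sub, hc.ext _ (sub_mem_zsp0 (h.S1_zsp hS hζ) (h.S1_zsp hS hξ) hd),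
    (h.facts_e hS).2 _ (CFon_mono (h.shpF_sub hS) h1)]

/-- (13.5). -/
theorem split1 {ζ₁ χ : G → ℂ} (h1 : ζ₁ ∈ seqIndD F[S] S (Fc S) ⊥) (hχ : χ ∈ vchar (⊤ : Subgroup G))
    (ho : ∀ ζ ∈ seqIndD F[S] S (Fc S) ⊥, ζ ≠ ζ₁ → cfdot ⊤ (τ₁ ζ) χ = 0) {a : ℤ}
    (ha : cfdot ⊤ (τ₁ ζ₁) χ = a) :
    ∃ α ∈ vchar F[S], ∃ (b : ℤ) (m : ℕ),
      (m : ℝ) * cfnorm S ζ₁ = ((U ⊓ C[Fc S]).relIndex U * Nat.card W₁ : ℕ) ∧
      α 1 = b ∧ (∀ x ∈ Fc S, α x = b) ∧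
      (∀ x ∈ shp F[S], χ x = a / cfnorm S ζ₁ * ζ₁ x + α x) ∧
      ∑ x ∈ fs (shp F[S]), ‖χ x‖ ^ 2 = (a : ℝ) ^ 2 * m * Nat.card F[S] - (a : ℝ) ^ 2 * m ^ 2 -
        2 * a * m * b + (Nat.card F[S] * cfnorm F[S] α - (b : ℝ) ^ 2) ∧
      (Nat.card (Fc S) : ℝ) * (b : ℝ) ^ 2 ≤ Nat.card F[S] * cfnorm F[S] α := by
  classical
  have hF := h.F_nml_S hS
  have hab := h.Fitting_abelian hS
  obtain ⟨θ₁, hθ₁, -, hk₁, e₁⟩ := mem_seqIndD.mp h1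
  have h0 : conjC ζ₁ ∈ seqIndD F[S] S (Fc S) ⊥ := cfAut_seqIndD (starRingEnd ℂ) h1
  have hne : conjC ζ₁ ≠ ζ₁ := seqInd_conjC_ne hF (mFT_odd S) (Fc_le_Fit S) h1
  have e₀ : conjC ζ₁ = cfInd S F[S] (conjC θ₁) := by rw [e₁]; exact cfAut_cfInd _ _ _ _
  obtain ⟨d₀, hd₀⟩ := vchar_dot_int_of_le (irr_vchar (irr_conjC hθ₁)) hχ le_top
  have key : ∀ θ ∈ Irr F[S], ¬ Fc S ≤ cfker F[S] θ →
      cfdot F[S] χ θ = d₀ + a * if θ ∈ cfclass S θ₁ then 1 else 0 := by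
    intro θ hθ hk
    have hm : cfInd S F[S] θ ∈ seqIndD F[S] S (Fc S) ⊥ := mem_seqIndD.mpr ⟨θ, hθ, bot_le, hk, rfl⟩
    have h2 := congrArg (fun φ => cfdot ⊤ φ χ) (h.tau1_sub hS hc hm h0).2
    rw [cfdot_sub_left, ho _ h0 hne, e₀, ← map_sub, cfInd_cfInd (h.F_le_S hS) le_top,
      cfdot_cfInd_left le_top _ (vchar_CF hχ), cfdot_sub_left, hd₀, sub_zero] at h2
    have h3 : cfdot F[S] θ χ = ((d₀ + a * if θ ∈ cfclass S θ₁ then 1 else 0 : ℤ) : ℂ) := by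
      rw [sub_eq_iff_eq_add.mp h2.symm]
      split_ifs with h4
      · rw [cfInd_eq_of_cfclass hF.norm h4, ← e₁, ha]; push_cast; ring
      · rw [ho _ hm fun e => h4 ((cfInd_eq_iff_cfclass hF hθ₁ hθ).mp (e.trans e₁))]; push_cast; ring
    rw [cfdot_symm_int h3]; push_cast; rfl
  set σ : G → ℂ := ∑ ψ ∈ cfclass S θ₁, ψ with hσ
  set ρ : G → ℂ := ∑ ψ ∈ Irr F[S], ψ with hρ
  have hcl : ∀ ψ ∈ cfclass S θ₁, ψ ∈ Irr F[S] := fun ψ hψ => cfclass_irr hF.norm hθ₁ hψ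
  have hσv : σ ∈ vchar F[S] := Submodule.sum_mem _ fun ψ hψ => irr_vchar (hcl ψ hψ)
  have hρv : ρ ∈ vchar F[S] := Submodule.sum_mem _ fun ψ hψ => irr_vchar hψ
  have hn : cfnorm S ζ₁ = F[S].relIndex (inertia S θ₁) := by rw [e₁, cfnorm_cfInd_irr hF hθ₁]
  have hn0 : (cfnorm S ζ₁ : ℂ) ≠ 0 := by rw [hn]; exact_mod_cast (relIndex_pos _ _).ne'
  have eσ : ζ₁ = (cfnorm S ζ₁ : ℂ) • σ := by
    rw [hn]; conv_lhs => rw [e₁, cfInd_nml_eq_sum_cfclass hF (irr_CF hθ₁)]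
    simp [hσ]
  set α : G → ℂ := cfRes F[S] χ - (d₀ : ℂ) • ρ - (a : ℂ) • σ with hα
  have hαv : α ∈ vchar F[S] := sub_mem (sub_mem (vchar_res hχ le_top) (intCast_smul_mem _ hρv))
    (intCast_smul_mem _ hσv)
  have hαo : ∀ θ ∈ Irr F[S], ¬ Fc S ≤ cfker F[S] θ → cfdot F[S] α θ = 0 := by
    intro θ hθ hk
    have h2 : cfdot F[S] ρ θ = 1 := by
      simpa [hρ] using (irr_orthon F[S]).cfdot_sum_left (fun _ => 1) hθ
    rw [hα, cfdot_sub_left, cfdot_sub_left, cfdot_smul_left, cfdot_smul_left, h2,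
      cfdot_cfRes_left, key θ hθ hk, hσ, cfdot_sum_cfclass hF.norm hθ₁ hθ]
    ring
  have hαk : Fc S ≤ cfker F[S] α := by
    rw [CF_eq_sum (vchar_CF hαv)]
    refine le_cfker_sum (Fc_le_Fit S) _ _ fun θ hθ => ?_
    by_cases hk : Fc S ≤ cfker F[S] θ
    · exact hk.trans (cfker_smul_le _ _ _)
    · rw [hαo θ hθ hk, zero_smul]; exact fun x hx => ⟨Fc_le_Fit S hx, fun _ => rfl⟩
  have hσα : cfdot F[S] σ α = 0 := by
    rw [hσ, cfdot_sum_left]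
    exact Finset.sum_eq_zero fun ψ hψ => cfdot_symm_zero (hαo ψ (hcl ψ hψ) fun hk =>
      hk₁ ((cfclass_le_cfker hF.norm (Fc_nml S).norm hψ).mp hk))
  obtain ⟨b, hb⟩ := vchar_one_int hαv
  have hσ1 : σ 1 = (cfclass S θ₁).card := by
    rw [hσ, Finset.sum_apply, Finset.sum_congr rfl fun ψ hψ => (irr_lin_of_abl hab (hcl ψ hψ)).one]
    simp
  have hσn : cfnorm F[S] σ = (cfclass S θ₁).card := ((irr_orthon F[S]).mono hcl).cfnorm_sum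
  have hval : ∀ x ∈ shp F[S], χ x = ((a : ℂ) • σ + α) x := by
    intro x hx
    have h2 : ρ x = 0 := by
      have := sum_Irr_deg_mul F[S] x
      rw [if_neg (mem_shp.mp hx).2] at this
      rw [hρ, Finset.sum_apply, ← this]
      exact Finset.sum_congr rfl fun ψ hψ => by rw [(irr_lin_of_abl hab hψ).one, one_mul]
    simp [hα, h2, cfRes_of_mem χ hx.1]
  have hsum : ∀ φ : G → ℂ, ∑ x ∈ fs (shp F[S]), ‖φ x‖ ^ 2 =
      Nat.card F[S] * cfnorm F[S] φ - ‖φ 1‖ ^ 2 := by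
    intro φ
    rw [cfnorm, mul_inv_cancel_left₀ (cardR_pos _).ne',
      sum_fs_diff (A := (F[S] : Set G)) (B := {1}) (by simp) (fun x => ‖φ x‖ ^ 2), sum_fs_singleton]
    ring
  refine ⟨α, hαv, b, (cfclass S θ₁).card, ?_, hb, fun x hx => by rw [cfker_apply (hαk hx), hb],
    fun x hx => ?_, ?_, ?_⟩
  · have := h.Ind_Fitting_1 hS (seqIndD_subT _ _ _ _ h1)
    rw [eσ, Pi.smul_apply, hσ1, smul_eq_mul, mul_comm] at this
    exact_mod_cast this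
  · rw [hval x hx, congrFun eσ x]
    simp only [Pi.add_apply, Pi.smul_apply, smul_eq_mul]
    field_simp
  · rw [sum_fs_congr fun x hx => by rw [hval x hx], hsum,
      cfnorm_add_orth (by rw [cfdot_smul_left, hσα, mul_zero]), cfnorm_intCast_smul, hσn,
      Pi.add_apply, Pi.smul_apply, hσ1, hb, smul_eq_mul]
    have : (a : ℂ) * ((cfclass S θ₁).card : ℂ) + b = ((a * (cfclass S θ₁).card + b : ℝ) : ℂ) := by
      push_cast; ring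
    rw [this, Complex.norm_real, Real.norm_eq_abs, sq_abs]; ring
  · rw [cfnorm, mul_inv_cancel_left₀ (cardR_pos _).ne']
    refine le_trans (le_of_eq ?_) (Finset.sum_le_sum_of_subset_of_nonneg
      (fs_mono (A := (Fc S : Set G)) (Fc_le_Fit S)) fun _ _ _ => by positivity)
    rw [sum_fs_congr (g := fun _ => (b : ℝ) ^ 2) fun x hx => by
      rw [cfker_apply (hαk hx), hb, Complex.norm_intCast, sq_abs], sum_fs_const, nsmul_eq_mul]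
    rfl

omit hc in
theorem exists_V_pair : ∃ x ∈ W₂, x ≠ 1 ∧ ∃ y ∈ W₁, orderOf y = Nat.card W₁ ∧ y * x = x * y ∧
    y * x ∈ cycV W W₁ W₂ := by
  obtain ⟨x, hx, hx1⟩ := exists_ne_one h.ne2
  obtain ⟨y, hy, hy1⟩ := exists_ne_one h.ne1
  refine ⟨x, hx, hx1, y, hy, ?_, (comm_of_cent h.dp.cent hx hy).symm,
    h.cTI.mul_mem_V hy hy1 hx hx1⟩
  rw [← card_zpowers', zpowers_eq_of_prime (h.primes hS).1 hy hy1]

/-- (13.6). -/
theorem sum_Ind_Fitting_lb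
    {lam : G → ℂ} (h1 : IrrIndF S lam) (h2 : lam ∈ pS S ⊥) :
    (Nat.card S : ℝ) - (deg lam : ℝ) ^ 2 ≤ ∑ x ∈ fs (shp F[S]), ‖τ₁ lam x‖ ^ 2 := by
  have hl := h.S1_of_irr hS h1 h2
  have hv := hc.vchar h2
  obtain ⟨α, hα, b, m, hm, hb, hP, hval, hsum, hlb⟩ := h.split1 hS hc hl hv (a := 1)
    (fun ζ hζ hne => by
      rw [hc.isom.dot _ (h.S1_zsp hS hζ) _ (mem_zsp_of_mem h2)]
      exact seqIndD_orth (h.F_nml_S hS) _ _ _ hζ _ hl hne)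
    (by rw [hc.dot h2 h2, irr_dot_self h1.1, Int.cast_one])
  rw [irr_norm h1.1, mul_one] at hm
  obtain ⟨x, hx, hx1, y, hy, hyo, hxy, hV⟩ := h.exists_V_pair hS
  have hq := (h.primes hS).1
  have hε := Complex.isPrimitiveRoot_exp _ hq.ne_zero
  obtain ⟨w₁, hw₁, e₁⟩ := vchar_ker_mod_prim hq hε hv (Subgroup.mem_top y) hyo hxy
  obtain ⟨w₂, hw₂, e₂⟩ := vchar_ker_mod_prim hq hε (irr_vchar h1.1) (h.le1 hy) hyo hxy
  rw [h.cTI.ortho_vanish (vchar_CF hv) (fun ω hω => h.irr_ortho_eta hS hc h2 h1.1 hω) hV] at e₁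
  rw [seqInd_on h.prTI.nml (seqIndD_subT _ _ _ _ h2) _ ((h.prDadeF hS).V_disj hV)] at e₂
  have e₃ := hval x ⟨Fc_le_Fit S (h.le2 hx), hx1⟩
  rw [hP x (h.le2 hx), irr_norm h1.1] at e₃
  obtain ⟨c, rfl⟩ := int_dvd_of_prim hq hε (hw₂.sub hw₁) (n := b) (by
    rw [mul_sub, ← e₁, ← e₂, e₃]; push_cast; ring)
  rw [hsum, deg_eq_of (h.Ind_Fitting_1 hS h1.2), hm, ← card_mul_relIndex (h.F_le_S hS),
    h.relIndex_F hS]
  have h3 : (2 * (U ⊓ C[Fc S]).relIndex U + 1 : ℝ) ≤ Nat.card (Fc S) := by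
    exact_mod_cast h.two_u_le hS
  have h4 : (c : ℝ) ≤ (c : ℝ) ^ 2 := by exact_mod_cast Int.le_self_sq c
  push_cast at hlb ⊢
  generalize (U ⊓ C[Fc S]).relIndex U = u at *
  generalize Nat.card W₁ = q at *
  have h5 : (0 : ℝ) ≤ (q : ℝ) ^ 2 * u * ((c : ℝ) ^ 2 - c) := by
    have : (0 : ℝ) ≤ (c : ℝ) ^ 2 - c := by linarith
    positivity
  have h6 : (2 * u + 1 : ℝ) * (q * c) ^ 2 ≤ Nat.card (Fc S) * (q * c : ℝ) ^ 2 :=
    mul_le_mul_of_nonneg_right h3 (by positivity)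
  nlinarith

end tau1

/-- (13.7). -/
theorem sum_cycTIiso10_lb {i : G → ℂ} (hi : i ∈ irrK W W₂) (h1 : i ≠ cfOne W) :
    (Nat.card F[S] : ℝ) - 1 ≤ ∑ x ∈ fs (shp F[S]), ‖eta W W₁ W₂ i x‖ ^ 2 := by
  classical
  obtain ⟨τ₁, hc, s, ε, -, hs, hτ⟩ := h.coherence' hS
  have hiW := irrK_sub _ _ hi
  have hv := h.cTI.iso_vchar (irr_vchar hiW)
  have ho : ∀ ζ ∈ seqIndD F[S] S (Fc S) ⊥, cfdot ⊤ (τ₁ ζ) (eta W W₁ W₂ i) = 0 := by
    intro ζ hζ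
    by_cases hn : ∃ j ∈ irrK W W₁, j ≠ cfOne W ∧ ζ = prRed S W W₁ W₂ j
    · obtain ⟨j, hj, hj1, rfl⟩ := hn
      obtain ⟨h2, h3, -⟩ := hτ j hj hj1
      have h4 := (hτ _ h2 h3).2.2
      rw [hs] at h4
      rw [h4, cfdot_smul_left, ← mul_cfOne (irr_cfOn hiW), h.cTI.dot_col h2 hi h.cTI.one_J,
        if_neg h3, mul_zero]
    · exact h.S1_ortho_eta hS hc hζ (fun j hj hj1 e => hn ⟨j, hj, hj1, e⟩) hiW
  obtain ⟨k, hk, hk1⟩ := h.cTI.exists_J_ne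
  obtain ⟨α, hα, b, m, hm, hb, hP, hval, hsum, hlb⟩ := h.split1 hS hc (h.S1_mu hS hk hk1) hv (a := 0)
    (fun ζ hζ _ => ho ζ hζ) (by rw [ho _ (h.S1_mu hS hk hk1), Int.cast_zero])
  obtain ⟨x, hx, hx1, y, hy, hyo, hxy, hV⟩ := h.exists_V_pair hS
  have hq := (h.primes hS).1
  have hε := Complex.isPrimitiveRoot_exp _ hq.ne_zero
  obtain ⟨w₁, hw₁, e₁⟩ := vchar_ker_mod_prim hq hε hv (Subgroup.mem_top y) hyo hxy
  obtain ⟨w₂, hw₂, e₂⟩ := vchar_ker_mod_prim hq hε (irr_vchar hiW) (h.cTI.le1 hy) hyo hxy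
  rw [h.cTI.iso_restrict (irr_CF hiW) hV] at e₁
  rw [cfker_apply ((mem_irrK.mp hi).2 hx), (h.cTI.lin hiW).one] at e₂
  have e₃ := hval x ⟨Fc_le_Fit S (h.le2 hx), hx1⟩
  rw [hP x (h.le2 hx)] at e₃
  have hd := int_dvd_of_prim hq hε (hw₂.sub hw₁) (n := b - 1) (by
    rw [mul_sub, ← e₁, ← e₂, e₃]; push_cast; ring)
  have hb0 : b ≠ 0 := by
    rintro rfl
    have := Int.natCast_dvd_natCast.mp (dvd_neg.mp hd : (Nat.card W₁ : ℤ) ∣ (1 : ℕ))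
    exact hq.one_lt.ne' (Nat.dvd_one.mp this)
  obtain ⟨N, hN⟩ := vchar_norm_nat hα
  rw [hsum]
  have hN0 : N ≠ 0 := by
    rintro rfl
    rw [Nat.cast_zero, cfnorm_eq_zero (vchar_cfOn hα)] at hN
    rw [hN] at hb
    have hb' : (b : ℂ) = 0 := hb.symm
    exact hb0 (by exact_mod_cast hb')
  have hH := cardR_pos F[S]
  by_cases hN1 : N = 1
  · obtain ⟨δ, θ, hδ, hθ, e⟩ := (vchar_norm_one hα (by rw [hN, hN1, Nat.cast_one])).exists_sign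
    rw [e, Pi.smul_apply, (irr_lin_of_abl (h.Fitting_abelian hS) hθ).one, smul_eq_mul, mul_one,
      Int.cast_inj] at hb
    rw [hN, hN1, ← hb]
    rcases hδ with rfl | rfl <;> simp
  · have h2 : (2 : ℝ) ≤ N := by exact_mod_cast (by omega : 2 ≤ N)
    have h3 : (2 : ℝ) ≤ Nat.card (Fc S) := by exact_mod_cast one_lt_card h.Fc_ne
    rw [hN] at hlb ⊢
    have h4 : 2 * (b : ℝ) ^ 2 ≤ Nat.card (Fc S) * (b : ℝ) ^ 2 :=
      mul_le_mul_of_nonneg_right h3 (by positivity)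
    push_cast
    nlinarith

/-- (13.8). -/
theorem sum_cycTIiso01_lb {j : G → ℂ} (hj : j ∈ irrK W W₁) (h1 : j ≠ cfOne W) :
    (Nat.card ↥⁅S, S⁆ : ℝ) - ((U ⊓ C[Fc S]).relIndex U : ℝ) ^ 2 ≤
      ∑ x ∈ fs (shp F[S]), ‖eta W W₁ W₂ j x‖ ^ 2 := by
  classical
  obtain ⟨τ₁, hc, s, ε, hε, hs, hτ⟩ := h.coherence' hS
  have hjW := irrK_sub _ _ hj
  have hv := h.cTI.iso_vchar (irr_vchar hjW)
  obtain ⟨hk, hk1, ek⟩ := hτ j hj h1
  have e1 : eta W W₁ W₂ j = eta W W₁ W₂ (cfOne W * j) := by rw [cfOne_mul (irr_cfOn hjW)]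
  obtain ⟨α, hα, b, m, hm, hb, hP, hval, hsum, hlb⟩ := h.split1 hS hc (h.S1_mu hS hk hk1) hv (a := ε)
    (fun ζ hζ hne => by
      by_cases hn : ∃ l ∈ irrK W W₁, l ≠ cfOne W ∧ ζ = prRed S W W₁ W₂ l
      · obtain ⟨l, hl, hl1, rfl⟩ := hn
        obtain ⟨h2, h3, -⟩ := hτ l hl hl1
        have h4 := (hτ _ h2 h3).2.2
        rw [hs] at h4
        rw [h4, cfdot_smul_left, e1, h.cTI.dot_col h2 h.cTI.one_I hj,
          if_neg fun e => hne (by rw [← e, hs]), mul_zero]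
      · exact h.S1_ortho_eta hS hc hζ (fun j hj hj1 e => hn ⟨j, hj, hj1, e⟩) hjW)
    (by rw [ek, cfdot_smul_left, e1, h.cTI.dot_col hj h.cTI.one_I hj, if_pos rfl, mul_one])
  rw [h.prTI.red_norm hk, Nat.cast_mul, mul_left_inj' (cardR_pos W₁).ne'] at hm
  rw [hsum, hm, ← h.card_F_mul hS]
  have h3 : (2 * (U ⊓ C[Fc S]).relIndex U + 1 : ℝ) ≤ Nat.card (Fc S) := by
    exact_mod_cast h.two_u_le hS
  have h4 : ((ε * b : ℤ) : ℝ) ≤ ((ε * b : ℤ) : ℝ) ^ 2 := by exact_mod_cast Int.le_self_sq _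
  have h5 : (ε : ℝ) ^ 2 = 1 := by rcases hε with rfl | rfl <;> simp
  push_cast at h4 ⊢
  rw [mul_pow, h5] at h4
  rw [h5]
  generalize (U ⊓ C[Fc S]).relIndex U = u at *
  have h6 : (2 * u + 1 : ℝ) * (b : ℝ) ^ 2 ≤ Nat.card (Fc S) * (b : ℝ) ^ 2 :=
    mul_le_mul_of_nonneg_right h3 (by positivity)
  have h7 : (0 : ℝ) ≤ u * (1 * (b : ℝ) ^ 2 - ε * b) := mul_nonneg (by positivity) (by linarith)
  nlinarith

end TypeP

end H27
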