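import Mathlib
import Cfsg.Agent.H27.PF13a

/-!
# Peterfalvi §13, second part: (13.4), (13.9), (13.10)
-/

set_option autoImplicit false
set_option linter.unusedSectionVars false
set_option linter.unusedVariables false

namespace H27

open Cfsg H24 H25
open scoped ComplexConjugate

universe u v

namespace PF13

variable {G : Type u} [Group G] [Finite G]

theorem ne_zero_of_gen {φ : G → ℂ} (hφ : φ ∈ vchar (⊤ : Subgroup G)) {x y : G}
    (e : Subgroup.zpowers y = Subgroup.zpowers x) (h : φ x ≠ 0) : φ y ≠ 0 := by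
  have hy : y ∈ Submonoid.powers x := mem_powers_iff_mem_zpowers.mpr (e ▸ Subgroup.mem_zpowers y)
  obtain ⟨k, rfl⟩ : ∃ k : ℕ, x ^ k = y := hy
  have ho : orderOf (x ^ k) = orderOf x := by rw [← card_zpowers', ← card_zpowers', e]
  have hk : k.Coprime (orderOf x) := by
    rw [orderOf_pow] at ho
    have := (Nat.div_eq_self.mp ho).resolve_left (orderOf_pos x).ne'
    exact Nat.Coprime.symm this
  obtain ⟨u, -, hu, -⟩ := make_pi_cfAut (⊤ : Subgroup G) (orderOf_pos x) hk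
  rw [← hu φ hφ x (Subgroup.mem_top x) dvd_rfl]
  exact (map_ne_zero u).mpr h

theorem card_le_sum_of_gen {a b : G → ℂ} (ha : a ∈ vchar (⊤ : Subgroup G))
    (hb : b ∈ vchar (⊤ : Subgroup G)) {A : Set G}
    (hA : ∀ x ∈ A, ∀ y, Subgroup.zpowers y = Subgroup.zpowers x → y ∈ A)
    (hab : ∀ x ∈ A, a x ≠ 0 ∨ b x ≠ 0) :
    ∑ _x ∈ fs A, (1 : ℝ) ≤ ∑ x ∈ fs A, ‖a x‖ ^ 2 + ∑ x ∈ fs A, ‖b x‖ ^ 2 := by
  classical
  rw [← Finset.sum_add_distrib]
  have hm : ∀ x ∈ fs A, Subgroup.zpowers x ∈ (fs A).image Subgroup.zpowers :=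
    fun x hx => Finset.mem_image_of_mem _ hx
  rw [← Finset.sum_fiberwise_of_maps_to hm, ← Finset.sum_fiberwise_of_maps_to hm]
  refine Finset.sum_le_sum fun C hC => ?_
  obtain ⟨x, hx, rfl⟩ := Finset.mem_image.mp hC
  rw [mem_fs] at hx
  have e : (fs A).filter (fun y => Subgroup.zpowers y = Subgroup.zpowers x) =
      fs {y | Subgroup.zpowers y = Subgroup.zpowers x} := by
    ext y
    simp only [Finset.mem_filter, mem_fs, Set.mem_ofPred_eq]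
    exact ⟨fun h => h.2, fun h => ⟨hA x hx y h, h⟩⟩
  rw [e, sum_fs_const, nsmul_eq_mul, mul_one, Finset.sum_add_distrib]
  rcases hab x hx with h | h
  · exact (sum_norm2_vchar_generators ha (Subgroup.mem_top x)
      fun y hy => ne_zero_of_gen ha hy h).trans (le_add_of_nonneg_right (by positivity))
  · exact (sum_norm2_vchar_generators hb (Subgroup.mem_top x)
      fun y hy => ne_zero_of_gen hb hy h).trans (le_add_of_nonneg_left (by positivity))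

theorem classSupp_shp_gen {K : Subgroup G} {x y : G} (hx : x ∈ classSupp (shp K) ⊤)
    (e : Subgroup.zpowers x = Subgroup.zpowers y) : y ∈ classSupp (shp K) ⊤ := by
  obtain ⟨g, -, hg, h1⟩ := mem_classSupp.mp hx
  obtain ⟨k, rfl⟩ : y ∈ Subgroup.zpowers x := e ▸ Subgroup.mem_zpowers y
  refine mem_classSupp.mpr ⟨g, Subgroup.mem_top g, ?_, fun h2 => h1 ?_⟩
  · have := K.zpow_mem hg k
    rwa [conj_zpow] at this
  · have h3 : x ^ k = 1 := conj_eq_one_iff'.mp h2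
    have h4 : x ∈ Subgroup.zpowers (x ^ k) := by
      have := Subgroup.mem_zpowers x
      rwa [e] at this
    rw [h3, Subgroup.zpowers_one_eq_bot, Subgroup.mem_bot] at h4
    exact conj_eq_one_iff'.mpr h4

theorem one_not_mem_classSupp_shp (K : Subgroup G) : (1 : G) ∉ classSupp (shp K) ⊤ := by
  intro h
  obtain ⟨g, -, -, h1⟩ := mem_classSupp.mp h
  exact h1 (by simp)

theorem cover_sum {H K S T : Subgroup G} (hH : NTI ⊤ S (shp H)) (hK : NTI ⊤ T (shp K))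
    (hd : Disjoint (classSupp (shp H) ⊤) (classSupp (shp K) ⊤)) (F : G → ℝ)
    (hF : ∀ g x, F (g * x * g⁻¹) = F x) :
    ∑ x ∈ fs ((⊤ : Subgroup G) : Set G), F x =
      ∑ x ∈ fs (({1} ∪ (classSupp (shp H) ⊤ ∪ classSupp (shp K) ⊤))ᶜ), F x +
        (F 1 + (S.relIndex ⊤ * ∑ x ∈ fs (shp H), F x + T.relIndex ⊤ * ∑ x ∈ fs (shp K), F x)) := by
  rw [sum_fs_diff (A := ((⊤ : Subgroup G) : Set G))
      (B := {1} ∪ (classSupp (shp H) ⊤ ∪ classSupp (shp K) ⊤)) (fun _ _ => trivial),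
    sum_fs_union (by
      rw [Set.disjoint_singleton_left]
      rintro (h | h) <;> exact one_not_mem_classSupp_shp _ h), sum_fs_union hd, sum_fs_singleton,
    sum_classSupp_nti hH F fun g _ x => hF g x, sum_classSupp_nti hK F fun g _ x => hF g x,
    nsmul_eq_mul, nsmul_eq_mul, Subgroup.coe_top, Set.compl_eq_univ_sdiff]

theorem sum_shp_one (H : Subgroup G) : ∑ _x ∈ fs (shp H), (1 : ℝ) = Nat.card H - 1 := by
  have := sum_fs_diff (A := (H : Set G)) (B := {1}) (by simp) (fun _ => (1 : ℝ))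
  rw [sum_fs_singleton, sum_fs_const, nsmul_eq_mul, mul_one] at this
  rw [eq_sub_iff_add_eq, ← this]; rfl

theorem dirr_one_le {φ : G → ℂ} (h : IsDirr ⊤ φ) : 1 ≤ ‖φ 1‖ ^ 2 := by
  obtain ⟨n, hn⟩ := vchar_one_int h.vchar
  have h0 : n ≠ 0 := by rintro rfl; exact h.one_ne_zero (by simpa using hn)
  rw [hn, Complex.norm_intCast, sq_abs]
  have : (1 : ℤ) ≤ n ^ 2 := (by positivity : (0 : ℤ) < n ^ 2)
  exact_mod_cast this

theorem dirr_sum {φ : G → ℂ} (h : IsDirr ⊤ φ) :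
    ∑ x ∈ fs ((⊤ : Subgroup G) : Set G), ‖φ x‖ ^ 2 = Nat.card (⊤ : Subgroup G) := by
  have := h.norm
  rw [cfnorm, inv_mul_eq_one₀ (cardR_pos _).ne'] at this
  exact this.symm

end PF13

open PF13

variable {G : Type u} [Group G] [Finite G] [FT G] {S U W W₁ W₂ : Subgroup G}

namespace TypeP
variable (h : TypeP S U W W₁ W₂) (hS : IsCoatom S)
include h hS

theorem ntiF : NTI ⊤ S (shp F[S]) := nti_of_normedTI (h.of_not_V hS (FTtype5_exclusion hS)).ti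

section pair
variable {T V : Subgroup G} (h' : TypeP T V W W₂ W₁) (hT : IsCoatom T)
include h' hT

theorem disjoint_F : Disjoint (classSupp (shp F[S]) ⊤) (classSupp (shp F[T]) ⊤) := by
  rw [Set.disjoint_left]
  rintro _ ⟨x, hx, g, -, rfl⟩ h2
  obtain ⟨k, -, hk⟩ := mem_classSupp.mp h2
  have h3 : Fc T ≤ H24.cj (k * g) S := by
    refine le_trans ?_ (cj_mono _ (h.cent_le_of_typeA0 hS (h.shpF_sub hS hx)))
    rw [cj_C1, show k * g * x * (k * g)⁻¹ = k * (g * x * g⁻¹) * k⁻¹ by group]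
    exact (Fc_le_Fit T).trans ((h'.Fitting_abelian hT).le_C.trans (C_le_C1 hk.1))
  have h4 := card_dvd h3
  rw [card_cj, (h'.facts_b hT).2, h.sdM.card] at h4
  have h5 := (h.prTI.cop.symm.pow_left _).dvd_of_dvd_mul_left h4
  have h6 := (Nat.pow_dvd_pow_iff_le_right (h.primes hS).1.one_lt).mp
    (h5.trans (dvd_of_eq (pow_one _).symm))
  have := h.cTI.two_lt2
  omega

theorem tau1_ortho {τ₁ τ₂ : (G → ℂ) →ₗ[ℂ] (G → ℂ)} (hc : CohWith S ⊤ (pS S ⊥) (tau0 S) τ₁)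
    (hc' : CohWith T ⊤ (pS T ⊥) (tau0 T) τ₂) {ζ ξ ζ' ξ' : G → ℂ}
    (hζ : ζ ∈ seqIndD F[S] S (Fc S) ⊥) (hξ : ξ ∈ seqIndD F[S] S (Fc S) ⊥)
    (hζ' : ζ' ∈ seqIndD F[T] T (Fc T) ⊥) (hξ' : ξ' ∈ seqIndD F[T] T (Fc T) ⊥) :
    cfdot ⊤ (τ₁ ζ - τ₁ ξ) (τ₂ ζ' - τ₂ ξ') = 0 := by
  obtain ⟨h1, e1⟩ := h.tau1_sub hS hc hζ hξ
  obtain ⟨h2, e2⟩ := h'.tau1_sub hT hc' hζ' hξ'
  rw [e1, e2]
  exact cfdot_eq_zero_of_disjoint (cfInd_mem_cfOn_classSupp _ _ h1.2)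
    (cfInd_mem_cfOn_classSupp _ _ h2.2) (h.disjoint_F hS h' hT)

omit h' hT in
theorem tau1_conj_facts {τ₁ : (G → ℂ) →ₗ[ℂ] (G → ℂ)} (hc : CohWith S ⊤ (pS S ⊥) (tau0 S) τ₁)
    {lam : G → ℂ} (h1 : IrrIndF S lam) (h2 : lam ∈ pS S ⊥) :
    IsDirr ⊤ (τ₁ lam) ∧ IsDirr ⊤ (τ₁ (conjC lam)) ∧ cfdot ⊤ (τ₁ lam) (τ₁ (conjC lam)) = 0 ∧
      τ₁ lam 1 = τ₁ (conjC lam) 1 := by
  have h3 : conjC lam ∈ pS S ⊥ := cfAut_seqIndD _ h2
  have hl := h.S1_of_irr hS h1 h2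
  refine ⟨hc.dirr h2 h1.1, hc.dirr h3 (irr_conjC h1.1), ?_, ?_⟩
  · rw [hc.dot h2 h3]; exact seqInd_conjC_ortho h.prTI.nml (mFT_odd S) h.Fc_le h2
  · obtain ⟨h4, e⟩ := h.tau1_sub hS hc hl (cfAut_seqIndD (starRingEnd ℂ) hl)
    have := congrFun e 1
    rw [cfInd_one le_top, h4.2 1 (fun h5 => h5.2 rfl), mul_zero, Pi.sub_apply, sub_eq_zero] at this
    exact this

/-- (13.4). -/
theorem T_Galois {lam : G → ℂ} (h1 : IrrIndF S lam) (h2 : lam ∈ pS S ⊥) :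
    TypePGalois T V ∧ V ⊓ C[Fc T] = ⊥ ∧
      Nat.card V = (Nat.card W₁ ^ Nat.card W₂ - 1) / (Nat.card W₁ - 1) := by
  classical
  refine h'.no_Ind_Fitting_facts hT fun θ h4 h3 => ?_
  obtain ⟨τ₁, hc, s, ε, hε, -, hτ⟩ := h.coherence' hS
  obtain ⟨τ₂, hc', s', ε', hε', -, hτ'⟩ := h'.coherence' hT
  obtain ⟨j, hj, hj1⟩ := h.cTI.exists_J_ne
  obtain ⟨i, hi, hi1⟩ := h.cTI.exists_I_ne
  obtain ⟨hk, hk1, ek⟩ := hτ j hj hj1
  obtain ⟨hl, hl1, el⟩ := hτ' i hi hi1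
  have hlam := h.S1_of_irr hS h1 h2
  have hθ := h'.S1_of_irr hT h3 h4
  obtain ⟨a1, a2, a3, a4⟩ := h.tau1_conj_facts hS hc h1 h2
  obtain ⟨b1, b2, b3, b4⟩ := h'.tau1_conj_facts hT hc' h3 h4
  have o0 := h.tau1_ortho hS h' hT hc hc' hlam (cfAut_seqIndD (starRingEnd ℂ) hlam) hθ
    (cfAut_seqIndD (starRingEnd ℂ) hθ)
  have o1 := (vchar_pairs_orthonormal (u := 1) (v := 1) a1 a2 b1 b2 a3 b3 one_ne_zero one_ne_zero
    (by rw [Complex.ofReal_one, one_smul, one_smul]; exact o0) a4 (by rw [b4])).1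
  have o2 := h.tau1_ortho hS h' hT hc hc' hlam (h.S1_mu hS hk hk1) hθ (h'.S1_mu hT hl hl1)
  have es : eta W W₂ W₁ = eta W W₁ W₂ := cycIso_symm _ _ _ _
  have o3 : cfdot ⊤ (τ₁ lam) (τ₂ (prRed T W W₂ W₁ (s' i))) = 0 := by
    rw [el, cfdot_smul_right, cfdot_sum_right, Finset.sum_eq_zero, mul_zero]
    intro l hl
    rw [es]
    exact h.irr_ortho_eta hS hc h2 h1.1 (h'.cTI.mul_irr hl hi)
  have o4 : cfdot ⊤ (τ₁ (prRed S W W₁ W₂ (s j))) (τ₂ θ) = 0 := by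
    refine cfdot_symm_zero ?_
    rw [ek, cfdot_smul_right, cfdot_sum_right, Finset.sum_eq_zero, mul_zero]
    intro l hl
    rw [← es]
    exact h'.irr_ortho_eta hT hc' h4 h3.1 (h.cTI.mul_irr hl hj)
  have o5 : cfdot ⊤ (τ₁ (prRed S W W₁ W₂ (s j))) (τ₂ (prRed T W W₂ W₁ (s' i))) = ε * ε' := by
    rw [ek, el, cfdot_smul_left, cfdot_smul_right, cfdot_sum_right, es,
      Finset.sum_congr rfl fun l hl => by rw [mul_comm l i, h.cTI.dot_col hj hi hl]]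
    simp [hj]
  rw [cfdot_sub_left, cfdot_sub_right, cfdot_sub_right, o1, o3, o4, o5] at o2
  rcases hε with rfl | rfl <;> rcases hε' with rfl | rfl <;> simp at o2

end pair

/-- (13.9)(a). -/
theorem ne_zero_off_F : ∃ τ₁, CohWith S ⊤ (pS S ⊥) (tau0 S) τ₁ ∧
    ∀ lam, IrrIndF S lam → lam ∈ pS S ⊥ → ∀ i ∈ irrK W W₂, i ≠ cfOne W →
      ∀ x, x ∉ classSupp (shp F[S]) ⊤ → τ₁ lam x ≠ 0 ∨ eta W W₁ W₂ i x ≠ 0 := by
  classical
  obtain ⟨τ₁, hc, s, ε, hε, -, hτ⟩ := h.coherence' hS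
  refine ⟨τ₁, hc, fun lam h1 h2 i hi hi1 x hx => ?_⟩
  have hiW := irrK_sub _ _ hi
  by_contra hcon
  obtain ⟨z1, z2⟩ := not_or.mp hcon
  rw [not_not] at z1 z2
  by_cases hV : x ∈ classSupp (cycV W W₁ W₂) ⊤
  · obtain ⟨g, hg, hv⟩ := mem_classSupp.mp hV
    rw [← CF_conj (h.cTI.iso_CF (irr_CF hiW)) hg, h.cTI.iso_restrict (irr_CF hiW) hv] at z2
    exact (h.cTI.lin hiW).apply_ne_zero hv.1 z2
  obtain ⟨j, hj, hj1⟩ := h.cTI.exists_J_ne
  have hjW := irrK_sub _ _ hj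
  obtain ⟨hk, hk1, ek⟩ := hτ j hj hj1
  obtain ⟨h3, e⟩ := h.tau1_sub hS hc (h.S1_of_irr hS h1 h2) (h.S1_mu hS hk hk1)
  have z3 := congrFun e x
  rw [cfInd_mem_cfOn_classSupp _ _ h3.2 x hx, Pi.sub_apply, z1, zero_sub, neg_eq_zero, ek,
    Pi.smul_apply, smul_eq_mul, mul_eq_zero, Finset.sum_apply] at z3
  replace z3 := z3.resolve_left (by rcases hε with rfl | rfl <;> simp)
  have z4 : ∀ l ∈ (irrK W W₂).erase (cfOne W), eta W W₁ W₂ (l * j) x = eta W W₁ W₂ j x - 1 := by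
    intro l hl
    obtain ⟨hl1, hl⟩ := Finset.mem_erase.mp hl
    obtain ⟨u, hu, -⟩ := h.cTI.symm.exists_aut_J (h.primes hS).1 hi hi1 hl hl1
    have z5 : eta W W₁ W₂ l x = 0 := by
      rw [← hu, ← h.cTI.iso_aut u (irr_CF hiW), cfAut_apply, z2, map_zero]
    have h4 := h.cTI.alpha_on hl hj
    have z6 := cfInd_mem_cfOn_classSupp ⊤ W h4.2 x hV
    rw [← h.cTI.iso_Ind h4, map_add, map_sub, map_sub, h.cTI.iso_one] at z6
    simp only [Pi.add_apply, Pi.sub_apply] at z6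
    rw [z5, cfOne_of_mem (Subgroup.mem_top x)] at z6
    linear_combination z6
  rw [← Finset.add_sum_erase _ _ h.cTI.one_I, Finset.sum_congr rfl z4, Finset.sum_const,
    Finset.card_erase_of_mem h.cTI.one_I, h.cTI.card_I, cfOne_mul (irr_cfOn hjW), nsmul_eq_mul,
    Nat.cast_sub (card_pos W₁)] at z3
  have hq := cardC_ne_zero W₁
  have z7 : eta W W₁ W₂ j x = 1 - (Nat.card W₁ : ℂ)⁻¹ := by
    field_simp
    push_cast at z3
    linear_combination z3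
  obtain ⟨n, hn⟩ := int_of_fixed (vchar_isIntegral (h.cTI.iso_vchar (irr_vchar hjW)) x)
    fun u => by rw [z7]; simp
  rw [hn] at z3
  have z8 : (Nat.card W₁ : ℤ) * (1 - n) = 1 := by
    have : ((Nat.card W₁ : ℤ) * (1 - n) : ℤ) = ((1 : ℤ) : ℂ) := by
      push_cast at z3 ⊢; linear_combination -z3
    exact_mod_cast this
  have := Int.natCast_dvd_natCast.mp (⟨_, z8.symm⟩ : (Nat.card W₁ : ℤ) ∣ (1 : ℕ))
  exact (h.primes hS).1.one_lt.ne' (Nat.dvd_one.mp this)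

/-- (13.10), with `u = |U : C|`, `c = |C|`, `p = |W₂|`, `q = |W₁|`. -/
theorem gen_lb_uc {lam : G → ℂ} (h1 : IrrIndF S lam) (h2 : lam ∈ pS S ⊥) {p q u c : ℕ}
    (hp : p = Nat.card W₂) (hq : q = Nat.card W₁) (hu : u = (U ⊓ C[Fc S]).relIndex U)
    (hc : c = Nat.card ↥(U ⊓ C[Fc S])) :
    (1 - 1 / ((q : ℝ) - 1) - ((q : ℝ) - 1) / (q : ℝ) ^ p + 1 / (((q : ℝ) - 1) * (q : ℝ) ^ p)) *
      (p : ℝ) ^ (q - 1) / q < (u : ℝ) / c := by
  obtain ⟨T, V, hST, h'⟩ := h.pair_witness hS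
  have hT := hST.maxT
  obtain ⟨-, hD, hV⟩ := h.T_Galois hS h' hT h1 h2
  obtain ⟨τ₁, hc₁, hne⟩ := h.ne_zero_off_F hS
  obtain ⟨i, hi, hi1⟩ := h.cTI.exists_I_ne
  have hiW := irrK_sub _ _ hi
  have da := hc₁.dirr h2 h1.1
  have db := h.cTI.iso_dirr hiW
  have cov := cover_sum (h.ntiF hS) (h'.ntiF hT) (h.disjoint_F hS h' hT)
  have ea := cov (fun x => ‖τ₁ lam x‖ ^ 2) fun g x => by
    simp only [CF_conj da.CF (Subgroup.mem_top g)]
  have eb := cov (fun x => ‖eta W W₁ W₂ i x‖ ^ 2) fun g x => by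
    simp only [CF_conj db.CF (Subgroup.mem_top g)]
  have e1 := cov (fun _ => 1) fun _ _ => rfl
  rw [dirr_sum da] at ea
  rw [dirr_sum db] at eb
  rw [sum_fs_const, nsmul_eq_mul, mul_one, sum_shp_one, sum_shp_one] at e1
  have l0 := card_le_sum_of_gen da.vchar db.vchar
    (A := ({1} ∪ (classSupp (shp F[S]) ⊤ ∪ classSupp (shp F[T]) ⊤))ᶜ)
    (fun x hx y e hy => hx (by
      rcases hy with hy | hy | hy
      · left
        have := Subgroup.mem_zpowers x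
        rwa [← e, show y = 1 from hy, Subgroup.zpowers_one_eq_bot, Subgroup.mem_bot] at this
      · exact Or.inr (Or.inl (classSupp_shp_gen hy e))
      · exact Or.inr (Or.inr (classSupp_shp_gen hy e))))
    (fun x hx => hne lam h1 h2 i hi hi1 x fun hy => hx (Or.inr (Or.inl hy)))
  have l1 := dirr_one_le da
  have l2 := dirr_one_le db
  have l3 := h.sum_Ind_Fitting_lb hS hc₁ h1 h2
  have l4 := h.sum_cycTIiso10_lb hS hi hi1
  have l5 := h'.sum_cycTIiso01_lb hT hi hi1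
  have l6 : (0 : ℝ) ≤ ∑ x ∈ fs (shp F[T]), ‖τ₁ lam x‖ ^ 2 := by positivity
  rw [show eta W W₂ W₁ = eta W W₁ W₂ from cycIso_symm _ _ _ _, hD, Subgroup.relIndex_bot_left,
    h'.sdHU.card, (h'.facts_b hT).2, ← hp, ← hq] at l5
  rw [deg_eq_of (h.Ind_Fitting_1 hS h1.2), ← hu, ← hq] at l3
  have cF : Nat.card F[T] = q ^ p := by
    rw [h'.dpF.card, hD, Subgroup.card_bot, mul_one, (h'.facts_b hT).2, hp, hq]
  have hq2 : 2 < q := hq ▸ h.cTI.two_lt1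
  have hp2 : 2 < p := hp ▸ h.cTI.two_lt2
  have cS : Nat.card S = p ^ (q - 1) * p * (c * u) * q := by
    rw [h.sdM.card, h.sdHU.card, (h.facts_b hS).2, ← pow_succ, Nat.sub_add_cancel (by omega), hc, hu,
      card_mul_relIndex inf_le_left, hp, hq]
  have cT : Nat.card T = q ^ p * Nat.card V * p := by
    rw [h'.sdM.card, h'.sdHU.card, (h'.facts_b hT).2, hp, hq]
  have cV : (Nat.card V : ℝ) * (q - 1) = (q : ℝ) ^ p - 1 := by
    have : Nat.card V * (q - 1) = q ^ p - 1 := by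
      rw [hV, ← hp, ← hq]
      exact Nat.div_mul_cancel (by simpa using Nat.sub_dvd_pow_sub_pow q 1 p)
    have h3 : 1 ≤ q ^ p := Nat.one_le_pow _ _ (by omega)
    have h4 : ((Nat.card V * (q - 1) : ℕ) : ℝ) = ((q ^ p - 1 : ℕ) : ℝ) := by rw [this]
    rwa [Nat.cast_mul, Nat.cast_sub (by omega), Nat.cast_sub h3, Nat.cast_pow, Nat.cast_one] at h4
  have gS : (Nat.card (⊤ : Subgroup G) : ℝ) = Nat.card S * S.relIndex ⊤ := by
    exact_mod_cast (card_mul_relIndex le_top).symm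
  have gT : (Nat.card (⊤ : Subgroup G) : ℝ) = Nat.card T * T.relIndex ⊤ := by
    exact_mod_cast (card_mul_relIndex le_top).symm
  have pS' : (0 : ℝ) < S.relIndex ⊤ := by exact_mod_cast relIndex_pos _ _
  have pT' : (0 : ℝ) < T.relIndex ⊤ := by exact_mod_cast relIndex_pos _ _
  have pV := cardR_pos V
  have pc : (0 : ℝ) < c := hc ▸ cardR_pos _
  have pu : (0 : ℝ) < u := by rw [hu]; exact_mod_cast relIndex_pos _ _
  have m3 := mul_le_mul_of_nonneg_left l3 pS'.le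
  have m4 := mul_le_mul_of_nonneg_left l4 pS'.le
  have m5 := mul_le_mul_of_nonneg_left l5 pT'.le
  have m6 := mul_nonneg pT'.le l6
  have e1' : (Nat.card (⊤ : Subgroup G) : ℝ) = _ := e1
  rw [cF] at e1'
  have key : (T.relIndex ⊤ : ℝ) * ((q : ℝ) ^ p * Nat.card V - (Nat.card V : ℝ) ^ 2 - q ^ p + 1) <
      S.relIndex ⊤ * ((u : ℝ) * q) ^ 2 := by
    push_cast at m3 m5 e1'
    nlinarith
  have e2 : (T.relIndex ⊤ : ℝ) * ((q : ℝ) ^ p * Nat.card V) =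
      S.relIndex ⊤ * ((p : ℝ) ^ (q - 1) * c * u * q) := by
    have hp0 : (p : ℝ) ≠ 0 := by positivity
    refine mul_right_cancel₀ hp0 ?_
    rw [cS] at gS; rw [cT] at gT; push_cast at gS gT
    linear_combination gS - gT
  have q1 : (0 : ℝ) < (q : ℝ) - 1 := by
    have : (2 : ℝ) < q := by exact_mod_cast hq2
    linarith
  have q0 : (0 : ℝ) < q := by linarith
  have Q0 : (0 : ℝ) < (q : ℝ) ^ p := by positivity
  generalize (q : ℝ) ^ p = Q at *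
  generalize (p : ℝ) ^ (q - 1) = R at *
  generalize (Nat.card V : ℝ) = v at *
  have em : (1 - 1 / ((q : ℝ) - 1) - ((q : ℝ) - 1) / Q + 1 / (((q : ℝ) - 1) * Q)) * (Q * v) =
      Q * v - v ^ 2 - Q + 1 := by
    field_simp
    linear_combination (v - (q - 1)) * cV
  generalize 1 - 1 / ((q : ℝ) - 1) - ((q : ℝ) - 1) / Q + 1 / (((q : ℝ) - 1) * Q) = m at *
  rw [← em, mul_left_comm, e2] at key
  rw [div_lt_div_iff₀ q0 pc]
  have : (S.relIndex ⊤ : ℝ) * (u * q) * (m * R * c) < S.relIndex ⊤ * (u * q) * (u * q) := by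
    linarith
  exact lt_of_mul_lt_mul_left this (by positivity)

end TypeP

end H27
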