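import Mathlib
import Cfsg.Agent.H27.PF13b

/-!
# Peterfalvi §13, third part: (13.11)–(13.15)
-/

set_option autoImplicit false
set_option linter.unusedSectionVars false
set_option linter.unusedVariables false

namespace H27

open Cfsg H24 H25
open scoped ComplexConjugate

universe u v

namespace PF13

/-- the constant `m` of (13.10). -/
noncomputable def mm (p q : ℕ) : ℝ :=
  1 - 1 / ((q : ℝ) - 1) - ((q : ℝ) - 1) / (q : ℝ) ^ p + 1 / (((q : ℝ) - 1) * (q : ℝ) ^ p)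

theorem mm_ge {p q k : ℕ} (hp : 3 ≤ p) (hk : 2 ≤ k) (hq : k ≤ q) :
    1 - 1 / ((k : ℝ) - 1) - 1 / (k : ℝ) ^ 2 ≤ mm p q := by
  have k2 : (2 : ℝ) ≤ k := by exact_mod_cast hk
  have kq : (k : ℝ) ≤ q := by exact_mod_cast hq
  have h1 : 1 / ((q : ℝ) - 1) ≤ 1 / ((k : ℝ) - 1) :=
    one_div_le_one_div_of_le (by linarith) (by linarith)
  have h2 : ((q : ℝ) - 1) / (q : ℝ) ^ p ≤ 1 / (k : ℝ) ^ 2 := by
    have q0 : (0 : ℝ) < q := by linarith
    rw [div_le_div_iff₀ (by positivity) (by positivity)]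
    have h3 : (q : ℝ) ^ 3 ≤ (q : ℝ) ^ p := pow_le_pow_right₀ (by linarith) hp
    have h4 : (k : ℝ) ^ 2 ≤ (q : ℝ) ^ 2 := pow_le_pow_left₀ (by linarith) kq 2
    nlinarith
  have h3 : 0 ≤ 1 / (((q : ℝ) - 1) * (q : ℝ) ^ p) := by
    have : (0 : ℝ) < (q : ℝ) - 1 := by linarith
    positivity
  unfold mm; linarith

theorem mm_five {p q : ℕ} (hp : 3 ≤ p) (hq : 5 ≤ q) : 7 / 10 < mm p q :=
  lt_of_lt_of_le (by norm_num) (mm_ge hp (k := 5) (by norm_num) hq)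

theorem mm_seven {p q : ℕ} (hp : 3 ≤ p) (hq : 7 ≤ q) : 8 / 10 < mm p q :=
  lt_of_lt_of_le (by norm_num) (mm_ge hp (k := 7) (by norm_num) hq)

theorem mm_three {p : ℕ} (hp : 5 ≤ p) :
    49 / 100 < mm p 3 ∧ ((p : ℝ) ^ 2 - 1) / 6 ≤ mm p 3 * (p : ℝ) ^ 2 / 3 := by
  have h1 : 3 * p ^ 2 ≤ 3 ^ p := by
    induction p, hp using Nat.le_induction with
    | base => norm_num
    | succ n hn ih => rw [pow_succ 3 n]; nlinarith
  have h2 : (3 : ℝ) * (p : ℝ) ^ 2 ≤ 3 ^ p := by exact_mod_cast h1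
  have h3 : (3 : ℝ) ^ 5 ≤ 3 ^ p := pow_le_pow_right₀ (by norm_num) hp
  have e : mm p 3 = 1 / 2 - 3 / 2 * ((3 : ℝ) ^ p)⁻¹ := by
    unfold mm; push_cast; field_simp; ring
  have h4 : ((3 : ℝ) ^ p)⁻¹ ≤ 1 / 243 := by
    rw [inv_eq_one_div]; exact one_div_le_one_div_of_le (by norm_num) (by linarith)
  have h5 : ((3 : ℝ) ^ p)⁻¹ * (3 * (p : ℝ) ^ 2) ≤ 1 := by
    rw [inv_mul_le_iff₀ (by positivity)]; linarith
  rw [e]
  constructor
  · linarith
  · nlinarith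

/-- from `m p^{q-1} / q < u / c` and `u x ≤ (p^q - 1)/(p - 1)`. -/
theorem mm_bound {p q u c x : ℕ} (hp : 2 ≤ p) (hq : 1 ≤ q) (hc : 0 < c) (hx : 0 < x)
    (h : mm p q * (p : ℝ) ^ (q - 1) / q < (u : ℝ) / c) (hu : u * x ≤ (p ^ q - 1) / (p - 1)) :
    mm p q * (c * x : ℕ) * ((p : ℝ) - 1) < q * p := by
  rw [Nat.le_div_iff_mul_le (by omega)] at hu
  have h1 : u * x * (p - 1) ≤ p ^ (q - 1) * p := by
    rw [← pow_succ, Nat.sub_add_cancel hq]; omega
  have h2 : (u : ℝ) * x * (p - 1) ≤ (p : ℝ) ^ (q - 1) * p := by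
    have : ((u * x * (p - 1) : ℕ) : ℝ) ≤ ((p ^ (q - 1) * p : ℕ) : ℝ) := by exact_mod_cast h1
    rwa [Nat.cast_mul, Nat.cast_mul, Nat.cast_sub (by omega), Nat.cast_mul, Nat.cast_pow,
      Nat.cast_one] at this
  have q0 : (0 : ℝ) < q := by exact_mod_cast hq
  have c0 : (0 : ℝ) < c := by exact_mod_cast hc
  have x0 : (0 : ℝ) < x := by exact_mod_cast hx
  have p1 : (0 : ℝ) < (p : ℝ) - 1 := by
    have : (2 : ℝ) ≤ p := by exact_mod_cast hp
    linarith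
  have R0 : (0 : ℝ) < (p : ℝ) ^ (q - 1) := by
    have : (0 : ℝ) < p := by linarith
    positivity
  rw [div_lt_div_iff₀ q0 c0] at h
  have h3 := mul_lt_mul_of_pos_right h (mul_pos x0 p1)
  refine lt_of_mul_lt_mul_left (a := (p : ℝ) ^ (q - 1)) ?_ R0.le
  push_cast
  nlinarith

theorem mm_large {p q y : ℕ} (hp : 3 ≤ p) (hq : 5 ≤ q) (oq : Odd q) (hy : 2 * q + 1 ≤ y)
    (h : mm p q * y * ((p : ℝ) - 1) < q * p) : False := by
  have y0 : (2 * q + 1 : ℝ) ≤ y := by exact_mod_cast hy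
  have p3 : (3 : ℝ) ≤ p := by exact_mod_cast hp
  have q5 : (5 : ℝ) ≤ q := by exact_mod_cast hq
  have key : ∀ r : ℝ, 0 < r → r < mm p q → r * (2 * q + 1) * ((p : ℝ) - 1) < q * p := by
    intro r r0 hr
    refine lt_of_le_of_lt (mul_le_mul_of_nonneg_right ?_ (by linarith)) h
    exact mul_le_mul hr.le y0 (by linarith) (by linarith)
  have h1 := key _ (by norm_num) (mm_five hp hq)
  by_cases h4 : 4 ≤ p
  · have p4 : (4 : ℝ) ≤ p := by exact_mod_cast h4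
    nlinarith
  obtain rfl : p = 3 := by omega
  by_cases h7 : 7 ≤ q
  · have h2 := key _ (by norm_num) (mm_seven hp h7)
    push_cast at h2; linarith
  · obtain rfl : q = 5 := by obtain ⟨k, rfl⟩ := oq; omega
    norm_num at h1

end PF13

open PF13

variable {G : Type u} [Group G] [Finite G] [FT G] {S U W W₁ W₂ : Subgroup G}

namespace TypeP
variable (h : TypeP S U W W₁ W₂) (hS : IsCoatom S)
include h hS

theorem lb_uc (hn : ¬ (TypePGalois S U ∧ U ⊓ C[Fc S] = ⊥ ∧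
      Nat.card U = (Nat.card W₂ ^ Nat.card W₁ - 1) / (Nat.card W₂ - 1))) :
    mm (Nat.card W₂) (Nat.card W₁) * (Nat.card W₂ : ℝ) ^ (Nat.card W₁ - 1) / Nat.card W₁ <
      ((U ⊓ C[Fc S]).relIndex U : ℝ) / Nat.card ↥(U ⊓ C[Fc S]) := by
  by_contra hc
  exact hn (h.no_Ind_Fitting_facts hS fun φ h2 h1 => hc (h.gen_lb_uc hS h1 h2 rfl rfl rfl rfl))

theorem q_three_or : (Nat.card W₁ = 3 ∧ 5 ≤ Nat.card W₂) ∨ 5 ≤ Nat.card W₁ := by
  have h1 := h.cTI.two_lt1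
  have h2 := h.cTI.two_lt2
  obtain ⟨a, ha⟩ := h.cTI.odd1
  obtain ⟨b, hb⟩ := h.cTI.odd2
  have h3 : Nat.card W₁ ≠ Nat.card W₂ := fun e => by
    have := h.cTI.cop
    rw [e, Nat.coprime_self] at this; omega
  omega

theorem nonGal_dvd' (hg : ¬ TypePGalois S U) :
    (U ⊓ C[Fc S]).relIndex U ∣ ((Nat.card W₂ - 1) / 2) ^ (Nat.card W₁ - 1) ∧
      ∃ a, 1 < a ∧ Odd a ∧ a ∣ Nat.card W₂ - 1 := by
  obtain ⟨H₁, a, h1⟩ := h.Galois_Pn hS (FTtype5_exclusion hS) hg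
  have oa : Odd a := h1.defa ▸ mFT_odd_relIndex _ _
  have h2 := h1.dvd
  rw [h.pP_eq hS] at h2
  refine ⟨(h.nonGal_dvd hS h1).trans (pow_dvd_pow_of_dvd ?_ _), a, h1.one_lt, oa, h2⟩
  obtain ⟨b, hb⟩ := h.cTI.odd2
  rw [hb, Nat.add_sub_cancel] at h2 ⊢
  rw [Nat.mul_div_cancel_left _ two_pos]
  exact (Nat.coprime_two_right.mpr oa).dvd_of_dvd_mul_left h2

/-- (13.12). -/
theorem reg_Fcore : U ⊓ C[Fc S] = ⊥ := by
  by_contra hne
  have h5 := FTtype5_exclusion hS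
  have hl := h.lb_uc hS fun e => hne e.2.1
  have hF : Frob ((U ⊓ C[Fc S]) ⊔ W₁) (U ⊓ C[Fc S]) W₁ := (h.facts_a hS).2.2.1.subl inf_le_left hne
    (norm_inf h.normU (norm_C (h.le1.trans (Fc_nml S).norm)))
  have hc1 := H1.ltn_odd_Frobenius_ker hF (mFT_odd _)
  have hc2 := hF.dvd_pred
  have hc3 := mFT_odd (U ⊓ C[Fc S])
  have hp := (h.primes hS).2
  have hb := mm_bound hp.two_le (card_pos W₁) (card_pos _) one_pos hl
    (by rw [mul_one]; exact h.facts_c hS)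
  rw [mul_one] at hb
  rcases h.q_three_or hS with ⟨hq, hp5⟩ | hq
  swap
  · exact mm_large h.cTI.two_lt2 hq h.cTI.odd1 hc1 hb
  rw [hq] at hb hl hc1 hc2
  obtain ⟨m1, m2⟩ := mm_three hp5
  have p5 : (5 : ℝ) ≤ Nat.card W₂ := by exact_mod_cast hp5
  have hc : Nat.card ↥(U ⊓ C[Fc S]) = 7 := by
    by_contra h7
    have h13 : 13 ≤ Nat.card ↥(U ⊓ C[Fc S]) := by obtain ⟨k, hk⟩ := hc3; omega
    have h14 : (13 : ℝ) ≤ Nat.card ↥(U ⊓ C[Fc S]) := by exact_mod_cast h13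
    have : 49 / 100 * 13 * ((Nat.card W₂ : ℝ) - 1) ≤
        mm (Nat.card W₂) 3 * Nat.card ↥(U ⊓ C[Fc S]) * ((Nat.card W₂ : ℝ) - 1) :=
      mul_le_mul_of_nonneg_right (mul_le_mul m1.le h14 (by norm_num) (by linarith)) (by linarith)
    push_cast at hb; linarith
  rw [hc] at hb hl
  have hp8 : Nat.card W₂ < 8 := by
    have : 49 / 100 * 7 * ((Nat.card W₂ : ℝ) - 1) ≤
        mm (Nat.card W₂) 3 * 7 * ((Nat.card W₂ : ℝ) - 1) :=
      mul_le_mul_of_nonneg_right (mul_le_mul_of_nonneg_right m1.le (by norm_num)) (by linarith)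
    have h8 : (Nat.card W₂ : ℝ) < (8 : ℕ) := by push_cast at hb ⊢; linarith
    exact_mod_cast h8
  have hp7 : Nat.card W₂ ≠ 7 := fun e => by
    have h1 := (h.Fcore_coprime).coprime_dvd_right
      (card_dvd (inf_le_left.trans le_sup_left : U ⊓ C[Fc S] ≤ U ⊔ W₁))
    rw [hc, (h.facts_b hS).2, e, hq] at h1
    norm_num at h1
  have hp5' : Nat.card W₂ = 5 := by obtain ⟨k, hk⟩ := h.cTI.odd2; omega
  by_cases hg : TypePGalois S U
  swap
  · obtain ⟨a, a1, ⟨k, hk⟩, a2⟩ := (h.nonGal_dvd' hS hg).2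
    rw [hp5'] at a2
    have := Nat.le_of_dvd (by norm_num) a2
    obtain rfl : a = 3 := by omega
    norm_num at a2
  have hu := (h.Galois_P hS h5 hg).2.2.2
  rw [h.pU_eq hS, h.pP_eq hS, hp5', hq] at hu
  rw [hp5'] at hl m2
  have hu' : (U ⊓ C[Fc S]).relIndex U = 31 := by
    refine ((Nat.dvd_prime (by norm_num)).mp hu).resolve_left fun e => ?_
    rw [e] at hl
    norm_num at hl m2
    linarith
  have hH : IsHall S F[S] := ⟨h.F_le_S hS, by
    rw [h.relIndex_F hS, hu', hq, h.dpF.card, hc, (h.facts_b hS).2, hp5', hq]; norm_num⟩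
  have := Fc_max (Fitting_nml S) (Fitting_nil S) hH
  exact hne (eq_bot_of_le h.sdHU.inf (le_inf (h.dpF.right_le.trans this) inf_le_left))

theorem pC_eq_bot : pC S U = ⊥ := by rw [h.pC_eq hS, h.reg_Fcore hS]

theorem lb_u (hn : ¬ (TypePGalois S U ∧
      Nat.card U = (Nat.card W₂ ^ Nat.card W₁ - 1) / (Nat.card W₂ - 1))) :
    mm (Nat.card W₂) (Nat.card W₁) * (Nat.card W₂ : ℝ) ^ (Nat.card W₁ - 1) / Nat.card W₁ <
      (Nat.card U : ℝ) / (1 : ℕ) := by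
  have := h.lb_uc hS fun e => hn ⟨e.1, e.2.2⟩
  rwa [h.reg_Fcore hS, Subgroup.relIndex_bot_left, Subgroup.card_bot] at this

/-- (13.13). -/
theorem nonGalois_facts (hg : ¬ TypePGalois S U) :
    Nat.card W₁ = 3 ∧ Nat.card U = ((Nat.card W₂ - 1) / 2) ^ 2 := by
  have hl := h.lb_u hS fun e => hg e.1
  have hd := (h.nonGal_dvd' hS hg).1
  rw [h.reg_Fcore hS, Subgroup.relIndex_bot_left] at hd
  obtain ⟨r, hr⟩ := h.cTI.odd2
  have hp3 := h.cTI.two_lt2
  have er : (Nat.card W₂ - 1) / 2 = r := by omega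
  have r0 : 0 < r := by omega
  rw [er] at hd ⊢
  rw [Nat.cast_one, div_one] at hl
  rcases h.q_three_or hS with ⟨hq, hp5⟩ | hq
  · refine ⟨hq, ?_⟩
    rw [hq] at hl hd
    obtain ⟨k, hk⟩ := hd
    have m2 := (mm_three hp5).2
    have h1 : ((Nat.card W₂ : ℝ) ^ 2 - 1) / 6 < Nat.card U := by
      norm_num at hl; linarith
    have h2 : Nat.card W₂ ^ 2 < 6 * Nat.card U + 1 := by
      have : (Nat.card W₂ : ℝ) ^ 2 < 6 * Nat.card U + 1 := by linarith
      exact_mod_cast this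
    rw [hr] at h2
    norm_num at hk
    rcases k with _ | _ | k
    · simp at hk; omega
    · simpa using hk.symm
    · nlinarith
  · exfalso
    have m1 := mm_five hp3 hq
    have h1 := Nat.le_of_dvd (pow_pos r0 _) hd
    have h2 : 2 * Nat.card W₁ ≤ 2 ^ (Nat.card W₁ - 1) := by
      generalize Nat.card W₁ = q at hq
      induction q, hq using Nat.le_induction with
      | base => norm_num
      | succ n hn ih =>
        obtain ⟨k, rfl⟩ : ∃ k, n = k + 1 := ⟨n - 1, by omega⟩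
        rw [Nat.add_sub_cancel] at ih ⊢
        rw [pow_succ]; omega
    have h3 : 2 * Nat.card W₁ * Nat.card U ≤ Nat.card W₂ ^ (Nat.card W₁ - 1) :=
      (Nat.mul_le_mul h2 h1).trans (by rw [← mul_pow]; exact Nat.pow_le_pow_left (by omega) _)
    have h4 : (2 * Nat.card W₁ * Nat.card U : ℝ) ≤ (Nat.card W₂ : ℝ) ^ (Nat.card W₁ - 1) := by
      exact_mod_cast h3
    rw [div_lt_iff₀ (cardR_pos W₁)] at hl
    have := cardR_pos W₁
    have := cardR_pos U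
    nlinarith [mul_pos (cardR_pos W₁) (cardR_pos U)]

/-- (13.15). -/
theorem card_Galois_compl (hg : TypePGalois S U) :
    Nat.card U = if Nat.card W₂ % Nat.card W₁ = 1
      then (Nat.card W₂ ^ Nat.card W₁ - 1) / (Nat.card W₂ - 1) / Nat.card W₁
      else (Nat.card W₂ ^ Nat.card W₁ - 1) / (Nat.card W₂ - 1) := by
  have h5 := FTtype5_exclusion hS
  obtain ⟨hq, hp⟩ := h.primes hS
  have hq2 := h.cTI.two_lt1
  have hp2 := h.cTI.two_lt2
  have hu := (h.Galois_P hS h5 hg).2.2.2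
  rw [h.pU_eq hS, h.pP_eq hS, h.reg_Fcore hS, Subgroup.relIndex_bot_left] at hu
  obtain ⟨x, hx⟩ := hu
  obtain ⟨o1, o2, o3⟩ := primes_mod_cases hp hq hp2.ne' hq2.ne'
  have ox : Odd x := (Nat.odd_mul.mp (hx ▸ o1)).2
  have big : 2 * Nat.card W₁ + 1 ≤ x → False := by
    intro hy
    have hl := h.lb_u hS fun e => by
      have h1 := e.2
      rw [hx] at h1
      have := Nat.eq_of_mul_eq_mul_left (card_pos U) ((mul_one _).trans h1)
      omega
    have hb := mm_bound hp.two_le hq.pos one_pos (by omega) hl hx.ge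
    rw [one_mul] at hb
    rcases h.q_three_or hS with ⟨h3, hp5⟩ | h3
    swap
    · exact mm_large hp2 h3 h.cTI.odd1 hy hb
    rw [h3] at hl hx hy
    have m2 := (mm_three hp5).2
    have h1 : ((Nat.card W₂ : ℝ) ^ 2 - 1) / 6 < Nat.card U := by
      norm_num at hl; linarith
    have h2 : Nat.card W₂ ^ 2 < 6 * Nat.card U + 1 := by
      have : (Nat.card W₂ : ℝ) ^ 2 < 6 * Nat.card U + 1 := by linarith
      exact_mod_cast this
    have h4 := Nat.geomSum_eq hp.two_le 3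
    rw [hx] at h4
    simp only [Finset.sum_range_succ, Finset.sum_range_zero] at h4
    have h6 : Nat.card U * 7 ≤ Nat.card U * x := Nat.mul_le_mul_left _ hy
    have h7 : Nat.card W₂ < 8 := by nlinarith
    obtain ⟨k, hk⟩ := h.cTI.odd2
    generalize Nat.card U = u at *
    have h8 : Nat.card W₂ = 5 ∨ Nat.card W₂ = 7 := by omega
    rcases h8 with e | e <;> rw [e] at h2 h4 <;> norm_num at h2 h4 <;> omega
  split_ifs with h1
  · have h2 := o2 h1
    rw [hx] at h2 ⊢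
    obtain ⟨k, rfl⟩ := (h.facts_a hS).2.2.1.coprime.symm.dvd_of_dvd_mul_left h2
    obtain ⟨l, rfl⟩ := (Nat.odd_mul.mp ox).2
    rcases l with _ | l
    · simp [Nat.mul_div_cancel _ hq.pos]
    · exact (big (by nlinarith)).elim
  · have h2 := (o3 h1).2 x (hx ▸ dvd_mul_left _ _)
    rw [hx]
    by_cases hx1 : x = 1
    · rw [hx1, mul_one]
    refine (big ?_).elim
    have h3 := Nat.div_add_mod x (Nat.card W₁)
    rw [h2] at h3
    obtain ⟨k, hk⟩ := h.cTI.odd1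
    obtain ⟨l, hl⟩ := ox
    generalize x / Nat.card W₁ = d at h3
    rcases d with _ | _ | d
    · omega
    · omega
    · nlinarith

end TypeP

end H27
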