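import Mathlib
import Cfsg.Agent.H27.PF13m
import Cfsg.Agent.H1.BG33

/-!
# Peterfalvi §13, last part: (13.16)–(13.19).
`P = Fc S`, `PU = ⁅S, S⁆`, `p = |W₂|`, `q = |W₁|`.
-/

set_option autoImplicit false
set_option linter.unusedSectionVars false
set_option linter.unusedVariables false

namespace H27

open Cfsg H24 H25
open scoped ComplexConjugate

universe u v

variable {G : Type u} [Group G] [Finite G] [FT G] {S U W W₁ W₂ : Subgroup G}

namespace TypeP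
variable (h : TypeP S U W W₁ W₂) (hS : IsCoatom S)
include h hS

/-- (13.16), with the roles of `S` and `T` transposed. -/
theorem norm_cent_compl : SD (Fc S) W₁ N[W₂] ∧ SD (Fc S) W₁ C[W₂] := by
  have hab : Abl (Fc S) := (h.facts_b hS).1.1
  have hF := (h.facts_a hS).2.2.1
  have hPW : W₁ ≤ N[Fc S] := h.le1.trans (Fc_nml S).norm
  have hUP : U ≤ N[Fc S] := h.sdHU.norm
  have hC1 : W₁ ≤ C[W₂] := cents_symm h.dp.cent
  have hC : Fc S ⊔ W₁ ≤ C[W₂] := sup_le (hab.cents le_rfl h.le2) hC1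
  have hNS : N[W₂] ≤ S := by
    rw [← normalizer_diff_one]
    obtain ⟨x, hx, hx1⟩ := exists_ne_one h.ne2
    exact (h.facts_e hS).1.normalizer_le
      (fun y hy => Fc_sub_typeA0 hS ⟨h.le2 hy.1, hy.2⟩) ⟨x, hx, hx1⟩
  have hK : U ⊓ N[W₂] = ⊥ := by
    set K := U ⊓ N[W₂] with hKd
    have hWK : W₁ ≤ N[K] := norm_inf h.normU (norm_N (norm_of_cent hC1))
    have hKP : K ≤ N[Fc S] := inf_le_left.trans hUP
    have hreg : Semireg K W₁ := h.regU.mono inf_le_left le_rfl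
    obtain ⟨x, hx, hx1⟩ := exists_ne_one h.ne1
    have e1 : ⁅K, W₁⁆ = K := comm_eq_of_fpf hx hWK (hreg x hx hx1)
    have e2 : K ≤ C[W₂] := by
      rw [← comm_eq_bot, ← e1]
      refine three_subgroup ?_ ?_
      · rw [comm_eq_bot.2 hC1, Subgroup.commutator_bot_left]
      · exact eq_bot_of_le (comm_eq_bot'.2 hC1) (comm_mono_left (comm_le_left inf_le_right))
    have hcop : (♯(Fc S)).Coprime ♯K :=
      h.Fcore_coprime.coprime_dvd_right (card_dvd (inf_le_left.trans le_sup_left))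
    have hTI := H26.coprime_abel_cent_TI hKP hcop hab
    have hQ : ⁅Fc S, K⁆ ≤ Fc S := comm_le_left hKP
    have e3 := H1.cent_of_regular_abelian hWK hreg (hab.of_le hQ) (norm_comm_right _ _)
      (norm_comm hPW hWK) (hcop.coprime_dvd_left (card_dvd hQ)) (eq_bot_of_le hTI
        (le_inf inf_le_left (((inf_le_inf_right _ hQ).trans h.cent_core_compl.le).trans
          (cents_symm e2))))
    rw [inf_eq_left.2 (cents_symm e3), comm_eq_bot'] at hTI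
    exact eq_bot_of_le (h.reg_Fcore hS) (le_inf inf_le_left hTI)
  have hN : N[W₂] ≤ Fc S ⊔ W₁ := by
    rw [← (h.Fcore_sdprod.modl (le_sup_left.trans (hC.trans (C_le_N _))) hNS).sup,
      ← group_modr h.normU (norm_of_cent hC1), hK, bot_sup_eq]
  have hi : Fc S ⊓ W₁ = ⊥ := eq_bot_of_le h.sdM.inf (inf_le_inf_right _ h.Fc_le)
  exact ⟨⟨hPW, hi, le_antisymm (hC.trans (C_le_N _)) hN⟩,
    ⟨hPW, hi, le_antisymm hC ((C_le_N _).trans hN)⟩⟩

/-- (13.17). -/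
theorem typeII_support_facts (h2 : IsOfTypeII S) {T L : Subgroup G} (hT : TypePPair S T W W₁ W₂)
    (hL : IsCoatom L) (hU : N[U] ≤ L) :
    FrobK L (Fc L) ∧ U ≤ Fc L ∧
      (SD (Fc L) W₁ L ∨ ∃ y ∈ Fc T, SD (Fc L) (W₁ ⊔ H24.cj y W₂) L) := by
  obtain ⟨V, h'⟩ := typeP_pairW hT.symm
  obtain ⟨habQ, hQ⟩ := h'.facts_b hT.maxT
  obtain ⟨hq, hp⟩ := h.primes hS
  have hF := (h.facts_a hS).2.2.1
  have hUa := (h.facts_a hS).2.2.2
  have hUL : U ≤ L := (norm_self U).trans hU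
  have hWL : W₁ ≤ L := h.normU.trans hU
  have hnH := Fc_nml L
  have hL1 : IsOfTypeI L := by
    by_contra hL1
    obtain ⟨g, rfl | rfl⟩ := hT.cover L hL hL1
    · refine (h.of_II hS h2).2.2.1 ?_
      have hall : Hall (primesOf U) S U := by
        refine IsHall.hall (IsHall.trans (h.Fcore_sdprod.isHall_right h.Fcore_coprime) ?_)
        exact hF.isHall_ker
      obtain ⟨x, hx, e⟩ := H26.Hall_trans h.sol hall (hall.of_card (le_cj_iff.1 hUL) (card_cj _ _))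
      have := le_cj_iff.1 hU
      rw [cj_N, e, ← cj_N, cj_le_iff, cj_of_mem (S.inv_mem hx)] at this
      exact this
    · have hc : ♯(Fc (H24.cj g T)) = ♯W₁ ^ ♯W₂ := by rw [Fc_cj, card_cj, hQ]
      have hWH : W₁ ≤ Fc (H24.cj g T) := (Fc_isHall _).hall.le_of_nml hnH.norm
        ((isPi_of_card_prime hq rfl).of_mem ⟨hq, by rw [hc]; exact dvd_pow_self _ hp.ne_zero⟩) hWL
      have hi : U ⊓ Fc (H24.cj g T) = ⊥ :=
        inf_eq_bot_of_cop (by rw [hc]; exact hF.coprime.pow_right _)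
      have : U ≤ C[W₁] := comm_eq_bot.1 (eq_bot_of_le hi (le_inf (comm_le_left h.normU)
        ((comm_mono_right hWH).trans (comm_le_right (hUL.trans hnH.norm)))))
      exact hF.ker_ne ((inf_eq_left.2 this).symm.trans hF.inf_C)
  have hFL := FTtype1_Frobenius hL hL1
  have hcop : (♯(Fc L)).Coprime ♯W₁ :=
    ((FTcore_coprime hT.maxT hL fun g e => hT.notIT ((typeI_cj g).1 (e ▸ hL1))).symm.coprime_dvd_left
      (card_dvd (H27.Fc_le_core hL))).coprime_dvd_right (card_dvd (h'.le2.trans h'.Fc_le_core))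
  have hcent : ∀ X ≤ L, ∀ x ∈ Fc L, x ≠ 1 → X ≤ C{x} → X ≤ Fc L := fun X hX x hx hx1 hc =>
    (le_inf hX hc).trans (hFL.cent_le hx hx1)
  have hUH : U ≤ Fc L := by
    by_cases hi : Fc L ⊓ U = ⊥
    · have hc1 : (♯(Fc L)).Coprime ♯U := by
        refine (Fc_isHall L).coprime.coprime_dvd_right ?_
        have := relIndex_dvd_of_nml hnH hUL
        rwa [← Subgroup.inf_relIndex_right, hi, Subgroup.relIndex_bot_left] at this
      have hc2 : Fc L ⊓ C[W₁] = ⊥ := by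
        by_contra hne
        obtain ⟨x, hx, hx1⟩ := exists_ne_one hne
        refine h.ne1 (eq_bot_of_le (inf_eq_bot_of_cop hcop) (le_inf ?_ le_rfl))
        exact hcent _ hWL x hx.1 hx1 (mem_C_iff_le_C1.1 hx.2)
      have := H1.cent_of_regular_sol h.normU h.regU (Fc_nil L).sol (hUL.trans hnH.norm)
        (hWL.trans hnH.norm) (by rw [hF.sd.card]; exact hc1.mul_right hcop) hc2
      obtain ⟨x, hx, hx1⟩ := exists_ne_one hFL.ne_bot
      exact hcent _ hUL x hx hx1 (this.trans (C_le_C1 hx))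
    · obtain ⟨x, hx, hx1⟩ := exists_ne_one hi
      exact hcent _ hUL x hx.1 hx1 (hUa.le_C.trans (C_le_C1 hx.2))
  refine ⟨hFL, hUH, ?_⟩
  obtain ⟨E₀, hE₀⟩ := hFL
  obtain ⟨g, hg, hWE⟩ := H26.Hall_subJ (mmax_sol hL) (hE₀.sd.hall_compl_right (Fc_isHall L).hall)
    hWL (isPi_compl_of_coprime hcop)
  have hE := hE₀.cj_compl hg
  generalize H24.cj g E₀ = E at hE hWE
  have hn := H1.prime_odd_regular_normal hq (mFT_odd E) hWE hE.ker_ne hE.norm hE.reg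
  have hN := (h'.norm_cent_compl hT.maxT).1
  have hQE : Fc T ⊓ E = W₁ := by
    have hc := H1.regular_abelian_cyclic (H24.Abl.of_le habQ.1 (inf_le_left : Fc T ⊓ E ≤ _)) hE.ker_ne
      (inf_le_right.trans hE.norm) (hE.reg.mono le_rfl inf_le_right)
    obtain ⟨x, hx, e⟩ := hc.exists_gen
    refine (eq_of_card_ge (le_inf h'.le2 hWE) ?_).symm
    rw [← e, card_zpowers']
    exact Nat.le_of_dvd hq.pos (orderOf_dvd_of_pow_eq_one (habQ.2 x hx.1))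
  have hd := relIndex_dvd_of_nml hN.nml hn.norm
  rw [hN.relIndex_left, Nat.dvd_prime hp] at hd
  have hc := card_inf_mul_relIndex (Fc T) E
  rw [hQE] at hc
  rcases hd with hd | hd
  · left
    rw [hd, mul_one] at hc
    rw [eq_of_card_eq hWE hc]
    exact hE.sd
  · right
    rw [hd] at hc
    obtain ⟨X, hX, hXc⟩ := exists_card_prime hp (Dvd.intro_left _ hc)
    obtain ⟨y, hy, e⟩ := H26.SchurZassenhaus_trans_sol (Fc_nil T).sol hN.norm
      (by rw [hN.sup]; exact hX.trans hn.norm) (by rw [hQ]; exact h.cTI.cop.pow_left _) hXc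
    refine ⟨y, hy, ?_⟩
    rw [← e, eq_of_card_eq (sup_le hWE hX) (by
      rw [card_sup_of_inf (hX.trans hn.norm) (inf_eq_bot_of_cop (by rw [hXc]; exact h.cTI.cop)),
        hXc, hc])]
    exact hE.sd

end TypeP

namespace PF13z

/-- two non-zero coefficients along the `η` cost at least `2` in the norm. -/
theorem norm_add_two_le (h : CyclicTI ⊤ W W₁ W₂) {ψ Y ω ω' : G → ℂ} (hψ : ψ ∈ vchar (⊤ : Subgroup G))
    (ho : cfdot ⊤ (ψ - Y) Y = 0) (hY : ∀ ω ∈ Irr W, cfdot ⊤ Y (eta W W₁ W₂ ω) = 0)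
    (hω : ω ∈ Irr W) (hω' : ω' ∈ Irr W) (hne : ω ≠ ω') (h1 : cfdot ⊤ ψ (eta W W₁ W₂ ω) ≠ 0)
    (h2 : cfdot ⊤ ψ (eta W W₁ W₂ ω') ≠ 0) : cfnorm ⊤ Y + 2 ≤ cfnorm ⊤ ψ := by
  classical
  have hs : ∀ i ∈ ({ω, ω'} : Finset (G → ℂ)), i ∈ Irr W := by
    intro i hi
    rcases Finset.mem_insert.1 hi with rfl | hi
    · exact hω
    · rw [Finset.mem_singleton.1 hi]; exact hω'
  have hb := sum_sq_cfdot_le (H := ⊤) (s := {ω, ω'}) (e := eta W W₁ W₂)
    (fun i hi => (h.iso_dirr (hs i hi)).dot_self)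
    (fun i hi j hj hij => by rw [h.iso_dot_irr (hs i hi) (hs j hj), if_neg hij]) (ψ - Y)
  have key : ∀ ω ∈ Irr W, cfdot ⊤ ψ (eta W W₁ W₂ ω) ≠ 0 →
      1 ≤ ‖cfdot ⊤ (ψ - Y) (eta W W₁ W₂ ω)‖ ^ 2 := fun ω hω h1 => by
    obtain ⟨n, hn⟩ := vchar_dot_int hψ (h.iso_vchar (irr_vchar hω))
    rw [cfdot_sub_left, hY ω hω, sub_zero, show cfdot ⊤ ψ (eta W W₁ W₂ ω) = n from hn,
      Complex.norm_intCast, sq_abs]
    have : n ≠ 0 := fun e => h1 (by rw [show cfdot ⊤ ψ (eta W W₁ W₂ ω) = n from hn, e]; simp)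
    exact_mod_cast (one_le_sq_iff_one_le_abs n).2 (Int.one_le_abs this)
  rw [Finset.sum_pair hne] at hb
  have e := cfnorm_add_orth ho
  rw [sub_add_cancel] at e
  linarith [key ω hω h1, key ω' hω' h2]

variable (h : TypeP S U W W₁ W₂) (hS : IsCoatom S)

include h in
theorem PW_le : Fc S ⊔ W₁ ≤ S := sup_le (Fc_nml S).le h.le1

include h in
theorem PW_inf : (Fc S ⊔ W₁) ⊓ ⁅S, S⁆ = Fc S := by
  rw [← group_modl (h.le1.trans (Fc_nml S).norm) h.Fc_le, inf_comm, h.sdM.inf, sup_bot_eq]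

include h in
theorem sdPW : SD (Fc S) W₁ (Fc S ⊔ W₁) :=
  SD.mk_sup (h.le1.trans (Fc_nml S).norm) (eq_bot_of_le h.sdM.inf (inf_le_inf_right _ h.Fc_le))

include h in
theorem idxPW : (Fc S ⊔ W₁).relIndex S = ♯U := by
  have e := card_mul_relIndex (PW_le h)
  rw [(sdPW h).card, h.sdM.card, h.sdHU.card, mul_right_comm (♯(Fc S)) (♯U)] at e
  exact Nat.eq_of_mul_eq_mul_left (Nat.mul_pos (card_pos _) (card_pos _)) e

/-- `γ = Ind_{P W₁}^S 1`. -/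
noncomputable def gam (S W₁ : Subgroup G) : G → ℂ := cfInd S (Fc S ⊔ W₁) (cfOne (Fc S ⊔ W₁))

theorem bridge_eq (j : G → ℂ) : bridgeP S W W₁ W₂ j = gam S W₁ - prMu S W W₁ W₂ j := rfl

include h in
theorem gam_char : IsChar S (gam S W₁) := (isChar_cfOne _).ind (PW_le h)

include h in
theorem gam_ker : Fc S ≤ cfker S (gam S W₁) :=
  le_cfker_ind (Fc_nml S) (PW_le h) (by rw [cfker_cfOne]; exact le_sup_left)

include h in
theorem gam_one : gam S W₁ 1 = ♯U := by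
  rw [gam, cfInd_one (PW_le h), idxPW h, cfOne_apply_one, mul_one]

include h in
theorem gam_PU {x : G} (hx : x ∈ ⁅S, S⁆) (hP : x ∉ Fc S) : gam S W₁ x = 0 := by
  refine cfInd_eq_zero_of _ fun g hg hm => absurd ?_ hP
  rw [← conj_mem_iff ((Fc_nml S).norm hg), ← PW_inf h]
  exact ⟨hm, (der1_nml S).conj_mem hg hx⟩

include h in
theorem gam_W1 {y : G} (hy : y ∈ W₁) (hy1 : y ≠ 1) : gam S W₁ y = 1 := by
  have hyP : y ∈ Fc S ⊔ W₁ := Subgroup.mem_sup_right hy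
  rw [gam, cfInd_of_mem _ _ (h.le1 hy), ← sum_fs_subset (A := (Fc S ⊔ W₁ : Subgroup G)) (PW_le h),
    sum_fs_congr (g := fun _ => 1) fun g hg => by
      have : g * y * g⁻¹ ∈ Fc S ⊔ W₁ := conj_mem (norm_self _ hg) hyP
      rw [cfRes_of_mem _ this, cfOne_of_mem this],
    sum_fs_const]
  · simp
  · intro g hg hn
    refine cfRes_of_not_mem _ fun hm => hn ?_
    obtain ⟨k, hk, w, hw, rfl⟩ := h.sdM.isProd.mul g hg
    obtain ⟨a, ha, u, hu, rfl⟩ := h.sdHU.isProd.mul k hk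
    have ha' : a ∈ Fc S ⊔ W₁ := Subgroup.mem_sup_left ha
    have e : a * u * w * y * (a * u * w)⁻¹ = a * (u * y * u⁻¹) * a⁻¹ := by
      calc a * u * w * y * (a * u * w)⁻¹ = a * (u * (w * y * w⁻¹) * u⁻¹) * a⁻¹ := by group
        _ = _ := by rw [h.cyc1.abl.comm hw hy, mul_inv_cancel_right]
    rw [e, conj_mem_iff_of_mem ha'] at hm
    have h1 : u * (y * u⁻¹ * y⁻¹) ∈ U := U.mul_mem hu (conj_mem (h.normU hy) (U.inv_mem hu))
    have h2 : u * (y * u⁻¹ * y⁻¹) ∈ Fc S := by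
      rw [← PW_inf h]
      refine ⟨?_, h.leU h1⟩
      have := Subgroup.mul_mem _ hm (Subgroup.inv_mem _ hyP)
      simp only [mul_assoc] at this ⊢
      exact this
    have h3 : u * (y * u⁻¹ * y⁻¹) = 1 := by
      rw [← Subgroup.mem_bot, ← h.sdHU.inf]; exact ⟨h2, h1⟩
    have h4 : u = 1 := h.regU.eq_one hy hy1 hu (by
      calc u * y = u * (y * u⁻¹ * y⁻¹) * (y * u) := by group
        _ = y * u := by rw [h3, one_mul])
    rw [h4, mul_one]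
    exact Subgroup.mul_mem _ ha' (Subgroup.mem_sup_right hw)

include h in
theorem gam_dot_one : cfdot S (gam S W₁) (cfOne S) = 1 := by
  rw [gam, cfdot_cfInd_left (PW_le h) _ (cfOne_mem_CF S), ← cfdot_cfRes_right, cfRes_cfOne (PW_le h),
    cfdot_cfOne_cfOne]

include h in
theorem gam_norm : cfdot S (gam S W₁) (gam S W₁) = 1 + ((♯U : ℂ) - 1) / ♯W₁ := by
  have e : cfdot (Fc S ⊔ W₁) (cfOne (Fc S)) (cfOne (Fc S ⊔ W₁)) = (♯W₁ : ℂ)⁻¹ := by
    have := cfdot_of_cfOn (le_sup_left : Fc S ≤ Fc S ⊔ W₁) (irr_cfOn (cfOne_mem_Irr (Fc S)))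
      (cfOne (Fc S ⊔ W₁))
    rw [← cfdot_cfRes_right, cfRes_cfOne le_sup_left, cfdot_cfOne_cfOne, (sdPW h).relIndex_left]
      at this
    exact (inv_eq_of_mul_eq_one_right this.symm).symm
  rw [show cfdot S (gam S W₁) (gam S W₁) = _ from cfdot_cfInd_right (PW_le h) (gam_char h).CF _,
    cfdot_congr (φ' := cfOne (Fc S ⊔ W₁) + ((♯U : ℂ) - 1) • cfOne (Fc S)) ?_ fun _ _ => rfl,
    cfdot_add_left, cfdot_smul_left, e, cfdot_cfOne_cfOne, div_eq_mul_inv]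
  intro x hx
  obtain ⟨a, ha, y, hy, rfl⟩ := (sdPW h).isProd.mul x hx
  rw [cfker_mul_left (gam_ker h ha), Pi.add_apply, Pi.smul_apply, cfOne_of_mem hx]
  by_cases hy1 : y = 1
  · subst hy1
    rw [gam_one h, mul_one, cfOne_of_mem ha]; simp
  · rw [gam_W1 h hy hy1, cfOne_of_not_mem fun hm => hy1 (by
      rw [← Subgroup.mem_bot, ← (sdPW h).inf]
      exact ⟨(Subgroup.mul_mem_cancel_left _ ha).1 hm, hy⟩)]
    simp

variable {j k : G → ℂ}

include h in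
theorem gam_dot_mu (hj : j ∈ irrK W W₁) (h1 : j ≠ cfOne W) :
    cfdot S (gam S W₁) (prMu S W W₁ W₂ j) = 0 := by
  by_contra hne
  have := (gam_ker h).trans ((gam_char h).cfker_le_constt (h.prTI.mu_irr (irrK_sub _ _ hj)) hne)
  exact h.prTI.not_le_cfker_res hj h1 (h.le2.trans (le_cfker_cfRes this h.Fc_le))

include h hS in
theorem mu_one_eq (hj : j ∈ irrK W W₁) (h1 : j ≠ cfOne W) : prMu S W W₁ W₂ j 1 = ♯U := by
  have e := h.TIred1 hS hj h1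
  rw [h.prTI.red_apply_one h.cTI.one_I hj, h.prTI.mu_apply_one h.cTI.one_I hj, h.reg_Fcore hS,
    Subgroup.relIndex_bot_left, Nat.cast_mul, mul_comm] at e
  exact mul_right_cancel₀ (cardC_ne_zero W₁) e

include h in
theorem bridge_vchar (hj : j ∈ irrK W W₁) : bridgeP S W W₁ W₂ j ∈ vchar S :=
  Submodule.sub_mem _ (gam_char h).vchar (irr_vchar (h.prTI.mu_irr (irrK_sub _ _ hj)))

include h hS in
theorem bridge_on (hj : j ∈ irrK W W₁) (h1 : j ≠ cfOne W) :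
    bridgeP S W W₁ W₂ j ∈ CFon S (shp (Fc S) ∪ classSupp (cycV W W₁ W₂) S) := by
  have hCF := vchar_CF (bridge_vchar h hj)
  refine mem_CFon.2 ⟨hCF, mem_cfOn.2 fun x hx => ?_⟩
  rw [Set.mem_union, not_or] at hx
  by_cases hxS : x ∈ S
  swap
  · exact CF_zero hCF hxS
  by_cases hxK : x ∈ ⁅S, S⁆
  · by_cases hxP : x ∈ Fc S
    · have : x = 1 := by_contra fun e => hx.1 ⟨hxP, e⟩
      rw [this, bridge_eq, Pi.sub_apply, gam_one h, mu_one_eq h hS hj h1, sub_self]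
    · have e := mem_cfOn.1 (seqInd_on (Fitting_nml S) (h.TIred_Ind_Fitting hS hj h1)) x (by
        rw [← h.dpF.sup, h.reg_Fcore hS, sup_bot_eq]; exact hxP)
      rw [h.prTI.red_eq_smul hj, Pi.smul_apply, smul_eq_mul,
        mul_eq_zero_iff_left (cardC_ne_zero W₁), prRes, cfRes_of_mem _ hxK] at e
      rw [bridge_eq, Pi.sub_apply, gam_PU h hxK hxP, e, sub_self]
  · obtain ⟨g, hg, hW, hW2⟩ := h.prTI.exists_conj_mem hxS hxK
    have hW1 : g * x * g⁻¹ ∈ W₁ := by_contra fun e => hx.2 (mem_classSupp.2 ⟨g, hg, hW, e, hW2⟩)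
    have e := h.prTI.mu_id h.cTI.one_I hj hW hW2
    rw [PF10.one_mul_irrK hj, h.TIsign hS (irrK_sub _ _ hj),
      cfker_apply ((mem_irrK.1 hj).2 hW1), (h.cTI.lin (irrK_sub _ _ hj)).one] at e
    rw [← CF_conj hCF hg, bridge_eq, Pi.sub_apply,
      gam_W1 h hW1 fun e => hW2 (by rw [e]; exact W₂.one_mem), e]
    simp

include h hS in
theorem bridge_on0 (hj : j ∈ irrK W W₁) (h1 : j ≠ cfOne W) :
    bridgeP S W W₁ W₂ j ∈ CFon S (typeA0 S) := by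
  refine CFon_mono (Set.union_subset (Fc_sub_typeA0 hS) ?_) (bridge_on h hS hj h1)
  rw [h.typeA0_def]
  exact Set.subset_union_right

include h hS in
theorem tau_bridge_vchar (hj : j ∈ irrK W W₁) (h1 : j ≠ cfOne W) :
    tau0 S (bridgeP S W W₁ W₂ j) ∈ vchar (⊤ : Subgroup G) :=
  Dade_vchar (FT_Dade0_hyp hS) (bridge_vchar h hj) (mem_CFon.1 (bridge_on0 h hS hj h1)).2

include h hS in
theorem gap_vchar (hj : j ∈ irrK W W₁) (h1 : j ≠ cfOne W) :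
    gapP S W W₁ W₂ j ∈ vchar (⊤ : Subgroup G) :=
  Submodule.add_mem _ (Submodule.sub_mem _ (tau_bridge_vchar h hS hj h1) (cfOne_vchar _))
    (h.cTI.iso_vchar (irr_vchar (irrK_sub _ _ hj)))

include h hS in
theorem bridge_norm (hj : j ∈ irrK W W₁) (h1 : j ≠ cfOne W) :
    cfnorm S (bridgeP S W W₁ W₂ j) = (((♯U - 1) / ♯W₁ + 2 : ℕ) : ℝ) := by
  obtain ⟨m, hm⟩ := (h.facts_a hS).2.2.1.dvd_pred
  have e : cfnorm S (gam S W₁) = (1 + m : ℕ) := by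
    refine cfnorm_eq_of_cfdot ?_
    have : ♯U = ♯W₁ * m + 1 := by have := card_pos U; omega
    rw [gam_norm h, this]
    push_cast
    have := cardC_ne_zero W₁
    field_simp
    ring
  rw [bridge_eq, cfnorm_sub_orth (gam_dot_mu h hj h1), e, irr_norm (h.prTI.mu_irr (irrK_sub _ _ hj)),
    hm, Nat.mul_div_cancel_left _ (card_pos W₁)]
  push_cast
  ring

include h hS in
theorem gap_eq (hj : j ∈ irrK W W₁) (h1 : j ≠ cfOne W) (hk : k ∈ irrK W W₁) (hk1 : k ≠ cfOne W) :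
    gapP S W W₁ W₂ k = gapP S W W₁ W₂ j := by
  have e := (h.prDade hS).sub_mu h.cTI.one_I hj hk h1 hk1 (by
    rw [PF10.one_mul_irrK hj, PF10.one_mul_irrK hk, mu_one_eq h hS hj h1, mu_one_eq h hS hk hk1])
  rw [PF10.one_mul_irrK hj, PF10.one_mul_irrK hk, h.TIsign hS (irrK_sub _ _ hj), Int.cast_one,
    one_smul] at e
  have e1 : bridgeP S W W₁ W₂ k =
      bridgeP S W W₁ W₂ j + (prMu S W W₁ W₂ j - prMu S W W₁ W₂ k) := by
    rw [bridgeP, bridgeP]; abel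
  rw [gapP, gapP, e1, map_add, e]
  abel

include h in
theorem eta_dot_one (hj : j ∈ Irr W) (h1 : j ≠ cfOne W) :
    cfdot ⊤ (eta W W₁ W₂ j) (cfOne ⊤) = 0 := by
  classical
  rw [← h.cTI.iso_one, h.cTI.iso_dot_irr hj (cfOne_mem_Irr W), if_neg h1]

include h hS in
theorem tau_bridge_dot_one (hj : j ∈ irrK W W₁) (h1 : j ≠ cfOne W) :
    cfdot ⊤ (tau0 S (bridgeP S W W₁ W₂ j)) (cfOne ⊤) = 1 := by
  have e1 : cfdot S (prMu S W W₁ W₂ j) (cfOne S) = 0 := by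
    rw [← h.prTI.mu_one]
    exact irr_dot_ne (h.prTI.mu_irr (irrK_sub _ _ hj)) (h.prTI.mu_irr (cfOne_mem_Irr W))
      fun e => h1 ((h.prTI.mu_inj (irrK_sub _ _ hj) (cfOne_mem_Irr W)).1 e)
  rw [cfdot_Dade_one (FT_Dade0_hyp hS) (bridge_on0 h hS hj h1), bridge_eq, cfdot_sub_left,
    gam_dot_one h, e1, sub_zero]

include h hS in
theorem gap_dot_one (hj : j ∈ irrK W W₁) (h1 : j ≠ cfOne W) :
    cfdot ⊤ (gapP S W W₁ W₂ j) (cfOne ⊤) = 0 := by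
  rw [gapP, cfdot_add_left, cfdot_sub_left, tau_bridge_dot_one h hS hj h1,
    eta_dot_one h (irrK_sub _ _ hj) h1]
  simp

include h hS in
theorem gap_real (hj : j ∈ irrK W W₁) (h1 : j ≠ cfOne W) :
    conjC (gapP S W W₁ W₂ j) = gapP S W W₁ W₂ j := by
  have hjW := irrK_sub _ _ hj
  conv_rhs => rw [← gap_eq h hS hj h1 (PF10.conjC_irrK hj) fun e => h1 (conjC_eq_cfOne_iff.1 e)]
  rw [gapP, gapP, conjC_add, conjC_sub, ← Dade_conjC, conjC_cfOne,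
    show conjC (eta W W₁ W₂ j) = eta W W₁ W₂ (conjC j) from h.cTI.iso_aut _ (irr_CF hjW),
    bridgeP, bridgeP, conjC_sub, conjC_cfInd, conjC_cfOne, h.prTI.mu_aut _ hjW]

include h hS in
theorem gap_bound (hj : j ∈ irrK W W₁) (h1 : j ≠ cfOne W) {X Y : G → ℂ}
    (hXY : gapP S W W₁ W₂ j = X + Y) (ho : cfdot ⊤ X Y = 0)
    (hY : ∀ ω ∈ Irr W, cfdot ⊤ Y (eta W W₁ W₂ ω) = 0) :
    cfnorm ⊤ Y ≤ (((♯U - 1) / ♯W₁ : ℕ) : ℝ) := by
  classical
  have hjW := irrK_sub _ _ hj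
  have h1W := cfOne_mem_Irr W
  have hj' := irr_conjC hjW
  have h1' : conjC j ≠ cfOne W := fun e => h1 (conjC_eq_cfOne_iff.1 e)
  have e : tau0 S (bridgeP S W W₁ W₂ j) = gapP S W W₁ W₂ j + cfOne ⊤ - eta W W₁ W₂ j := by
    rw [gapP]; abel
  have ho' : cfdot ⊤ (tau0 S (bridgeP S W W₁ W₂ j) - Y) Y = 0 := by
    have e1 := cfdot_symm_zero (hY _ h1W)
    rw [h.cTI.iso_one] at e1
    rw [e, hXY]
    simp [ho, e1, cfdot_symm_zero (hY _ hjW)]
  have h0 : cfdot ⊤ (tau0 S (bridgeP S W W₁ W₂ j)) (eta W W₁ W₂ (cfOne W)) ≠ 0 := by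
    rw [h.cTI.iso_one, tau_bridge_dot_one h hS hj h1]; exact one_ne_zero
  have key : cfnorm ⊤ Y + 2 ≤ cfnorm ⊤ (tau0 S (bridgeP S W W₁ W₂ j)) := by
    by_cases ha : cfdot ⊤ (gapP S W W₁ W₂ j) (eta W W₁ W₂ j) = 0
    · refine norm_add_two_le h.cTI (tau_bridge_vchar h hS hj h1) ho' hY h1W hjW h1.symm h0 ?_
      rw [e, cfdot_sub_left, cfdot_add_left, ha, cfdot_symm_zero (eta_dot_one h hjW h1),
        (h.cTI.iso_dirr hjW).dot_self]
      simp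
    · refine norm_add_two_le h.cTI (tau_bridge_vchar h hS hj h1) ho' hY h1W hj' h1'.symm h0 ?_
      rw [e, cfdot_sub_left, cfdot_add_left, cfdot_symm_zero (eta_dot_one h hj' h1'),
        h.cTI.iso_dot_irr hjW hj', if_neg (h.cTI.conjC_ne hjW h1).symm,
        ← show conjC (eta W W₁ W₂ j) = eta W W₁ W₂ (conjC j) from h.cTI.iso_aut _ (irr_CF hjW),
        cfdot_conjC_right, gap_real h hS hj h1]
      simpa using ha
  rw [cfnorm_Dade (FT_Dade0_hyp hS) (bridge_on0 h hS hj h1), bridge_norm h hS hj h1] at key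
  push_cast at key
  linarith

include h hS in
theorem tau_bridge_on (hj : j ∈ irrK W W₁) (h1 : j ≠ cfOne W) :
    tau0 S (bridgeP S W W₁ W₂ j) ∈ cfOn (classSupp (Fc S) ⊤ ∪ classSupp W ⊤) := by
  rw [(h.facts_e hS).2 _ (bridge_on0 h hS hj h1)]
  refine fun x hx => cfInd_mem_cfOn_classSupp ⊤ S (mem_CFon.1 (bridge_on h hS hj h1)).2 x fun hm => hx ?_
  obtain ⟨g, -, hg | hg⟩ := mem_classSupp.1 hm
  · exact Or.inl (mem_classSupp.2 ⟨g, trivial, hg.1⟩)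
  · obtain ⟨g', -, hg'⟩ := mem_classSupp.1 hg
    refine Or.inr (mem_classSupp.2 ⟨g' * g, trivial, ?_⟩)
    have := hg'.1
    simp only [mul_assoc, mul_inv_rev] at this ⊢
    exact this

include h hS in
theorem typeI_disjoint {L : Subgroup G} (hL : IsCoatom L) (hL1 : IsOfTypeI L) :
    Disjoint (dadeSupp (shp (Fc L)) (supportR L)) (classSupp (Fc S) ⊤ ∪ classSupp W ⊤) := by
  obtain ⟨T, V, hT, h'⟩ := h.pair_witness hS
  have hD := FT_DadeF_hyp hL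
  have key : ∀ M : Subgroup G, IsCoatom M → ¬ IsOfTypeI M → (♯(Fc L)).Coprime ♯(Fc M) :=
    fun M hM hM1 => ((FTcore_coprime hM hL fun g e => hM1 ((typeI_cj g).1 (e ▸ hL1))).symm.coprime_dvd_left
      (card_dvd (H27.Fc_le_core hL))).coprime_dvd_right (card_dvd (H27.Fc_le_core hM))
  have cP := key S hS hT.notIS
  have cW : (♯(Fc L)).Coprime ♯W := by
    rw [h.dp.sd.card]
    exact ((key T hT.maxT hT.notIT).coprime_dvd_right (card_dvd h'.le2)).mul_right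
      (cP.coprime_dvd_right (card_dvd h.le2))
  refine Set.disjoint_left.2 fun x hx hx' => ?_
  obtain ⟨a, ha, u, hu, g, rfl⟩ := mem_dadeSupp.1 hx
  have h1 : orderOf a ∣ orderOf (a * u) := orderOf_dvd_of_mem_zpowers
    (mem_zpowers_mul_left (Dade_comm hD ha hu) ((Dade_piElt hD ha).coprime ((Dade_isPi_R hD ha).piElt hu)))
  have key2 : ∀ X : Subgroup G, (♯(Fc L)).Coprime ♯X → g * (a * u) * g⁻¹ ∉ classSupp X ⊤ := by
    intro X hX hm
    obtain ⟨g', -, hg'⟩ := mem_classSupp.1 hm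
    have h2 := Subgroup.orderOf_dvd_natCard X hg'
    rw [H24.orderOf_conj, H24.orderOf_conj] at h2
    exact ha.2 (orderOf_eq_one_iff.1 (Nat.eq_one_of_dvd_coprimes hX
      (Subgroup.orderOf_dvd_natCard _ ha.1) (h1.trans h2)))
  exact hx'.elim (key2 _ cP) (key2 _ cW)

end PF13z

namespace TypeP
open PF13z
variable (h : TypeP S U W W₁ W₂) (hS : IsCoatom S)
include h hS

/-- (13.18). -/
theorem bridge_facts {j : G → ℂ} (hj : j ∈ irrK W W₁) (h1 : j ≠ cfOne W) :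
    (bridgeP S W W₁ W₂ j ∈ CFon S (typeA0 S) ∧
      bridgeP S W W₁ W₂ j ∈ CFon S (shp (Fc S) ∪ classSupp (cycV W W₁ W₂) S) ∧
      bridgeP S W W₁ W₂ j ∈ vchar S) ∧
    cfnorm S (bridgeP S W W₁ W₂ j) = (((Nat.card U - 1) / Nat.card W₁ + 2 : ℕ) : ℝ) ∧
    ((∀ k ∈ irrK W W₁, k ≠ cfOne W → gapP S W W₁ W₂ k = gapP S W W₁ W₂ j) ∧
      cfdot ⊤ (gapP S W W₁ W₂ j) (cfOne ⊤) = 0 ∧ conjC (gapP S W W₁ W₂ j) = gapP S W W₁ W₂ j) ∧
    (∀ X Y : G → ℂ, gapP S W W₁ W₂ j = X + Y → cfdot ⊤ X Y = 0 →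
      (∀ ω ∈ Irr W, cfdot ⊤ Y (eta W W₁ W₂ ω) = 0) →
      cfnorm ⊤ Y ≤ (((Nat.card U - 1) / Nat.card W₁ : ℕ) : ℝ)) ∧
    Nat.card W₁ ∣ Nat.card U - 1 :=
  ⟨⟨bridge_on0 h hS hj h1, bridge_on h hS hj h1, bridge_vchar h hj⟩, bridge_norm h hS hj h1,
    ⟨fun _ hk hk1 => gap_eq h hS hj h1 hk hk1, gap_dot_one h hS hj h1, gap_real h hS hj h1⟩,
    fun _ _ => gap_bound h hS hj h1, (h.facts_a hS).2.2.1.dvd_pred⟩

/-- (13.19). -/
theorem typeI_bridge_facts {L : Subgroup G} (hL : IsCoatom L) (hL1 : IsOfTypeI L)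
    {τ₁ : (G → ℂ) →ₗ[ℂ] (G → ℂ)} (hc : CohWith L ⊤ (seqIndD (Fc L) L (Fc L) ⊥) (tauF L) τ₁)
    {φ : G → ℂ} (hφ : φ ∈ seqIndD (Fc L) L (Fc L) ⊥) (hφ1 : φ 1 = (Fc L).relIndex L)
    {j : G → ℂ} (hj : j ∈ irrK W W₁) (h1 : j ≠ cfOne W) :
    Disjoint (tildeOf L (typeA L)) (classSupp (Fc S) ⊤ ∪ classSupp W ⊤) ∧
    (∀ ξ ∈ seqIndD (Fc L) L (Fc L) ⊥, ∀ ω ∈ Irr W, cfdot ⊤ (τ₁ ξ) (eta W W₁ W₂ ω) = 0) ∧
    (∀ k ∈ irrK W W₁, k ≠ cfOne W →
      cfdot ⊤ (tauF L (bridgeI L φ)) (eta W W₁ W₂ k) = cfdot ⊤ (tauF L (bridgeI L φ)) (eta W W₁ W₂ j)) ∧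
    (((∃ n : ℤ, Odd n ∧ cfdot ⊤ (tau0 S (bridgeP S W W₁ W₂ j)) (τ₁ φ) = n) ∧
        ((Nat.card (Fc L) : ℝ) - 1) / (Fc L).relIndex L ≤ (((Nat.card U - 1) / Nat.card W₁ : ℕ) : ℝ)) ∨
      ((∃ n : ℤ, Odd n ∧ cfdot ⊤ (tauF L (bridgeI L φ)) (eta W W₁ W₂ j) = n) ∧
        Nat.card W₂ ≤ (Fc L).relIndex L)) := by
  classical
  have hFL := FTtype1_Frobenius hL hL1
  have hirr := (FT_Frobenius_coherence hL hFL).1
  have hD := FT_DadeF_hyp hL
  have hnH := Fc_nml L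
  have hodd : Odd (Nat.card G) := by rw [← Subgroup.card_top]; exact mFT_odd ⊤
  have hdis := typeI_disjoint h hS hL hL1
  have hjW := irrK_sub _ _ hj
  have hb : ∀ ξ ∈ seqIndD (Fc L) L (Fc L) ⊥, ∀ ω ∈ Irr W, cfdot ⊤ (τ₁ ξ) (eta W W₁ W₂ ω) = 0 := by
    intro ξ hξ ω hω
    obtain ⟨-, e1, e2⟩ := H2.cohC1_conjC hD hc hodd (hirr hξ) hξ
    have hd := H2.cohC1_dirr hc (hirr hξ) hξ
    have e3 := h.cTI.ortho_of_norm_le_two (β := τ₁ ξ - conjC (τ₁ ξ))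
      (Submodule.sub_mem _ hd.vchar (hd.aut _).vchar) (fun x hx => by
        rw [← e2]
        exact Dade_mem_cfOn _ _ _ _ x fun hm => Set.disjoint_left.1 hdis hm
          (Or.inr (mem_classSupp.2 ⟨1, trivial, by simpa using hx.1⟩)))
      (by rw [cfnorm_sub_orth e1, hd.norm, (hd.aut _).norm]; norm_num) hω
    rw [cfdot_sub_left, sub_eq_zero] at e3
    rcases hd.cases (h.cTI.iso_dirr hω) with e | e | e
    · rw [e3, ← e]; exact cfdot_symm_zero e1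
    · rw [e3, ← neg_eq_iff_eq_neg.2 e, cfdot_neg_right, cfdot_symm_zero e1, neg_zero]
    · exact e
  have hβ : tauF L (bridgeI L φ) ∈ vchar ⊤ := H2.Dade_Ind1_vchar hD hφ hφ1
  have hcc : ∀ k ∈ irrK W W₁, k ≠ cfOne W → cfdot ⊤ (tauF L (bridgeI L φ)) (eta W W₁ W₂ k) =
      cfdot ⊤ (tauF L (bridgeI L φ)) (eta W W₁ W₂ j) := by
    intro k hk hk1
    obtain ⟨u, rfl, -⟩ := h.cTI.exists_aut_J (h.primes hS).2 hj h1 hk hk1
    have hu := cfAut_seqIndD u hφ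
    have e1 := hc.ext _ (sub_mem_zsp0 (mem_zsp_of_mem hφ) (mem_zsp_of_mem hu) (by
      rw [cfAut_apply, hφ1, map_natCast]))
    have e2 : cfAut u (bridgeI L φ) = bridgeI L φ + (φ - cfAut u φ) := by
      rw [bridgeI, map_sub, cfAut_cfInd, cfAut_cfOne]; abel
    rw [← cfdot_cfAut_vchar u hβ (h.cTI.iso_vchar (irr_vchar hjW)), h.cTI.iso_aut u (irr_CF hjW),
      ← Dade_aut, e2, map_add, cfdot_add_left, ← e1, map_sub, cfdot_sub_left,
      hb _ hφ _ (irrK_sub _ _ hk), hb _ hu _ (irrK_sub _ _ hk), sub_self, add_zero]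
  refine ⟨by rw [FTsupp_Frobenius hL hFL, tildeOf_eq]; exact hdis, hb, hcc, ?_⟩
  have hcard := one_lt_card_seqIndD hnH (mFT_odd L) le_rfl hφ
  obtain ⟨⟨o1, b1, -⟩, ⟨Gam, g1, g2, ⟨a, ea⟩, g3⟩, -⟩ :=
    Dade_Ind1_sub_lin hD hc hcard (hirr hφ) hφ hφ1 (tauF L (bridgeI L φ)) rfl
  have hSo : ∀ α, cfdot ⊤ (tau0 S (bridgeP S W W₁ W₂ j)) (tauF L α) = 0 := fun α =>
    cfdot_eq_zero_of_disjoint (tau_bridge_on h hS hj h1) (Dade_mem_cfOn _ _ _ _) hdis.symm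
  obtain ⟨bS, hbS⟩ := vchar_dot_int (tau_bridge_vchar h hS hj h1) (H2.cohC1_vchar hc hφ)
  obtain ⟨bL, hbL⟩ := vchar_dot_int hβ (h.cTI.iso_vchar (irr_vchar hjW))
  obtain ⟨n, hn⟩ := cfdot_real_vchar_even (mFT_odd ⊤) (gap_vchar h hS hj h1) (gap_real h hS hj h1)
    (Submodule.add_mem _ hβ (H2.cohC1_vchar hc hφ)) (H2.Dade_Ind1_add_real hodd hD hc (hirr hφ) hφ)
  have hΓ : ∀ ξ ∈ seqIndD (Fc L) L (Fc L) ⊥, cfdot ⊤ (gapP S W W₁ W₂ j) (τ₁ ξ) =
      cfdot ⊤ (tau0 S (bridgeP S W W₁ W₂ j)) (τ₁ ξ) := fun ξ hξ => by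
    rw [gapP, cfdot_add_left, cfdot_sub_left, cfdot_symm_zero (o1 ξ hξ),
      cfdot_symm_zero (hb ξ hξ j hjW), sub_zero, add_zero]
  rw [gap_dot_one h hS hj h1, cfdot_add_right, hΓ φ hφ, hbS, gapP, cfdot_add_left, cfdot_sub_left,
    hSo, ← conj_cfdot, b1, ← conj_cfdot (ψ := eta W W₁ W₂ j), hbL, map_intCast, map_one] at hn
  have hpar : bS + bL = 2 * n + 1 := by
    have : (bS : ℂ) + bL = 2 * n + 1 := by linear_combination hn
    exact_mod_cast this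
  have sq1 : ∀ b : ℤ, Odd b → (1 : ℝ) ≤ (b : ℝ) ^ 2 := fun b hb => by
    have : b ≠ 0 := by rintro rfl; simp at hb
    exact_mod_cast (one_le_sq_iff_one_le_abs b).2 (Int.one_le_abs this)
  have hσ : ∀ ω ∈ Irr W, cfdot ⊤ (∑ ξ ∈ seqIndD (Fc L) L (Fc L) ⊥,
      (ξ 1 / (Fc L).relIndex L / cfnorm L ξ) • τ₁ ξ) (eta W W₁ W₂ ω) = 0 := fun ω hω => by
    rw [cfdot_sum_left]
    exact Finset.sum_eq_zero fun ξ hξ => by rw [cfdot_smul_left, hb ξ hξ ω hω, mul_zero]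
  rcases Int.even_or_odd bL with hpL | hpL
  · have hpS : Odd bS := by
      obtain ⟨m, hm⟩ := hpL
      exact ⟨n - m, by omega⟩
    refine Or.inl ⟨⟨bS, hpS, hbS⟩, ?_⟩
    have hn := H2.sumS_norm hD hc
    have hd := fun ξ hξ => H2.sumS_dot hD hc (ξ := ξ) hξ
    have ho : cfdot ⊤ (gapP S W W₁ W₂ j - (bS : ℂ) • ∑ ξ ∈ seqIndD (Fc L) L (Fc L) ⊥,
        (ξ 1 / (Fc L).relIndex L / cfnorm L ξ) • τ₁ ξ) (∑ ξ ∈ seqIndD (Fc L) L (Fc L) ⊥,
        (ξ 1 / (Fc L).relIndex L / cfnorm L ξ) • τ₁ ξ) = 0 := by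
      rw [cfdot_sum_right]
      refine Finset.sum_eq_zero fun ξ hξ => ?_
      obtain ⟨d, hd1, hd2⟩ := seqInd_sub_lin hnH.le (seqIndD_subT _ _ _ _) hφ hξ hφ1
      have e := hSo (ξ - (d : ℂ) • φ)
      rw [← hc.ext _ hd2, map_sub, map_smul, cfdot_sub_right, cfdot_smul_right, hbS, sub_eq_zero,
        Complex.conj_natCast] at e
      rw [cfdot_smul_right, cfdot_sub_left, cfdot_smul_left, hd ξ hξ, hΓ ξ hξ, e, hd1, hφ1,
        mul_div_cancel_right₀ _ (relIndexC_ne_zero _ _), mul_comm (d : ℂ), sub_self, mul_zero]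
    generalize ∑ ξ ∈ seqIndD (Fc L) L (Fc L) ⊥, (ξ 1 / (Fc L).relIndex L / cfnorm L ξ) • τ₁ ξ = σ
      at hn ho hσ
    have := gap_bound h hS hj h1 (sub_add_cancel _ ((bS : ℂ) • σ)).symm
      (by rw [cfdot_smul_right, ho, mul_zero]) fun ω hω => by rw [cfdot_smul_left, hσ ω hω, mul_zero]
    rw [cfnorm_intCast_smul] at this
    rw [← hn]
    exact le_trans (le_mul_of_one_le_left (cfnorm_nonneg _ _) (sq1 _ hpS)) this
  · refine Or.inr ⟨⟨bL, hpL, hbL⟩, ?_⟩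
    have hs : ∀ k ∈ (irrK W W₁).erase (cfOne W), k ∈ Irr W := fun k hk =>
      irrK_sub _ _ (Finset.mem_of_mem_erase hk)
    have hB := sum_sq_cfdot_le (H := ⊤) (s := (irrK W W₁).erase (cfOne W)) (e := eta W W₁ W₂)
      (fun i hi => (h.cTI.iso_dirr (hs i hi)).dot_self)
      (fun i hi k hk hik => by rw [h.cTI.iso_dot_irr (hs i hi) (hs k hk), if_neg hik]) Gam
    rw [Finset.sum_congr rfl (g := fun _ => (bL : ℝ) ^ 2) fun k hk => by
      have e := hcc k (Finset.mem_of_mem_erase hk) (Finset.ne_of_mem_erase hk)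
      rw [hbL, ea, cfdot_add_left, cfdot_add_left, cfdot_sub_left, cfdot_smul_left, hσ k (hs k hk),
        hb φ hφ k (hs k hk), cfdot_symm_zero (eta_dot_one h (hs k hk) (Finset.ne_of_mem_erase hk))]
        at e
      rw [show cfdot ⊤ Gam (eta W W₁ W₂ k) = bL by simpa using e, Complex.norm_intCast, sq_abs],
      Finset.sum_const, Finset.card_erase_of_mem h.cTI.one_J, h.cTI.card_J, nsmul_eq_mul,
      Nat.cast_pred (card_pos _)] at hB
    have h2 := (g3 (odd_Frobenius_index_ler (mFT_odd L) hFL)).2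
    have h3 : (1 : ℝ) ≤ ♯W₂ := by exact_mod_cast card_pos W₂
    have h4 := mul_le_mul_of_nonneg_left (sq1 _ hpL) (sub_nonneg.2 h3)
    have : (♯W₂ : ℝ) ≤ (Fc L).relIndex L := by linarith
    exact_mod_cast this

end TypeP

end H27
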