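import Cfsg.Agent.H0.SchC
import Cfsg.Agent.H15.KM6

/-! A certificate that a `2`-group has no nontrivial perfect group of automorphisms. -/

set_option autoImplicit false
set_option linter.unusedSectionVars false

namespace H27.SU

open H0.Sch H27.SC H29 H15.KM Subgroup

universe u

variable {G : Type u} [Group G] [Finite G]

/-- `Y` is invariant under every group of automorphisms stabilising `S` -/
def Ch (S Y : Subgroup G) : Prop := Y ≤ S ∧ ∀ D : Subgroup (MulAut G), Inv D S → Inv D Y

theorem Ch.nm {S Y : Subgroup G} (h : Ch S Y) : Nm S Y := nm_of fun x hx y hy =>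
  h.2 (S.map (MulAut.conj : G →* MulAut G)) (by
    rintro _ ⟨g, hg, rfl⟩ s hs
    exact mul_mem (mul_mem hg hs) (inv_mem hg)) _ ⟨x, hx, rfl⟩ y hy

theorem cm_le {A B C : Subgroup G} : cm A B C ≤ A := fun _ h => h.1

theorem nm_of_le {S Y Z : Subgroup G} (h1 : Z ≤ Y) (h2 : Y ≤ cm S S Z) : Nm S Y :=
  nm_of fun s hs y hy => by
    have := mul_mem (h1 ((h2 hy).2.2 s⁻¹ (inv_mem hs))) hy
    simpa [mul_assoc] using this

theorem le_cm {S B Z : Subgroup G} (h1 : Z ≤ S) (hB : B ≤ S) (h2 : Nm S Z) : Z ≤ cm S B Z :=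
  fun z hz => ⟨h1 hz, le_normalizer hz, fun b hb => by
    have := mul_mem ((mem_normalizer_iff.1 (h2 (inv_mem (hB hb))) z).1 hz) (inv_mem hz)
    simpa [mul_assoc] using this⟩

variable {e : ℕ → G} {ok : List ℕ → List ℕ → Bool}

theorem mem_cm_gen {S C : Subgroup G} {l : List ℕ} {x : G} (hx : x ∈ S) (hl : gen e l ≤ S)
    (hn : Nm S C) (h : ∀ b ∈ l, (e b)⁻¹ * (x * e b * x⁻¹) ∈ C) : x ∈ cm S (gen e l) C := by
  refine ⟨hx, hn hx, fun b hb => ?_⟩
  induction hb using closure_induction with
  | mem b hb => obtain ⟨c, hc, rfl⟩ := hb; exact h c hc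
  | one => simp
  | mul a b _ hb h1 h2 =>
    convert mul_mem ((mem_normalizer_iff.1 (hn (inv_mem (hl hb))) _).1 h1) h2 using 1; group
  | inv a ha h1 =>
    convert (mem_normalizer_iff.1 (hn (hl ha)) _).1 (inv_mem h1) using 1; group

theorem mw_zero : ∀ l : List ℕ, mw l 0 = []
  | [] => rfl
  | c :: l => (mw_even c l 0).trans (mw_zero l)

theorem cover {l : List ℕ} : ∀ {t : List ℕ}, PC e (t ++ l) → ∀ {g : G}, g ∈ gen e (t ++ l) →
    ∃ n < 2 ^ t.length, (ev e (mw t n))⁻¹ * g ∈ gen e l
  | [], _, g, hg => ⟨0, by simp, by simpa [mw_zero] using hg⟩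
  | c :: t, h, g, hg => by
    rcases PC.dich (l := t ++ l) h hg with h1 | h1
    · obtain ⟨n, h2, h3⟩ := cover h.1 h1
      exact ⟨2 * n, by rw [List.length_cons, pow_succ]; omega, by rwa [mw_even]⟩
    · obtain ⟨n, h2, h3⟩ := cover h.1 h1
      exact ⟨2 * n + 1, by rw [List.length_cons, pow_succ]; omega,
        by rwa [mw_odd, ev_cons, mul_inv_rev, mul_assoc]⟩

/-- no nonempty subword of `t` has its value in `X` -/
def NM (e : ℕ → G) (t : List ℕ) (X : Subgroup G) : Prop :=
  ∀ n < 2 ^ t.length, n ≠ 0 → ev e (mw t n) ∉ X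

theorem pc_app {S : Subgroup G} {l : List ℕ} (hl : PC e l) : ∀ {t : List ℕ},
    gen e (t ++ l) ≤ cm S S (gen e l) → (∀ a ∈ t, e a * e a ∈ gen e l) → NM e t (gen e l) →
      PC e (t ++ l)
  | [], _, _, _ => hl
  | c :: t, h1, h2, h3 => by
    have a0 : gen e (t ++ l) ≤ gen e (c :: t ++ l) := gen_mono fun _ h => List.mem_cons_of_mem _ h
    have a1 : gen e l ≤ gen e (t ++ l) := gen_mono fun _ h => List.mem_append_right _ h
    have a2 := pc_app hl (a0.trans h1) (fun a ha => h2 a (List.mem_cons_of_mem _ ha))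
      fun n hn h0 => mw_even c t n ▸ h3 (2 * n) (by rw [List.length_cons, pow_succ]; omega) (by omega)
    have a3 := h2 c List.mem_cons_self
    refine ⟨a2, fun h => ?_, a1 a3, fun d hd => (mem_normalizer_iff.1 (nm_of_le a1 (a0.trans h1)
      (h1 (mem_gen List.mem_cons_self)).1) _).1 (mem_gen hd)⟩
    obtain ⟨n, b1, b2⟩ := cover a2 h
    refine h3 (2 * n + 1) (by rw [List.length_cons, pow_succ]; omega) (by omega) ?_
    rw [mw_odd, ev_cons]
    convert mul_mem a3 (inv_mem b2) using 1; group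

theorem inf_le {u y : List ℕ} {X : Subgroup G} (h : PC e (u ++ y)) (h1 : gen e y ≤ X)
    (h2 : NM e u X) : gen e (u ++ y) ⊓ X ≤ gen e y := fun g hg => by
  obtain ⟨n, b1, b2⟩ := cover h hg.1
  by_cases h0 : n = 0
  · simpa [h0, mw_zero] using b2
  · exact absurd (by simpa using mul_mem (mem_inf.1 hg).2 (inv_mem (h1 b2))) (h2 n b1 h0)

noncomputable def tb (D : List (List ℕ)) (i j : ℕ) : ℕ := nth 0 (nth [] D i) j

noncomputable def cw (ok : List ℕ → List ℕ → Bool) (x : List ℕ) (b : ℕ) (w : List ℕ) : Bool :=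
  ok (app x [b]) (b :: app w x)

theorem cw_sound (h : Eqs ok e) {x w : List ℕ} {b : ℕ} (hc : cw ok x b w = true) :
    (e b)⁻¹ * (ev e x * e b * (ev e x)⁻¹) = ev e w := by
  have := h _ _ hc
  simp only [app_eq, ev_append, ev_cons, ev_nil, mul_one] at this
  rw [this]; group

/-- the letters `t` centralise the letters `lB` modulo the group of `l` -/
noncomputable def chkA (ok : List ℕ → List ℕ → Bool) (t lB l : List ℕ) (A : List (List ℕ)) : Bool :=
  allL t fun a => allL lB fun b => cw ok [a] b (mw l (tb A a b))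

theorem chkA_sound (h : Eqs ok e) {t lB l : List ℕ} {A : List (List ℕ)}
    (hc : chkA ok t lB l A = true) {S : Subgroup G} (ht : gen e t ≤ S) (hB : gen e lB ≤ S)
    (hn : Nm S (gen e l)) : gen e t ≤ cm S (gen e lB) (gen e l) := gen_le.2 fun a ha =>
  mem_cm_gen (ht (mem_gen ha)) hB hn fun b hb => by
    have := cw_sound h (allL_true.1 (allL_true.1 hc a ha) b hb)
    simp only [ev_cons, ev_nil, mul_one] at this
    exact this ▸ ev_mem_gen (mem_mw _ _)

/-- no nonempty subword of `u` centralises the letters `lB` modulo the group of `l` -/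
noncomputable def chkE (ok : List ℕ → List ℕ → Bool) (u lB t l : List ℕ) (E : List (List ℕ)) : Bool :=
  allN (Nat.pow 2 (lenL u)) fun n => or2 (Nat.beq n 0) (and2 (and2 (memL (tb E n 0) lB)
    (and2 (not1 (Nat.beq (tb E n 1) 0)) (Nat.blt (tb E n 1) (Nat.pow 2 (lenL t)))))
    (cw ok (mw u n) (tb E n 0) (app (mw t (tb E n 1)) (mw l (tb E n 2)))))

theorem chkE_sound (h : Eqs ok e) {u lB t l : List ℕ} {E : List (List ℕ)}
    (hc : chkE ok u lB t l E = true) (hn : NM e t (gen e l)) (S : Subgroup G) :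
    NM e u (cm S (gen e lB) (gen e l)) := fun n h1 h0 hm => by
  have := allN_true.1 hc n (by rwa [lenL_eq])
  simp only [or2_true, and2_true, not1_true, H29.beq_true, memL_true, Nat.blt_eq, lenL_eq] at this
  obtain ⟨⟨a1, a2, a3⟩, a4⟩ := this.resolve_left h0
  have a5 := hm.2.2 _ (mem_gen a1)
  rw [cw_sound h a4, app_eq, ev_append] at a5
  exact hn _ a3 a2 ((mul_mem_cancel_right (ev_mem_gen (mem_mw _ _))).1 a5)

noncomputable def ly (T : List (List ℕ)) (j : ℕ) : List ℕ := nth [] T j
noncomputable def lz (T : List (List ℕ)) (j : ℕ) : List ℕ :=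
  Nat.rec (motive := fun _ => List ℕ) [] (fun j ih => app (ly T j) ih) j

theorem lz_succ (T : List (List ℕ)) (j : ℕ) : lz T (j + 1) = ly T j ++ lz T j := app_eq _ _

theorem lz_mono (T : List (List ℕ)) : Monotone fun j => gen e (lz T j) :=
  monotone_nat_of_le_succ fun j => by
    rw [lz_succ]; exact gen_mono fun _ h => List.mem_append_right _ h

/-- the layers `T` give the upper central series -/
noncomputable def chkU (ok : List ℕ → List ℕ → Bool) (T : List (List ℕ)) (c : ℕ)
    (A : List (List ℕ)) (B : List ℕ) (E : List (List (List ℕ))) : Bool :=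
  frc (lz T c) fun s => allN c fun j => frc (lz T j) fun l => and2 (and2 (chkA ok (ly T j) s l A)
    (allL (ly T j) fun a => ok [a, a] (mw l (nth 0 B a))))
    (or2 (Nat.beq (Nat.succ j) c) (chkE ok (ly T (Nat.succ j)) s (ly T j) l (nth [] E j)))

structure UC (e : ℕ → G) (T : List (List ℕ)) (c : ℕ) : Prop where
  pc : PC e (lz T c)
  ch : ∀ j ≤ c, Ch (gen e (lz T c)) (gen e (lz T j))
  nm : ∀ j < c, NM e (ly T j) (gen e (lz T j))

theorem chkU_sound (h : Eqs ok e) {T : List (List ℕ)} {c : ℕ} {A : List (List ℕ)} {B : List ℕ}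
    {E : List (List (List ℕ))} (hc : chkU ok T c A B E = true) (h0 : NM e (ly T 0) ⊥) :
    UC e T c := by
  simp only [chkU, frc_eq, allN_true, and2_true, or2_true, H29.beq_true, allL_true] at hc
  set S := gen e (lz T c) with hS
  have le : ∀ j ≤ c, gen e (lz T j) ≤ S := fun j hj => lz_mono T hj
  have cen : ∀ j < c, Nm S (gen e (lz T j)) → gen e (lz T (j + 1)) ≤ cm S S (gen e (lz T j)) :=
    fun j hj hn => by
      have := le _ hj
      rw [lz_succ, gen_append] at this ⊢
      exact sup_le (chkA_sound h (hc j hj).1.1 (le_sup_left.trans this) le_rfl hn)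
        (le_cm (le _ hj.le) le_rfl hn)
  have nor : ∀ j ≤ c, Nm S (gen e (lz T j)) := fun j hj => by
    induction j with
    | zero => rw [show lz T 0 = [] from rfl, gen_nil]; exact SC.nm_bot _
    | succ j ih => exact nm_of_le (lz_mono T j.le_succ) (cen j hj (ih (by omega)))
  replace cen := fun j hj => cen j hj (nor j hj.le)
  have st : ∀ j, j + 1 < c → NM e (ly T j) (gen e (lz T j)) →
      NM e (ly T (j + 1)) (cm S S (gen e (lz T j))) := fun j hj hn =>
    chkE_sound h ((hc j (by omega)).2.resolve_left (by omega)) hn S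
  have nm : ∀ j < c, NM e (ly T j) (gen e (lz T j)) := fun j hj => by
    induction j with
    | zero => rwa [show lz T 0 = [] from rfl, gen_nil]
    | succ j ih => exact fun n a1 a2 a3 => st j hj (ih (by omega)) n a1 a2 (cen j (by omega) a3)
  have pc : ∀ j ≤ c, PC e (lz T j) := fun j hj => by
    induction j with
    | zero => trivial
    | succ j ih =>
      rw [lz_succ]
      refine pc_app (ih (by omega)) (lz_succ T j ▸ cen j hj) (fun a ha => ?_) (nm j hj)
      have := h _ _ ((hc j hj).1.2 a ha)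
      simp only [ev_cons, ev_nil, mul_one] at this
      exact this ▸ ev_mem_gen (mem_mw _ _)
  have up : ∀ j < c, cm S S (gen e (lz T j)) ≤ gen e (lz T (j + 1)) := fun j hj g hg => by
    have : ∀ k, j + 1 + k ≤ c → g ∈ gen e (lz T (j + 1 + k)) → g ∈ gen e (lz T (j + 1)) := by
      intro k
      induction k with
      | zero => exact fun _ h => h
      | succ k ih =>
        intro a1 a2
        refine ih (by omega) ?_
        rw [show j + 1 + (k + 1) = j + k + 1 + 1 by omega, lz_succ] at a2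
        rw [show j + 1 + k = j + k + 1 by omega]
        exact inf_le (lz_succ T _ ▸ pc _ (by omega)) (cen _ (by omega))
          (st _ (by omega) (nm _ (by omega)))
          ⟨a2, hg.1, nor _ (by omega) hg.1, fun b hb => lz_mono T (j.le_add_right k) (hg.2.2 b hb)⟩
    exact this (c - (j + 1)) (by omega) (by rw [show j + 1 + (c - (j + 1)) = c by omega]; exact hg.1)
  refine ⟨pc c le_rfl, fun j hj => ⟨le j hj, fun D hD => ?_⟩, nm⟩
  induction j with
  | zero => rw [show lz T 0 = [] from rfl, gen_nil]; exact inv_bot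
  | succ j ih =>
    rw [le_antisymm (cen j hj) (up j hj)]
    exact hD.cm hD (ih (by omega))

/-- a characteristic subgroup modulo which perfect groups act trivially -/
structure St (e : ℕ → G) (S : Subgroup G) (y : List ℕ) : Prop where
  pc : PC e y
  ch : Ch S (gen e y)
  tr : ∀ D : Subgroup (MulAut G), Perf D → Inv D S → Tr D S (gen e y)

theorem UC.st {T : List (List ℕ)} {c : ℕ} (h : UC e T c) : St e (gen e (lz T c)) (lz T c) :=
  ⟨h.pc, h.ch c le_rfl, fun _ _ hD d hd x hx => mul_mem (inv_mem hx) (hD d hd x hx)⟩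

noncomputable def chkS (ok : List ℕ → List ℕ → Bool) (T : List (List ℕ)) (c : ℕ) (u y : List ℕ)
    (j i : ℕ) (A E : List (List ℕ)) : Bool :=
  and2 (and2 (Nat.ble (lenL u) 2) (and2 (Nat.ble j c) (Nat.blt i c)))
    (frc (lz T j) fun b => frc (lz T i) fun l => and2 (chkA ok y b l A) (chkE ok u b (ly T i) l E))

theorem UC.step (hk : Eqs ok e) {T : List (List ℕ)} {c : ℕ} (h : UC e T c) {u y : List ℕ} {j i : ℕ}
    {A E : List (List ℕ)} (hc : chkS ok T c u y j i A E = true)
    (hs : St e (gen e (lz T c)) (u ++ y)) : St e (gen e (lz T c)) y := by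
  simp only [chkS, frc_eq, and2_true, Nat.ble_eq, Nat.blt_eq, lenL_eq] at hc
  obtain ⟨⟨a1, a2, a3⟩, a4, a5⟩ := hc
  have b0 : gen e y ≤ gen e (u ++ y) := gen_mono fun _ h => List.mem_append_right _ h
  have b1 := chkA_sound hk a4 (b0.trans hs.ch.1) (h.ch j a2).1 (h.ch i a3.le).nm
  have b2 := le_antisymm (le_inf b0 b1) (inf_le hs.pc b1 (chkE_sound hk a5 (h.nm i a3) _))
  have b3 : Ch (gen e (lz T c)) (gen e y) := ⟨b0.trans hs.ch.1, fun D hD => by
    rw [b2]; exact (hs.ch.2 D hD).inf (hD.cm ((h.ch j a2).2 D hD) ((h.ch i a3.le).2 D hD))⟩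
  have b4 : PC e y := by simpa using hs.pc.drop u.length
  have b5 : (gen e y).relIndex (gen e (u ++ y)) = 2 ^ u.length := by
    have := H24.card_mul_relIndex b0
    rw [b4.card, hs.pc.card, List.length_append, pow_add, mul_comm] at this
    exact Nat.eq_of_mul_eq_mul_right (by positivity) this
  refine ⟨b4, b3, fun D hD hi => (hs.tr D hD hi).trans hD (tr_of_relIndex_le_five hD (hs.ch.2 D hi)
    (b3.2 D hi) (by rw [b5]; positivity) ?_) hs.ch.1 b0 (b3.2 D hi) hs.ch.nm b3.nm⟩
  rw [b5]
  exact (Nat.pow_le_pow_right (by norm_num) a1).trans (by norm_num)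

/-- a product of squares and copies of the word `a` -/
noncomputable def atoms (s a l : List ℕ) : List ℕ :=
  List.rec (motive := fun _ => List ℕ) [] (fun n _ ih =>
    app (Nat.rec (motive := fun _ => List ℕ) a (fun n _ => frc (mw s n) fun w => app w w) n) ih) l

noncomputable def chkF (ok : List ℕ → List ℕ → Bool) (s a y : List ℕ) (F : List (List ℕ))
    (N : List ℕ) : Bool :=
  List.rec (motive := fun _ => Bool) true (fun c l ih => and2 ih
    (ok [c] (app (atoms s a (nth [] F c)) (mw l (nth 0 N c))))) y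

theorem St.fin (hk : Eqs ok e) {s y : List ℕ} (hp : PC e s) (hs : St e (gen e s) y) {n : ℕ}
    {F : List (List ℕ)} {N : List ℕ} (hc : chkF ok s (mw y n) y F N = true)
    {D : Subgroup (MulAut G)} (hD : Perf D) (hi : Inv D (gen e s)) : Tr D (gen e s) ⊥ := by
  have hp2 : IsPGroup 2 (gen e s) := IsPGroup.of_card hp.card
  set P := (frattini (gen e s)).map (gen e s).subtype with hP
  have cP : Ch (gen e s) P := ⟨map_subtype_le _, fun D hD => hD.char _⟩
  have cX : Ch (gen e s) (gen e y ⊔ P) :=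
    ⟨sup_le hs.ch.1 cP.1, fun D hD => (hs.ch.2 D hD).sup (cP.2 D hD)⟩
  have ha : ev e (mw y n) ∈ gen e y := ev_mem_gen (mem_mw _ _)
  generalize mw y n = a at hc ha
  have h1 : ∀ l, ev e (atoms s a l) ∈ zpowers (ev e a) ⊔ P := fun l => by
    induction l with
    | nil => exact one_mem _
    | cons m l ih =>
      rw [show atoms s a (m :: l) = app (Nat.rec (motive := fun _ => List ℕ) a
        (fun n _ => frc (mw s n) fun w => app w w) m) (atoms s a l) from rfl, app_eq, ev_append]
      refine mul_mem ?_ ih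
      cases m with
      | zero => exact mem_sup_left (mem_zpowers _)
      | succ m =>
        change ev e (frc (mw s m) fun w => app w w) ∈ _
        rw [frc_eq, app_eq, ev_append, ← sq]
        exact mem_sup_right ⟨_, H2.IsPGroup.pow_mem_frattini hp2 ⟨_, ev_mem_gen (mem_mw s m)⟩, rfl⟩
  have h2 : ∀ y, chkF ok s a y F N = true → gen e y ≤ zpowers (ev e a) ⊔ P := fun y hc => by
    induction y with
    | nil => rw [gen_nil]; exact bot_le
    | cons c l ih =>
      obtain ⟨a1, a2⟩ := and2_true.1 hc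
      have := hk _ _ a2
      rw [app_eq, ev_append, ev_cons, ev_nil, mul_one] at this
      rw [gen_cons]
      exact sup_le (zpowers_le.2 (this ▸ mul_mem (h1 _) (ih a1 (ev_mem_gen (mem_mw _ _))))) (ih a1)
  exact tr_frattini hD hi hp2 (((hs.tr D hD hi).mono le_rfl le_sup_left).trans hD
    (tr_of_cyclic hD (cX.2 D hi) (cP.2 D hi) le_sup_right (cX.1.trans cP.nm)
      (sup_le (h2 y hc) le_sup_right) (mem_sup_left ha)) cX.1 le_sup_right (cP.2 D hi) cX.nm cP.nm)

theorem outS_of_pc [IsSimpleGroup G] (hna : ¬ IsMulCommutative G) {s : List ℕ} (hp : PC e s)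
    (hc : ¬ 2 ^ (s.length + 1) ∣ Nat.card G)
    (h : ∀ D : Subgroup (MulAut G), Perf D → Inv D (gen e s) → Tr D (gen e s) ⊥) : OutS G :=
  outS_of_sylow hna ((IsPGroup.of_card hp.card).toSylow fun hd => hc (by
    rw [← (gen e s).card_mul_index, hp.card, pow_succ]; exact mul_dvd_mul_left _ hd)) h

/-- the complete certificate with two intermediate steps -/
theorem outS_of_chk [IsSimpleGroup G] (hna : ¬ IsMulCommutative G) (hk : Eqs ok e)
    {T : List (List ℕ)} {c z n j i j' i' : ℕ} {A A1 E1 A2 E2 F : List (List ℕ)} {B N u u' y : List ℕ}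
    {E : List (List (List ℕ))} (hz : e z ≠ 1) (h0 : ly T 0 = [z]) (hs : lz T c = u ++ (u' ++ y))
    (hc : ¬ 2 ^ ((lz T c).length + 1) ∣ Nat.card G) (h1 : chkU ok T c A B E = true)
    (h2 : chkS ok T c u (u' ++ y) j i A1 E1 = true) (h3 : chkS ok T c u' y j' i' A2 E2 = true)
    (h4 : chkF ok (lz T c) (mw y n) y F N = true) : OutS G := by
  have h := chkU_sound hk h1 (by
    rw [h0]
    intro n a1 a2
    obtain rfl : n = 2 * 0 + 1 := by simp at a1; omega
    rw [mw_odd]
    simpa [mw_zero] using hz)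
  exact outS_of_pc hna h.pc hc fun D hD hi =>
    (h.step hk h3 (h.step hk h2 (hs ▸ h.st))).fin hk h.pc h4 hD hi

end H27.SU
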